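import Cfsg.Agent.H16.UnbR

/-! The pump-up of an intrinsic 2-component of type `2.A_n`. -/

set_option autoImplicit false
set_option linter.unusedSectionVars false

namespace Cfsg.Agent.H66.UA

open Subgroup Cfsg.Agent.H52 Cfsg.Agent.H8 Cfsg.Agent.H16.Unb
open scoped commutatorElement

universe u

theorem ag_card {X : Type*} [Group X] {n : ℕ} (h : AG n X) :
    Nat.card X = 2 * Nat.card (alternatingGroup (Fin n)) := by
  obtain ⟨h1, ⟨e⟩, -⟩ := h
  rw [← (center X).card_mul_index, h1, Subgroup.index, Nat.card_congr e.toEquiv]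

variable {G : Type*} [Group G] [Finite G] {H K L L' T : Subgroup G} {n : ℕ} {t a b : G}

theorem at_tau (h : AT n L) : tau 2 L = 2 * Nat.card (alternatingGroup (Fin n)) := ag_card h

theorem covers_of_at (h : K ≤ L) (hK : AT n K) (hL : AT n L) : Covers 2 K L :=
  covers_of_tau h (by rw [at_tau hK, at_tau hL])

/-- If `Z(T) = ⟨t⟩` and `T` is Sylow in `C_L(t)` then `T` is Sylow in `L`. -/
theorem syl_of_center (hT : IsSylowIn 2 T (L ⊓ Cz t)) (tT : t ∈ T) (h1 : t ≠ 1)
    (hz : ∀ z ∈ T, z ∈ CC[T] → z = 1 ∨ z = t) : IsSylowIn 2 T L := by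
  refine isSylowIn_of_maximal (hT.le.trans inf_le_left) hT.isPGroup fun Q hQ hQL hTQ => ?_
  by_contra hne
  obtain ⟨g, hg, hgT, hn⟩ := H87.exists_mem_normalizer_not_mem hQ hTQ hne
  have hc : t ∈ CC[T] := fun s hs => mem_centralizer_singleton_iff.mp (hT.le hs).2
  have h2 : g * t * g⁻¹ = t := by
    refine (hz _ (conj_mem_of_norm hn tT) (conj_mem_of_norm
      (normalizer_le_normalizer_centralizer T hn) hc)).resolve_left fun e => h1 ?_
    simpa using e
  refine hgT ((hT.eq_of_le (Q := Q ⊓ Cz t) hQ.to_inf_left (inf_le_inf_right _ hQL)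
    (le_inf hTQ (hT.le.trans inf_le_right))).le ⟨hg, mem_centralizer_singleton_iff.mpr ?_⟩)
  exact mul_inv_eq_iff_eq_mul.mp h2

theorem cm_self (h : K ≤ Cz t) : CM K t :=
  CM.of_cent fun _ hk => mem_centralizer_singleton_iff.mp (h hk)

theorem mem_syl (hT : IsSylowIn 2 T K) (h : K ≤ Cz t) (tK : t ∈ K) (ht : orderOf t = 2) : t ∈ T :=
  hT.le_of_le_normalizer' (isPGroup_zpowers_of_orderOf_eq_prime ht) (zpowers_le.mpr tK)
    (zpowers_le.mpr (centralizer_le_normalizer' T fun _ hs =>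
      mem_centralizer_singleton_iff.mp (h (hT.le hs)))) (mem_zpowers t)

/-- The centre of a Sylow subgroup of an intrinsic component. -/
theorem center_syl (hK : AT n K) (h8 : 8 ≤ n) (hT : IsSylowIn 2 T K) (h : K ≤ Cz t) (tK : t ∈ K)
    (ht : orderOf t = 2) : ∀ z ∈ T, z ∈ CC[T] → z = 1 ∨ z = t := by
  obtain ⟨ρ, hρ⟩ := hK.exists_rho' h8 ht tK (cm_self h)
  exact fun z hz hc => hρ.center hT (mem_syl hT h tK ht) hz hc

theorem syl_up (hK : AT n K) (h8 : 8 ≤ n) (hT : IsSylowIn 2 T K) (h : K ≤ L ⊓ Cz t) (tK : t ∈ K)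
    (ht : orderOf t = 2) (hc : tau 2 (L ⊓ Cz t : Subgroup G) ≤ 2 * Nat.card (alternatingGroup (Fin n))) :
    IsSylowIn 2 T L :=
  syl_of_center ((syl_covers (covers_of_tau h (by rwa [at_tau hK])) hT.le).mp hT)
    (mem_syl hT (h.trans inf_le_right) tK ht) (ne_one_of_ord ht)
    (center_syl hK h8 hT (h.trans inf_le_right) tK ht)

theorem pump : PumpStmt.{u} := by
  intro G _ _ n y t K T ih h8 _ ht hK tK hA hT
  have hKH : K ≤ Cz y := hK.1.trans inf_le_left
  have tH := hKH tK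
  have htb := orderOf_qm tH ht
  have h1 := IsPComponentOf.bar hK inf_le_left
  rw [bar_inf_centralizer_singleton (isPGroup_zpowers_of_orderOf_eq_prime ht) tH] at h1
  have h2 : bar 2 (Cz y) K ≤ layer (Qt 2 (Cz y)) := by
    rw [← bar_Lp_self]
    exact bar_mono (IsPComponentOf.le_Lp_two ht tH hK)
  obtain ⟨M, hM, hp⟩ := IsPComponentOf.pump_top (by rw [htb]; exact Nat.prime_two) h1 h2
  have hKM : bar 2 (Cz y) K ≤ M := by
    rcases hp with e | e | e
    · exact e.le
    · exact e.1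
    · exact absurd (IsComponent.layer_le_normalizer hM (h2 (mem_bar tH tK))) e.1
  have hO := IsComponent.Opp_eq_bot (pPrimeCore_Qt (p := 2) (Cz y)) hM
  have tM := hKM (mem_bar tH tK)
  have ht' : orderOf (⟨_, tM⟩ : M) = 2 := by rw [← Subgroup.orderOf_coe]; exact htb
  have h3 := ih M ((Nat.card_le_card_of_injective _ M.subtype_injective).trans
      (Nat.card_le_card_of_surjective _ (qm_surjective (Cz y))))
    (map_subtype_eq_bot_iff.mp hO) hM.2 n ⟨_, tM⟩ ((bar 2 (Cz y) K).subgroupOf M) h8 ht' (by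
      change IsPComponentOf 2 _ (centralizer _)
      rw [centralizer_singleton_subgroupOf]
      exact IsPComponentOf.subgroupOf h1 hKM) (mem_bar tH tK)
    ((KC.at_subgroupOf hKM).mpr ((at_iff_bar hKH).mpr hA))
  obtain ⟨L, hL, rfl⟩ := exists_pComponentOf_bar_eq hM
  have hKL := (IsPComponentOf.isPQS hK).le_of_bar_le hKH (IsPComponentOf.sn hL) hKM
  rcases h3 with h3 | h3
  · have h4 := (at_iff_bar hL.1).mp ((at_iff_ag hO).mpr h3)
    exact ⟨L, ⟨hL, (syl_covers (covers_of_at hKL hA h4) hT.le).mp hT⟩, hKL, Or.inl h4⟩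
  · refine ⟨L, ⟨hL, syl_up hA h8 hT (le_inf hKL (hK.1.trans inf_le_right)) tK ht ?_⟩, hKL,
      Or.inr ((xt_iff_bar hL.1).mp ((xt_iff_xg hO).mpr ⟨h3.1, _, ht', h3.2⟩))⟩
    rw [← tau_bar (inf_le_left.trans hL.1), ← ag_card h3.2]
    change _ ≤ Nat.card (centralizer _)
    rw [centralizer_singleton_subgroupOf, ← inf_subgroupOf_left, H4.card_subgroupOf_of_le inf_le_left]
    refine (index_pPrimeCore_le_card _).trans (card_le_of_le (le_inf (bar_mono inf_le_left) ?_))
    rw [← bar_inf_centralizer_singleton (isPGroup_zpowers_of_orderOf_eq_prime ht) tH]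
    exact bar_mono (inf_le_inf_right _ hL.1)

end Cfsg.Agent.H66.UA
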