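import Cfsg.Agent.H66.UnbPump

/-! Theorem A on intrinsic 2-components of type `2.A_n` from its pieces. -/

set_option autoImplicit false
set_option linter.unusedSectionVars false

namespace Cfsg.Agent.H66.UA

open Subgroup Cfsg.Agent.H52 Cfsg.Agent.H8 Cfsg.Agent.H16.Unb
open scoped commutatorElement

universe u

section
variable {G : Type*} [Group G] [Finite G] {H K L L' T S : Subgroup G} {n : ℕ} {t a b g y : G}

theorem exists_cnj_eq (hT : IsSylowIn 2 T L) (hS : IsSylowIn 2 S L) : ∃ l ∈ L, cnj l T = S := by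
  obtain ⟨l, hl, e⟩ := hT.exists_conj_eq hS
  exact ⟨l, hl, by rwa [← map_conj_eq_smul] at e⟩

theorem cnj_le_cent (h : cnj a T ≤ CC[cnj b T]) : cnj (b⁻¹ * a) T ≤ CC[T] := by
  have := cnj_mono b⁻¹ h
  rwa [cnj_centralizer, cnj_cnj, cnj_cnj, inv_mul_cancel, cnj_one] at this

/-- Without commuting conjugates there is at most one component with a conjugate of `T` as Sylow
subgroup. -/
theorem eq_of_nocomm (hno : ∀ g, ¬ cnj g T ≤ CC[T]) (h : IsPComponentOf 2 L H)
    (h' : IsPComponentOf 2 L' H) (s : IsSylowIn 2 (cnj a T) L) (s' : IsSylowIn 2 (cnj b T) L') :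
    L = L' := by
  by_contra hne
  obtain ⟨S, hS⟩ := exists_isSylowIn 2 H
  obtain ⟨l, -, e⟩ := exists_cnj_eq s (syl_inf hS (IsPComponentOf.sn h))
  obtain ⟨l', -, e'⟩ := exists_cnj_eq s' (syl_inf hS (IsPComponentOf.sn h'))
  have := comm_syl h h' hne hS.isPGroup
  rw [← e, ← e', cnj_cnj, cnj_cnj] at this
  exact hno _ (cnj_le_cent this)

theorem norm_of_nocomm (hno : ∀ g, ¬ cnj g T ≤ CC[T]) (h : Cmp y (cnj a T) L) : Cz y ≤ NN[L] :=
  fun c hc => cnj_eq_iff_mem_normalizer.mp (eq_of_nocomm (b := c * a) hno h.1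
    (IsPComponentOf.cnj_of_mem h.1 (le_normalizer hc)) h.2 (cnj_cnj c a T ▸ h.2.map _)).symm

/-- The case of a central involution. -/
theorem ag_of_central (hO : pPrimeCore 2 G = ⊥) (hq : IsQuasisimple G) (hc : t ∈ center G)
    (hK : IsPComponentOf 2 K (Cz t)) (hA : AT n K) : AG n G := by
  have e : Cz t = ⊤ := eq_top_iff.mpr fun g _ =>
    mem_centralizer_singleton_iff.mpr (mem_center_iff.mp hc g)
  rw [e] at hK
  have h1 := IsQuasisimple.eq_of_sn_of_perfect (isQuasisimple_top_iff.mpr hq) (IsPComponentOf.sn hK)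
    (IsPComponentOf.commutator_self hK) (IsPComponentOf.ne_bot hK)
  rw [h1, at_iff_ag (by rw [Opp_top, hO])] at hA
  exact KC.ag_map hA topEquiv

theorem core_of_simple [IsSimpleGroup G] (ht : orderOf t = 2) : pPrimeCore 2 G = ⊥ := by
  refine (IsSimpleGroup.eq_bot_or_eq_top_of_normal (pPrimeCore 2 G) inferInstance).resolve_right
    fun e => ?_
  have := orderOf_coprime_of_mem (coprime_card_pPrimeCore (p := 2) (G := G)) (e ▸ mem_top t)
  rw [ht] at this
  exact absurd this (by decide)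

end

/-- The case of a non-central involution in a group with non-trivial centre. -/
theorem center_eq_bot {G : Type u} [Group G] [Finite G]
    (ih : ∀ (H : Type u) [Group H] [Finite H], Nat.card H < Nat.card G → AFor H)
    (hO : pPrimeCore 2 G = ⊥) (hq : IsQuasisimple G) {n : ℕ} {t : G} {K : Subgroup G} (h8 : 8 ≤ n)
    (ht : orderOf t = 2) (hK : IsPComponentOf 2 K (Cz t)) (tK : t ∈ K) (hA : AT n K)
    (hc : t ∉ center G) : center G = ⊥ := by
  by_contra hZ
  have hZ2 : IsPGroup 2 (center G) := pCore_isPGroup.to_le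
    (fitting_eq_pCore_of_pPrimeCore_eq_bot (p := 2) hO ▸ H3.center_le_fitting G)
  obtain ⟨ρ, hρ⟩ := hA.exists_rho' h8 ht tK (cm_self hK.1)
  have hKZ : center G ⊓ K = ⊥ := eq_bot_iff.mpr fun z hz =>
    (hρ.eq_of_ker hz.2 ((hρ.ker z (le_normalizer hz.2)).mpr
      (CM.of_cent fun k _ => mem_center_iff.mp hz.1 k)) (twoE_of_mem hZ2 hz.1)
      (mem_center_iff.mp hz.1 t).symm).resolve_right fun e => hc (e ▸ hz.1)
  set f := QuotientGroup.mk' (center G) with hf
  have hfs : Function.Surjective f := QuotientGroup.mk'_surjective _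
  have hker : f.ker = center G := QuotientGroup.ker_mk' _
  have hs := hq.2
  have ht1 : f t ≠ 1 := fun e => hc (hker ▸ e)
  have ht' : orderOf (f t) = 2 := ord_two (by rw [← map_mul, sq_of_ord ht, map_one]) ht1
  have hsn : SN (Cz t) ((Cz (f t)).comap f) := by
    refine SN.of_le_normalizer (fun c hc => mem_centralizer_singleton_iff.mpr ?_) fun c hc => ?_
    · rw [← map_mul, ← map_mul, mem_centralizer_singleton_iff.mp hc]
    · have h1 : c * t * c⁻¹ * t⁻¹ ∈ center G := by
        rw [← hker, MonoidHom.mem_ker, map_mul, map_mul, map_mul, map_inv, map_inv,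
          mem_centralizer_singleton_iff.mp hc]
        group
      rw [← cnj_eq_iff_mem_normalizer, cnj_centralizer_singleton]
      ext d
      rw [mem_centralizer_singleton_iff, mem_centralizer_singleton_iff,
        ← inv_mul_cancel_right (c * t * c⁻¹) t, ← mul_assoc d, mem_center_iff.mp h1 d,
        mul_assoc _ d, mul_assoc _ t d, mul_right_inj]
  have hK' := IsPComponentOf.map (IsPComponentOf.trans hK hsn) f fun e =>
    ht1 (mem_bot.mp (e ▸ mem_map_of_mem f tK))
  rw [map_comap_eq_self_of_surjective hfs] at hK'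
  have hA' : AT n (K.map f) := by
    obtain ⟨e⟩ := nonempty_quotient_pPrimeCore_map (p := 2) K f (by
      rw [hker, hKZ, card_bot]; exact Nat.coprime_one_left 2)
    exact KC.ag_map hA e
  have h1 := (ih _ (card_quotient_lt hZ) (core_of_simple ht')
    (isQuasisimple_of_isSimpleGroup (IsQuasisimple.not_isMulCommutative_quotient hq)) n (f t) _ h8
    ht' hK' (mem_map_of_mem f tK) hA').resolve_left fun h => KC.ag_not_simple h hs
  obtain ⟨T, hT⟩ := exists_isSylowIn 2 K
  have h2 : IsSylowIn 2 (T.map f) ⊤ := syl_up hA' h8 (hT.map f) (le_inf le_top hK'.1)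
    (mem_map_of_mem f tK) ht' (by
      rw [top_inf_eq, ← ag_card h1.2]; exact index_pPrimeCore_le_card _)
  obtain ⟨S, hS, hTS⟩ := exists_isSylowIn_ge hT.isPGroup (le_top : T ≤ ⊤)
  have h3 : S ≤ T ⊔ center G := by
    rw [← hker, ← comap_map_eq, ← h2.eq_of_le (hS.isPGroup.map f) le_top (map_mono hTS)]
    exact le_comap_map f S
  have h4 : ⁅S, S⁆ ≤ K := by
    refine commutator_le.mpr fun x hx y hy => ?_
    obtain ⟨a, ha, z, hz, rfl⟩ := (H52.mem_sup_of_le_normalizer le_normalizer_of_normal).mp (h3 hx)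
    obtain ⟨b, hb, w, hw, rfl⟩ := (H52.mem_sup_of_le_normalizer le_normalizer_of_normal).mp (h3 hy)
    have e : ⁅a * z, b * w⁆ = ⁅a, b⁆ := by
      have e1 : a * z * (b * w) = a * b * (w * z) := by
        rw [mul_assoc a z, ← mem_center_iff.mp hz]; simp only [mul_assoc]
      have e2 : b * w * (a * z) = b * a * (w * z) := by
        rw [mul_assoc b w, ← mul_assoc w, ← mem_center_iff.mp hw a]; simp only [mul_assoc]
      calc ⁅a * z, b * w⁆ = a * z * (b * w) * (b * w * (a * z))⁻¹ := by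
            rw [commutatorElement_def]; group
        _ = _ := by rw [e1, e2, commutatorElement_def]; group
    rw [e]
    exact commutator_le_self K (commutator_mem_commutator (hT.le ha) (hT.le hb))
  refine hZ (eq_bot_iff.mpr (hKZ ▸ le_inf le_rfl (le_trans (le_inf (le_inf le_rfl ?_) ?_)
    ((center_inf_commutator_inf_sylow_le hS.toSylowTop).trans h4))))
  · rw [hq.1.commutator_eq_top]; exact le_top
  · exact hS.le_of_le_normalizer hZ2 le_top le_normalizer_of_normal

theorem sys_of_ih {G : Type u} [Group G] [Finite G]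
    (ih : ∀ (H : Type u) [Group H] [Finite H], Nat.card H < Nat.card G → AFor H)
    (hZ : center G = ⊥) {n : ℕ} {t : G} {K T : Subgroup G} (h8 : 8 ≤ n)
    (ht : orderOf t = 2) (hK : IsPComponentOf 2 K (Cz t)) (tK : t ∈ K) (hA : AT n K)
    (hT : IsSylowIn 2 T K) : Sys n t T := by
  have tT := mem_syl hT hK.1 tK ht
  refine ⟨h8, ht, tT, ⟨K, ⟨hK, hT⟩, hA⟩, fun y hy hyT => ?_⟩
  have hyt : y ∈ Cz t := mem_centralizer_singleton_iff.mpr (hyT t tT).symm
  obtain ⟨x, hx, -, hn⟩ := hA.exists_not_cm h8 hT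
  have y2 := KC.twoE_of_inv hy
  have hcm := hA.cm_of_cent h8 hT
    (norm_of_cent hK (le_normalizer hyt) (hT.le hx) hn (hyT x hx).symm) hyT y2
  obtain ⟨h1, h2, h3⟩ := lp_cent1 hK y2 hyt hcm
  have h4 : T ≤ Lp 2 (K ⊓ Cz y) := fun s hs =>
    h3 s (hT.le hs) (hyT s hs) (twoE_of_mem hT.isPGroup hs)
  obtain ⟨L, hL, -, h5⟩ := pump G n y t _ T (fun H _ _ hH => ih H (hH.trans_lt
      (card_lt_card_of_ne_top fun e => ne_one_of_ord hy (mem_bot.mp (hZ ▸ mem_center_iff.mpr
        fun g => mem_centralizer_singleton_iff.mp (e.ge (mem_top g)))))))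
    h8 hy ht (by rwa [inf_comm (Cz y)]) (h4 tT) ((at_covers h2).mpr hA) ((syl_covers h2 h4).mpr hT)
  exact ⟨L, hL, h5⟩

theorem as_top {G : Type*} [Group G] [IsSimpleGroup G] (hn : ¬ IsMulCommutative G)
    (hZ : center G = ⊥) : AS (⊤ : Subgroup G) where
  normal := inferInstance
  simple := topEquiv.isSimpleGroup
  nonab := fun h => hn ⟨⟨fun a b => congrArg Subtype.val
    (mul_comm' (⟨a, mem_top a⟩ : (⊤ : Subgroup G)) ⟨b, mem_top b⟩)⟩⟩
  cent := by rw [coe_top, centralizer_univ, hZ]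

theorem aStmt (hPure : PureStmt.{u}) (hMix : MixStmt.{u}) (hMixK : MixKStmt.{u}) (hP2 : P2Stmt.{u})
    (hP3 : P3TStmt.{u}) (hD : D2Stmt.{u}) (hE : EStmt.{u}) : AStmt.{u} := by
  suffices ∀ (m : ℕ) (G : Type u) [Group G] [Finite G], Nat.card G = m → AFor G from
    fun G _ _ => this _ G rfl
  intro m
  induction m using Nat.strong_induction_on with
  | _ m ih =>
  intro G _ _ hm hO hq n t K h8 ht hK tK hA
  have ih' : ∀ (H : Type u) [Group H] [Finite H], Nat.card H < Nat.card G → AFor H :=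
    fun H _ _ h => ih _ (hm ▸ h) H rfl
  by_cases hc : t ∈ center G
  · exact Or.inl (ag_of_central hO hq hc hK hA)
  have hZ := center_eq_bot ih' hO hq h8 ht hK tK hA hc
  have hs := IsQuasisimple.isSimpleGroup_of_center_eq_bot hq hZ
  have hna := IsQuasisimple.not_isMulCommutative hq
  refine Or.inr ⟨hs, ?_⟩
  obtain ⟨T, hT⟩ := exists_isSylowIn 2 K
  have sys := sys_of_ih ih' hZ h8 ht hK tK hA hT
  have as := as_top hna hZ
  have hT0 : T ∈ {T' | ∃ g, T' = cnj g T} := ⟨1, (cnj_one T).symm⟩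
  have hno : ∀ g, ¬ cnj g T ≤ CC[T] := fun g hg => by
    by_cases hy : ∃ y, YX n T y
    · obtain ⟨y, hy⟩ := hy
      exact hP2 G ⊤ as n _ h8 (hMix G n t y T sys hy) T hT0 _ ⟨g, rfl⟩ hg
    · exact hPure G n t g T sys (fun y h => hy ⟨y, h⟩) hg
  have hnY : ∀ y, ¬ YX n T y := fun y hy =>
    hP3 G ⊤ as n _ h8 (hMix G n t y T sys hy) (hMixK G n t T sys hno)
      (by rintro _ ⟨a, rfl⟩ _ ⟨b, rfl⟩ h; exact hno _ (cnj_le_cent h)) T hT0
  -- an involution `b` centralising `K` modulo the core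
  have key : ∀ b ∈ Cz t, orderOf b = 2 → CM K b → ∃ k L, Cmp b (cnj k T) L ∧ AT n L ∧ ZT (cnj k T) t := by
    intro b hb b2 hcm
    obtain ⟨T', hT', h1, h2⟩ := exists_syl_cent (isPGroup_zpowers_of_orderOf_eq_prime b2)
      (KC.cm_zpowers hcm) (isPGroup_zpowers_of_orderOf_eq_prime ht) (zpowers_le.mpr tK)
      (zpowers_le.mpr (by
        rw [centralizer_zpowers]
        exact mem_centralizer_singleton_iff.mpr (mem_centralizer_singleton_iff.mp hb).symm))
    obtain ⟨k, -, rfl⟩ := exists_cnj_eq hT hT'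
    rw [centralizer_zpowers] at h2
    have h3 : k⁻¹ * b * k⁻¹⁻¹ ∈ CC[T] := by
      have : b ∈ CC[cnj k T] := fun s hs => mem_centralizer_singleton_iff.mp (h2 hs)
      have := conj_mem_cnj (g := k⁻¹) this
      rwa [cnj_centralizer, cnj_cnj, inv_mul_cancel, cnj_one] at this
    obtain ⟨L, hL, h4⟩ := sys.pump _ ((ord_conj _ _).trans b2) h3
    have h5 := h4.resolve_right fun h => hnY _ ⟨(ord_conj _ _).trans b2, L, hL, h⟩
    refine ⟨k, cnj k L, ?_, h5.cnj k, ht, h1 (mem_zpowers t), fun s hs =>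
      mem_centralizer_singleton_iff.mp (hK.1 (hT'.le hs))⟩
    have := hL.cnj k
    rwa [show k * (k⁻¹ * b * k⁻¹⁻¹) * k⁻¹ = b by group] at this
  have hK0 : Cmp t (cnj 1 T) K := ⟨hK, by rwa [cnj_one]⟩
  obtain ⟨h11, hC⟩ := hD G hna n t K h8 ht hK tK hA (norm_of_nocomm hno hK0) (fun g hg hcm => by
      obtain ⟨k, L, hL, -, hz⟩ := key _ hg ((ord_conj _ _).trans ht) hcm
      have hKg := Cmp.cnj ⟨hK, hT⟩ g
      obtain rfl := eq_of_nocomm hno hL.1 hKg.1 hL.2 hKg.2
      obtain ⟨ρ, hρ⟩ := (hA.cnj g).exists_rho' h8 ((ord_conj _ _).trans ht) (conj_mem_cnj tK)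
        (cm_self hKg.1.1)
      have tL := hL.2.le hz.2.1
      exact ((hρ.eq_of_ker tL (hρ.f2 hL.2 (le_normalizer tL) hz.2.2 (KC.twoE_of_inv ht))
        (KC.twoE_of_inv ht) (mem_centralizer_singleton_iff.mp hg).symm).resolve_left
        (ne_one_of_ord ht)).symm)
    (fun s hs s2 hcm c hc => by
      obtain ⟨k, L, hL, hAL, hz⟩ := key _ hs s2 hcm
      obtain ⟨ρ, hρ⟩ := hAL.exists_rho_zt h8 hL.2 hz
      have hcN := norm_of_nocomm hno hL hc
      have h1 : ρ (c * t * c⁻¹) = 1 := by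
        rw [hρ.conj hcN hρ.tN, hρ.rt, mul_one, mul_inv_cancel]
      refine (IsPComponentOf.sn hL.1).Opp_le ?_
      rw [commutatorElement_def, inv_eq_of_mul_eq_one_right hρ.tt]
      refine ((hρ.kerL _ (conj_mem_of_norm hcN hρ.tL)).mp h1).resolve_left fun h => ?_
      exact ne_one_of_ord ((ord_conj c t).trans ht)
        (eq_one_of_opp ((KC.twoE_of_inv ht).conj c) h))
  have hAC : AT n (Cz t) := (at_covers ⟨hK.1, hC.le⟩).mp hA
  exact (at_iff_ag (hE G hna n t h8 h11 ht hAC)).mp hAC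

/-- S1738 from Theorem A, up to the identification of the simple groups. -/
theorem fstar_of_aStmt (hA : AStmt.{u}) {G : Type u} [Group G] [Finite G]
    (hO : oddCore G = ⊥) (hF : IsQuasisimple (generalizedFittingSubgroup G)) (t : G)
    (ht : orderOf t = 2) (K : Subgroup (centralizer ({t} : Set G))) (hK : IsPComponent 2 K)
    (htK : t ∈ K.map (centralizer ({t} : Set G)).subtype) (n : ℕ) (hn : 8 ≤ n)
    (hKA : IsNonsplitDoubleCover (K ⧸ oddCore K) (alternatingGroup (Fin n))) :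
    AG n (generalizedFittingSubgroup G) ∨ XG n (generalizedFittingSubgroup G) := by
  have h1 := IsPComponent.isPComponentOf_map_subtype hK
  have h2 : K.map (Cz t).subtype ≤ generalizedFittingSubgroup G := by
    refine (IsPComponentOf.le_Lp h1).trans (le_trans ?_ layer_le_fstar)
    rw [← centralizer_zpowers]
    exact Lp_two_centralizer_le_layer hO (isPGroup_zpowers_of_orderOf_eq_prime ht)
  have ht' : orderOf (⟨t, h2 htK⟩ : generalizedFittingSubgroup G) = 2 := by
    rw [← Subgroup.orderOf_coe]; exact ht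
  have := fstar_normal (G := G)
  refine (hA _ (pPrimeCore_eq_bot_of_subnormal hO (Normal.isSubnormal this)) hF n ⟨t, h2 htK⟩
    ((K.map (Cz t).subtype).subgroupOf _) hn ht' ?_ htK ((KC.at_subgroupOf h2).mpr
      ((KC.at_map _ (coprime_card_ker_subtype _ 2)).mpr hKA))).imp_right fun h => ⟨h.1, _, ht', h.2⟩
  change IsPComponentOf 2 _ (centralizer _)
  rw [centralizer_singleton_subgroupOf]
  exact IsPComponentOf.subgroupOf h1 h2

end Cfsg.Agent.H66.UA
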