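import Cfsg.Agent.H66.BG10d

/-! Bender-Glauberman section 10 (mathcomp names): everything is in `BG10a` ... `BG10d`. -/
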