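import Cfsg.Agent.H66.TwM1
import Cfsg.Agent.H34.TwKit0
import Cfsg.Agent.H34.Twist1

/-!
# Every automorphism of the twisted subgroup extends
-/

set_option autoImplicit false
set_option linter.unusedSectionVars false
set_option linter.style.haveILetI false

namespace Cfsg.Agent.H66.TM

open Cfsg Cfsg.Agent.H63 Cfsg.Agent.H63.SL Cfsg.Agent.H34 Cfsg.Agent.H40 Cfsg.Agent.H80
  Cfsg.Agent.H75 Cfsg.Agent.H34.TW Cfsg.Agent.H35 Cfsg.Agent.H35.PinM Subgroup Equiv
open Cfsg.Agent.H40.LF (mem_XR x_mem_XR x_mem_UU UU_le UU_eq_gen)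
open scoped commutatorElement

universe u v w

variable {ι Φ : Type} [Fintype ι] [DecidableEq ι] {R : RS ι Φ} {γ : Perm Φ}
  {E : Type v} [Field E] [Finite E] {H : Type w} [Group H] [Finite H] {x : Φ → E → H}

theorem aut_comm (φ ψ : E ≃+* E) (a : E) : φ (ψ a) = ψ (φ a) := by
  obtain ⟨m, hm⟩ := MonoidHom.map_cyclic (Units.map (ψ : E →* E))
  have h1 : ∀ a : E, a ≠ 0 → ψ a = a ^ m := fun a ha => by
    simpa using congrArg Units.val (hm (Units.mk0 a ha))
  by_cases ha : a = 0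
  · simp [ha]
  · rw [h1 a ha, h1 _ ((map_ne_zero φ).2 ha), map_zpow₀]

theorem exists_sqrt (h2 : (2 : E) = 0) (σ : E ≃+* E) (b : E) :
    ∃ a, a ^ 2 = b ∧ (σ b = b → σ a = a) := by
  have hinj : Function.Injective fun x : E => x ^ 2 := fun a b e => by
    have : (a - b) ^ 2 = 0 := by simp only at e; linear_combination e + (b ^ 2 - a * b) * h2
    exact sub_eq_zero.1 (pow_eq_zero_iff two_ne_zero |>.1 this)
  obtain ⟨a, rfl⟩ := Finite.surjective_of_injective hinj b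
  exact ⟨a, rfl, fun e => hinj (by simpa using e)⟩

open Classical in
/-- The character of a diagonal element. -/
noncomputable def ch (x : Φ → E → H) (g : H) (r : Φ) : E :=
  if h : g ∈ Dg x then (h.choose r : E) else 1

theorem eqns_ch : True := by
  have := @ch.eq_1.{0, 0}
  trivial

theorem ch_conj {g : H} (hg : g ∈ Dg x) (r : Φ) (a : E) : g * x r a * g⁻¹ = x r (ch x g r * a) := by
  rw [ch, dif_pos hg]; exact hg.choose_spec r a

theorem ch_ne {g : H} (hg : g ∈ Dg x) (r : Φ) : ch x g r ≠ 0 := by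
  rw [ch, dif_pos hg]; exact Units.ne_zero _

theorem ch_eq (p : Pin R x) {g : H} (hg : g ∈ Dg x) {r : Φ} {c : E} (e : g * x r 1 * g⁻¹ = x r c) :
    ch x g r = c := by
  simpa using LF.x_inj p ((ch_conj hg r 1).symm.trans e)

theorem ch_sum (p : Pin R x) {g : H} (hg : g ∈ Dg x) {r s k : Φ} (e : R.rc k = R.rc r + R.rc s) :
    ch x g k = ch x g r * ch x g s := by
  refine ch_eq p hg ?_
  rw [← mul_one (1 : E), ← p.rel r s k e, conjugate_commutatorElement, ch_conj hg, ch_conj hg,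
    p.rel r s k e, mul_one, mul_one]

theorem ch_cj (p : Pin R x) {g h : H} (hg : g ∈ Dg x) (hh : h ∈ Dg x) (r : Φ) :
    ch x (h⁻¹ * g * h) r = ch x g r := by
  refine ch_eq p (cj2 _ hh hg) ?_
  have := ch_conj hh r (ch x g r)
  rw [mul_comm (ch x h r), ← mul_one (ch x h r), ← ch_conj hg, ← ch_conj hh] at this
  calc _ = h⁻¹ * (g * (h * x r 1 * h⁻¹) * g⁻¹) * h := by group
    _ = _ := by rw [← this]; group

theorem ch_n (p : Pin R x) {g n : H} (hg : g ∈ Dg x) (hn : n⁻¹ * g * n ∈ Dg x) {r s : Φ}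
    (e : ∀ a, n * x r a * n⁻¹ = x s a) : ch x (n⁻¹ * g * n) r = ch x g s := by
  refine ch_eq p hn ?_
  have := ch_conj hg s 1
  rw [mul_one, ← e, ← e] at this
  calc _ = n⁻¹ * (g * (n * x r 1 * n⁻¹) * g⁻¹) * n := by group
    _ = _ := by rw [this]; group

theorem aut_UU {m : MulAut H} {φ : E ≃+* E} {χ : Φ → Eˣ} (hm : ∀ r a, m (x r a) = x r (χ r * φ a))
    (A : Set Φ) (g : H) : m g ∈ UU x A ↔ g ∈ UU x A := by
  refine ⟨fun h => ?_, fun h => UU_le (K := (UU x A).comap m.toMonoidHom) (fun r hr a => ?_) h⟩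
  · have := UU_le (K := (UU x A).comap m.symm.toMonoidHom) (fun r hr a => by
      have := hm r (φ.symm (↑(χ r)⁻¹ * a))
      rw [φ.apply_symm_apply, Units.mul_inv_cancel_left, ← MulEquiv.eq_symm_apply] at this
      show m.symm _ ∈ UU x A
      rw [← this]; exact x_mem_UU hr _) h
    simpa using this
  · show m _ ∈ UU x A
    rw [hm]; exact x_mem_UU hr _

variable {σ : E ≃+* E} {F : Type v} [Field F] {i : F →+* E} (tl : TL R γ) (p : Pin R x)
  (gen : UU x Set.univ = ⊤) (qf : QF i σ) {t : MulAut H} (ht : ∀ r a, t (x r a) = x (γ r) (σ a))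

include p ht in
theorem ch_g {g : H} (hg : g ∈ Dg x) (hf : t g = g) (r : Φ) : ch x g (γ r) = σ (ch x g r) := by
  refine ch_eq p hg ?_
  have := congrArg t (ch_conj hg r 1)
  simpa [hf, ht] using this

include p ht in
theorem zz_conj {g : H} (hg : g ∈ Dg x) (hf : t g = g) (r : Φ) (β : E) :
    g * zz γ σ x r β * g⁻¹ = zz γ σ x r (ch x g r * β) :=
  zz_map (θ := fun y => g * y * g⁻¹) (fun a b => by group) (ch_conj hg r) (ch_conj hg (γ r))
    (fun a => by rw [ch_g p ht hg hf, map_mul]) β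

include tl p

theorem nn_comm {r s : Φ} (e : R.pair r s = 0) (c d : Eˣ) : Commute (nn R x r c) (nn R x s d) := by
  have h1 : ∀ k, R.pair k s = 0 → ∀ a, Commute (x k a) (nn R x s d) := fun k e a =>
    ((p.com _ _ e.ge _ _).mul_right (p.com _ _ (by rw [R.pair_neg_right, e]; rfl) _ _)).mul_right
      (p.com _ _ e.ge _ _)
  exact ((h1 r e _).mul_left (h1 _ (by rw [R.pair_neg_left, e]; rfl) _)).mul_left (h1 r e _)

include qf

theorem nn_long {r : Φ} (h : γ r = r) {c : Eˣ} (hc : σ c = c) : nn R x r c ∈ TG γ i σ x := by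
  have h1 := zz_mem_TG (γ := γ) (x := x) qf (r := r) fun _ => hc
  have h2 := zz_mem_TG (γ := γ) (x := x) qf (r := R.neg r) (β := ↑c⁻¹) fun _ => by
    rw [Units.val_inv_eq_inv_val, map_inv₀, hc]
  rw [zz_long h] at h1
  rw [zz_long (tl.long_neg h)] at h2
  exact mul_mem (mul_mem h1 h2) h1

theorem nn_short {r : Φ} (h : γ r ≠ r) (c : Eˣ) :
    nn R x r c * nn R x (γ r) (Units.map (σ : E →* E) c) ∈ TG γ i σ x := by
  have h1 := zz_mem_TG (x := x) qf (r := r) (β := c) fun e => absurd e h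
  have h2 := zz_mem_TG (x := x) qf (r := R.neg r) (β := ↑c⁻¹) fun e => absurd e (tl.short_neg h)
  have h0 := tl.orth r h
  have := mul_mem (mul_mem h1 h2) h1
  rw [zz_short h, zz_short (tl.short_neg h), tl.γ_neg, Cert.mul_triple (p.com _ _ h0.ge _ _)
    (p.com _ _ (by rw [R.pair_neg_left, h0]; rfl) _ _)
    (p.com _ _ (by rw [R.pair_neg_right, h0]; rfl) _ _)] at this
  simpa [nn] using this

/-- Every admissible parameter is the value of a character. -/
theorem exists_ch (r : Φ) {β : E} (h0 : β ≠ 0) (hβ : γ r = r → σ β = β) :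
    ∃ h ∈ TG γ i σ x, h ∈ Dg x ∧ ch x h r = β := by
  obtain ⟨a, rfl, ha⟩ := exists_sqrt qf.two σ β
  let c : Eˣ := Units.mk0 a fun e => h0 (by simp [e])
  have e1 := fun s (d : Eˣ) b => (SL.pin R tl.lace x p s r d b).2
  by_cases h : γ r = r
  · refine ⟨hh R x r c, mul_mem (nn_long tl p qf h (ha (hβ h))) (nn_long tl p qf h (by simp)),
      hh_mem tl.lace p r c, ch_eq p (hh_mem tl.lace p r c) ?_⟩
    rw [e1, R.pair_self]
    simp [c, zpow_ofNat]
  · have hD := mul_mem (hh_mem tl.lace p r c) (hh_mem tl.lace p (γ r) (Units.map (σ : E →* E) c))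
    refine ⟨_, ?_, hD, ch_eq p hD ?_⟩
    · have := mul_mem (nn_short tl p qf h c) (nn_short tl p qf h 1)
      rwa [map_one, (nn_comm tl p (tl.orth r h) _ _).symm.mul_mul_mul_comm] at this
    · rw [show ∀ a b y : H, a * b * y * (a * b)⁻¹ = a * (b * y * b⁻¹) * a⁻¹ by intros; group, e1, e1,
        R.pair_self, tl.symm, tl.orth r h]
      simp [c, zpow_ofNat]

/-- Lifts of the twisted reflections. -/
theorem exists_n (r : Φ) : ∃ n ∈ TG γ i σ x, ∃ w ∈ R.W, (∀ s a, n * x s a * n⁻¹ = x (w s) a) ∧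
    ∀ s, (γ r ≠ r → R.pair (γ r) s = 0) → w s = R.τ r s := by
  by_cases h : γ r = r
  · exact ⟨_, nn_long tl p qf h (c := 1) (by simp), _, R.τ_mem_W r, nn_conj tl.lace p r,
      fun _ _ => rfl⟩
  · refine ⟨_, nn_short tl p qf h 1, _, mul_mem (R.τ_mem_W r) (R.τ_mem_W (γ r)), fun s a => ?_,
      fun s e => ?_⟩
    · rw [show ∀ a b y : H, a * b * y * (a * b)⁻¹ = a * (b * y * b⁻¹) * a⁻¹ by intros; group, map_one,
        nn_conj tl.lace p, nn_conj tl.lace p, Perm.mul_apply]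
    · rw [Perm.mul_apply, show R.τ (γ r) s = s from R.rc_inj (by simp [R.rc_τ, e h])]

omit p qf in
/-- A property of roots that spreads from one short simple root to all simple roots. -/
theorem spread {A : Φ → Prop} {k0 : ι} (h0 : γ (R.simple k0) ≠ R.simple k0) (hA : A (R.simple k0))
    (hg : ∀ r, A r → A (γ r))
    (hs : ∀ r s, A s → R.pair r s = -1 → (γ r ≠ r → R.pair (γ r) s = 0) → A r) (k : ι) :
    A (R.simple k) := by
  have h1 : ∀ k l, R.simple k ≠ R.simple l → R.pair (R.simple k) (R.simple l) ≠ 0 →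
      R.pair (R.simple k) (R.simple l) = -1 := fun k l e e' => by
    have a1 := R.A_nonpos (i := k) (j := l) fun h => e (by rw [h])
    have a2 := LF.neg_one_le_pair (SL.root R tl.lace) ((R.pos_simple k).ne_neg (R.pos_simple l))
    rw [← R.pair_simple_simple] at a1
    omega
  have h2 : ∀ k l, γ (R.simple k) ≠ R.simple k → γ (R.simple l) ≠ R.simple l → A (R.simple l) →
      R.pair (R.simple k) (R.simple l) ≠ 0 → A (R.simple k) := fun k l hk hl a e => by
    by_cases e' : R.simple k = R.simple l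
    · rwa [e']
    have e1 := h1 k l e' e
    refine hs _ _ a e1 fun _ => ?_
    by_contra e2
    obtain ⟨k', hk'⟩ := NF.diag_simple tl.diag k
    have e3 : R.simple k' ≠ R.simple l := fun e3 => e (by rw [← e3, ← hk', tl.orth _ hk])
    refine tl.not_mm hl hk (by rw [tl.symm, e1]) ?_
    rw [tl.symm, hk', h1 k' l e3 (hk' ▸ e2)]
  have h3 : ∀ k, γ (R.simple k) ≠ R.simple k → A (R.simple k) := fun k hk => by
    by_cases e : R.pair (R.simple k) (R.simple k0) = 0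
    · obtain ⟨k', hk'⟩ := NF.diag_simple tl.diag k0
      exact h2 k k' hk (hk' ▸ tl.short_γ h0) (hk' ▸ hg _ hA) (hk' ▸ tl.rt4 _ _ hk h0 e)
    · exact h2 k k0 hk h0 hA e
  by_contra hk
  obtain ⟨a, ha, b, hb, e⟩ := tl.lace.conn {k | A (R.simple k)} ⟨k0, hA⟩ ⟨k, hk⟩
  refine hb (hs _ _ ha (h1 b a (fun e' => hb (show A _ by rw [e']; exact ha)) ?_)
    fun e' => absurd (h3 b e') hb)
  rwa [tl.symm, R.pair_simple_simple]

include gen ht

variable {hz : ∀ z ∈ center H, Odd (orderOf z)} {τ : (spl tl.lace p gen hz).Twist} (hρ : τ.T.ρ = γ)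
  (hσ : ∀ g, τ.σ g = t g)
include hρ hσ

theorem rg1 : τ.G1 ≤ (TG γ i σ x).subtype.range := by
  rw [range_subtype, G1_eq tl p gen qf ht hρ hσ]

theorem rg3 : (TG γ i σ x).subtype.range ≤ τ.G1 := by
  rw [range_subtype, G1_eq tl p gen qf ht hρ hσ]

theorem fix_orb {θ : TG γ i σ x ≃* TG γ i σ x}
    (hθ : H37.PresUV (spl tl.lace p gen hz) (TG γ i σ x).subtype θ) (k : ι) (u : TG γ i σ x)
    (hu : (u : H) ∈ τ.UJ k) : (θ u : H) ∈ τ.UJ k := by
  haveI := tl.lace.fin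
  have h1 := rg1 tl p gen qf ht hρ hσ
  obtain ⟨f, a1, a2, a3, a4⟩ := hθ.exists_orb τ (subtype_injective _) h1
    ((rg3 tl p gen qf ht hρ hσ).trans τ.G1_le_fix)
  have e1 : ∀ {k l}, Orb R γ k l → τ.T.orb l = τ.T.orb k := fun h =>
    τ.T.orb_eq_of_mem ((orb_iff tl hρ).2 h)
  have := tl.rig f (fun k => ⟨long_of_card tl p gen qf ht hρ hσ (a2 k),
    long_of_card tl p gen qf ht hρ hσ (a2 k).symm⟩)
    (fun k l h => orb_of_wJ tl hρ (a3 k l (by rw [e1 h]))) (fun k l h => ?_) k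
  · rw [← H37.UJ_congr τ (show (sgn R).wJ (τ.T.orb (f k)) = (sgn R).wJ (τ.T.orb k) by rw [e1 this])]
    exact (a1 k u).2 hu
  · by_contra hn
    have h3 := orb_of_comm tl hρ h (a4 k l (wJ_comm tl hρ hn))
    obtain ⟨v, hv, hv1⟩ := τ.exists_ne_one_UJ k
    obtain ⟨v, rfl⟩ := h1 (τ.UJ_le_G1 k hv)
    have h4 := H37.orb_eq_of_UJ τ ((a1 k v).2 hv) ((a1 l v).2 (by
      rwa [H37.UJ_congr τ (show (sgn R).wJ (τ.T.orb l) = (sgn R).wJ (τ.T.orb k) by rw [e1 h3])]))
      (by simpa using hv1)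
    rcases (orb_iff tl hρ).1 (h4 ▸ τ.T.mem_orb_self (f l) : f l ∈ τ.T.orb (f k)) with e | e
    · exact hn (Or.inl (by rw [e, R.pair_self]; decide))
    · exact hn (Or.inr (by rw [e, tl.sq, R.pair_self]; decide))

theorem taut_pres (hZ : center H = ⊥) {θ : TG γ i σ x ≃* TG γ i σ x}
    (hθ : H37.PresUV (spl tl.lace p gen hz) (TG γ i σ x).subtype θ) :
    ∃ m : MulAut H, Commute t m ∧ ∀ g, (θ g : H) = m g := by
  haveI := tl.lace.fin
  have h1 := rg1 tl p gen qf ht hρ hσ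
  have h3 := rg3 tl p gen qf ht hρ hσ
  have h2 := h3.trans τ.G1_le_fix
  have hfix : ∀ g : TG γ i σ x, t g = g := fun g => (hσ _).symm.trans (h2 ⟨g, rfl⟩)
  have hH : ∀ {g : TG γ i σ x}, (g : H) ∈ Dg x → (θ g : H) ∈ Dg x := fun hg => hθ.map_H τ h1 h2 hg
  have hU := fix_orb tl p gen qf ht hρ hσ hθ
  have mU := fun k g => mem_UJ tl p gen qf ht hρ hσ (k := k) (g := g)
  -- the action on the simple root subgroups
  have k1 : ∀ k β, ∃ c, (γ (R.simple k) = R.simple k → σ β = β) →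
      (γ (R.simple k) = R.simple k → σ c = c) ∧ ∀ g : TG γ i σ x,
        (g : H) = zz γ σ x (R.simple k) β → (θ g : H) = zz γ σ x (R.simple k) c := fun k β => by
    by_cases hβ : γ (R.simple k) = R.simple k → σ β = β
    · obtain ⟨c, hc, e⟩ := (mU k _).1 (hU k ⟨_, zz_mem_TG qf hβ⟩ ((mU k _).2 ⟨β, hβ, rfl⟩))
      exact ⟨c, fun _ => ⟨hc, fun g hg => by rw [← e]; congr 2; exact Subtype.ext hg⟩⟩
    · exact ⟨0, fun h => absurd h hβ⟩
  choose f hf using k1
  have f1 : ∀ k, f k 1 ≠ 0 := fun k e => by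
    have := (hf k 1 fun _ => map_one σ).2 ⟨_, zz_mem_TG qf fun _ => map_one σ⟩ rfl
    rw [e, zz_zero tl p, OneMemClass.coe_eq_one, map_eq_one_iff _ θ.injective] at this
    exact one_ne_zero (zz_inj tl p gen ((congrArg Subtype.val this).trans (zz_zero tl p _).symm))
  have f2 : ∀ k β, (γ (R.simple k) = R.simple k → σ β = β) → ∀ h : TG γ i σ x, (h : H) ∈ Dg x →
      f k (ch x h (R.simple k) * β) = ch x (θ h) (R.simple k) * f k β := fun k β hβ h hh => by
    refine zz_inj (σ := σ) (r := R.simple k) tl p gen ?_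
    rw [← (hf k _ fun e => by rw [map_mul, hβ e, ← ch_g p ht hh (hfix h), e]).2
      (h * ⟨_, zz_mem_TG qf hβ⟩ * h⁻¹) (zz_conj p ht hh (hfix h) _ _), ← zz_conj p ht (hH hh) (hfix _),
      ← (hf k β hβ).2 ⟨_, zz_mem_TG qf hβ⟩ rfl]
    simp
  -- the field automorphism
  obtain ⟨k0, hk0⟩ : ∃ k, γ (R.simple k) ≠ R.simple k := by
    by_contra h
    push Not at h
    exact tl.ne_one (NF.linP_ext tl.au.1 (NF.au_diag NF.diag_one).1 h)
  have d0 : ∀ β : E, γ (R.simple k0) = R.simple k0 → σ β = β := fun _ e => absurd e hk0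
  have f3 : ∀ a b, f k0 (a + b) = f k0 a + f k0 b := fun a b => by
    refine zz_inj (σ := σ) (r := R.simple k0) tl p gen ?_
    rw [← (hf k0 _ (d0 _)).2 (⟨_, zz_mem_TG qf (d0 a)⟩ * ⟨_, zz_mem_TG qf (d0 b)⟩)
      (zz_add tl p _ _ _).symm, zz_add tl p, ← (hf k0 _ (d0 a)).2 ⟨_, zz_mem_TG qf (d0 a)⟩ rfl,
      ← (hf k0 _ (d0 b)).2 ⟨_, zz_mem_TG qf (d0 b)⟩ rfl, map_mul]
    rfl
  have f4 : f k0 0 = 0 := by simpa using f3 0 0
  have f5 : ∀ h : TG γ i σ x, (h : H) ∈ Dg x →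
      ch x (θ h) (R.simple k0) = f k0 (ch x h (R.simple k0)) / f k0 1 := fun h hh => by
    rw [eq_div_iff (f1 k0), ← f2 k0 1 (d0 _) h hh, mul_one]
  let φ0 : E →+* E :=
    { toFun := fun a => f k0 a / f k0 1
      map_one' := div_self (f1 k0)
      map_mul' := fun a b => by
        by_cases ha : a = 0
        · simp [ha, f4]
        obtain ⟨h, hh, hh', rfl⟩ := exists_ch tl p qf _ ha (d0 a)
        rw [f2 k0 b (d0 b) ⟨h, hh⟩ hh', f5 ⟨h, hh⟩ hh', mul_div_assoc]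
      map_zero' := by simp [f4]
      map_add' := fun a b => by rw [f3, add_div] }
  obtain ⟨φ, hφ⟩ : ∃ φ : E ≃+* E, ∀ a, φ a = f k0 a / f k0 1 :=
    ⟨RingEquiv.ofBijective φ0 (Finite.injective_iff_bijective.1 φ0.injective), fun _ => rfl⟩
  clear φ0
  have k2 : ∀ k, ∀ h : TG γ i σ x, (h : H) ∈ Dg x →
      ch x (θ h) (R.simple k) = φ (ch x h (R.simple k)) := by
    refine spread tl (A := fun r => ∀ h : TG γ i σ x, (h : H) ∈ Dg x → ch x (θ h) r = φ (ch x h r))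
      hk0 (fun h hh => by rw [hφ, f5 h hh]) (fun r a h hh => ?_) fun r s a e e' h hh => ?_
    · rw [ch_g p ht hh (hfix h), ch_g p ht (hH hh) (hfix _), a h hh, aut_comm]
    · obtain ⟨n, hn, w, hw, e1, e2⟩ := exists_n tl p qf r
      have hN : n ∈ (spl tl.lace p gen hz).N := (NF.mem_N_of_perm (spl tl.lace p gen hz) (g := n)
          (w := w) hw fun s y hy => by
        obtain ⟨b, rfl⟩ := (mem_XR p).1 hy
        rw [e1]; exact x_mem_XR _ _).1
      have e3 : n⁻¹ * θ ⟨n, hn⟩ ∈ Dg x := Split.inv_mul_mem_H hN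
        (hθ.map_N τ (subtype_injective _) h1 h2 (g := ⟨n, hn⟩) hN)
        (hθ.ν_eq τ (subtype_injective _) h1 h2 hU (g := ⟨n, hn⟩) hN).symm
      have e4 : ∀ {g}, g ∈ Dg x → n⁻¹ * g * n ∈ Dg x := fun hg => Split.conj_mem_H' hN hg
      have e5 := a ((⟨n, hn⟩ : TG γ i σ x)⁻¹ * h * ⟨n, hn⟩) (e4 hh)
      have e6 : ((θ ((⟨n, hn⟩ : TG γ i σ x)⁻¹ * h * ⟨n, hn⟩) : TG γ i σ x) : H) =
          (n⁻¹ * θ ⟨n, hn⟩)⁻¹ * (n⁻¹ * θ h * n) * (n⁻¹ * θ ⟨n, hn⟩) := by simp [mul_assoc]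
      have e7 : R.rc (w s) = R.rc r + R.rc s := by rw [e2 s e', R.rc_τ, e]; simp [add_comm]
      rw [e6, ch_cj p (e4 (hH hh)) e3, ch_n p (hH hh) (e4 (hH hh)) (e1 s)] at e5
      replace e5 := e5.trans (congrArg φ (ch_n p hh (e4 hh) (e1 s)))
      rw [ch_sum p hh e7, ch_sum p (hH hh) e7, map_mul, ← a h hh] at e5
      exact mul_right_cancel₀ (ch_ne (hH hh) s) e5
  have k3 : ∀ k β, (γ (R.simple k) = R.simple k → σ β = β) → f k β = f k 1 * φ β := fun k β hβ => by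
    by_cases h0 : β = 0
    · refine zz_inj (σ := σ) (r := R.simple k) tl p gen ?_
      rw [← (hf k β hβ).2 1 (by rw [h0, zz_zero tl p]; rfl), h0, map_zero, mul_zero, zz_zero tl p]
      simp
    obtain ⟨h, hh, hh', rfl⟩ := exists_ch tl p qf _ h0 hβ
    rw [← k2 k ⟨h, hh⟩ hh', mul_comm, ← f2 k 1 (fun _ => map_one σ) ⟨h, hh⟩ hh', mul_one]
  -- the extension
  obtain ⟨π, hπ⟩ := tl.diag
  have k4 : ∀ k, f (π k) 1 = σ (f k 1) := fun k => by
    have e : γ (R.simple k) = R.simple (π k) := R.rc_inj (funext fun l => by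
      obtain ⟨l, rfl⟩ := π.surjective l
      simp [hπ, R.rc_simple, Pi.single_apply])
    by_cases h : γ (R.simple k) = R.simple k
    · rw [R.simple_inj (e.symm.trans h), (hf k 1 fun _ => map_one σ).1 h]
    · have e1 : ∀ β, zz γ σ x (R.simple (π k)) (σ β) = zz γ σ x (R.simple k) β := fun β => by
        rw [← e, zz_short h, zz_short (tl.short_γ h), tl.sq, qf.sq, (gcom tl p h _ _).eq]
      refine zz_inj (σ := σ) (r := R.simple (π k)) tl p gen ?_
      rw [e1, ← (hf k 1 fun _ => map_one σ).2 ⟨_, zz_mem_TG qf fun _ => map_one σ⟩ rfl]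
      exact ((hf (π k) 1 fun _ => map_one σ).2 _ (by simpa using (e1 1).symm)).symm
  let χ : Φ → Eˣ := fun r => ∏ k, Units.mk0 _ (f1 k) ^ R.rc r k
  have χ1 : ∀ k, (χ (R.simple k) : E) = f k 1 := fun k => by
    simp only [χ, R.rc_simple]
    rw [Finset.prod_eq_single k (fun l _ e => by simp [e]) (by simp)]
    simp
  have χ2 : ∀ r, (χ (γ r) : E) = σ (χ r) := fun r => by
    simp only [χ]
    rw [← Equiv.prod_comp π]
    simp [hπ, k4]
  obtain ⟨m, hm⟩ := exists_frame tl.lace p gen hZ NF.diag_one φ χ fun r s k e => by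
    simp [χ, e, zpow_add, Finset.prod_mul_distrib]
  replace hm : ∀ r a, m (x r a) = x r (χ r * φ a) := hm
  have m1 : ∀ r β, m (zz γ σ x r β) = zz γ σ x r (χ r * φ β) := fun r β =>
    zz_map (map_mul m) (hm r) (hm (γ r)) (fun a => by rw [χ2, map_mul, aut_comm]) β
  have m2 : ∀ g : TG γ i σ x, m g ∈ TG γ i σ x := fun g =>
    TG_le qf (K := (TG γ i σ x).comap m.toMonoidHom) (fun r β hβ => by
      show m _ ∈ TG γ i σ x
      rw [m1]
      exact zz_mem_TG qf fun e => by rw [map_mul, ← χ2, e, ← aut_comm, hβ e]) g.2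
  let μ : TG γ i σ x ≃* TG γ i σ x :=
    MulEquiv.ofBijective ((m.toMonoidHom.comp (TG γ i σ x).subtype).codRestrict _ m2)
      (Finite.injective_iff_bijective.1 fun a b e =>
        Subtype.ext (m.injective (congrArg Subtype.val e)))
  have hμ : H37.PresUV (spl tl.lace p gen hz) (TG γ i σ x).subtype μ :=
    ⟨fun g => aut_UU hm _ g, fun g => aut_UU hm _ g⟩
  have k5 := (hθ.trans hμ.symm).eq_refl τ (subtype_injective _) h1 h3 fun k u hu => by
    obtain ⟨β, hβ, e⟩ := (mU k _).1 hu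
    rw [MulEquiv.trans_apply, MulEquiv.symm_apply_eq]
    refine Subtype.ext (((hf k β hβ).2 u e).trans ?_)
    show _ = m u
    rw [show (u : H) = _ from e, m1, χ1, k3 k β hβ]
  refine ⟨m, aut_ext gen fun r a => ?_, fun g => ?_⟩
  · rw [MulAut.mul_apply, MulAut.mul_apply, hm, ht, ht, hm, χ2, map_mul, aut_comm]
  · have := k5 g
    rw [MulEquiv.trans_apply, MulEquiv.symm_apply_eq] at this
    exact congrArg Subtype.val this

omit hρ hσ in
/-- Every automorphism of the twisted subgroup extends. -/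
theorem taut (hZ : center H = ⊥) (θ : TG γ i σ x ≃* TG γ i σ x) :
    ∃ m : MulAut H, Commute t m ∧ ∀ g, (θ g : H) = m g := by
  haveI := tl.lace.fin
  have hz := center_odd tl.lace p gen
  obtain ⟨τ, hρ, hσ⟩ := exists_twist tl p gen qf ht hz
  have h2 := (rg3 tl p gen qf ht hρ hσ).trans τ.G1_le_fix
  obtain ⟨l, hl⟩ := H37.exists_presUV τ (subtype_injective _) (rg1 tl p gen qf ht hρ hσ) h2 (p := 2)
    ((isPGroup_Up tl.lace p).comap_of_injective _ (subtype_injective _))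
    (fun g k hg e => Subtype.ext (eq_one_of_odd (odd_Dg p gen hz hg) (k := k)
      (by simpa using congrArg Subtype.val e))) θ
  obtain ⟨m, h3, h4⟩ := taut_pres tl p gen qf ht hρ hσ hZ hl
  have h5 : t l = l := (hσ _).symm.trans (h2 ⟨l, rfl⟩)
  refine ⟨MulAut.conj (l : H)⁻¹ * m, Commute.mul_right (MulEquiv.ext fun g => by simp [h5]) h3,
    fun g => ?_⟩
  rw [MulAut.mul_apply, ← h4]
  simp [mul_assoc]

omit tl p gen qf ht hρ hσ in
theorem TG_map {M : Type*} [Group M] (f : H →* M) :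
    (TG γ i σ fun r a => f (x r a)) = (TG γ i σ x).map f := by
  rw [TG, TG, MonoidHom.map_closure]
  congr 1
  ext g
  constructor
  · rintro (⟨r, hr, a, rfl⟩ | ⟨r, hr, a, rfl⟩)
    · exact ⟨_, Or.inl ⟨r, hr, a, rfl⟩, rfl⟩
    · exact ⟨_, Or.inr ⟨r, hr, a, rfl⟩, map_mul _ _ _⟩
  · rintro ⟨_, ⟨r, hr, a, rfl⟩ | ⟨r, hr, a, rfl⟩, rfl⟩
    · exact Or.inl ⟨r, hr, a, rfl⟩
    · exact Or.inr ⟨r, hr, a, map_mul _ _ _⟩

end Cfsg.Agent.H66.TM

namespace Cfsg.Agent.H66.TM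

open Cfsg Cfsg.Agent.H63 Cfsg.Agent.H63.SL Cfsg.Agent.H34 Cfsg.Agent.H40 Cfsg.Agent.H80
  Cfsg.Agent.H34.TW Cfsg.Agent.H35 Cfsg.Agent.H35.PinM Subgroup Equiv

universe u v w

/-- **TMOD** -/
theorem tmod : TModStmt.{u, v, w} := by
  classical
  intro ι Φ _ _ R γ F E _ _ _ i σ H _ _ x tl qf p gen hZ G _ _ L hq hC ⟨e⟩
  obtain ⟨t, ht⟩ := exists_frame tl.lace p gen hZ tl.diag σ 1 fun _ _ _ _ => by simp
  simp only [Pi.one_apply, Units.val_one, one_mul] at ht
  have cj_inj : Function.Injective (MulAut.conj : H →* MulAut H) := by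
    rw [← MonoidHom.ker_eq_bot_iff, eq_bot_iff, ← hZ]
    exact fun g hg => mem_center_iff.2 fun a => (mul_inv_eq_iff_eq_mul.1 (DFunLike.congr_fun hg a)).symm
  have cj_m : ∀ (m : MulAut H) (g : H), m * MulAut.conj g * m⁻¹ = MulAut.conj (m g) := fun m g =>
    MulEquiv.ext fun a => by simp
  let f : L →* TG γ i σ x := e.toMonoidHom.comp (QuotientGroup.mk' _)
  have hf : Function.Surjective f := e.surjective.comp (QuotientGroup.mk'_surjective _)
  have ho : ∀ z, f z = 1 → Odd (orderOf z) := fun z hz =>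
    Nat.coprime_two_right.1 ((H3.pPrimeCore_coprime 2 L).coprime_dvd_left (orderOf_dvd_natCard _
      ((QuotientGroup.eq_one_iff z).1 ((map_eq_one_iff e e.injective).1 hz))))
  have hk : ∀ z, f z = 1 ↔ z ∈ center L := fun z => by
    refine ⟨fun hz => (H52.IsQuasisimple.normal_eq_top_or_le_center hq f.ker).resolve_left
      (fun e' => ?_) hz, fun hz => mem_bot.1 (hC ▸ mem_center_iff.2 fun a => ?_)⟩
    · obtain ⟨ρ, -⟩ := tl.ex
      obtain ⟨g, hg⟩ := hf ⟨_, zz_mem_TG (γ := γ) qf (r := ρ) fun _ => map_one σ⟩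
      rw [show f g = 1 from e'.ge (mem_top g)] at hg
      exact one_ne_zero (zz_inj tl p gen ((congrArg Subtype.val hg).symm.trans (zz_zero tl p _).symm))
    · obtain ⟨a, rfl⟩ := hf a
      rw [← map_mul, ← map_mul, mem_center_iff.1 hz]
  have k1 : ∀ r β, ∃ y : L, y * y = 1 ∧ ((γ r = r → σ β = β) → (f y : H) = zz γ σ x r β) :=
    fun r β => by
      by_cases hβ : γ r = r → σ β = β
      · obtain ⟨g, hg⟩ := hf ⟨_, zz_mem_TG qf hβ⟩
        have h1 : f g * f g = 1 := by rw [hg]; exact Subtype.ext (zz_sq tl p r β)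
        obtain ⟨m, hm⟩ := ho (g * g) (by rw [map_mul, h1])
        refine ⟨g ^ orderOf (g * g), by rw [← (Commute.refl g).mul_pow, pow_orderOf_eq_one], fun _ => ?_⟩
        rw [hm, map_pow, pow_succ, pow_mul, pow_two, h1, one_pow, one_mul, hg]
      · exact ⟨1, mul_one _, fun h => absurd h hβ⟩
  choose y hy hy' using k1
  let π : G → MulAut H := fun g => if h : g ∈ L then MulAut.conj (f ⟨g, h⟩ : H) else 1
  have hπ : ∀ g : L, π g = MulAut.conj (f g : H) := fun g => dif_pos g.2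
  have hU : UU (fun r a => MulAut.conj (x r a)) Set.univ = (MulAut.conj : H →* MulAut H).range := by
    rw [UU_map, gen, ← MonoidHom.range_eq_map]
  have hz : ∀ z (hz : z ∈ L), f ⟨z, hz⟩ = 1 ↔ z ∈ C[L] := fun z hz => by
    rw [hk, mem_center_iff]
    exact ⟨fun h g hg => congrArg Subtype.val (h ⟨g, hg⟩), fun h g => Subtype.ext (h g g.2)⟩
  refine ⟨fun r a => y r (i a), fun r β => y r β, t, π, ⟨pin_map tl.lace p _ (by
    rw [(MonoidHom.ker_eq_bot_iff _).2 cj_inj]; exact bot_le), ?_, ?_, fun r a => by rw [cj_m, ht], hq,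
    fun z h => ?_, fun a ha b hb => ?_, fun z h => ?_, fun m => ?_,
    fun r a => ⟨(y _ _).2, congrArg Subtype.val (hy _ _)⟩,
    fun r a => ⟨(y _ _).2, congrArg Subtype.val (hy _ _)⟩, fun r h a => ?_, fun r h a => ?_,
    fun g hg => ?_⟩, fun h3 => ?_⟩
  · rw [hU]
    exact ⟨by rintro _ ⟨g, rfl⟩ m; exact ⟨_, (cj_m m g).symm⟩⟩
  · rw [hU, eq_bot_iff]
    intro m hm
    refine mem_bot.2 (MulEquiv.ext fun g => cj_inj ?_)
    rw [← cj_m, ← hm _ ⟨g, rfl⟩, mul_inv_cancel_right]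
    rfl
  · rw [← orderOf_mk z h.1]
    exact ho _ ((hz z h.1).2 h.2)
  · rw [hπ ⟨a, ha⟩, hπ ⟨b, hb⟩, ← map_mul, ← coe_mul, ← map_mul]
    exact hπ (⟨a, ha⟩ * ⟨b, hb⟩)
  · rw [hπ ⟨z, h⟩, map_eq_one_iff _ cj_inj, OneMemClass.coe_eq_one, hz]
  · rw [TG_map]
    constructor
    · rintro ⟨g, hg, rfl⟩
      obtain ⟨l, hl⟩ := hf ⟨g, hg⟩
      exact ⟨l, l.2, by rw [hπ, hl]⟩
    · rintro ⟨l, hl, rfl⟩
      exact ⟨_, (f ⟨l, hl⟩).2, (hπ ⟨l, hl⟩).symm⟩
  · rw [hπ, hy' _ _ fun _ => qf.σ_i a, zz_long h]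
  · rw [hπ, hy' _ _ fun e => absurd e h, zz_short h, map_mul]
  · let θ : L ≃* L := L.normalizerMonoidHom ⟨g, hg⟩
    let θ' : (L ⧸ oddCore L) ≃* (L ⧸ oddCore L) := QuotientGroup.congr _ _ θ
      (H3.map_pPrimeCore_equiv θ)
    obtain ⟨m, h1, h2⟩ := taut tl p gen qf ht hZ (e.symm.trans (θ'.trans e))
    refine ⟨m, h1, fun l hl => ?_⟩
    rw [hπ ⟨l, hl⟩, cj_m, ← h2]
    refine (hπ (θ ⟨l, hl⟩)).trans ?_
    congr 2
    simp [f, θ']
  · rw [T3, TG_map]
    have hX : ∀ g r, MulAut.conj g ∈ XR (fun r a => MulAut.conj (x r a)) r → g ∈ XR x r :=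
      fun g r h => by
        rw [← UU_singleton, UU_map, UU_singleton] at h
        exact (mem_map_iff_mem cj_inj).1 h
    rintro _ ⟨h, hh, rfl⟩ _ ⟨h', hh', rfl⟩ a1 a2 a3
    obtain ⟨k, hk⟩ := h3 h hh h' hh' (fun r a => hX _ _ (by simpa using a1 r a))
      (fun r a => hX _ _ (by simpa using a2 r a)) (fun e => a3 (by rw [e, map_one]))
    exact ⟨k, by rw [← hk, map_zpow]⟩


end Cfsg.Agent.H66.TM
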