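import Cfsg.Agent.H66.DnPin
import Cfsg.Agent.H79.DescO

/-!
# The groups `Ω⁻₂ₙ` in characteristic two as twisted groups
-/

set_option autoImplicit false

namespace Cfsg.Agent.H66.Dn

open Cfsg Cfsg.Agent.H63 Cfsg.Agent.H63.SL Cfsg.Agent.H34 Cfsg.Agent.H40 Cfsg.Agent.H30
  Cfsg.Agent.H35 Cfsg.Agent.H34.TW Cfsg.Agent.H79 Subgroup QuadraticMap
open Cfsg.Agent.H40.LF (mem_XR x_mem_XR x_mem_UU UU_le)
open scoped commutatorElement

universe u v

variable {m : ℕ}

theorem Hyp.diag {E : Type v} [Field E] {V : Type*} [AddCommGroup V] [Module E V]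
    {Q : QuadraticForm E V} {Fr : Frame Q (κ m)} (H : Hyp Fr) {g : O Q}
    (hg : ∀ r, ∃ t, g * xr Fr r 1 * g⁻¹ = xr Fr r t) (a : κ m) : ∃ l : E, g.1 (Fr.b a) = l • Fr.b a := by
  have key : ∀ c : κ m, a.1 ≠ c.1 → ∀ d, a ≠ Dn.bar d → c ≠ Dn.bar d →
      polar Q (Fr.b d) (g.1 (Fr.b a)) = 0 := fun c h d h1 h2 => by
    obtain ⟨t, e⟩ := hg (rt a c h)
    have := congrArg (fun k : O Q => polar Q (Fr.b d) (k.1 (g.1 (Fr.b (Dn.bar c))))) e
    rw [H.xr_rt, H.xr_rt] at this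
    simp only [O_mul_apply, O_inv_apply] at this
    rw [H.X_apply h, Frame.X, eich_apply (Fr.Q_b a) (H.pol' (ne_bar h) t), one_smul, map_sub] at this
    simpa [polar_sub_right, polar_add_right, polar_smul_right', H.pol h1, H.pol h2] using this
  refine ⟨polar Q (Fr.b (Dn.bar a)) (g.1 (Fr.b a)), sub_eq_zero.1 (H.eq_zero fun d => ?_)⟩
  rw [polar_sub_right, polar_smul_right']
  by_cases e : a = Dn.bar d
  · subst e; rw [bar_bar, (H.isHyp d).pol, mul_one, sub_self]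
  obtain ⟨j, hj⟩ := exists_ne a.1
  rw [H.pol e, mul_zero, _root_.sub_zero]
  by_cases e' : (j, true) = Dn.bar d
  · exact key (j, false) hj.symm d e (by rw [← e']; simp)
  · exact key (j, true) hj.symm d e e'

theorem TG_map' {Φ : Type} {γ : Equiv.Perm Φ} {F E : Type v} [Field F] [Field E] {i : F →+* E}
    {σ : E ≃+* E} {H M : Type*} [Group H] [Group M] (x : Φ → E → H) (f : H →* M) :
    (TG γ i σ x).map f = TG γ i σ fun r a => f (x r a) := by
  rw [TG, TG, MonoidHom.map_closure, Set.image_union]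
  congr 2
  · ext g
    exact ⟨by rintro ⟨_, ⟨r, hr, a, rfl⟩, rfl⟩; exact ⟨r, hr, a, rfl⟩,
      by rintro ⟨r, hr, a, rfl⟩; exact ⟨_, ⟨r, hr, a, rfl⟩, rfl⟩⟩
  · ext g
    exact ⟨by rintro ⟨_, ⟨r, hr, a, rfl⟩, rfl⟩; exact ⟨r, hr, a, map_mul _ _ _⟩,
      by rintro ⟨r, hr, a, rfl⟩; exact ⟨_, ⟨r, hr, a, rfl⟩, map_mul _ _ _⟩⟩

section Tw

variable {F E : Type v} [Field F] [Field E] {i : F →+* E} {σ : E ≃+* E} {ι : Type} [Fintype ι]
  [DecidableEq ι] {Q₀ : QuadraticForm F (ι → F)} {Q : QuadraticForm E (ι → E)}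

/-- A hyperbolic basis over the quadratic extension, rational up to one conjugate pair. -/
structure Tw (σ : E ≃+* E) (B : BC i Q₀ Q) (Fr : Frame Q (κ m)) (b₀ : κ m → ι → F) : Prop where
  hyp : Hyp Fr
  d : B.d = 1
  rat : ∀ a, a.1 ≠ 0 → Fr.b a = B.E (b₀ a)
  sh : ∀ s β, ∃ v, β • Fr.b (0, s) + σ β • Fr.b (0, !s) = B.E v
  cj : ∀ v, polar Q (Fr.b (0, true)) (B.E v) = σ (polar Q (Fr.b (0, false)) (B.E v))
  an : ∀ u, Q₀ u = 0 → (∀ a, a.1 ≠ 0 → polar Q₀ (b₀ a) u = 0) → u = 0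

variable {B : BC i Q₀ Q} {Fr : Frame Q (κ m)} {b₀ : κ m → ι → F} (T : Tw σ B Fr b₀)
include T

theorem Tw.Q_E (v : ι → F) : Q (B.E v) = i (Q₀ v) := by rw [B.Q_E, T.d, Units.val_one, one_mul]

theorem Tw.polar_E (u v : ι → F) : polar Q (B.E u) (B.E v) = i (polar Q₀ u v) := by
  rw [B.polar_E, T.d, Units.val_one, one_mul]

theorem Tw.o_eich {u v : ι → F} (hu : Q (B.E u) = 0) (hv : polar Q (B.E u) (B.E v) = 0) :
    B.o (eich Q₀ u v) = eich Q (B.E u) (B.E v) := B.o_ext fun w => by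
  rw [B.o_E, eich_apply hu hv, eich_apply (by rwa [T.Q_E, map_eq_zero] at hu)
    (by rwa [T.polar_E, map_eq_zero] at hv)]
  simp only [B.E_sub, B.E_add, B.E_smul, T.Q_E, T.polar_E, map_mul]

omit T in
theorem o_inj : Function.Injective B.o := fun g k h => O_ext fun v => B.E_injective (by
  rw [← B.o_E, h, B.o_E])

theorem Tw.isHyp {a : κ m} (h : a.1 ≠ 0) : IsHyp Q₀ (b₀ a) (b₀ (bar a)) := by
  have := T.hyp.isHyp a
  rw [T.rat a h, T.rat (bar a) h] at this
  exact ⟨i.injective (by rw [← T.Q_E, this.left, map_zero]),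
    i.injective (by rw [← T.Q_E, this.right, map_zero]),
    i.injective (by rw [← T.polar_E, this.pol, map_one])⟩

omit [Fintype ι] [DecidableEq ι] in
theorem Tw.short (s : Bool) {c : κ m} (h : c.1 ≠ 0) (β : E) :
    xr Fr (rt (0, s) c h.symm) β * xr Fr (γ m (rt (0, s) c h.symm)) (σ β) =
      eich Q (Fr.b c) (β • Fr.b (0, s) + σ β • Fr.b (0, !s)) := by
  rw [γ_short s h, T.hyp.xr_rt, T.hyp.xr_rt, T.hyp.X_comm, T.hyp.X_comm (0, !s), Frame.X, Frame.X,
    eich_mul (Fr.Q_b c) (T.hyp.pol' (ne_bar (c := (0, s)) h) _) (T.hyp.pol' (ne_bar (c := (0, !s)) h) _)]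

theorem Tw.TG_eq : TG (γ m) i σ (xr Fr) = (eichGroup Q₀).map B.o := by
  have H := T.hyp
  refine le_antisymm ((closure_le _).2 ?_) (map_le_iff_le_comap.2 ?_)
  · rintro _ (⟨r, hr, t, rfl⟩ | ⟨r, hr, β, rfl⟩)
    · obtain ⟨a, c, h, h1, h2, rfl⟩ := exists_long hr
      refine ⟨_, eich_mem_eichGroup (b₀ a) (t • b₀ c), ?_⟩
      have := H.pol' (ne_bar h) (i t)
      rw [H.xr_rt, Frame.X]
      rw [T.rat a h1, T.rat c h2, ← B.E_smul] at this ⊢
      exact T.o_eich (T.rat a h1 ▸ Fr.Q_b a) this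
    · obtain ⟨s, c, h, rfl⟩ := exists_short hr
      obtain ⟨v, hv⟩ := T.sh s β
      refine ⟨_, eich_mem_eichGroup (b₀ c) v, ?_⟩
      rw [T.short s h, hv, T.rat c h]
      refine T.o_eich (T.rat c h ▸ Fr.Q_b c) ?_
      rw [← hv, ← T.rat c h, polar_add_right, H.pol' (ne_bar (c := (0, s)) h),
        H.pol' (ne_bar (c := (0, !s)) h), add_zero]
  have h1 : ∀ a : κ m, a.1 ≠ 0 → ∀ v, polar Q₀ (b₀ a) v = 0 →
      eich Q₀ (b₀ a) v ∈ (TG (γ m) i σ (xr Fr)).comap B.o := fun a ha v hv => by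
    have hv' : polar Q (Fr.b a) (B.E v) = 0 := by rw [T.rat a ha, T.polar_E, hv, map_zero]
    rw [mem_comap, T.o_eich (T.rat a ha ▸ Fr.Q_b a) (T.rat a ha ▸ hv'), ← T.rat a ha]
    suffices B.E v ∈ eichAddSubgroup (TG (γ m) i σ (xr Fr)) (Fr.Q_b a) from this.2
    have k1 : ∀ d : κ m, d.1 ≠ 0 → polar Q (Fr.b (bar d)) (B.E v) • Fr.b d ∈
        eichAddSubgroup (TG (γ m) i σ (xr Fr)) (Fr.Q_b a) := fun d hd => by
      by_cases e : d = bar a
      · rw [e, bar_bar, hv', zero_smul]; exact zero_mem _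
      refine ⟨H.pol' e _, ?_⟩
      by_cases e' : d = a
      · rw [e', eich_smul_self]; exact one_mem _
      have h : a.1 ≠ d.1 := fun k => (fst_eq_iff.1 k.symm).elim e' e
      refine subset_closure (Or.inl ⟨rt a d h, (long_rt h).2 ⟨ha, hd⟩, polar Q₀ (b₀ (bar d)) v, ?_⟩)
      rw [H.xr_rt, Frame.X, ← T.polar_E, ← T.rat (bar d) hd]
    rw [H.decomp (B.E v), Fintype.sum_prod_type]
    refine sum_mem fun j _ => ?_
    rw [Fintype.sum_bool]
    by_cases e : j = 0
    · subst e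
      refine ⟨by rw [polar_add_right, H.pol' (ne_bar (c := (0, true)) ha),
        H.pol' (ne_bar (c := (0, false)) ha), add_zero], subset_closure (Or.inr ⟨rt (0, true) a ha.symm,
          fun k => ((long_rt _).1 k).1 rfl, polar Q (Fr.b (0, false)) (B.E v), ?_⟩)⟩
      rw [T.short true ha, ← T.cj]; rfl
    · exact add_mem (k1 _ e) (k1 _ e)
  refine H30.eichGroup_le fun u v u0 hu huv => ?_
  obtain ⟨a, ha0, ha⟩ : ∃ a : κ m, a.1 ≠ 0 ∧ polar Q₀ u (b₀ a) ≠ 0 := by
    by_contra k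
    push Not at k
    exact u0 (T.an u hu fun a ha => by rw [polar_comm, k a ha])
  obtain ⟨w, hw, -, hk⟩ := eich_move (T.isHyp ha0) ha
  rw [hu, zero_div, zero_smul, zero_add] at hk
  have hkH := h1 a ha0 w hw
  have h2 := eich_conj (eich Q₀ (b₀ a) w) u v
  rw [hk, eich_smul_left ha] at h2
  rw [← Subgroup.mul_mem_cancel_left _ hkH, ← Subgroup.mul_mem_cancel_right _ (inv_mem hkH), h2]
  apply h1 (bar a) ha0
  have h3 := O_polar (eich Q₀ (b₀ a) w) u v
  rw [hk, huv, polar_smul_left'] at h3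
  rw [polar_smul_right', h3]

theorem Tw.TG_map : (TG (γ m) i σ (xe Fr)).map (eichGroup Q).subtype = (eichGroup Q₀).map B.o :=
  (TG_map' _ _).trans T.TG_eq

theorem Tw.equiv : Nonempty (eichGroup Q₀ ≃* TG (γ m) i σ (xe Fr)) :=
  ⟨((eichGroup Q₀).equivMapOfInjective _ o_inj).trans ((MulEquiv.subgroupCongr T.TG_map.symm).trans
    (equivMapOfInjective _ _ (subtype_injective _)).symm)⟩

theorem Tw.t3 [Finite E] (h2 : Nat.card F = 2) (h4 : Nat.card E = 4) : T3 (γ m) i σ (xe Fr) := by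
  have H := T.hyp
  let D : O Q → Eˣ → Prop := fun g l => (∀ a : κ m, a.1 ≠ 0 → g.1 (Fr.b a) = Fr.b a) ∧
    g.1 (Fr.b (0, true)) = (l : E) • Fr.b (0, true) ∧
    g.1 (Fr.b (0, false)) = ((l⁻¹ : Eˣ) : E) • Fr.b (0, false)
  have D1 : D 1 1 := ⟨fun _ _ => rfl, by simp, by simp⟩
  have D2 : ∀ g l, D g l → ∀ k : ℕ, D (g ^ k) (l ^ k) := fun g l h k => by
    induction k with
    | zero => simpa using D1
    | succ k ih =>
      refine ⟨fun a ha => by rw [pow_succ, O_mul_apply, h.1 a ha, ih.1 a ha], ?_, ?_⟩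
      · rw [pow_succ, O_mul_apply, h.2.1, map_smul, ih.2.1, smul_smul, pow_succ', Units.val_mul]
      · rw [pow_succ, O_mul_apply, h.2.2, map_smul, ih.2.2, smul_smul, pow_succ, mul_inv_rev,
          Units.val_mul]
  have D3 : ∀ g g' l, D g l → D g' l → g = g' := fun g g' l h h' => H.ext fun ⟨j, s⟩ => by
    by_cases e : j = 0
    · subst e; cases s
      exacts [h.2.2.trans h'.2.2.symm, h.2.1.trans h'.2.1.symm]
    · exact (h.1 _ e).trans (h'.1 _ e).symm
  have D4 : ∀ g ∈ TG (γ m) i σ (xe Fr), (∀ r a, g * xe Fr r a * g⁻¹ ∈ XR (xe Fr) r) →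
      ∃ l, D g l := fun g hg h => by
    have k := H.diag (g := g) fun r =>
      let ⟨t, e⟩ := (mem_XR H.pin').1 (h r 1)
      ⟨t, congrArg Subtype.val e⟩
    obtain ⟨g₀, -, e⟩ : (g : O Q) ∈ (eichGroup Q₀).map B.o := T.TG_map ▸ mem_map_of_mem _ hg
    obtain ⟨l, hl⟩ := k (0, true)
    obtain ⟨l', hl'⟩ := k (0, false)
    have p : l * l' = 1 := by
      have := O_polar (g : O Q) (Fr.b (0, true)) (Fr.b (0, false))
      rwa [hl, hl', polar_smul_left', polar_smul_right',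
        show polar Q (Fr.b (0, true)) (Fr.b (0, false)) = 1 from (H.isHyp (0, true)).pol, mul_one] at this
    refine ⟨⟨l, l', p, by rwa [mul_comm]⟩, fun a ha => ?_, hl, hl'⟩
    obtain ⟨c, hc⟩ := k a
    have c0 : c ≠ 0 := fun e => (H.isHyp a).left_ne_zero (O_apply_eq_zero.1 (by rw [hc, e, zero_smul]))
    have c1 : c = i (polar Q₀ (g₀.1 (b₀ a)) (b₀ (bar a))) := by
      rw [← T.polar_E, ← B.o_E, e, ← T.rat a ha, ← T.rat (bar a) ha, hc, polar_smul_left',
        (H.isHyp a).pol, mul_one]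
    obtain ⟨y, -, hy⟩ := (Nat.card_eq_two_iff' (0 : F)).1 h2
    rw [hc, c1, (hy (polar Q₀ (g₀.1 (b₀ a)) (b₀ (bar a))) fun e => c0 (by rw [c1, e, map_zero])).trans
      (hy 1 one_ne_zero).symm, map_one, one_smul]
  intro g hg g' hg' h h' h1
  obtain ⟨l, hl⟩ := D4 g hg h
  obtain ⟨l', hl'⟩ := D4 g' hg' h'
  have : Fact (Nat.Prime 3) := ⟨Nat.prime_three⟩
  obtain ⟨k, rfl⟩ := mem_powers_iff_mem_zpowers.2 (mem_zpowers_of_prime_card (p := 3)
    (by rw [Nat.card_units, h4]) (g := l) (g' := l') fun e => h1 (Subtype.ext (D3 _ _ _ hl (e ▸ D1))))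
  exact ⟨k, Subtype.ext (by simpa using D3 _ _ _ (D2 _ _ hl k) hl')⟩

end Tw

section Model

variable {F E : Type v} [Field F] [Field E]

/-- The rational part of the frame. -/
def bM (F : Type v) [Field F] (a : κ m) : (Fin (m + 1) ⊕ Fin (m + 1)) ⊕ Fin 2 → F :=
  Fin.cases (motive := fun _ => (Fin (m + 1) ⊕ Fin (m + 1)) ⊕ Fin 2 → F) 0
    (fun k => Pi.single (.inl (if a.2 then .inl k else .inr k)) 1) a.1

/-- The frame of the non-split form over a splitting field. -/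
def bE (A : E) (θ : Bool → E) (a : κ m) : (Fin (m + 1) ⊕ Fin (m + 1)) ⊕ Fin 2 → E :=
  Fin.cases (motive := fun _ => (Fin (m + 1) ⊕ Fin (m + 1)) ⊕ Fin 2 → E)
    (Sum.elim 0 ![θ a.2 / A, 1 / A])
    (fun k => Pi.single (.inl (if a.2 then .inl k else .inr k)) 1) a.1

theorem eqns_bM : True := by have := @bM.eq_1.{0}; have := @bE.eq_1.{0}; trivial

/-- The frame of the non-split form over a splitting field. -/
def frM {A B : E} {θ : Bool → E} (two : (2 : E) = 0) (hA : A ≠ 0) (h1 : θ true + θ false = A)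
    (h2 : θ true * θ false = B) (m : ℕ) : Frame (qMinus E (m + 1) A B) (κ m) where
  b := bE A θ
  bar := bar
  z := 0
  bar_bar := bar_bar
  Q_b := by
    rintro ⟨j, s⟩
    refine Fin.cases ?_ (fun k => ?_) j
    · cases s <;> simp [qMinus_apply, bE] <;> field_simp
      · linear_combination (-θ false) * h1 - h2 + (θ false ^ 2 + θ true * θ false) * two
      · linear_combination (-θ true) * h1 - h2 + (θ true ^ 2 + θ true * θ false) * two
    · cases s <;> simp [qMinus_apply, bE]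
  polar_b := by
    rintro ⟨j, s⟩ ⟨k, t⟩
    refine Fin.cases ?_ (fun j => ?_) j <;> refine Fin.cases ?_ (fun k => ?_) k
    · cases s <;> cases t <;> simp [polar_qMinus, bE, bar, two] <;> field_simp <;>
        linear_combination h1
    · cases s <;> cases t <;> simp [polar_qMinus, bE, bar]
    · cases s <;> cases t <;> simp [polar_qMinus, bE, bar, (Fin.succ_ne_zero _).symm]
    · cases s <;> cases t <;> simp [polar_qMinus, bE, bar, Pi.single_apply, eq_comm]
  polar_z a := by simp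
  span v hv := ⟨0, by
    have a1 := hv (0, true)
    have a2 := hv (0, false)
    simp [polar_qMinus, bE, two, hA] at a1 a2
    field_simp at a1 a2
    have a3 : v (.inr 1) = 0 := mul_left_cancel₀ hA (by
      linear_combination a1 + a2 - v (.inr 1) * h1 - v (.inr 0) * two)
    funext i
    rcases i with (i | i) | i
    · simpa [polar_qMinus, bE, Pi.single_apply] using hv (i.succ, false)
    · simpa [polar_qMinus, bE, Pi.single_apply] using hv (i.succ, true)
    · fin_cases i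
      · simpa [a3] using a1
      · simpa using a3⟩
  aniso _ := rfl
  two := two_κ

theorem eqns_frM : True := by have := @frM.eq_1.{0}; trivial

variable {i : F →+* E} {σ : E ≃+* E}

theorem tw_frM (qf : QF i σ) {a b : F}
    (hab : ∀ z₁ z₂ : F, z₁ ^ 2 + a * z₁ * z₂ + b * z₂ ^ 2 = 0 → z₁ = 0 ∧ z₂ = 0)
    {θ : Bool → E} (hA : i a ≠ 0) (h1 : θ true + θ false = i a) (h2 : θ true * θ false = i b)
    (h3 : ∀ s, σ (θ s) = θ (!s)) (m : ℕ) :
    Tw σ (BC.triv (H28.qMinus_map i (m + 1) a b)) (frM qf.two hA h1 h2 m) (bM F) where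
  hyp := ⟨qf.two, rfl, rfl⟩
  d := rfl
  rat := by
    rintro ⟨j, s⟩ h
    obtain ⟨k, rfl⟩ := Fin.exists_succ_eq.2 h
    funext l
    simp [frM, bE, bM, BC.E, BC.triv, Pi.single_apply, apply_ite i]
  sh s β := by
    have hi : ∀ y, σ (i y) = i y := fun y => (qf.fix _).2 ⟨y, rfl⟩
    obtain ⟨y0, e0⟩ := (qf.fix (β * (θ s / i a) + σ β * (θ (!s) / i a))).1 (by
      simp only [map_add, map_mul, map_div₀, hi, h3, qf.sq, Bool.not_not]; ring)
    obtain ⟨y1, e1⟩ := (qf.fix (β * (1 / i a) + σ β * (1 / i a))).1 (by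
      simp only [map_add, map_mul, map_div₀, hi, map_one, qf.sq]; ring)
    refine ⟨Sum.elim 0 ![y0, y1], funext fun l => ?_⟩
    rcases l with l | l
    · simp [frM, bE, BC.E, BC.triv]
    · fin_cases l
      · simpa [frM, bE, BC.E, BC.triv] using e0
      · simpa [frM, bE, BC.E, BC.triv] using e1
  cj v := by
    have hi : ∀ y, σ (i y) = i y := fun y => (qf.fix _).2 ⟨y, rfl⟩
    simp [frM, bE, BC.E, BC.triv, polar_qMinus, qf.two, hi, h3]
  an u hu h := by
    have k1 : ∀ k, u (.inl (.inl k)) = 0 := fun k => by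
      simpa [polar_qMinus, bM, Pi.single_apply] using h (k.succ, false) (Fin.succ_ne_zero _)
    have k2 : ∀ k, u (.inl (.inr k)) = 0 := fun k => by
      simpa [polar_qMinus, bM, Pi.single_apply] using h (k.succ, true) (Fin.succ_ne_zero _)
    simp only [qMinus_apply, k1, zero_mul, Finset.sum_const_zero, zero_add] at hu
    funext l
    rcases l with (l | l) | l
    · exact k1 l
    · exact k2 l
    · fin_cases l
      exacts [(hab _ _ hu).1, (hab _ _ hu).2]

theorem exists_theta [Finite E] (qf : QF i σ) {a b : F}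
    (hab : ∀ z₁ z₂ : F, z₁ ^ 2 + a * z₁ * z₂ + b * z₂ ^ 2 = 0 → z₁ = 0 ∧ z₂ = 0) :
    ∃ θ : Bool → E, i a ≠ 0 ∧ θ true + θ false = i a ∧ θ true * θ false = i b ∧
      ∀ s, σ (θ s) = θ (!s) := by
  have hi : ∀ y, σ (i y) = i y := fun y => (qf.fix _).2 ⟨y, rfl⟩
  obtain ⟨t, ht⟩ := exists_root_of_two (i := i) (σ := σ) (fun x => by simp only [qf.fix, eq_comm])
    (orderOf_eq_prime (by rw [pow_two]; exact RingEquiv.ext qf.sq) fun e => by
      obtain ⟨ω, h⟩ := qf.tr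
      rw [e] at h
      exact one_ne_zero (left_eq_add.1 h)) a b
  have h1 : σ t ≠ t := fun e => by
    obtain ⟨y, rfl⟩ := (qf.fix t).1 e
    exact one_ne_zero (hab y 1 (i.injective (by simpa using ht))).2
  have h2 := congrArg σ ht
  simp only [map_add, map_mul, map_pow, hi, map_zero] at h2
  have h3 : t + σ t = i a := mul_left_cancel₀ (sub_ne_zero.2 h1) (by
    linear_combination h2 - ht - (σ t - t) * i a * qf.two)
  refine ⟨fun s => if s then t else σ t, fun e => h1 ?_, h3, ?_, ?_⟩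
  · linear_combination h3 + e - t * qf.two
  · simp only [if_true, Bool.false_eq_true, if_false]
    linear_combination t * h3 - ht + i a * t * qf.two
  · rintro (_ | _) <;> simp [qf.sq]

/-- A quadratic extension from an anisotropic binary form. -/
theorem exists_qf (F : Type v) [Field F] [Finite F] (two : (2 : F) = 0) {a b : F}
    (hab : ∀ z₁ z₂ : F, z₁ ^ 2 + a * z₁ * z₂ + b * z₂ ^ 2 = 0 → z₁ = 0 ∧ z₂ = 0) :
    ∃ (E : Type v) (_ : Field E) (_ : Finite E) (i : F →+* E) (σ : E ≃+* E), QF i σ := by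
  have : Fact (∀ r : F, r ^ 2 ≠ b + a * r) := ⟨fun r e => one_ne_zero (hab r 1 (by
    linear_combination e + (a * r + b) * two)).2⟩
  have ha : a ≠ 0 := fun e => disc_ne_zero_of_anisotropic hab (by
    linear_combination a * e - 2 * b * two)
  have e := QuadraticAlgebra.equivProd b a
  refine ⟨QuadraticAlgebra F b a, inferInstance, Finite.of_equiv _ e.symm, algebraMap _ _, starRingAut,
    by rw [← map_ofNat (algebraMap F _), two, map_zero], star_star, fun x => ⟨fun h => ⟨x.re, ?_⟩, ?_⟩,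
    ⟨⟨0, a⁻¹⟩, ?_⟩, by rw [Nat.card_congr e, Nat.card_prod, pow_two]⟩
  · have := congrArg QuadraticAlgebra.re h
    simp only [starRingAut_apply, QuadraticAlgebra.re_star, add_eq_left, mul_eq_zero, ha,
      false_or] at this
    ext <;> simp [this]
  · rintro ⟨y, rfl⟩
    ext <;> simp
  · ext
    · simp [ha]; rfl
    · simp only [starRingAut_apply, QuadraticAlgebra.im_star, QuadraticAlgebra.im_add,
        QuadraticAlgebra.im_one]
      linear_combination (-a⁻¹) * two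

/-- **FAM** for type `²Dₙ`, over a given quadratic extension. -/
theorem famD' (hm : 1 ≤ m) [Finite E] (qf : QF i σ) {a b : F}
    (hab : ∀ z₁ z₂ : F, z₁ ^ 2 + a * z₁ * z₂ + b * z₂ ^ 2 = 0 → z₁ = 0 ∧ z₂ = 0) :
    ∃ (H : Type v) (_ : Group H) (_ : Finite H) (x : Φ m → E → H), Pin (R m) x ∧
      UU x Set.univ = ⊤ ∧ center H = ⊥ ∧
      Nonempty (POmega F (quadFormMinus (m + 1) F a b) ≃* TG (γ m) i σ x) ∧
      center (TG (γ m) i σ x) = ⊥ ∧ (Nat.card F = 2 → T3 (γ m) i σ x) := by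
  have : Finite F := Finite.of_injective i i.injective
  have two : (2 : F) = 0 := i.injective (by rw [map_ofNat, qf.two, map_zero])
  obtain ⟨θ, hA, h1, h2, h3⟩ := exists_theta qf hab
  have T := tw_frM qf hab hA h1 h2 h3 m
  have := finite_O (qMinus E (m + 1) (i a) (i b))
  have h := T.isHyp (a := (1, true)) (by simp)
  obtain ⟨e⟩ := T.equiv
  obtain ⟨e'⟩ := pomega_eich (qMinus_nondegenerate _ hab) two h (by simp; omega)
  refine ⟨_, _, inferInstance, _, T.hyp.pin', T.hyp.gen',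
    center_eich T.hyp.nondeg qf.two (T.hyp.isHyp (0, true)) (by simp; omega), ⟨e'.trans e⟩,
    eq_bot_iff.2 fun g hg => ?_, fun h2 => T.t3 h2 (by rw [qf.card, h2]; rfl)⟩
  obtain ⟨g, rfl⟩ := e.surjective g
  rw [H28.mem_center_equiv, center_eich (qMinus_nondegenerate _ hab) two h (by simp; omega), mem_bot] at hg
  rw [hg, map_one]; exact one_mem _

/-- **FAM** for type `²Dₙ`. -/
theorem famD (hm : 1 ≤ m) (F : Type v) [Field F] [Finite F] (two : (2 : F) = 0) {a b : F}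
    (hab : ∀ z₁ z₂ : F, z₁ ^ 2 + a * z₁ * z₂ + b * z₂ ^ 2 = 0 → z₁ = 0 ∧ z₂ = 0) :
    ∃ (E : Type v) (_ : Field E) (_ : Finite E) (i : F →+* E) (σ : E ≃+* E) (H : Type v) (_ : Group H)
      (_ : Finite H) (x : Φ m → E → H), QF i σ ∧ Pin (R m) x ∧ UU x Set.univ = ⊤ ∧ center H = ⊥ ∧
      Nonempty (POmega F (quadFormMinus (m + 1) F a b) ≃* TG (γ m) i σ x) ∧
      center (TG (γ m) i σ x) = ⊥ ∧ (Nat.card F = 2 → T3 (γ m) i σ x) :=
  let ⟨E, _, _, i, σ, qf⟩ := exists_qf F two hab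
  let ⟨H, _, _, x, h⟩ := famD' hm qf hab
  ⟨E, _, ‹_›, i, σ, H, _, ‹_›, x, qf, h⟩

end Model

end Cfsg.Agent.H66.Dn

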