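import Cfsg.Agent.H66.MwLoc

/-! # MW project: SPLIT -/

set_option autoImplicit false
set_option maxRecDepth 100000
set_option synthInstance.maxSize 2048
open scoped Pointwise commutatorElement
open Subgroup

namespace Cfsg.Agent.H66.ML
open Cfsg.Agent.H19.MW Cfsg.Agent.H24.MH Cfsg.Agent.H23.D2 Cfsg.Agent.H8
open Cfsg.Agent.H42 (tb cnt)

local notation "C[" A "]" => Subgroup.centralizer (SetLike.coe A)
local notation "N[" A "]" => Subgroup.normalizer (SetLike.coe A)

universe u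
variable {G : Type*} [Group G]

/-- averaging a projection over the cosets of a subgroup of odd index -/
theorem avg [Finite G] {R : Type*} [Ring R] (ρ : G →* R) {T M : Subgroup G}
    (ho : ¬ 2 ∣ T.relIndex M) {p e : R} (h2 : e + e = 0) (hp : ∀ g ∈ T, ρ g * p = p * ρ g)
    (he : ∀ g ∈ M, ρ g * e = e * ρ g) (h1 : e * p = e) (h0 : p * e = 0) :
    ∃ P, (∀ g ∈ M, ρ g * P = P * ρ g) ∧ e * P = e ∧ P * e = 0 := by
  classical
  have : Fintype (M ⧸ T.subgroupOf M) := Fintype.ofFinite _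
  let c : M → R := fun x => ρ x * p * ρ (x : G)⁻¹
  have inv : ∀ x : G, ρ x * ρ x⁻¹ = 1 := fun x => by rw [← map_mul, mul_inv_cancel, map_one]
  have k1 : ∀ a b : M, (a : M ⧸ T.subgroupOf M) = b → c a = c b := fun a b h => by
    have := hp ((a : G)⁻¹ * b) (QuotientGroup.eq.1 h :)
    show ρ a * p * ρ (a : G)⁻¹ = ρ b * p * ρ (b : G)⁻¹
    calc ρ a * p * ρ (a : G)⁻¹ = ρ a * (p * ρ ((a : G)⁻¹ * b)) * ρ (b : G)⁻¹ := by
          rw [mul_assoc, mul_assoc, mul_assoc, ← map_mul, mul_inv_cancel_right]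
      _ = _ := by
          rw [show p * ρ ((a : G)⁻¹ * b) = _ from this.symm, ← mul_assoc, ← map_mul]
          simp
  refine ⟨∑ q : M ⧸ T.subgroupOf M, c q.out, fun g hg => ?_, ?_, ?_⟩
  · rw [Finset.mul_sum, Finset.sum_mul,
      ← Equiv.sum_comp (MulAction.toPerm (⟨g, hg⟩ : M)) fun q : M ⧸ T.subgroupOf M => c q.out * ρ g]
    refine Finset.sum_congr rfl fun q _ => ?_
    rw [k1 (MulAction.toPerm (⟨g, hg⟩ : M) q).out (⟨g, hg⟩ * q.out) (by
      rw [QuotientGroup.out_eq', MulAction.toPerm_apply, ← smul_eq_mul,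
        ← MulAction.Quotient.smul_coe, QuotientGroup.out_eq'])]
    show ρ g * (ρ q.out * p * ρ (q.out : G)⁻¹) = ρ (g * q.out) * p * ρ (g * q.out)⁻¹ * ρ g
    rw [mul_assoc (ρ (g * q.out) * p), ← map_mul, mul_inv_rev, inv_mul_cancel_right, map_mul]
    simp only [mul_assoc]
  · have : ∀ x : M, e * c x = e := fun x => by
      show e * (ρ x * p * ρ (x : G)⁻¹) = e
      rw [← mul_assoc, ← mul_assoc, ← he _ x.2, mul_assoc _ e, h1, he _ x.2, mul_assoc, inv, mul_one]
    obtain ⟨k, hk⟩ := Nat.not_even_iff_odd.1 fun c => ho (even_iff_two_dvd.1 c)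
    rw [Finset.mul_sum]
    simp only [this]
    rw [Finset.sum_const, Finset.card_univ, ← Nat.card_eq_fintype_card,
      show Nat.card (M ⧸ T.subgroupOf M) = 2 * k + 1 from hk, succ_nsmul, mul_nsmul, two_nsmul, h2,
      nsmul_zero, zero_add]
  · rw [Finset.sum_mul]
    refine Finset.sum_eq_zero fun q _ => ?_
    show ρ q.out * p * ρ (q.out : G)⁻¹ * e = 0
    rw [mul_assoc, he _ (inv_mem q.out.2), ← mul_assoc, mul_assoc _ p, h0, mul_zero, zero_mul]

section Mod
variable {A : Type*} [AddCommGroup A]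

theorem lin_ext {σ τ : ℕ → A} (hσ : ∀ u < 16, ∀ v < 16, σ (u ^^^ v) = σ u + σ v)
    (hτ : ∀ u < 16, ∀ v < 16, τ (u ^^^ v) = τ u + τ v) (f : Module.End ℤ A) (X : ℕ)
    (h1 : f (σ 1) = τ (mm X 1)) (h2 : f (σ 2) = τ (mm X 2)) (h4 : f (σ 4) = τ (mm X 4))
    (h8 : f (σ 8) = τ (mm X 8)) {v : ℕ} (hv : v < 16) : f (σ v) = τ (mm X v) := by
  refine vec_induction (P := fun v => f (σ v) = τ (mm X v)) ?_ h1 h2 h4 h8 ?_ hv
  · have a := hσ 0 (by norm_num) 0 (by norm_num)
    have b := hτ 0 (by norm_num) 0 (by norm_num)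
    simp only [Nat.xor_self, left_eq_add] at a b
    rw [mm_zero, a, b, map_zero]
  · intro u hu v hv a b
    rw [mm_xor _ hu hv, hσ u hu v hv, hτ _ (mm_vec_lt _ hu) _ (mm_vec_lt _ hv), map_add, a, b]

theorem exists_add (two : ∀ x : A, x + x = 0) (a b c d : A) : ∃ σ : ℕ → A,
    (∀ u < 16, ∀ v < 16, σ (u ^^^ v) = σ u + σ v) ∧ σ 1 = a ∧ σ 2 = b ∧ σ 4 = c ∧ σ 8 = d :=
  ⟨fun v => (vecL [Multiplicative.ofAdd a, .ofAdd b, .ofAdd c, .ofAdd d] v).toAdd,
    pre_vecL (G := Multiplicative A) (a := .ofAdd a) (b := .ofAdd b) (c := .ofAdd c) (d := .ofAdd d)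
      (mul_comm _ _) (mul_comm _ _) (mul_comm _ _) (mul_comm _ _) (mul_comm _ _)
      (mul_comm _ _) (two a) (two b) (two c) (two d),
    congrArg _ (vecL_1 ..), congrArg _ (vecL_2 ..), congrArg _ (vecL_4 ..), congrArg _ (vecL_8 ..)⟩

/-- a section that commutes with the dihedral group -/
theorem sect (two : ∀ x : A, x + x = 0) {e : Module.End ℤ A} {R : ℕ → Module.End ℤ A} {ι : ℕ → A}
    (mul : ∀ {X Y : ℕ}, tb m7 X = true → tb m7 Y = true → ∀ x, R X (R Y x) = R (mm X Y) x)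
    (one : ∀ x, R I4 x = x) (cm : ∀ {X : ℕ}, tb m7 X = true → ∀ x, e (R X x) = R X (e x))
    (act : ∀ {X : ℕ}, tb m7 X = true → ∀ v < 16, R X (ι v) = ι (mm X v))
    (add : ∀ u < 16, ∀ v < 16, ι (u ^^^ v) = ι u + ι v)
    (inj : ∀ u < 16, ∀ v < 16, ι u = ι v → u = v) (im : ∀ x, ∃ v < 16, e x = ι v)
    (onto : ∃ x, e x = ι 4) (ker : ∀ x, e x = 0 → ∃ v < 16, x = ι v) (z : ∀ v < 16, e (ι v) = 0) :
    ∃ σ : ℕ → A, (∀ u < 16, ∀ v < 16, σ (u ^^^ v) = σ u + σ v) ∧ (∀ v < 16, e (σ v) = ι v) ∧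
      ∀ n < 128, ∀ v < 16, R (am n) (σ v) = σ (mm (am n) v) := by
  have mk : tb m7 33811 = true := by decide +kernel
  have i0 : ι 0 = 0 := by simpa using add 0 (by norm_num) 0 (by norm_num)
  have rel : ∀ {X Y Z U : ℕ}, tb m7 X = true → tb m7 Y = true → tb m7 Z = true → tb m7 U = true →
      mm X Y = mm Z U → ∀ x, R X (R Y x) = R Z (R U x) := fun a b c d e x => by
    rw [mul a b, mul c d, e]
  have sq : ∀ {X : ℕ}, tb m7 X = true → mm X X = I4 → ∀ x, R X (R X x) = x := fun a e x => by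
    rw [mul a a, e, one]
  have cube : ∀ {X : ℕ}, tb m7 X = true → mm X (mm X X) = I4 → ∀ x,
      R X (x + R X x + R X (R X x)) = x + R X x + R X (R X x) := fun a e x => by
    rw [map_add, map_add, mul a a, mul a (m7_mul a a), e, one]; abel
  have hl : ∀ x, R lM (R lM x) = x + R lM x := fun x => by
    obtain ⟨v, hv, ev⟩ := im x
    have l1 := mm_vec_lt lM hv
    obtain ⟨u, hu, eu⟩ := ker (x + R lM x + R lM (R lM x)) (by
      rw [map_add, map_add, cm m7_l, cm m7_l, cm m7_l, ev, act m7_l v hv, act m7_l _ l1,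
        ← add _ hv _ l1, ← add _ (xor_lt16 hv l1) _ (mm_vec_lt _ l1),
        (by decide +kernel : ∀ v < 16, v ^^^ mm lM v ^^^ mm lM (mm lM v) = 0) v hv, i0])
    have := cube m7_l (by decide +kernel) x
    rw [eu, act m7_l u hu] at this
    rw [(by decide +kernel : ∀ u < 16, mm lM u = u → u = 0) u hu (inj _ (mm_vec_lt _ hu) _ hu this),
      i0] at eu
    linear_combination (norm := abel1) eu - two x - two (R lM x)
  obtain ⟨w, kw, fw, ew⟩ : ∃ w, R 33811 w = w ∧ R fM w = w ∧ e w = ι 4 := by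
    obtain ⟨x, hx⟩ := onto
    have k4 : R 33811 (ι 4) = ι 4 := act mk 4 (by norm_num)
    have f4 : R fM (ι 4) = ι 4 := act m7_f 4 (by norm_num)
    have h1 := cube mk (by decide +kernel) x
    have h2 : e (x + R 33811 x + R 33811 (R 33811 x)) = ι 4 := by
      rw [map_add, map_add, cm mk, cm mk, cm mk, hx, k4, k4, two, zero_add]
    generalize x + R 33811 x + R 33811 (R 33811 x) = w at h1 h2
    obtain ⟨q, hq, eq⟩ := ker (R fM w + w) (by rw [map_add, cm m7_f, h2, f4, two])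
    have a1 : mm 33811 q = q := inj _ (mm_vec_lt _ hq) _ hq (by
      rw [← act mk q hq, ← eq, map_add, h1, rel mk m7_f m7_f (m7_mul mk mk) (by decide +kernel),
        ← mul mk mk, h1, h1])
    have a2 : mm fM q = q := inj _ (mm_vec_lt _ hq) _ hq (by
      rw [← act m7_f q hq, ← eq, map_add, sq m7_f (by decide +kernel), add_comm])
    rcases (by decide +kernel : ∀ q < 16, mm 33811 q = q → mm fM q = q → q = 0 ∨ q = 4) q hq a1 a2
      with rfl | rfl
    · exact ⟨w, h1, by linear_combination (norm := abel1) eq + i0 - two w, h2⟩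
    · have k8 : R 33811 (ι 8) = ι 8 := act mk 8 (by norm_num)
      have f8 : R fM (ι 8) = ι 4 + ι 8 :=
        (act m7_f 8 (by norm_num)).trans (add 4 (by norm_num) 8 (by norm_num))
      refine ⟨w + ι 8, by rw [map_add, h1, k8], ?_, by rw [map_add, h2, z 8 (by norm_num), add_zero]⟩
      rw [map_add, f8]
      linear_combination (norm := abel1) eq - two w + two (ι 4)
  have aa := sq m7_b1 (by decide +kernel)
  have bb := sq m7_b2 (by decide +kernel)
  have ab := rel m7_b1 m7_b2 m7_b2 m7_b1 (by decide +kernel)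
  have al := rel m7_b1 m7_l m7_l m7_b1 (by decide +kernel)
  have bl := rel m7_b2 m7_l m7_l m7_b2 (by decide +kernel)
  have kl := rel mk m7_l m7_l mk (by decide +kernel)
  have ka := rel mk m7_b1 m7_b2 mk (by decide +kernel)
  have kb := rel mk m7_b2 (m7_mul m7_b1 m7_b2) mk (by decide +kernel)
  have fa := rel m7_f m7_b1 m7_b1 m7_f (by decide +kernel)
  have fl := rel m7_f m7_l (m7_mul m7_l m7_l) m7_f (by decide +kernel)
  simp only [← mul m7_b1 m7_b2] at kb
  simp only [← mul m7_l m7_l, hl] at fl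
  have a4 : R b1M (ι 4) = ι 5 := act m7_b1 4 (by norm_num)
  have b4 : R b2M (ι 4) = ι 7 := act m7_b2 4 (by norm_num)
  have l4 : R lM (ι 4) = ι 8 := act m7_l 4 (by norm_num)
  have l5 : R lM (ι 5) = ι 11 := act m7_l 5 (by norm_num)
  have i5 : ι 5 = ι 1 + ι 4 := add 1 (by norm_num) 4 (by norm_num)
  have i3 : ι 3 = ι 1 + ι 2 := add 1 (by norm_num) 2 (by norm_num)
  have i7 : ι 7 = ι 3 + ι 4 := add 3 (by norm_num) 4 (by norm_num)
  have i11 : ι 11 = ι 3 + ι 8 := add 3 (by norm_num) 8 (by norm_num)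
  have key : R b2M w = w + R lM w + R lM (R b1M w) := by
    obtain ⟨u, hu, eu⟩ := ker (w + R b2M w + R lM w + R lM (R b1M w)) (by
      rw [map_add, map_add, map_add, cm m7_b2, cm m7_l, cm m7_l, cm m7_b1, ew, a4, b4, l4, l5, i7, i11]
      linear_combination (norm := abel1) two (ι 3) + two (ι 4) + two (ι 8))
    have e1 := congrArg (R b1M) eu
    have e2 := congrArg (R lM) eu
    have e3 := congrArg (R 33811) eu
    simp only [map_add, al, aa, hl, kl, ka, kb, kw, act m7_b1 u hu, act m7_l u hu, act mk u hu]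
      at e1 e2 e3
    have e4 : mm b1M u = mm lM u ^^^ mm 33811 u :=
      inj _ (mm_vec_lt _ hu) _ (xor_lt16 (mm_vec_lt _ hu) (mm_vec_lt _ hu)) (by
        rw [add _ (mm_vec_lt _ hu) _ (mm_vec_lt _ hu)]
        linear_combination (norm := abel1) e2 + e3 - e1 - two w - two (R lM w) -
          two (R lM (R b2M w)))
    rw [(by decide +kernel : ∀ u < 16, mm b1M u = mm lM u ^^^ mm 33811 u → u = 0) u hu e4, i0] at eu
    linear_combination (norm := abel1) eu - two w - two (R lM w) - two (R lM (R b1M w))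
  obtain ⟨σ, hσ, s1, s2, s4, s8⟩ := exists_add two (w + R b1M w)
    (w + R b1M w + R lM w + R lM (R b1M w)) w (R lM w)
  have s3 : σ 3 = σ 1 + σ 2 := hσ 1 (by norm_num) 2 (by norm_num)
  have s5 : σ 5 = σ 1 + σ 4 := hσ 1 (by norm_num) 4 (by norm_num)
  have s7 : σ 7 = σ 3 + σ 4 := hσ 3 (by norm_num) 4 (by norm_num)
  have s10 : σ 10 = σ 2 + σ 8 := hσ 2 (by norm_num) 8 (by norm_num)
  have s11 : σ 11 = σ 3 + σ 8 := hσ 3 (by norm_num) 8 (by norm_num)
  have s12 : σ 12 = σ 4 + σ 8 := hσ 4 (by norm_num) 8 (by norm_num)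
  have kb' : R b2M (R b1M w) = R b1M w + R lM (R b1M w) + R lM w := by
    rw [← ab, key]; simp only [map_add, al, aa]
  have pa : ∀ v < 16, R b1M (σ v) = σ (mm b1M v) := fun v hv => by
    refine lin_ext hσ hσ _ _ ?_ ?_ ?_ ?_ hv
    · show _ = σ 1
      simp only [s1, map_add, aa]; abel
    · show _ = σ 2
      simp only [s2, map_add, aa, al]; abel
    · show _ = σ 5
      rw [s5, s1, s4]; linear_combination (norm := abel1) - two w
    · show _ = σ 11
      rw [s11, s3, s1, s2, s8, al]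
      linear_combination (norm := abel1) - two w - two (R b1M w) - two (R lM w)
  have pb : ∀ v < 16, R b2M (σ v) = σ (mm b2M v) := fun v hv => by
    refine lin_ext hσ hσ _ _ ?_ ?_ ?_ ?_ hv
    · show _ = σ 1
      simp only [s1, map_add, key, kb']
      linear_combination (norm := abel1) two (R lM w) + two (R lM (R b1M w))
    · show _ = σ 2
      simp only [s2, map_add, bl, key, kb', hl]
      linear_combination (norm := abel1) two w + two (R b1M w) + two (R lM w) + two (R lM w) +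
        two (R lM (R b1M w)) + two (R lM (R b1M w))
    · show _ = σ 7
      rw [s7, s3, s1, s2, s4, key]
      linear_combination (norm := abel1) - two w - two (R b1M w)
    · show _ = σ 10
      simp only [s10, s2, s8, map_add, bl, key, hl]
      abel
  have pf : ∀ v < 16, R fM (σ v) = σ (mm fM v) := fun v hv => by
    refine lin_ext hσ hσ _ _ ?_ ?_ ?_ ?_ hv
    · show _ = σ 1
      simp only [s1, map_add, fa, fw]
    · show _ = σ 3
      simp only [s3, s1, s2, map_add, fa, fl, fw]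
      abel
    · show _ = σ 4
      rw [s4, fw]
    · show _ = σ 12
      rw [s12, s4, s8, fl, fw]
  refine ⟨σ, hσ, fun v hv => (lin_ext hσ add e I4 ?_ ?_ ?_ ?_ hv).trans (by rw [mm_I4 v hv]),
    fun n hn v hv => ?_⟩
  · show _ = ι 1
    rw [s1, map_add, cm m7_b1, ew, a4, i5]
    linear_combination (norm := abel1) two (ι 4)
  · show _ = ι 2
    simp only [s2, map_add, cm m7_b1, cm m7_l, ew, a4, l4, l5, i11, i3]
    rw [i5]
    linear_combination (norm := abel1) two (ι 4) + two (ι 1) + two (ι 8)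
  · show _ = ι 4
    rw [s4, ew]
  · show _ = ι 8
    rw [s8, cm m7_l, ew, l4]
  · have pm : ∀ {X Y : ℕ}, (tb m7 X = true ∧ ∀ v < 16, R X (σ v) = σ (mm X v)) →
        (tb m7 Y = true ∧ ∀ v < 16, R Y (σ v) = σ (mm Y v)) →
        tb m7 (mm X Y) = true ∧ ∀ v < 16, R (mm X Y) (σ v) = σ (mm (mm X Y) v) := fun a b =>
      ⟨m7_mul a.1 b.1, fun v hv => by
        rw [← mul a.1 b.1, b.2 v hv, a.2 _ (mm_vec_lt _ hv), mm_assoc_vec _ _ hv]⟩
    have q1 := And.intro m7_b1 pa
    have q2 := And.intro m7_b2 pb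
    have q3 := And.intro m7_f pf
    rcases (by decide +kernel : ∀ n < 128, am n = mm b1M b1M ∨ am n = b1M ∨ am n = b2M ∨
      am n = mm b1M b2M ∨ am n = fM ∨ am n = mm b1M fM ∨ am n = mm b2M fM ∨
      am n = mm (mm b1M b2M) fM) n hn with e | e | e | e | e | e | e | e <;> rw [e]
    exacts [(pm q1 q1).2 v hv, pa v hv, pb v hv, (pm q1 q2).2 v hv, pf v hv, (pm q1 q3).2 v hv,
      (pm q2 q3).2 v hv, (pm (pm q1 q2) q3).2 v hv]

end Mod

section Act
open scoped IsMulCommutative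
variable (W : Subgroup G) [W.Normal] [IsMulCommutative W]

omit [IsMulCommutative W] in
theorem mem_N (g : G) : g ∈ N[W] := by rw [normalizer_eq_top]; exact mem_top g

/-- the action of `G / W` on `W` -/
noncomputable def rq : G ⧸ W →* Module.End ℤ (Additive W) :=
  QuotientGroup.lift W ⟨⟨ro W, ro_one⟩, fun a b => ro_mul (mem_N W a) (mem_N W b)⟩ fun w hw =>
    ro_C (mem_C.2 fun v hv => congrArg Subtype.val (mul_comm (⟨v, hv⟩ : W) ⟨w, hw⟩))

variable {W}

theorem rq_mk (g : G) : rq W (g : G ⧸ W) = ro W g := rfl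

theorem vl_rq (g : G) (x : Additive W) : vl W (rq W (g : G ⧸ W) x) = g * vl W x * g⁻¹ :=
  vl_ro (mem_N W g) x

theorem rq_el (g : G) {w : G} (hw : w ∈ W) : rq W (g : G ⧸ W) (el W w) = el W (g * w * g⁻¹) :=
  ro_el (mem_N W g) hw

theorem rq_rq (a b : G ⧸ W) (x : Additive W) : rq W a (rq W b x) = rq W (a * b) x := by
  rw [map_mul]; rfl

end Act

theorem split : SplitStmt.{u} := by
  intro G _ _ t M W θ L
  have := L.nW
  have : IsMulCommutative W := ⟨⟨fun a b => Subtype.ext (comm_of_sq L.sq a.2 b.2)⟩⟩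
  open scoped IsMulCommutative in
  obtain ⟨μ, h, k⟩ := exists_mu L
  have tt := L.spl.sq
  have two : ∀ x : Additive W, x + x = 0 := fun x => vl_inj (L.sq _ (vl_mem x))
  have ve : ∀ x, vl W ((1 + rq W t) x) = vl W x * (t * vl W x * t⁻¹) := fun x => by
    rw [LinearMap.add_apply, vl_add, vl_rq]; rfl
  have br : ∀ w ∈ W, ∀ v, w * t * w⁻¹ = t * v → w * (t * w * t⁻¹) = v := fun w hw v e => by
    rw [comm_of_sq L.sq hw (norm_conj (nW L t) hw), L.spl.inv, mul_assoc, mul_assoc, ← mul_assoc w,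
      ← inv_eq_of_mul_eq_one_right (L.sq w hw), inv_eq_of_mul_eq_one_right (L.sq w hw)]
    nth_rw 2 [← inv_eq_of_mul_eq_one_right (L.sq w hw)]
    rw [e, ← mul_assoc, tt, one_mul]
  have cm : ∀ m ∈ M, rq W m * (1 + rq W t) = (1 + rq W t) * rq W m := fun m hm => by
    rw [mul_add, add_mul, ← map_mul, ← map_mul, ← QuotientGroup.mk_mul, L.spl.comm m hm]; simp
  have act : ∀ m ∈ M, ∀ X, Act θ m X → ∀ v < 16, rq W m (el W (θ v)) = el W (θ (mm X v)) :=
    fun m hm X a v hv => by rw [rq_el m (thW L hv), a.2 v hv]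
  have add : ∀ u < 16, ∀ v < 16, el W (θ (u ^^^ v)) = el W (θ u) + el W (θ v) := fun u hu v hv =>
    el_xor (fun v hv => thW L hv) L.tm.pre hu hv
  have inj : ∀ u < 16, ∀ v < 16, el W (θ u) = el W (θ v) → u = v := fun u hu v hv e =>
    L.tm.bV.inj2 hu hv (el_inj (thW L hu) (thW L hv) e)
  have im : ∀ x, ∃ v < 16, (1 + rq W t) x = el W (θ v) := fun x => by
    obtain ⟨v, hv, e⟩ := L.br _ (vl_mem x)
    obtain ⟨u, hu, rfl⟩ := L.tm.mem_VV.1 hv
    exact ⟨u, hu, vl_inj (by rw [ve, br _ (vl_mem x) _ e, vl_el (thW L hu)])⟩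
  have onto : ∀ v < 16, ∃ x, (1 + rq W t) x = el W (θ v) := fun v hv => by
    obtain ⟨w, hw, e⟩ := L.onto _ (L.tm.bV.mem v hv)
    exact ⟨el W w, vl_inj (by rw [ve, vl_el hw, br w hw _ e, vl_el (thW L hv)])⟩
  have ker : ∀ x, (1 + rq W t) x = 0 → ∃ v < 16, x = el W (θ v) := fun x e => by
    have e1 := ve x
    rw [e, vl_zero, eq_comm, mul_eq_one_iff_inv_eq, inv_eq_of_mul_eq_one_right (L.sq _ (vl_mem x)),
      eq_mul_inv_iff_mul_eq] at e1
    obtain ⟨v, hv, ev⟩ := L.tm.mem_VV.1 (L.fix _ (vl_mem x) e1)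
    exact ⟨v, hv, by rw [ev, el_vl]⟩
  have z : ∀ v < 16, (1 + rq W t) (el W (θ v)) = 0 := fun v hv => vl_inj (by
    rw [ve, vl_el (thW L hv), ← L.spl.comm _ (L.mem v (by omega)), mul_inv_cancel_right,
      L.tm.pre.sq hv, vl_zero])
  obtain ⟨σ, hσ, eσ, aσ⟩ := sect two (e := 1 + rq W t) (R := fun X => rq W (μ X))
    (ι := fun v => el W (θ v)) (fun a b x => by rw [rq_rq, h.mul a b])
    (fun x => by rw [h.one, map_one]; rfl) (fun {X} a x => by
      obtain ⟨m, hm, b⟩ := L.real X a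
      rw [← k m hm X b]
      exact (LinearMap.congr_fun (cm m hm) x).symm) (fun {X} a => by
      obtain ⟨m, hm, b⟩ := L.real X a
      rw [← k m hm X b]
      exact act m hm X b) add inj im (onto 4 (by norm_num)) ker z
  generalize he : 1 + rq W t = e at *
  choose c c1 c2 using im
  have c3 : ∀ x v, v < 16 → e x = el W (θ v) → c x = v := fun x v hv a =>
    inj _ (c1 x) _ hv ((c2 x).symm.trans a)
  have s0 : σ 0 = 0 := by simpa using hσ 0 (by norm_num) 0 (by norm_num)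
  let p : Module.End ℤ (Additive W) := (AddMonoidHom.mk' (fun x => σ (c x)) fun x y => by
    rw [← hσ _ (c1 x) _ (c1 y),
      c3 _ _ (xor_lt16 (c1 x) (c1 y)) (by rw [map_add, add _ (c1 x) _ (c1 y), c2, c2])]).toIntLinearMap
  have hp : ∀ x, p x = σ (c x) := fun _ => rfl
  obtain ⟨P, p1, p2, p3⟩ := avg ((rq W).comp (QuotientGroup.mk' W)) L.syl.not_dvd (p := p) (e := e)
    (LinearMap.ext fun x => two _) (fun g hg => LinearMap.ext fun x => by
      obtain ⟨n, hn, rfl⟩ := L.tm.mem_T0.1 hg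
      show rq W (θ n) (p x) = p (rq W (θ n) x)
      rw [hp, hp, c3 (rq W (θ n) x) _ (mm_vec_lt (am n) (c1 x)) (by
        rw [← act _ (L.mem n hn) _ (L.tm.act hn) _ (c1 x), ← c2]
        exact (LinearMap.congr_fun (cm _ (L.mem n hn)) x).symm),
        k _ (L.mem n hn) _ (L.tm.act hn), aσ n hn _ (c1 x)])
    cm (LinearMap.ext fun x => by
      show e (p x) = e x
      rw [hp, eσ _ (c1 x), c2]) (LinearMap.ext fun x => by
      show p (e x) = 0
      rw [hp, c3 (e x) 0 (by norm_num) (by rw [c2 x, z _ (c1 x), L.tm.zero, el_one]), s0])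
  choose! r hr using onto
  have wd : ∀ x v, v < 16 → e x = el W (θ v) → P x = P (r v) := fun x v hv a => by
    obtain ⟨u, hu, eu⟩ := ker (x + r v) (by rw [map_add, a, hr v hv, two])
    have : P (x + r v) = 0 := by rw [eu, ← hr u hu]; exact LinearMap.congr_fun p3 _
    rw [map_add] at this
    linear_combination (norm := abel1) this - two (P (r v))
  refine ⟨fun v => vl W (P (r v)), fun u hu v hv => ?_, fun v _ => vl_mem _, fun v hv => ?_,
    fun g hg X a => ⟨a.1, fun v hv => ?_⟩⟩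
  · show vl W _ = vl W _ * vl W _
    rw [← vl_add, ← map_add,
      wd (r u + r v) _ (xor_lt16 hu hv) (by rw [map_add, hr u hu, hr v hv, add u hu v hv])]
  · show vl W _ * (t * vl W _ * t⁻¹) = _
    rw [← ve, show e (P (r v)) = e (r v) from LinearMap.congr_fun p2 _, hr v hv, vl_el (thW L hv)]
  · show g * vl W _ * g⁻¹ = vl W _
    rw [← vl_rq, show rq W g (P (r v)) = P (rq W g (r v)) from LinearMap.congr_fun (p1 g hg) _,
      wd (rq W g (r v)) _ (mm_vec_lt X hv) (by
        rw [← act g hg X a v hv, ← hr v hv]; exact (LinearMap.congr_fun (cm g hg) _).symm)]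

theorem eqns_MwSplit : True := by
  have := @rq.eq_1.{0}
  trivial

end Cfsg.Agent.H66.ML
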