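import Cfsg.Agent.H66.MwSplit

/-! # MW project: XB -/

set_option autoImplicit false
set_option maxRecDepth 100000
set_option synthInstance.maxSize 2048
open scoped Pointwise commutatorElement
open Subgroup

namespace Cfsg.Agent.H66.ML
open Cfsg.Agent.H19.MW Cfsg.Agent.H24.MH Cfsg.Agent.H23.D2 Cfsg.Agent.H8
open Cfsg.Agent.H42 (tb cnt)

universe u
variable {G : Type*} [Group G]

theorem lv_mem : ∀ D ∈ LV, tb m7 D = true := by decide +kernel

theorem two_im {A : ℕ} (h : tb m7 A = true) : A ≠ I4 → ∃ u ∈ [1, 2, 4, 8], ∃ v ∈ [1, 2, 4, 8],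
    mm A u ^^^ u ≠ 0 ∧ mm A v ^^^ v ≠ 0 ∧ mm A u ^^^ u ≠ mm A v ^^^ v :=
  m7_all (p := fun A : ℕ => A ≠ I4 → ∃ u ∈ ([1, 2, 4, 8] : List ℕ), ∃ v ∈ ([1, 2, 4, 8] : List ℕ),
    mm A u ^^^ u ≠ 0 ∧ mm A v ^^^ v ≠ 0 ∧ mm A u ^^^ u ≠ mm A v ^^^ v) (by decide +kernel) h

namespace MU
variable {t : G} {μ : ℕ → G} (h : MU t μ)
include h

theorem cm {A B : ℕ} (hA : tb m7 A = true) (hB : tb m7 B = true) :
    Commute (μ A) (μ B) ↔ mm A B = mm B A := h.mul_eq hA hB hB hA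

theorem cb {x : G} (h1 : Commute x (μ b1M)) (h2 : Commute x (μ b2M)) :
    ∀ D ∈ LV, Commute x (μ D) := fun D hD => by
  rcases (by decide +kernel : ∀ D ∈ LV, D = I4 ∨ D = b1M ∨ D = b2M ∨ D = mm b1M b2M) D hD with
    rfl | rfl | rfl | rfl
  · rw [h.one]; exact Commute.one_right x
  · exact h1
  · exact h2
  · rw [← h.mul m7_b1 m7_b2]; exact h1.mul_right h2

theorem cb_conj {x : G} (hx : ∀ D ∈ LV, Commute x (μ D)) {X : ℕ} (hX : tb m7 X = true)
    (e : ∀ D ∈ LV, ∃ D' ∈ LV, mm X D' = mm D X) :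
    ∀ D ∈ LV, Commute (μ X * x * (μ X)⁻¹) (μ D) := fun D hD => by
  obtain ⟨D', a, b⟩ := e D hD
  rw [← h.conj hX (lv_mem _ a) (lv_mem _ hD) b]
  exact (hx D' a).conj _

theorem comm_of {z : G} {A B : ℕ} (hA : tb m7 A = true) (hB : tb m7 B = true)
    (e : z = μ A ∨ z = μ A * t) : Commute z (μ B) ↔ mm A B = mm B A := by
  rw [← h.cm hA hB]
  rcases e with rfl | rfl
  · rfl
  · have c : Commute t (μ B) := (h.comm hB).symm
    exact ⟨fun a => by simpa using a.mul_left c.inv_left, fun a => a.mul_left c⟩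

/-- the translation commutes with the element of order three centralising the four-group -/
theorem comm_l {x : G} (ht : x * t * x⁻¹ = t * μ b1M) (hx : ∀ D ∈ LV, Commute x (μ D)) :
    Commute x (μ lM) := by
  have v1 : b1M ∈ LV := by decide
  have v2 : b2M ∈ LV := by decide
  have s1 := (h.sq_iff m7_b1).2 (by decide +kernel)
  have lL : μ lM * μ LM = 1 := by rw [h.mul m7_l m7_L]; exact h.one
  have l3 : μ lM * (μ lM * μ lM) = 1 := by
    rw [h.mul m7_l m7_l, h.mul m7_l (m7_mul m7_l m7_l)]; exact h.one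
  have c1 : ∀ D ∈ LV, Commute (x * μ lM * x⁻¹) (μ D) := fun D hD =>
    ((hx D hD).mul_left ((h.cm m7_l (lv_mem D hD)).2
      ((by decide +kernel : ∀ D ∈ LV, mm lM D = mm D lM) D hD))).mul_left (hx D hD).inv_left
  have c2 : Commute (x * μ lM * x⁻¹) t := by
    have : t = x * (t * μ b1M) * x⁻¹ := by
      calc t = x * t * x⁻¹ * μ b1M := by rw [ht, mul_assoc, s1, mul_one]
        _ = _ := by rw [mul_assoc, (hx _ v1).inv_left.eq]; group
    rw [this]
    exact (Commute.mul_right (h.comm m7_l) ((h.cm m7_l m7_b1).2 (by decide +kernel))).conj x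
  have y3 : x * μ lM * x⁻¹ * (x * μ lM * x⁻¹ * (x * μ lM * x⁻¹)) = 1 := by
    calc _ = x * (μ lM * (μ lM * μ lM)) * x⁻¹ := by simp [mul_assoc]
      _ = 1 := by rw [l3]; group
  obtain ⟨A, hA, eA⟩ := h.cover _ c2
  obtain ⟨D, hD, eD⟩ := cenB7 hA ((h.comm_of hA m7_b1 eA).1 (c1 _ v1))
    ((h.comm_of hA m7_b2 eA).1 (c1 _ v2))
  replace eA := eA.resolve_right fun e => by
    rw [e, h.sq_t hA, mul_assoc, ← mul_assoc t, ← h.comm hA, mul_assoc, ← h.comm hA, ← mul_assoc,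
      ← mul_assoc, h.mul hA hA, h.mul (m7_mul hA hA) hA, ← h.one] at y3
    exact h.nm' (m7_mul (m7_mul hA hA) hA) m7_I4 y3
  rw [eA, h.mul hA hA, h.mul hA (m7_mul hA hA), ← h.one] at y3
  rcases (by decide +kernel : ∀ D ∈ LV, ∀ A ∈ [D, mm D lM, mm D LM], mm A (mm A A) = I4 →
    A = I4 ∨ A = lM ∨ A = LM) D hD A (by simpa using eD)
    (h.inj (m7_mul hA (m7_mul hA hA)) m7_I4 y3) with rfl | rfl | rfl
  · rw [h.one] at eA
    exact absurd (h.inj m7_l m7_I4 (by rw [h.one]; simpa using eA)) (by decide)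
  · exact mul_inv_eq_iff_eq_mul.1 eA
  exfalso
  have step : ∀ z C C', tb m7 C = true → tb m7 C' = true → mm hM C = mm C' hM →
      z * t * z⁻¹ = t * μ C ∧ (∀ D ∈ LV, Commute z (μ D)) ∧ z * μ lM * z⁻¹ = μ LM →
      μ hM * z * (μ hM)⁻¹ * t * (μ hM * z * (μ hM)⁻¹)⁻¹ = t * μ C' ∧
      (∀ D ∈ LV, Commute (μ hM * z * (μ hM)⁻¹) (μ D)) ∧
      μ hM * z * (μ hM)⁻¹ * μ lM * (μ hM * z * (μ hM)⁻¹)⁻¹ = μ LM := by
    rintro z C C' a b c ⟨d, e, f⟩
    refine ⟨?_, h.cb_conj e m7_h (by decide +kernel), ?_⟩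
    · nth_rw 1 [← h.conj_t m7_h]
      calc _ = μ hM * (z * t * z⁻¹) * (μ hM)⁻¹ := by group
        _ = μ hM * t * (μ hM)⁻¹ * (μ hM * μ C * (μ hM)⁻¹) := by rw [d]; group
        _ = _ := by rw [h.conj_t m7_h, h.conj m7_h a b c]
    · nth_rw 1 [← h.conj m7_h m7_l m7_l (by decide +kernel)]
      calc _ = μ hM * (z * μ lM * z⁻¹) * (μ hM)⁻¹ := by group
        _ = _ := by rw [f, h.conj m7_h m7_L m7_L (by decide +kernel)]
  have p1 := step x _ _ m7_b1 m7_b2 (by decide +kernel) ⟨ht, hx, eA⟩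
  have p2 := step _ _ _ m7_b2 (m7_mul m7_b1 m7_b2) (by decide +kernel) p1
  generalize μ hM * (μ hM * x * (μ hM)⁻¹) * (μ hM)⁻¹ = z at p2
  generalize μ hM * x * (μ hM)⁻¹ = y at p1
  have v3 : mm b1M b2M ∈ LV := by decide +kernel
  have q1 : x * (y * z) * t = t * (x * (y * z)) := by
    rw [← mul_inv_eq_iff_eq_mul]
    calc _ = x * (y * (z * t * z⁻¹) * y⁻¹) * x⁻¹ := by group
      _ = x * (y * t * y⁻¹ * (y * μ (mm b1M b2M) * y⁻¹)) * x⁻¹ := by rw [p2.1]; group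
      _ = x * t * x⁻¹ * (x * μ b2M * x⁻¹) * (x * μ (mm b1M b2M) * x⁻¹) := by
        rw [p1.1, (p1.2.1 _ v3).mul_inv_cancel]; group
      _ = t := by
        rw [ht, (hx _ v2).mul_inv_cancel, (hx _ v3).mul_inv_cancel, mul_assoc t, h.mul m7_b1 m7_b2,
          mul_assoc, (h.sq_iff (m7_mul m7_b1 m7_b2)).2 (by decide +kernel), mul_one]
  obtain ⟨A, hA, e⟩ := h.cover _ q1
  have q2 : ∀ D ∈ LV, Commute (x * (y * z)) (μ D) := fun D hD =>
    (hx D hD).mul_left ((p1.2.1 D hD).mul_left (p2.2.1 D hD))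
  obtain ⟨D, hD, eD⟩ := cenB7 hA ((h.comm_of hA m7_b1 e).1 (q2 _ v1))
    ((h.comm_of hA m7_b2 e).1 (q2 _ v2))
  have q3 := ((h.comm_of hA m7_l e).2 ((by decide +kernel : ∀ D ∈ LV, ∀ A ∈ [D, mm D lM, mm D LM],
    mm A lM = mm lM A) D hD A (by simpa using eD))).mul_inv_cancel
  refine absurd (h.inj m7_l m7_L (q3.symm.trans ?_)) (by decide)
  have iL := eq_inv_of_mul_eq_one_right lL
  calc _ = x * (y * (z * μ lM * z⁻¹) * y⁻¹) * x⁻¹ := by group
    _ = x * (y * μ lM * y⁻¹)⁻¹ * x⁻¹ := by rw [p2.2.2, iL]; group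
    _ = _ := by rw [p1.2.2, iL, inv_inv, ← iL, eA]

theorem xb {A : Type*} [AddCommGroup A] (two : ∀ x : A, x + x = 0) (r : G →* Module.End ℤ A)
    (inj : Function.Injective r) {S T : ℕ → A}
    (aS : ∀ u < 16, ∀ v < 16, S (u ^^^ v) = S u + S v)
    (aT : ∀ u < 16, ∀ v < 16, T (u ^^^ v) = T u + T v)
    (mS : ∀ {X : ℕ}, tb m7 X = true → ∀ v < 16, r (μ X) (S v) = S (mm X v))
    (mT : ∀ {X : ℕ}, tb m7 X = true → ∀ v < 16, r (μ X) (T v) = T (mm X v))
    (tS : ∀ v < 16, r t (S v) = T v) (tT : ∀ v < 16, r t (T v) = S v)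
    (uq : ∀ u < 16, ∀ v < 16, ∀ u' < 16, ∀ v' < 16, S u + T v = S u' + T v' → u = u' ∧ v = v')
    (sj : ∀ w, ∃ u < 16, ∃ v < 16, w = S u + T v) {g : G} (hg : g * t * g⁻¹ = t * μ b1M)
    {x : G} (ht : x * t * x⁻¹ = t * μ b1M) (hx : ∀ D ∈ LV, Commute x (μ D)) :
    ∃ y, (∀ v < 16, r y (S v) = S (mm b1M v)) ∧ ∀ v < 16, r y (T v) = T (mm I4 v) := by
  have v1 : b1M ∈ LV := by decide
  have v2 : b2M ∈ LV := by decide
  have mk : tb m7 19489 = true := by decide +kernel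
  have rr : ∀ a b w, r (a * b) w = r a (r b w) := fun a b w => by rw [map_mul]; rfl
  have rc : ∀ {a b : G}, Commute a b → ∀ w, r a (r b w) = r b (r a w) := fun e w => by
    rw [← rr, e.eq, rr]
  have ri : ∀ a w, r a (r a⁻¹ w) = w := fun a w => by rw [← rr, mul_inv_cancel, map_one]; rfl
  have ri' : ∀ a w, r a⁻¹ (r a w) = w := fun a w => by rw [← rr, inv_mul_cancel, map_one]; rfl
  have S0 : S 0 = 0 := by simpa using aS 0 (by norm_num) 0 (by norm_num)
  have T0 : T 0 = 0 := by simpa using aT 0 (by norm_num) 0 (by norm_num)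
  have s1 := (h.sq_iff m7_b1).2 (by decide +kernel)
  have s2 := (h.sq_iff m7_b2).2 (by decide +kernel)
  have sf := (h.sq_iff m7_f).2 (by decide +kernel)
  have fb := (h.cm m7_f m7_b1).2 (by decide +kernel)
  have fb2 : μ fM * μ b2M * (μ fM)⁻¹ = μ b1M * μ b2M := by
    rw [h.mul m7_b1 m7_b2]; exact h.conj m7_f m7_b2 (m7_mul m7_b1 m7_b2) (by decide +kernel)
  have zz : ∀ w, r (μ b1M) w = w → ∃ u < 4, ∃ v < 4, w = S u + T v := fun w e => by
    obtain ⟨u, hu, v, hv, rfl⟩ := sj w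
    rw [map_add, mS m7_b1 u hu, mT m7_b1 v hv] at e
    have := uq _ (mm_vec_lt _ hu) _ (mm_vec_lt _ hv) _ hu _ hv e
    have k : ∀ u < 16, mm b1M u = u → u < 4 := by decide +kernel
    exact ⟨u, k u hu this.1, v, k v hv this.2, rfl⟩
  have zf : ∀ {X : ℕ}, tb m7 X = true → (∀ u < 4, mm X u = u) → ∀ w, r (μ b1M) w = w →
      r (μ X) w = w := fun a b w e => by
    obtain ⟨u, hu, v, hv, rfl⟩ := zz w e
    rw [map_add, mS a u (by omega), mT a v (by omega), b u hu, b v hv]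
  have nz : ∀ z, Commute z (μ b1M) → (∀ w, r (μ b1M) w = w → r z w = w) →
      ∀ w, r (μ b1M) (r z w + w) = r z w + w := fun z c e w => by
    have := e (r (μ b1M) w + w) (by rw [map_add, ← rr, s1, map_one, add_comm]; rfl)
    rw [map_add] at this
    rw [map_add, ← rc c]
    linear_combination (norm := abel1) this + two (r (μ b1M) w) - two (r z w)
  have xl := h.comm_l ht hx
  -- the first commutator
  obtain ⟨y, yt, yb, yl, yz⟩ : ∃ y, y * t * y⁻¹ = t * (μ b1M * μ b2M) ∧ (∀ D ∈ LV, Commute y (μ D)) ∧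
      Commute y (μ lM) ∧ ∀ w, r (μ b1M) w = w → r y w = w := by
    have kl := (h.cm mk m7_l).2 (by decide +kernel)
    have kz := zf mk (by decide +kernel)
    refine ⟨x * (μ 19489 * x⁻¹ * (μ 19489)⁻¹), ?_, fun D hD => (hx D hD).mul_left
      (h.cb_conj (fun D hD => (hx D hD).inv_left) mk (by decide +kernel) D hD),
      xl.mul_left ((kl.mul_left xl.inv_left).mul_left kl.inv_left), fun w e => ?_⟩
    · have e1 : x⁻¹ * t * x = t * μ b1M := by
        calc x⁻¹ * t * x = x⁻¹ * (x * t * x⁻¹ * μ b1M) * x := by rw [ht, mul_assoc t, s1, mul_one]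
          _ = _ := by rw [mul_assoc (x * t), (hx _ v1).inv_left.eq]; group
      nth_rw 1 [← h.conj_t mk]
      calc _ = x * (μ 19489 * (x⁻¹ * t * x) * (μ 19489)⁻¹) * x⁻¹ := by group
        _ = x * (μ 19489 * t * (μ 19489)⁻¹ * (μ 19489 * μ b1M * (μ 19489)⁻¹)) * x⁻¹ := by
          rw [e1]; group
        _ = x * t * x⁻¹ * (x * μ b2M * x⁻¹) := by
          rw [h.conj_t mk, h.conj mk m7_b1 m7_b2 (by decide +kernel)]; group
        _ = _ := by rw [ht, (hx _ v2).mul_inv_cancel, mul_assoc]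
    · have e1 : r (μ 19489)⁻¹ w = w := by nth_rw 1 [← kz w e]; exact ri' _ _
      rw [rr, rr, rr, e1, kz _ (by rw [← rc (hx _ v1).inv_left, e]), ri]
  clear ht hx xl
  -- symmetrise under `f`
  obtain ⟨y, yt, yb, yl, yf, yz⟩ : ∃ y, y * t * y⁻¹ = t * μ b1M ∧ (∀ D ∈ LV, Commute y (μ D)) ∧
      Commute y (μ lM) ∧ Commute y (μ fM) ∧ ∀ w, r (μ b1M) w = w → r y w = w := by
    have zb := h.cb_conj yb m7_f (by decide +kernel)
    have zz : ∀ w, r (μ b1M) w = w → r (μ fM * y * (μ fM)⁻¹) w = w := fun w e => by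
      rw [rr, rr, yz _ (by rw [← rc fb.inv_left, e]), ri]
    have c : y * (μ fM * y * (μ fM)⁻¹) = μ fM * y * (μ fM)⁻¹ * y := inj (LinearMap.ext fun w => by
      have a := zz _ (nz y (yb _ v1) yz w)
      have b := yz _ (nz _ (zb _ v1) zz w)
      rw [rr y, rr _ y]
      rw [map_add] at a b
      linear_combination (norm := abel1) b - a - two (r y w) + two (r (μ fM * y * (μ fM)⁻¹) w))
    refine ⟨y * (μ fM * y * (μ fM)⁻¹), ?_, fun D hD => (yb D hD).mul_left (zb D hD),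
      yl.mul_left ?_, ?_, fun w e => by rw [rr, zz w e, yz w e]⟩
    · nth_rw 1 [← h.conj_t m7_f]
      calc _ = y * (μ fM * (y * t * y⁻¹) * (μ fM)⁻¹) * y⁻¹ := by group
        _ = y * (μ fM * t * (μ fM)⁻¹ * (μ fM * μ b1M * (μ fM)⁻¹ *
            (μ fM * μ b2M * (μ fM)⁻¹))) * y⁻¹ := by rw [yt]; group
        _ = y * t * y⁻¹ * (y * μ b2M * y⁻¹) := by
          rw [h.conj_t m7_f, fb.mul_inv_cancel, fb2, ← mul_assoc (μ b1M), s1]; group
        _ = _ := by rw [yt, (yb _ v2).mul_inv_cancel, mul_assoc, mul_assoc, s2, mul_one]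
    · rw [← h.conj m7_f (m7_mul m7_l m7_l) m7_l (by decide +kernel), ← h.mul m7_l m7_l]
      exact (yl.mul_right yl).conj _
    · show _ = μ fM * _
      nth_rw 2 [c]
      rw [inv_eq_of_mul_eq_one_right sf]
      simp only [← mul_assoc, sf, one_mul]
      rw [mul_assoc _ (μ fM) (μ fM), sf, mul_one]
  have zS : ∀ u < 4, r (μ b1M) (S u) = S u := fun u hu => by
    rw [mS m7_b1 u (by omega), (by decide +kernel : ∀ u < 4, mm b1M u = u) u hu]
  have zT : ∀ u < 4, r (μ b1M) (T u) = T u := fun u hu => by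
    rw [mT m7_b1 u (by omega), (by decide +kernel : ∀ u < 4, mm b1M u = u) u hu]
  have S5 : S 5 = S 4 + S 1 := aS 4 (by norm_num) 1 (by norm_num)
  have T5 : T 5 = T 4 + T 1 := aT 4 (by norm_num) 1 (by norm_num)
  have b4 : r (μ b1M) (S 4) = S 5 := mS m7_b1 4 (by norm_num)
  -- normalise the first block
  obtain ⟨y, yt, yb, yl, yf, yz, b, hb, y4⟩ : ∃ y, y * t * y⁻¹ = t * μ b1M ∧
      (∀ D ∈ LV, Commute y (μ D)) ∧ Commute y (μ lM) ∧ Commute y (μ fM) ∧
      (∀ w, r (μ b1M) w = w → r y w = w) ∧ ∃ b < 2, r y (S 4) = S 5 + T b := by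
    obtain ⟨a, ha, b, hb, e⟩ := zz _ (nz y (yb _ v1) yz (S 4))
    have f4 : r (μ fM) (S 4) = S 4 := mS m7_f 4 (by norm_num)
    have e1 := congrArg (r (μ fM)) e
    rw [map_add, ← rc yf, f4, e, map_add, mS m7_f a (by omega), mT m7_f b (by omega)] at e1
    have e2 := uq _ (by omega) _ (by omega) _ (mm_vec_lt _ (by omega)) _ (mm_vec_lt _ (by omega)) e1
    have k : ∀ u < 4, u = mm fM u → u < 2 := by decide +kernel
    have a2 := k a ha e2.1
    interval_cases a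
    · refine ⟨y * μ b1M, ?_, fun D hD => (yb D hD).mul_left ((h.cm m7_b1 (lv_mem D hD)).2
        ((by decide +kernel : ∀ D ∈ LV, mm b1M D = mm D b1M) D hD)),
        yl.mul_left ((h.cm m7_b1 m7_l).2 (by decide +kernel)), yf.mul_left fb.symm,
        fun w e => by rw [rr, e, yz w e], b, k b hb e2.2, ?_⟩
      · rw [← yt, mul_assoc y, h.comm m7_b1]; group
      · rw [rr, b4, S5, map_add, yz _ (zS 1 (by norm_num))]
        linear_combination (norm := abel1) e + S0 - two (S 4)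
    · exact ⟨y, yt, yb, yl, yf, yz, b, k b hb e2.2, by
        rw [S5]; linear_combination (norm := abel1) e - two (S 4)⟩
  have y4' : r y (T 4) = T 4 + S b := by
    rw [← tS 4 (by norm_num), ← rr, mul_inv_eq_iff_eq_mul.1 yt, rr, rr, y4, map_add,
      mS m7_b1 5 (by norm_num), zT b (by omega), map_add, tT b (by omega)]
    rfl
  have l4 : S 8 = r (μ lM) (S 4) := (mS m7_l 4 (by norm_num)).symm
  have l4' : T 8 = r (μ lM) (T 4) := (mT m7_l 4 (by norm_num)).symm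
  interval_cases b
  · rw [T0, add_zero] at y4
    rw [S0, add_zero] at y4'
    exact ⟨y, fun v hv => lin_ext aS aS _ _ (yz _ (zS 1 (by norm_num))) (yz _ (zS 2 (by norm_num)))
        y4 (by rw [l4, rc yl, y4]; exact mS m7_l 5 (by norm_num)) hv,
      fun v hv => lin_ext aT aT _ _ (yz _ (zT 1 (by norm_num))) (yz _ (zT 2 (by norm_num)))
        y4' (by rw [l4', rc yl, y4']; exact l4'.symm) hv⟩
  exfalso
  have ez : ∀ w, r (μ b1M) w = w → r (y * μ b2M) w = w := fun w e => by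
    rw [rr, zf m7_b2 (by decide +kernel) w e, yz w e]
  have el : Commute (y * μ b2M) (μ lM) := yl.mul_left ((h.cm m7_b2 m7_l).2 (by decide +kernel))
  have e4 : r (y * μ b2M) (S 4) = S 4 + (S 2 + T 1) := by
    rw [rr, mS m7_b2 4 (by norm_num), show S (mm b2M 4) = S 4 + S 3 from
      aS 4 (by norm_num) 3 (by norm_num), map_add, y4, yz _ (zS 3 (by norm_num)), S5,
      show S 3 = S 1 + S 2 from aS 1 (by norm_num) 2 (by norm_num)]
    linear_combination (norm := abel1) two (S 1)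
  have e4' : r (y * μ b2M) (T 4) = T 4 + (S 1 + T 3) := by
    rw [rr, mT m7_b2 4 (by norm_num), show T (mm b2M 4) = T 4 + T 3 from
      aT 4 (by norm_num) 3 (by norm_num), map_add, y4', yz _ (zT 3 (by norm_num)), add_assoc]
  have et : y * μ b2M * (t * μ fM) = t * μ fM * (y * μ b2M) := by
    calc _ = y * t * y⁻¹ * y * μ b2M * μ fM := by
          rw [mul_assoc y, ← mul_assoc (μ b2M), h.comm m7_b2]; group
      _ = t * (y * (μ b1M * μ b2M * μ fM)) := by
          rw [yt, mul_assoc t, ← (yb _ v1).eq]; group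
      _ = _ := by rw [← fb2, mul_assoc t, ← mul_assoc (μ fM), ← yf.eq]; group
  generalize y * μ b2M = e at ez el e4 e4' et
  have aU : ∀ u < 16, ∀ v < 16, S (mm 18 (u ^^^ v)) + T (mm 49 (u ^^^ v)) =
      S (mm 18 u) + T (mm 49 u) + (S (mm 18 v) + T (mm 49 v)) := fun u hu v hv => by
    rw [mm_xor _ hu hv, mm_xor _ hu hv, aS _ (mm_vec_lt _ hu) _ (mm_vec_lt _ hv),
      aT _ (mm_vec_lt _ hu) _ (mm_vec_lt _ hv)]
    abel
  have U0 : S (mm 18 0) + T (mm 49 0) = 0 := by rw [mm_zero, mm_zero, S0, T0, add_zero]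
  have im : ∀ w, ∃ k < 4, r e w + w = S (mm 18 k) + T (mm 49 k) := fun w => by
    obtain ⟨u, hu, v, hv, rfl⟩ := sj w
    have f1 : ∀ w, (r e + 1) w = r e w + w := fun _ => rfl
    have p := lin_ext (τ := fun k => S (mm 18 k) + T (mm 49 k)) aS aU (r e + 1) 8448
      (by rw [f1, ez _ (zS 1 (by norm_num)), two]; exact U0.symm)
      (by rw [f1, ez _ (zS 2 (by norm_num)), two]; exact U0.symm)
      (by rw [f1, e4]; show _ = S 2 + T 1; linear_combination (norm := abel1) two (S 4))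
      (by
        rw [f1, l4, rc el, e4, map_add, map_add, mS m7_l 2 (by norm_num), mT m7_l 1 (by norm_num)]
        show _ + (S 1 + T 3) + _ = S 1 + T 3
        linear_combination (norm := abel1) two (r (μ lM) (S 4))) hu
    have q := lin_ext (τ := fun k => S (mm 18 k) + T (mm 49 k)) aT aU (r e + 1) 12800
      (by rw [f1, ez _ (zT 1 (by norm_num)), two]; exact U0.symm)
      (by rw [f1, ez _ (zT 2 (by norm_num)), two]; exact U0.symm)
      (by rw [f1, e4']; show _ = S 1 + T 3; linear_combination (norm := abel1) two (T 4))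
      (by
        rw [f1, l4', rc el, e4', map_add, map_add, mS m7_l 1 (by norm_num), mT m7_l 3 (by norm_num)]
        show _ + (S 3 + T 2) + _ = S 3 + T 2
        linear_combination (norm := abel1) two (r (μ lM) (T 4))) hv
    refine ⟨mm 8448 u ^^^ mm 12800 v,
      (by decide +kernel : ∀ u < 16, ∀ v < 16, mm 8448 u ^^^ mm 12800 v < 4) u hu v hv, ?_⟩
    rw [aU _ (mm_vec_lt _ hu) _ (mm_vec_lt _ hv), ← p, ← q, ← map_add, f1]
  obtain ⟨P, P', p1, p2, p3, p4, p5, -⟩ := inv7 m7_f (by decide +kernel) (by decide)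
  have gt : μ P * g * t * (μ P * g)⁻¹ = t * μ fM := by
    calc _ = μ P * (g * t * g⁻¹) * (μ P)⁻¹ := by group
      _ = μ P * t * (μ P)⁻¹ * (μ P * μ b1M * (μ P)⁻¹) := by rw [hg]; group
      _ = _ := by
        rw [h.conj_t p1, h.conj p1 m7_b1 m7_f (by
          rw [← p5, mm_assoc, mm_assoc, p4, mm_I4' (by decide)])]
  generalize μ P * g = k at gt
  obtain ⟨X, hX, eX⟩ := h.cover (k⁻¹ * e * k) (by
    rw [← gt] at et
    calc _ = k⁻¹ * (e * (k * t * k⁻¹)) * k := by group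
      _ = _ := by rw [et]; group)
  have dep : ∀ w1 w2 w3 : A, ∀ a1 < 16, ∀ c1 < 16, ∀ a2 < 16, ∀ c2 < 16, ∀ a3 < 16, ∀ c3 < 16,
      r (k⁻¹ * e * k) w1 + w1 = S a1 + T c1 → r (k⁻¹ * e * k) w2 + w2 = S a2 + T c2 →
      r (k⁻¹ * e * k) w3 + w3 = S a3 + T c3 → (a1 = 0 ∧ c1 = 0) ∨ (a2 = 0 ∧ c2 = 0) ∨
      (a3 = 0 ∧ c3 = 0) ∨ (a1 = a2 ∧ c1 = c2) ∨ (a1 = a3 ∧ c1 = c3) ∨ (a2 = a3 ∧ c2 = c3) ∨
      (a1 ^^^ a2 = a3 ∧ c1 ^^^ c2 = c3) := by
    intro w1 w2 w3 a1 x1 c1 y1 a2 x2 c2 y2 a3 x3 c3 y3 e1 e2 e3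
    have tr : ∀ w, ∃ j < 4, r (k⁻¹ * e * k) w + w = r k⁻¹ (S (mm 18 j) + T (mm 49 j)) := fun w => by
      obtain ⟨j, hj, ej⟩ := im (r k w)
      exact ⟨j, hj, by rw [← ej, map_add, ri', rr, rr]⟩
    obtain ⟨j1, i1, d1⟩ := tr w1
    obtain ⟨j2, i2, d2⟩ := tr w2
    obtain ⟨j3, i3, d3⟩ := tr w3
    rw [e1] at d1
    rw [e2] at d2
    rw [e3] at d3
    have z : ∀ a < 16, ∀ c < 16, S a + T c = r k⁻¹ (S (mm 18 0) + T (mm 49 0)) → a = 0 ∧ c = 0 :=
      fun a ha c hc d => uq _ ha _ hc _ (by norm_num) _ (by norm_num)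
        (by rw [d, U0, map_zero, S0, T0, add_zero])
    rcases (by decide : ∀ a < 4, ∀ b < 4, ∀ c < 4, a = 0 ∨ b = 0 ∨ c = 0 ∨ a = b ∨ a = c ∨ b = c ∨
      a ^^^ b = c) j1 i1 j2 i2 j3 i3 with rfl | rfl | rfl | rfl | rfl | rfl | rfl
    · exact Or.inl (z _ x1 _ y1 d1)
    · exact Or.inr (Or.inl (z _ x2 _ y2 d2))
    · exact Or.inr (Or.inr (Or.inl (z _ x3 _ y3 d3)))
    · exact Or.inr (Or.inr (Or.inr (Or.inl (uq _ x1 _ y1 _ x2 _ y2 (d1.trans d2.symm)))))
    · exact Or.inr (Or.inr (Or.inr (Or.inr (Or.inl (uq _ x1 _ y1 _ x3 _ y3 (d1.trans d3.symm))))))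
    · exact Or.inr (Or.inr (Or.inr (Or.inr (Or.inr (Or.inl
        (uq _ x2 _ y2 _ x3 _ y3 (d2.trans d3.symm)))))))
    · refine Or.inr (Or.inr (Or.inr (Or.inr (Or.inr (Or.inr
        (uq _ (xor_lt16 x1 x2) _ (xor_lt16 y1 y2) _ x3 _ y3 ?_))))))
      rw [d3, aU _ (by omega) _ (by omega), map_add, ← d1, ← d2, aS _ x1 _ x2, aT _ y1 _ y2]
      abel
  rcases eX with eX | eX <;> rw [eX] at dep
  · obtain ⟨u, hu, v, hv, n1, n2, n3⟩ := two_im hX fun c => by
      rw [c, h.one] at eX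
      have : e = 1 := by simpa [mul_assoc, inv_mul_eq_one, eq_comm] using eX
      rw [this, map_one, Module.End.one_apply, left_eq_add] at e4
      exact absurd (uq 2 (by norm_num) 1 (by norm_num) 0 (by norm_num) 0 (by norm_num)
        (by rw [e4, S0, T0, add_zero])).1 (by norm_num)
    have k16 : ∀ u ∈ [1, 2, 4, 8], u < 16 := by decide
    have lu := k16 u hu
    have lv := k16 v hv
    have := dep (S u) (S v) (T u) _ (xor_lt16 (mm_vec_lt X lu) lu) 0 (by norm_num)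
      _ (xor_lt16 (mm_vec_lt X lv) lv) 0 (by norm_num) 0 (by norm_num)
      _ (xor_lt16 (mm_vec_lt X lu) lu)
      (by rw [mS hX u lu, aS _ (mm_vec_lt X lu) _ lu, T0, add_zero])
      (by rw [mS hX v lv, aS _ (mm_vec_lt X lv) _ lv, T0, add_zero])
      (by rw [mT hX u lu, aT _ (mm_vec_lt X lu) _ lu, S0, zero_add])
    simp only [Nat.xor_self] at this
    omega
  · have q : ∀ u < 16, r (μ X * t) (S u) + S u = S u + T (mm X u) := fun u hu => by
      rw [rr, tS u hu, mT hX u hu, add_comm]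
    have := dep _ _ _ 1 (by norm_num) _ (mm_vec_lt X (by norm_num)) 2 (by norm_num) _
      (mm_vec_lt X (by norm_num)) 4 (by norm_num) _ (mm_vec_lt X (by norm_num))
      (q 1 (by norm_num)) (q 2 (by norm_num)) (q 4 (by norm_num))
    simp at this

end MU

theorem xb : XbStmt.{u} := by
  intro G _ _ t M W θ s L sw c x x1 x2 x3
  have := L.nW
  have : IsMulCommutative W := ⟨⟨fun a b => Subtype.ext (comm_of_sq L.sq a.2 b.2)⟩⟩
  open scoped IsMulCommutative in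
  obtain ⟨μ, h, k⟩ := exists_mu L
  obtain ⟨g, hg⟩ := isConj_iff.1 c
  have e1 := k _ (L.mem 16 (by norm_num)) _ (L.tm.act (by norm_num))
  have e2 := k _ (L.mem 32 (by norm_num)) _ (L.tm.act (by norm_num))
  rw [am_16] at e1
  rw [am_32] at e2
  rw [← QuotientGroup.eq_one_iff] at x1 x2 x3
  simp only [QuotientGroup.mk_mul, QuotientGroup.mk_inv, e1, e2, mul_inv_eq_one] at x1 x2 x3
  have mem : ∀ v < 16, cj t s v ∈ W := fun v hv => norm_conj (nW L t) (sw.mem v hv)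
  have pre : Pre (cj t s) := fun u hu v hv => by simp only [cj]; rw [sw.pre u hu v hv]; group
  have tt := cj_cj L.spl.sq s
  have aS := fun u hu v hv => el_xor sw.mem sw.pre (u := u) (v := v) hu hv
  have aT := fun u hu v hv => el_xor mem pre (u := u) (v := v) hu hv
  have uq : ∀ u < 16, ∀ v < 16, ∀ u' < 16, ∀ v' < 16,
      s u * cj t s v = s u' * cj t s v' → u = u' ∧ v = v' := fun u hu v hv u' hu' v' hv' e => by
    have a := xor_lt16 hu hu'
    have b := xor_lt16 hv hv'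
    have e3 : s (u ^^^ u') = cj t s (v ^^^ v') := by
      rw [sw.pre u hu u' hu', pre v hv v' hv', ← sw.pre.inv hu, inv_mul_eq_iff_eq_mul, ← mul_assoc,
        e, mul_assoc, pre.sq hv', mul_one]
    have e4 : cj t s (u ^^^ u') = s (v ^^^ v') := by rw [cj, e3]; exact congrFun tt _
    have e5 : u ^^^ u' = v ^^^ v' := L.tm.bV.inj2 a b (by
      rw [← sw.diag _ a, ← sw.diag _ b, e4, e3, comm_of_sq L.sq (mem _ b) (sw.mem _ b)])
    have e6 : u ^^^ u' = 0 := L.tm.bV.inj _ a (by rw [← sw.diag _ a, e4, ← e5, sw.pre.sq a])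
    exact ⟨Nat.xor_eq_zero_iff.1 e6, Nat.xor_eq_zero_iff.1 (e5 ▸ e6)⟩
  obtain ⟨y, y1, y2⟩ := h.xb (A := Additive W) (S := fun v => el W (s v))
    (T := fun v => el W (cj t s v)) (fun x => vl_inj (L.sq _ (vl_mem x))) (rq W)
    ((injective_iff_map_eq_one _).2 fun a e => by
      obtain ⟨a, rfl⟩ := QuotientGroup.mk_surjective a
      refine (QuotientGroup.eq_one_iff _).2 (L.cW (mem_C.2 fun w hw => ?_))
      have := vl_rq a (el W w)
      rw [e, Module.End.one_apply, vl_el hw] at this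
      exact eq_mul_inv_iff_mul_eq.1 this) aS aT
    (fun {X} a v hv => by
      obtain ⟨m, hm, b⟩ := L.real X a
      rw [← k m hm X b, rq_el m (sw.mem v hv), (sw.act m hm X b).2 v hv])
    (fun {X} a v hv => by
      obtain ⟨m, hm, b⟩ := L.real X a
      have := (act_cj t).2 (sw.act m hm X b)
      rw [← L.spl.comm m hm, mul_inv_cancel_right] at this
      rw [← k m hm X b, rq_el m (mem v hv), this.2 v hv])
    (fun v hv => rq_el t (sw.mem v hv))
    (fun v hv => (rq_el t (mem v hv)).trans (congrArg _ (congrFun tt v)))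
    (fun u hu v hv u' hu' v' hv' e => uq u hu v hv u' hu' v' hv' (by
      simpa only [vl_add, vl_el (sw.mem _ hu), vl_el (sw.mem _ hu'), vl_el (mem _ hv),
        vl_el (mem _ hv')] using congrArg (vl W) e))
    (fun w => by
      have hF : Function.Injective fun p : Fin 16 × Fin 16 =>
          (⟨s p.1 * cj t s p.2, mul_mem (sw.mem _ p.1.2) (mem _ p.2.2)⟩ : W) := fun p q e => by
        have := uq _ p.1.2 _ p.2.2 _ q.1.2 _ q.2.2 (congrArg Subtype.val e)
        exact Prod.ext (Fin.ext this.1) (Fin.ext this.2)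
      obtain ⟨⟨u, v⟩, e⟩ := (hF.bijective_of_nat_card_le (by rw [L.card]; simp)).2 ⟨_, vl_mem w⟩
      exact ⟨u, u.2, v, v.2, vl_inj (by
        rw [vl_add, vl_el (sw.mem _ u.2), vl_el (mem _ v.2)]; exact (congrArg Subtype.val e).symm)⟩)
    (g := g) (by rw [← e1]; exact congrArg (QuotientGroup.mk (s := W)) hg) x1
    (h.cb (mul_inv_eq_iff_eq_mul.1 x2) (mul_inv_eq_iff_eq_mul.1 x3))
  obtain ⟨y, rfl⟩ := QuotientGroup.mk_surjective y
  refine ⟨y, ⟨by decide, fun v hv => ?_⟩, by decide, fun v hv => ?_⟩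
  · have := congrArg (vl W) (y1 v hv)
    rwa [vl_rq, vl_el (sw.mem v hv), vl_el (sw.mem _ (mm_vec_lt _ hv))] at this
  · have := congrArg (vl W) (y2 v hv)
    rwa [vl_rq, vl_el (mem v hv), vl_el (mem _ (mm_vec_lt _ hv))] at this

end Cfsg.Agent.H66.ML
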