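import Cfsg.Agent.H66.UnbD1

/-! One normal component of type `2.A_n`: the centraliser of the central involution. -/

set_option autoImplicit false
set_option linter.unusedSectionVars false

namespace Cfsg.Agent.H66.UD

open Subgroup Cfsg.Agent.H52 Cfsg.Agent.H8 Cfsg.Agent.H16.Unb Equiv Equiv.Perm Cfsg.Agent.H67
open Cfsg.Agent.H78 Cfsg.Agent.H38.SA Cfsg.Agent.H66.UA
open scoped commutatorElement

universe u

variable {α : Type*} [Fintype α] [DecidableEq α] {G : Type*} [Group G] [Finite G]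

/-- Two commuting involutions with the hypotheses of `D2Stmt`. -/
structure Pr (a : G) (K : Subgroup G) (ρ : G → Perm α) (b : G) (L : Subgroup G) (σ : G → Perm α) :
    Prop where
  ha : SD a K ρ
  hb : SD b L σ
  ba : b ∈ Cz a
  conj : IsConj a b
  ne : b ≠ a

theorem SD.pair {a b : G} {K : Subgroup G} {ρ : G → Perm α} (h : SD a K ρ) (hc : IsConj a b)
    (hb : b ∈ Cz a) (hn : b ≠ a) : ∃ (L : Subgroup G) (σ : G → Perm α), Pr a K ρ b L σ := by
  obtain ⟨g, rfl⟩ := isConj_iff.1 hc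
  exact ⟨_, _, h, h.cnj g, hb, hc, hn⟩

namespace Pr
variable {a b s k x y v : G} {K L : Subgroup G} {ρ σ : G → Perm α} (h : Pr a K ρ b L σ)
include h

theorem ab : a ∈ Cz b := cz_symm h.ba

theorem symm : Pr b L σ a K ρ := ⟨h.hb, h.ha, h.ab, h.conj.symm, h.ne.symm⟩

theorem ne1 : ρ b ≠ 1 := fun e => by
  obtain ⟨g, rfl⟩ := isConj_iff.1 h.conj
  exact h.ne (h.ha.wk g h.ba ((h.ha.r.ker _ (h.ha.dom h.ba)).1 e))

/-- The core of `K` fixes the support of `a`. -/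
theorem fix {o : G} (ho : o ∈ Opp 2 K) (hb : o ∈ Cz b) {x : α} (hx : σ a x ≠ x) : σ o x = x :=
  (h.hb.po h.ab h.ha.aa).1 o (h.ha.opp_le ho) hb x hx

theorem ge8 : 8 ≤ (ρ b).support.card ∧ sign (ρ b) = 1 := by
  obtain ⟨p, hp, q, hq, e1, e2, e3⟩ := h.hb.r.q8 h.ha.aa (h.hb.dom h.ab) (mem_cz.1 h.ba)
  have p1 : p ∈ Cz a := (RR_le hp).2
  have q1 : q ∈ Cz a := (RR_le hq).2
  have f1 : ρ p * ρ p = ρ b := by rw [← h.ha.mul p1 p1, e1]
  refine ⟨supp_q8 f1 (by rw [← h.ha.mul q1 q1, e2]) (by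
    rw [← h.ha.mul p1 q1, ← h.ha.mul (mul_mem p1 q1) (mul_mem p1 q1), e3])
    (h.ha.sq h.ba h.hb.aa) h.ne1, ?_⟩
  rw [← f1, map_mul, Int.units_mul_self]

theorem le8 : (σ a).support.card ≤ 8 := by
  by_contra hc
  obtain ⟨p, hp, pb, pp, hπ⟩ := h.ha.r.root h.hb.aa (h.ha.dom h.ba) (mem_cz.1 h.ab)
    (le_trans (by decide) h.ge8.1)
  have p1 : p ∈ Cz b := mem_cz.2 pb
  have e : σ a = σ p * σ p := by rw [← h.hb.mul p1 p1, pp]
  have h2 := h.hb.sq h.ab h.ha.aa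
  rw [e] at hc h2
  obtain ⟨D, d3, dc, x, m1, n1, n2⟩ := permB h2 hc
  obtain ⟨c, hc, ca, rfl, -⟩ := h.hb.r.lift3' h.ha.aa (h.hb.dom h.ab) d3 (by rw [e, dc])
  have c1 : c ∈ Cz a := mem_cz.2 ca
  have c2 : c ∈ Cz b := h.hb.le hc
  have g1 : p * (c * p * c⁻¹) ∈ K := mul_mem hp (conj_mem_of_norm (h.ha.dom c1) hp)
  have g2 : p * (c * p * c⁻¹) ∈ Cz b := mul_mem p1 (mul_mem (mul_mem c2 p1) (inv_mem c2))
  have pa := h.ha.le hp
  have e1 : ρ (p * (c * p * c⁻¹)) = ρ p * (ρ c * ρ p * (ρ c)⁻¹) := by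
    rw [h.ha.mul pa (mul_mem (mul_mem c1 pa) (inv_mem c1)), h.ha.mul (mul_mem c1 pa) (inv_mem c1),
      h.ha.mul c1 pa, h.ha.inv c1]
  have e2 : σ (p * (c * p * c⁻¹)) = σ p * (σ c * σ p * (σ c)⁻¹) := by
    rw [h.hb.mul p1 (mul_mem (mul_mem c2 p1) (inv_mem c2)), h.hb.mul (mul_mem c2 p1) (inv_mem c2),
      h.hb.mul c2 p1, h.hb.inv c2]
  rw [← e2, ← h.hb.mul g2 g2] at n1 n2
  rw [← e] at m1 n2 h2
  have h3 := permC hπ (h.ha.comm c1 h.ba (mem_cz.1 c2)) (h.ha.sq h.ba h.hb.aa)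
  rw [← e1, ← h.ha.mul (h.ha.le g1) (h.ha.le g1)] at h3
  rcases (h.ha.r.kerL _ (mul_mem g1 g1)).1 h3 with e3 | e3
  · exact n1 (h.fix e3 (mul_mem g2 g2) m1)
  · have hh : σ a (σ a x) = x := app_eq h2 x
    have := h.fix e3 (mul_mem (mul_mem g2 g2) h.ab) (x := σ a x) (by rw [hh]; exact m1.symm)
    rw [h.hb.mul (mul_mem g2 g2) h.ab, Perm.mul_apply, hh] at this
    exact n2 this

theorem eq8 : (σ a).support.card = 8 := le_antisymm h.le8 h.symm.ge8.1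

/-- An odd order lift of a three-cycle fixes the support of `a`. -/
theorem fix3 {i j k : α} (hy : y ∈ K) (yb : y ∈ Cz b) (e : ρ y = c3 i j k) (e3 : c3 i j k ^ 3 = 1)
    (ho : Odd (orderOf y)) {x : α} (hx : σ a x ≠ x) : σ y x = x := by
  by_contra hn
  have ya := h.ha.le hy
  have y3 : y ^ 3 ∈ Opp 2 K := by
    refine ((h.ha.r.kerL _ (pow_mem hy 3)).1 (by rw [h.ha.pow ya, e, e3])).resolve_right fun h1 => ?_
    have c : Commute y a := mem_cz.1 ya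
    have h2 := pow_mem h1 (orderOf y)
    rw [(c.pow_left 3).mul_pow, ← pow_mul, mul_comm, pow_mul, pow_orderOf_eq_one, one_pow, one_mul,
      H38.SG.pow_odd_of_sq h.ha.aa ho] at h2
    exact ne_one_of_ord h.ha.r.t2 (eq_one_of_opp (twoE_of_sq h.ha.aa) h2)
  obtain ⟨D, θ, d3, dc, e1, t2, t8, tn⟩ := permA (h.hb.sq h.ab h.ha.aa) h.eq8
    (h.hb.comm yb h.ab (mem_cz.1 ya)) (fun z hz => by
      have := h.fix y3 (pow_mem yb 3) hz
      rwa [h.hb.pow yb, pow_three, Perm.mul_apply, Perm.mul_apply] at this) hx hn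
  obtain ⟨c, hc, ca, rfl, -⟩ := h.hb.r.lift3' h.ha.aa (h.hb.dom h.ab) d3 dc.symm
  have c1 : c ∈ Cz a := mem_cz.2 ca
  have c2 : c ∈ Cz b := h.hb.le hc
  have g1 : c * (y * c * y⁻¹)⁻¹ ∈ L := mul_mem hc (inv_mem (conj_mem_of_norm (h.hb.dom yb) hc))
  have e2 : c * (y * c * y⁻¹)⁻¹ = c * y * c⁻¹ * y⁻¹ := by group
  have g2 : c * (y * c * y⁻¹)⁻¹ ∈ K := e2 ▸ mul_mem (conj_mem_of_norm (h.ha.dom c1) hy) (inv_mem hy)
  have e4 : σ (c * (y * c * y⁻¹)⁻¹) = θ := by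
    rw [h.hb.mul c2 (inv_mem (mul_mem (mul_mem yb c2) (inv_mem yb))),
      h.hb.inv (mul_mem (mul_mem yb c2) (inv_mem yb)), h.hb.mul (mul_mem yb c2) (inv_mem yb),
      h.hb.mul yb c2, h.hb.inv yb, e1]
  have e5 : ρ (c * (y * c * y⁻¹)⁻¹) = ρ c * c3 i j k * (ρ c)⁻¹ * (c3 i j k)⁻¹ := by
    rw [e2, h.ha.mul (mul_mem (mul_mem c1 ya) (inv_mem c1)) (inv_mem ya),
      h.ha.mul (mul_mem c1 ya) (inv_mem c1), h.ha.mul c1 ya, h.ha.inv c1, h.ha.inv ya, e]
  generalize c * (y * c * y⁻¹)⁻¹ = w at g1 g2 e4 e5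
  obtain ⟨m, f, hm, hf⟩ := H38.SG.exists_two_part w
  have e6 : σ (w ^ m) = θ := by rw [h.hb.pow (h.hb.le g1), e4, H38.SG.pow_odd_of_sq t2 hm]
  have w2 := h.hb.r.inv8 (pow_mem g1 m) ⟨f, hf⟩ (e6 ▸ t2) (e6 ▸ t8)
  have e7 : ρ (w ^ m) = 1 := by
    by_contra e7
    have := h.ha.r.supp8 (pow_mem g2 m) w2 e7
    rw [h.ha.pow (h.ha.le g2), e5] at this
    have := card_comm3 (ρ c) i j k m
    omega
  rcases h.ha.r.eq_of_ker (pow_mem g2 m) e7 ⟨f, hf⟩ (mem_cz.1 (h.ha.le (pow_mem g2 m))) with e8 | e8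
  · rw [e8, h.hb.r.one] at e6
    rw [← e6] at t8
    simp at t8
  · exact tn (by rw [← e6, e8])

theorem le11 : Fintype.card α ≤ 11 := by
  by_contra h12
  obtain ⟨u, v, i, j, m1, m2, m3, m4, n1, n2, n3, n4, n5, n6⟩ := pick4 (β := ρ b) (by
    have := h.symm.eq8; omega)
  have t1 := c3_pow_three n2.symm n4.symm n1
  have t2 := c3_pow_three n3.symm n5.symm n1
  obtain ⟨y1, p1, c1, e1, o1⟩ := h.ha.r.lift3' h.hb.aa (h.ha.dom h.ba) t1 (commute_c3_of_fixed m3 m1 m2)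
  obtain ⟨y2, p2, c2, e2, o2⟩ := h.ha.r.lift3' h.hb.aa (h.ha.dom h.ba) t2 (commute_c3_of_fixed m4 m1 m2)
  have b1 := mem_cz.2 c1
  have b2 := mem_cz.2 c2
  have h5 := h.ha.r.dt _ (mul_mem p1 p2) (by
    rw [h.ha.mul (h.ha.le p1) (h.ha.le p2), e1, e2, c3_mul_c3 n1 n2.symm n4.symm n3.symm n5.symm n6]
    exact cycleType_dt n2 n1 n3 n4.symm n6 n5)
  refine h.symm.ne1 (Equiv.ext fun x => ?_)
  by_contra hx
  rw [Perm.one_apply] at hx
  have hh : σ a (σ a x) = x := app_eq (h.hb.sq h.ab h.ha.aa) x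
  have hx' : σ a (σ a x) ≠ σ a x := by rw [hh]; exact Ne.symm hx
  have b3 := mul_mem b1 b2
  have := h.fix h5 (mul_mem (mul_mem b3 b3) h.ab) hx
  rw [h.hb.mul (mul_mem b3 b3) h.ab, h.hb.mul b3 b3, h.hb.mul b1 b2] at this
  simp only [Perm.mul_apply, h.fix3 p1 b1 e1 t1 o1 hx', h.fix3 p2 b2 e2 t2 o2 hx'] at this
  exact hx this

/-- Elements centralising `K` modulo the core act on the support of `a` trivially or like `a`. -/
theorem kap (ka : k ∈ Cz a) (kb : k ∈ Cz b) (hk : CM K k) :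
    (∀ x, σ a x ≠ x → σ k x = x) ∨ ∀ x, σ a x ≠ x → σ k x = σ a x := by
  have hR : RR K b ≤ Cz b := RR_le.trans inf_le_right
  have hN : RR K b ≤ NN[L] := hR.trans h.hb.dom
  have hK : RR K b ≤ K := RR_le.trans inf_le_left
  have cm : ∀ r ∈ RR K b, σ r * σ a = σ a * σ r := fun r hr =>
    h.hb.comm (hR hr) h.ab (mem_cz.1 (h.ha.le (hK hr)))
  have ck := h.hb.comm kb h.ab (mem_cz.1 ka)
  refine perm1' (R := h.hb.r.img (RR K b)) (ord_two (h.hb.sq h.ab h.ha.aa) h.symm.ne1)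
    (fun τ hτ => ?_) (fun D d3 dc => ?_) (h.hb.r.img_closure hN fun _ hx => hx.2.2) ?_ ck
    fun τ hτ x hx => ?_
  · obtain ⟨r, hr, rfl⟩ := (h.hb.r.mem_img hN).1 hτ
    exact mem_centralizer_singleton_iff.2 (cm r hr)
  · obtain ⟨y, hy, c, rfl, -⟩ := h.hb.r.lift3' h.ha.aa (h.hb.dom h.ab) d3 dc.symm
    exact h.hb.r.img_norm hN (le_normalizer hy)
      (norm_RR (h.ha.dom (mem_cz.2 c)) (mem_cz.1 (h.hb.le hy)))
  · obtain ⟨p, hp, -, -, e, -⟩ := h.ha.r.q8 h.hb.aa (h.ha.dom h.ba) (mem_cz.1 h.ab)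
    exact (h.hb.r.mem_img hN).2 ⟨a, e ▸ mul_mem hp hp, rfl⟩
  · obtain ⟨r, hr, rfl⟩ := (h.hb.r.mem_img hN).1 hτ
    have rb := hR hr
    have := h.fix (hk.2 r (hK hr)) (by
      rw [commutatorElement_def]
      exact mul_mem (mul_mem (mul_mem rb kb) (inv_mem rb)) (inv_mem kb)) (x := σ k (σ r x)) (by
      rw [← Perm.mul_apply, ← ck, Perm.mul_apply, ← Perm.mul_apply (σ a), ← cm r hr, Perm.mul_apply]
      exact (σ k).injective.ne ((σ r).injective.ne hx))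
    rw [h.hb.r.commutator (hN hr) (h.hb.dom kb), commutatorElement_def] at this
    simpa using this.symm

theorem uniq0 (sa : s ∈ Cz a) (sb : s ∈ Cz b) (s2 : s * s = 1) (hs : CM K s) : s = 1 ∨ s = a := by
  have key : ∀ {s : G}, s ∈ Cz a → s ∈ Cz b → s * s = 1 → CM K s → (∀ x, σ a x ≠ x → σ s x = x) →
      s = 1 := fun {s} sa sb s2 hs hf => by
    by_contra s1
    obtain ⟨D, d3, dc, dn⟩ := exists_c3 (h.hb.sq h.ab h.ha.aa) (by rw [h.eq8]; decide) hf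
    obtain ⟨y, hy, c, rfl, -⟩ := h.hb.r.lift3' s2 (h.hb.dom sb) d3 dc
    have yb := h.hb.le hy
    have h1 := (h.hb.po sb s2).2 (by
      have : (σ s).support ⊆ (σ a).supportᶜ := fun x hx => by
        rw [Finset.mem_compl, mem_support]
        exact fun e => mem_support.1 hx (hf x e)
      have := Finset.card_le_card this
      rw [Finset.card_compl, h.eq8] at this
      have := h.ha.r.big
      omega) _ (h.ha.uq s sa (ord_two s2 s1) hs y (mem_cz.2 c)) (by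
      rw [commutatorElement_def]
      exact mul_mem (mul_mem (mul_mem yb h.ab) (inv_mem yb)) (inv_mem h.ab))
    rw [h.hb.r.commutator (le_normalizer hy) (h.hb.dom h.ab)] at h1
    exact dn (commutatorElement_eq_one_iff_mul_comm.1 h1)
  rcases h.kap sa sb hs with e | e
  · exact Or.inl (key sa sb s2 hs e)
  · have c : Commute s a := mem_cz.1 sa
    have := key (mul_mem sa h.ha.self) (mul_mem sb h.ab)
      (by rw [← pow_two, c.mul_pow, pow_two, pow_two, s2, h.ha.aa, one_mul]) (hs.mul h.ha.r.cm_t)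
      fun x hx => by
        have hh : σ a (σ a x) = x := app_eq (h.hb.sq h.ab h.ha.aa) x
        rw [h.hb.mul sb h.ab, Perm.mul_apply, e _ (by rw [hh]; exact Ne.symm hx), hh]
    exact Or.inr ((eq_inv_of_mul_eq_one_left this).trans (inv_eq_of_mul_eq_one_right h.ha.aa))

theorem mem : b ∈ K := by
  obtain ⟨x, hx, x2, c, e⟩ := h.ha.lift_comm h.ba h.hb.aa h.ge8.2
  have xa := h.ha.le hx
  have xx := h.ha.r.inv8 hx x2 (e ▸ h.ha.sq h.ba h.hb.aa) (e ▸ h.symm.eq8)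
  have c' : Commute x b := c
  have e1 : b = x * (x * b) := by rw [← mul_assoc, xx, one_mul]
  rcases h.uniq0 (mul_mem xa h.ba) (mul_mem (mem_cz.2 c) h.hb.self)
    (by rw [← pow_two, c'.mul_pow, pow_two, pow_two, xx, h.hb.aa, one_mul])
    ((h.ha.r.ker _ (h.ha.dom (mul_mem xa h.ba))).1 (by
      rw [h.ha.mul xa h.ba, e, h.ha.sq h.ba h.hb.aa])) with e2 | e2
  · rw [e1, e2, mul_one]; exact hx
  · rw [e1, e2]; exact mul_mem hx h.ha.r.tL

/-- A 2-element centralising `K` modulo the core centralises a conjugate of `b`. -/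
theorem move (k2 : TwoE k) (hk : CM K k) :
    ∃ (b' : G) (L' : Subgroup G) (σ' : G → Perm α), Pr a K ρ b' L' σ' ∧ k ∈ Cz b' := by
  obtain ⟨T, hT, -, h1⟩ := exists_syl_cent k2.isPGroup (KC.cm_zpowers hk) IsPGroup.of_bot bot_le bot_le
  obtain ⟨c, hc, h2⟩ := exists_conj_mem hT h.mem (twoE_of_sq h.hb.aa)
  obtain ⟨L', σ', h3⟩ := h.ha.pair (h.conj.trans (isConj_iff.2 ⟨c, rfl⟩)) (h.ha.le (hT.le h2)) fun e =>
    h.ne (by
      calc b = c⁻¹ * (c * b * c⁻¹) * c := by group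
        _ = a := by rw [e, mul_assoc, ← mem_cz.1 (h.ha.le hc), inv_mul_cancel_left])
  exact ⟨_, L', σ', h3, mem_cz.2 (h1 h2 k (mem_zpowers k))⟩

theorem uniq (sa : s ∈ Cz a) (s2 : s * s = 1) (hs : CM K s) : s = 1 ∨ s = a := by
  obtain ⟨b', L', σ', h', sb⟩ := h.move (twoE_of_sq s2) hs
  exact h'.uniq0 sa sb s2 hs

theorem two_elt (ka : k ∈ Cz a) (k2 : TwoE k) (hk : CM K k) : k = 1 ∨ k = a := by
  refine h.uniq ka ?_ hk
  obtain ⟨b', L', σ', h', kb⟩ := h.move k2 hk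
  have hh : ∀ x, σ' a (σ' a x) = x := app_eq (h'.hb.sq h'.ab h.ha.aa)
  have h1 : ∀ x, σ' a x ≠ x → σ' (k * k) x = x := fun x hx => by
    rw [h'.hb.mul kb kb, Perm.mul_apply]
    rcases h'.kap ka kb hk with e | e
    · rw [e x hx, e x hx]
    · rw [e x hx, e _ (by rw [hh]; exact Ne.symm hx), hh]
  obtain ⟨m, hm⟩ := k2.mul k2 rfl
  have ka' := mul_mem ka ka
  have kb' := mul_mem kb kb
  have hk' := hk.mul hk
  generalize k * k = w at *
  induction m with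
  | zero => simpa using hm
  | succ m ih =>
    refine ih ((h.uniq (pow_mem ka' _) (by rw [← pow_two, ← pow_mul, ← pow_succ, hm])
      (hk'.pow _)).resolve_right fun e => h'.symm.ne1 (Equiv.ext fun x => ?_))
    by_contra hx
    refine hx ?_
    rw [← e, h'.hb.pow kb', Perm.one_apply]
    exact Perm.pow_apply_eq_self_of_apply_eq_self (h1 x hx) _

theorem isConj (hy : y ∈ K) (y2 : y * y = 1) (y1 : y ≠ 1) : IsConj a y := by
  by_cases e : ρ y = 1
  · rw [(h.ha.r.eq_of_ker hy e (twoE_of_sq y2) (mem_cz.1 (h.ha.le hy))).resolve_left y1]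
  obtain ⟨l, -, e1⟩ := h.ha.r.conj_inv h.le11 h.mem h.hb.aa h.ne1 hy y2 e
  exact h.conj.trans (isConj_iff.2 ⟨l, e1⟩)

theorem mem_conj (hy : IsConj a y) (ya : y ∈ Cz a) : y ∈ K := by
  by_cases hn : y = a
  · exact hn ▸ h.ha.r.tL
  obtain ⟨L', σ', h'⟩ := h.ha.pair hy ya hn
  exact h'.mem

theorem odd_index : Odd (centralizer ({a} : Set G)).index := by
  refine H38.SG.odd_index_cent h.ha.aa fun y hy hc hn => ?_
  have c : Commute y a := hc.symm
  obtain ⟨L', σ', h'⟩ := h.ha.pair hy (mem_cz.2 c) hn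
  exact h.isConj (mul_mem h'.mem h.ha.r.tL)
    (by rw [← pow_two, c.mul_pow, pow_two, pow_two, h'.hb.aa, h.ha.aa, one_mul]) fun e =>
    hn ((eq_inv_of_mul_eq_one_left e).trans (inv_eq_of_mul_eq_one_right h.ha.aa))

theorem mem_of_even (va : v ∈ Cz a) (v2 : v * v = 1) (hs : sign (ρ v) = 1) : v ∈ K := by
  obtain ⟨x, hx, x2, c, e⟩ := h.ha.lift_comm va v2 hs
  have xa := h.ha.le hx
  have c' : Commute x v := c
  have e1 : v = x * (x⁻¹ * v) := by group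
  rcases h.two_elt (mul_mem (inv_mem xa) va) (x2.inv.mul (twoE_of_sq v2) c'.inv_left)
    ((h.ha.r.ker _ (h.ha.dom (mul_mem (inv_mem xa) va))).1 (by
      rw [h.ha.mul (inv_mem xa) va, h.ha.inv xa, e, inv_mul_cancel])) with e2 | e2
  · rw [e1, e2, mul_one]; exact hx
  · rw [e1, e2]; exact mul_mem hx h.ha.r.tL

theorem exists_odd_inv (ya : y ∈ Cz a) (hs : sign (ρ y) = -1) :
    ∃ v ∈ Cz a, sign (ρ v) = -1 ∧ v * v = 1 := by
  obtain ⟨e⟩ : Nonempty (Fin 8 ↪ α) := Function.Embedding.nonempty_of_card_le (by simpa using h.ha.r.big)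
  have ne : ∀ {i j : Fin 8}, i ≠ j → e i ≠ e j := fun h => e.injective.ne h
  obtain ⟨x, hx, e1⟩ := h.ha.r.surj (swap (e 0) (e 1) * (ρ y)⁻¹)
    (by rw [map_mul, sign_inv, hs, sign_swap (ne (by decide))]; rfl)
  have h1 := mul_mem (h.ha.le hx) ya
  obtain ⟨m, f, hm, hf⟩ := H38.SG.exists_two_part (x * y)
  have h3 : ρ ((x * y) ^ m) = swap (e 0) (e 1) := by
    rw [h.ha.pow h1, h.ha.mul (h.ha.le hx) ya, e1, inv_mul_cancel_right,
      H38.SG.pow_odd_of_sq (swap_mul_self _ _) hm]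
  have wa := pow_mem h1 m
  have w2 : TwoE ((x * y) ^ m) := ⟨f, hf⟩
  generalize (x * y) ^ m = w at h3 wa w2
  have sw : sign (ρ w) = -1 := by rw [h3, sign_swap (ne (by decide))]
  rcases h.two_elt (mul_mem wa wa) (w2.mul w2 rfl) ((h.ha.r.ker _ (h.ha.dom (mul_mem wa wa))).1 (by
    rw [h.ha.mul wa wa, h3, swap_mul_self])) with e2 | e2
  · exact ⟨w, wa, sw, e2⟩
  have f1 : ∀ i : Fin 8, i ≠ 0 → i ≠ 1 → swap (e 0) (e 1) (e i) = e i := fun i a1 a2 =>
    swap_apply_of_ne_of_ne (ne a1) (ne a2)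
  have lf : ∀ i : Fin 8, i ≠ 0 → i ≠ 1 → i ≠ 2 → i ≠ 3 →
      ∃ z ∈ K, Commute w z ∧ ρ z = c3 (e i) (e 2) (e 3) := fun i a0 a1 a2 a3 => by
    obtain ⟨z, hz, c, e3, -⟩ := h.ha.r.lift3 w2.isPGroup (zpowers_le.2 (h.ha.dom wa))
      (c3_pow_three (ne a2) (ne a3) (ne (by decide))) (by
        rintro _ ⟨j, rfl⟩
        have c : Commute (ρ w) (c3 (e i) (e 2) (e 3)) := h3 ▸ commute_c3_of_fixed (f1 i a0 a1)
          (f1 2 (by decide) (by decide)) (f1 3 (by decide) (by decide))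
        have := map_zpow h.ha.r.hom ⟨w, h.ha.dom wa⟩ j
        exact (show ρ (w ^ j) = ρ w ^ j from this) ▸ c.zpow_left j)
    exact ⟨z, hz, c w (mem_zpowers w), e3⟩
  obtain ⟨z1, p1, c1, q1⟩ := lf 4 (by decide) (by decide) (by decide) (by decide)
  obtain ⟨z2, p2, c2, q2⟩ := lf 5 (by decide) (by decide) (by decide) (by decide)
  obtain ⟨m', f', hm', hf'⟩ := H38.SG.exists_two_part (z1 * z2)
  have p3 := pow_mem (mul_mem p1 p2) m'
  have c3' : Commute w ((z1 * z2) ^ m') := (c1.mul_right c2).pow_right m'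
  have q3 : (ρ ((z1 * z2) ^ m')).cycleType = {2, 2} := by
    rw [h.ha.pow (h.ha.le (mul_mem p1 p2)), h.ha.mul (h.ha.le p1) (h.ha.le p2), q1, q2,
      H38.SG.pow_odd_of_sq (by
        rw [← pow_two]
        exact c3_mul_c3_sq (ne (by decide)) (ne (by decide)) (ne (by decide)) (ne (by decide))
          (ne (by decide)) (ne (by decide))) hm',
      c3_mul_c3 (ne (by decide)) (ne (by decide)) (ne (by decide)) (ne (by decide))
          (ne (by decide)) (ne (by decide))]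
    exact cycleType_dt (ne (by decide)) (ne (by decide)) (ne (by decide)) (ne (by decide))
      (ne (by decide)) (ne (by decide))
  have p4 := h.ha.r.sq_of_dt p3 q3 ⟨f', hf'⟩ (mem_cz.1 (h.ha.le p3))
  refine ⟨w * (z1 * z2) ^ m', mul_mem wa (h.ha.le p3), ?_, ?_⟩
  · rw [h.ha.mul wa (h.ha.le p3), map_mul, sw, h.ha.r.sgn _ p3, mul_one]
  · rw [← pow_two, c3'.mul_pow, pow_two, pow_two, e2, p4, h.ha.aa]

theorem even (h2 : ∀ N : Subgroup G, N.Normal → N.index ≠ 2) (ya : y ∈ Cz a) : sign (ρ y) = 1 := by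
  by_contra hs
  obtain ⟨v, va, hτ, v2⟩ := h.exists_odd_inv ya ((Int.units_eq_one_or _).resolve_left hs)
  let M : Subgroup G :=
    { carrier := {y | y ∈ Cz a ∧ sign (ρ y) = 1}
      one_mem' := ⟨one_mem _, by rw [h.ha.r.one, map_one]⟩
      mul_mem' := fun a1 b1 => ⟨mul_mem a1.1 b1.1, by
        rw [h.ha.mul a1.1 b1.1, map_mul, a1.2, b1.2, one_mul]⟩
      inv_mem' := fun a1 => ⟨inv_mem a1.1, by rw [h.ha.inv a1.1, sign_inv, a1.2]⟩ }
  have nv : sign (ρ v) ≠ 1 := by rw [hτ]; decide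
  have hM : M.relIndex (centralizer ({a} : Set G)) = 2 := by
    rw [relIndex_eq_two_iff_exists_notMem_and]
    refine ⟨v, va, fun a1 => nv a1.2, fun y hy => ?_⟩
    rcases Int.units_eq_one_or (sign (ρ y)) with e1 | e1
    · exact Or.inr ⟨hy, e1⟩
    · exact Or.inl ⟨mul_mem hy va, by rw [h.ha.mul hy va, map_mul, e1, hτ]; rfl⟩
  obtain ⟨N, k1, k2, -⟩ := H87.thompson_transfer_involution h.odd_index hM (x := v)
    (by rw [pow_two, v2]) fun g a1 => by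
      have w2 : g * v * g⁻¹ * (g * v * g⁻¹) = 1 := by rw [conj_mul, v2]; group
      have h1 := h.isConj (h.mem_of_even a1.1 w2 a1.2) w2 fun e1 => by
        have : v = 1 := by simpa using e1
        exact nv (by rw [this, h.ha.r.one, map_one])
      exact nv (h.ha.r.sgn _ (h.mem_conj (h1.trans (isConj_iff.2 ⟨g, rfl⟩).symm) va))
  exact h2 N k1 k2

theorem main (h2 : ∀ N : Subgroup G, N.Normal → N.index ≠ 2) : Cz a = K ⊔ Opp 2 (Cz a) := by
  refine le_antisymm (fun y ya => ?_) (sup_le h.ha.le (Opp_le _))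
  have hD : ∀ k, k ∈ Dm 2 (Cz a) K ↔ k ∈ Cz a ∧ CM K k := fun k => mem_Dm_iff_cm h.ha.cmp
  have hnpc : HasNormalPComplement 2 (Dm 2 (Cz a) K) := npc_of_commutator_central fun u _ j hj => by
    have h1 := (hD u).1 u.2
    refine mem_center_iff.2 fun g => Subtype.ext ?_
    rcases h.two_elt h1.1 (KC.twoE_of_orderOf (k := j) (by rw [Subgroup.orderOf_coe, hj])) h1.2
      with e | e
    · simp [e]
    · simpa [e] using mem_cz.1 ((hD g).1 g.2).1
  have hO : ∀ k ∈ Dm 2 (Cz a) K, ∀ m, Odd m → k ^ m = 1 → k ∈ Opp 2 (Cz a) := fun k hk m hm e =>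
    (SN.of_le_normalizer (Dm_le _ _) ((le_inf le_normalizer h.ha.dom).trans
      (inf_normalizer_le_normalizer_Dm h.ha.le))).Opp_le
      (le_Opp_of_npc hnpc (zpowers_le.2 hk) (by
        rw [Nat.card_zpowers]
        exact (Nat.coprime_two_right.2 hm).coprime_dvd_left (orderOf_dvd_of_pow_eq_one e))
        (mem_zpowers k))
  obtain ⟨x, hx, e⟩ := h.ha.r.surj _ (h.even h2 ya)
  have xa := h.ha.le hx
  have ka := mul_mem (inv_mem xa) ya
  have hk : CM K (x⁻¹ * y) := (h.ha.r.ker _ (h.ha.dom ka)).1 (by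
    rw [h.ha.mul (inv_mem xa) ya, h.ha.inv xa, e, inv_mul_cancel])
  have e1 : y = x * (x⁻¹ * y) := by group
  generalize x⁻¹ * y = k at ka hk e1
  obtain ⟨m, f, hm, hf⟩ := H38.SG.exists_two_part k
  rcases h.two_elt (pow_mem ka m) ⟨f, hf⟩ (hk.pow m) with e2 | e2
  · rw [e1]; exact mul_mem_sup hx (hO k ((hD k).2 ⟨ka, hk⟩) m hm e2)
  · have c : Commute k a := mem_cz.1 ka
    have := hO (k * a) ((hD _).2 ⟨mul_mem ka h.ha.self, hk.mul h.ha.r.cm_t⟩) m hm (by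
      rw [c.mul_pow, e2, H38.SG.pow_odd_of_sq h.ha.aa hm, h.ha.aa])
    rw [e1, show x * k = x * a * (k * a) by
      rw [c.eq, mul_assoc, ← mul_assoc a, h.ha.aa, one_mul]]
    exact mul_mem_sup (mul_mem hx h.ha.r.tL) this

end Pr

theorem index_ne_two [IsSimpleGroup G] (hn : ¬ IsMulCommutative G) (N : Subgroup G) (hN : N.Normal) :
    N.index ≠ 2 := fun e => by
  rcases IsSimpleGroup.eq_bot_or_eq_top_of_normal N hN with rfl | rfl
  · rw [index_bot] at e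
    have := isCyclic_of_prime_card (p := 2) e
    exact hn inferInstance
  · simp at e

/-- A commuting conjugate, from the `Z*`-theorem. -/
theorem exists_comm_conj [IsSimpleGroup G] (hn : ¬ IsMulCommutative G) {t : G} (ht : orderOf t = 2) :
    ∃ b, IsConj t b ∧ b ∈ Cz t ∧ b ≠ t := by
  by_contra hc
  push Not at hc
  have h1 := H6.mem_center_of_isolated ⟨ht, fun g hg =>
    hc _ (isConj_iff.2 ⟨g, rfl⟩) (mem_cz.2 hg.symm)⟩ (core_of_simple ht)
  rcases IsSimpleGroup.eq_bot_or_eq_top_of_normal (center G) inferInstance with e | e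
  · exact ne_one_of_ord ht (mem_bot.1 (e ▸ h1))
  · exact hn ⟨⟨fun x y => mem_center_iff.1 (e.ge (mem_top y)) x⟩⟩

theorem d2 : D2Stmt.{u} := by
  intro G _ _ _ hn n t K h8 ht hK tK hA hN h1 h2
  obtain ⟨ρ, hρ⟩ := hA.exists_rho' h8 ht tK (cm_self hK.1)
  obtain ⟨b, c1, c2, c3⟩ := exists_comm_conj hn ht
  obtain ⟨L, σ, h⟩ := SD.pair ⟨hρ, hK, hN, h1, h2⟩ c1 c2 c3
  exact ⟨by simpa using h.le11, h.main (index_ne_two hn)⟩

end Cfsg.Agent.H66.UD
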