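import Cfsg.Agent.H66.UnbARed
import Cfsg.Agent.H10.UnbXB

/-! Row S1738 from Theorem A. -/

set_option autoImplicit false

namespace Cfsg.Agent.H66.UA

open Subgroup Cfsg.Agent.H16.Unb

universe u

theorem s1738 (hA : AStmt.{u}) {G : Type u} [Group G] [Finite G]
    (hO : oddCore G = ⊥) (hF : IsQuasisimple (generalizedFittingSubgroup G)) (t : G)
    (ht : orderOf t = 2) (K : Subgroup (centralizer ({t} : Set G))) (hK : IsPComponent 2 K)
    (htK : t ∈ K.map (centralizer ({t} : Set G)).subtype) (n : ℕ) (hn : 8 ≤ n)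
    (hKA : IsNonsplitDoubleCover (K ⧸ oddCore K) (alternatingGroup (Fin n))) :
    IsNonsplitDoubleCover (generalizedFittingSubgroup G) (alternatingGroup (Fin n)) ∨
      (n = 8 ∧ Spor.IsoMcL (generalizedFittingSubgroup G)) ∨
      (n = 11 ∧ Spor.IsoLy (generalizedFittingSubgroup G)) := by
  refine (fstar_of_aStmt hA hO hF t ht K hK htK n hn hKA).imp_right fun h => ?_
  rcases H10.UX.n_eq h hn with rfl | rfl
  · exact Or.inl ⟨rfl, H10.UX.mcl.mp h⟩
  · exact Or.inr ⟨rfl, H10.UX.ly.mp h⟩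

end Cfsg.Agent.H66.UA
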