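import Cfsg.Agent.H17.KnDef2

/-! Automorphisms of the extraspecial group `QQ` that fix `AP`. -/

set_option autoImplicit false
set_option maxRecDepth 100000

namespace Cfsg.Agent.H66.KnAuq

open Equiv Subgroup Cfsg.Agent.H17.Kn
open Cfsg.Agent.H11.A16 (P x inv_app)

universe u

/-- a translation -/
def tt (i : Fin 3) : N2 := sec2 (x (pw i))
/-- a digit as a sign change -/
def bb (j : Fin 3) : N2 := ⟨1, fun p => bit p j⟩
/-- the point with given digits -/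
def mk3 (c : Fin 3 → ZMod 2) : P :=
  (if c 0 = 0 then 0 else 1) ^^^ (if c 1 = 0 then 0 else 2) ^^^ (if c 2 = 0 then 0 else 4)

theorem eqns : True := by
  have := @tt.eq_1; have := @bb.eq_1; have := @mk3.eq_1
  trivial

theorem bit_mk3 : ∀ c j, bit (mk3 c) j = c j := by decide +kernel
theorem ext_bit : ∀ p q : P, (∀ j, bit p j = bit q j) → p = q := by decide +kernel
theorem bit_xor : ∀ (p q : P) j, bit (p ^^^ q) j = bit p j + bit q j := by decide +kernel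
theorem reach : ∀ p q : P, q = p ∨ (∃ i, q = p ^^^ pw i) ∨ (∃ i j, q = p ^^^ pw i ^^^ pw j) ∨
    q = p ^^^ pw 0 ^^^ pw 1 ^^^ pw 2 := by decide +kernel
theorem xor0 : ∀ p : P, p ^^^ 0 = p := by decide +kernel
theorem xor2 : ∀ p q : P, p ^^^ q ^^^ q = p := by decide +kernel
theorem rel : ∀ i j, tt i * bb j * (tt i)⁻¹ = bb j * zp (bit (pw i) j) := by decide +kernel
theorem mems : z2 ∈ QQ ∧ (∀ i, tt i ∈ QQ) ∧ (∀ i, bb i ∈ QQ) ∧ (∀ i, bb i ∈ AP) ∧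
    (∀ i, tt i * tt i = 1) ∧ (∀ i j, tt i * tt j = tt j * tt i) ∧ z2 ≠ 1 ∧
    z2 = tt 0 * bb 0 * (tt 0)⁻¹ * (bb 0)⁻¹ ∧ (∀ c, zp c = 1 ∨ zp c = z2) ∧
    (∀ i, xe i 4 = 1 ∨ xe i 4 = z2 ∨ ∃ k, xe i 4 = tt k) ∧
    (∀ i, xe 0 i = 1 ∨ xe 0 i = z2 ∨ ∃ k, xe 0 i = bb k) := by decide +kernel

theorem cj (m : N2) {b : N2} (hb : b.σ = 1) : m * b * m⁻¹ = ⟨1, fun p => b.f (m.σ⁻¹ p)⟩ := by
  refine N2.ext (by simp [hb]) (funext fun p => ?_)
  simp only [N2.mul_f, N2.inv_f, N2.inv_σ, hb, Perm.one_apply]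
  generalize m.f _ = a; generalize b.f _ = c
  revert a c; decide

theorem auq' (m2 : Mod2) (m3 : Mod3) : AuqStmt := fun α h hA => by
  obtain ⟨zQ, tQ, bQ, bA, t2, tc, z1, zc, zps, xs, xb⟩ := mems
  have em : Em α QQ := ⟨h.mul, h.inj⟩
  have cα : ∀ u ∈ QQ, ∀ v ∈ QQ, α (u * v * u⁻¹) = α u * α v * (α u)⁻¹ := fun u hu v hv => by
    rw [h.mul _ (mul_mem hu hv) _ (inv_mem hu), h.mul _ hu _ hv, em.inv hu]
  have bσ : ∀ j, (α (bb j)).σ = 1 := fun j => (hA _ (bA j)).2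
  have ba : ∀ j p q r, (α (bb j)).f (p ^^^ q ^^^ r) =
      (α (bb j)).f p + (α (bb j)).f q + (α (bb j)).f r := fun j => (hA _ (bA j)).1.2
  have hz : α z2 = z2 := by
    have e : α z2 = zp ((α (bb 0)).f ((α (tt 0)).σ⁻¹ 0) + (α (bb 0)).f 0) := by
      rw [zc, h.mul _ (mul_mem (mul_mem (tQ 0) (bQ 0)) (inv_mem (tQ 0))) _ (inv_mem (bQ 0)),
        cα _ (tQ 0) _ (bQ 0), em.inv (bQ 0), cj _ (bσ 0)]
      refine N2.ext (by simp [bσ, zp]) (funext fun p => ?_)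
      have k : (α (tt 0)).σ⁻¹ p = p ^^^ (α (tt 0)).σ⁻¹ 0 ^^^ 0 := by
        rw [xor0]; exact (inv_mem (h.mem _ (tQ 0))).1 p
      simp only [N2.mul_f, N2.inv_f, N2.inv_σ, bσ, inv_one, Perm.one_apply, zp]
      rw [k, ba]
      generalize (α (bb 0)).f p = a; generalize (α (bb 0)).f 0 = c
      generalize (α (bb 0)).f _ = d
      revert a c d; decide
    refine ((zps _).resolve_left fun k => z1 (h.inj _ zQ _ (one_mem _) ?_)) ▸ e
    rw [e, k, em.one]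
  have hzp : ∀ c, zp c ∈ QQ ∧ α (zp c) = zp c := fun c => by
    rcases zps c with e | e <;> rw [e]
    exacts [⟨one_mem _, em.one⟩, ⟨zQ, hz⟩]
  let τ : P → P := fun p => mk3 fun j => (α (bb j)).f p
  have hτ : ∀ p j, bit (τ p) j = (α (bb j)).f p := fun p j => bit_mk3 _ j
  have ht : ∀ i p, τ ((α (tt i)).σ⁻¹ p) = τ p ^^^ pw i := fun i p => ext_bit _ _ fun j => by
    have e := congrArg α (rel i j)
    rw [cα _ (tQ i) _ (bQ j), h.mul _ (bQ j) _ (hzp _).1, (hzp _).2, cj _ (bσ j)] at e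
    have e := congrArg (fun u : N2 => u.f p) e
    rw [bit_xor, hτ, hτ, add_comm]
    exact e
  have su : Function.Surjective τ := fun q => by
    rcases reach (τ 0) q with e | ⟨i, e⟩ | ⟨i, j, e⟩ | e
    · exact ⟨_, e.symm⟩
    all_goals simp only [← ht] at e; exact ⟨_, e.symm⟩
  let σ : Perm P := Equiv.ofBijective τ (Finite.surjective_iff_bijective.1 su)
  have σA : σ ∈ AG := fun p q r => ext_bit _ _ fun j => by
    change bit (τ _) j = bit (τ p ^^^ τ q ^^^ τ r) j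
    rw [bit_xor, bit_xor, hτ, hτ, hτ, hτ, ba]
  have kK : sec2 σ ∈ QK := ⟨σA, fun _ _ _ => by change (0 : ZMod 2) = 0 + 0 + 0; simp⟩
  have hb : ∀ j, (sec2 σ)⁻¹ * bb j * (sec2 σ)⁻¹⁻¹ = α (bb j) := fun j => by
    rw [cj _ rfl]
    exact N2.ext (bσ j).symm (funext fun p => hτ p j)
  have hK : ∀ i, sec2 σ * α (tt i) * (sec2 σ)⁻¹ ∈ QK := fun i =>
    mul_mem (mul_mem kK (h.mem _ (tQ i)).2) (inv_mem kK)
  have hP : ∀ i, (tt i)⁻¹ * (sec2 σ * α (tt i) * (sec2 σ)⁻¹) ∈ PP := fun i => by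
    change (x (pw i))⁻¹ * (σ * (α (tt i)).σ * σ⁻¹) = 1
    rw [inv_mul_eq_one, eq_mul_inv_iff_mul_eq]
    refine Equiv.ext fun p => ?_
    have := ht i ((α (tt i)).σ p)
    rw [inv_app] at this
    change τ p ^^^ pw i = τ _
    rw [this, xor2]
  have s2 : ∀ i, (tt i * ((tt i)⁻¹ * (sec2 σ * α (tt i) * (sec2 σ)⁻¹))) ^ 2 = 1 := fun i => by
    rw [mul_inv_cancel_left, conj_pow, pow_two, ← h.mul _ (tQ i) _ (tQ i), t2, em.one, mul_one,
      mul_inv_cancel]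
  have cm : ∀ i j, Commute (tt i * ((tt i)⁻¹ * (sec2 σ * α (tt i) * (sec2 σ)⁻¹)))
      (tt j * ((tt j)⁻¹ * (sec2 σ * α (tt j) * (sec2 σ)⁻¹))) := fun i j => by
    rw [mul_inv_cancel_left, mul_inv_cancel_left, Commute, SemiconjBy, conj_mul, conj_mul,
      ← h.mul _ (tQ i) _ (tQ j), ← h.mul _ (tQ j) _ (tQ i), tc]
  obtain ⟨e, eP, e0, e1, e2⟩ := m3.cpl _ (hP 0) _ (hP 1) _ (hP 2) (s2 0) (s2 1) (s2 2) (cm 0 1)
    (cm 0 2) (cm 1 2)
  have eσ : e.σ = 1 := eP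
  have et : ∀ i, e * tt i * e⁻¹ = sec2 σ * α (tt i) * (sec2 σ)⁻¹ := fun i => by
    rw [← mul_inv_cancel_left (tt i) (sec2 σ * α (tt i) * (sec2 σ)⁻¹)]
    fin_cases i
    exacts [e0, e1, e2]
  have ev : par e = 0 := by
    have k := (et 0 ▸ hK 0).2 0 2 4
    simp only [N2.mul_f, N2.inv_f, N2.inv_σ, eσ, inv_one, Perm.one_apply] at k
    change e.f 6 + (0 + e.f 7) = e.f 0 + (0 + e.f 1) + (e.f 2 + (0 + e.f 3)) +
      (e.f 4 + (0 + e.f 5)) at k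
    rw [par, Fin.sum_univ_eight]
    have two : (2 : ZMod 2) = 0 := rfl
    linear_combination k + (e.f 0 + e.f 1 + e.f 2 + e.f 3 + e.f 4 + e.f 5) * two
  refine ⟨(sec2 σ)⁻¹ * e, ⟨show σ⁻¹ * e.σ ∈ AG by rw [eσ, mul_one]; exact inv_mem σA, ?_⟩, ?_⟩
  · change par _ = 0
    rw [par_mul, ev, add_zero]
    exact Finset.sum_const_zero
  generalize hm : (sec2 σ)⁻¹ * e = m
  let K : Subgroup N2 :=
    { carrier := {u | u ∈ QQ ∧ α u = m * u * m⁻¹}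
      one_mem' := ⟨one_mem _, by rw [em.one, mul_one, mul_inv_cancel]⟩
      mul_mem' := fun {a b} ha hb => ⟨mul_mem ha.1 hb.1, by
        rw [h.mul _ ha.1 _ hb.1, ha.2, hb.2, conj_mul]⟩
      inv_mem' := fun {a} ha => ⟨inv_mem ha.1, by rw [em.inv ha.1, ha.2]; group⟩ }
  have zK : z2 ∈ K := ⟨zQ, by rw [hz, cj _ rfl]; rfl⟩
  have k1 : AA ≤ K := m2.gAA K fun i => by
    rcases xs i with k | k | ⟨j, k⟩ <;> rw [k]
    · exact one_mem _
    · exact zK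
    · refine ⟨tQ j, ?_⟩
      rw [← hm, show ∀ a b c : N2, a⁻¹ * b * c * (a⁻¹ * b)⁻¹ = a⁻¹ * (b * c * b⁻¹) * a from
        fun a b c => by group, et]
      group
  have k2 : AP ≤ K := m2.gAP K fun i => by
    rcases xb i with k | k | ⟨j, k⟩ <;> rw [k]
    · exact one_mem _
    · exact zK
    · refine ⟨bQ j, ?_⟩
      rw [← hb, ← hm, cj _ rfl, cj _ rfl, N2.mul_σ, eσ, mul_one]
  intro u hu
  obtain ⟨a, ha, b, hb, rfl⟩ := m2.pQQ u hu
  exact (mul_mem (k1 ha) (k2 hb) : a * b ∈ K).2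

theorem auq (hB : Base.{u}) : AuqStmt := auq' hB.m2 hB.m3

end Cfsg.Agent.H66.KnAuq
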