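import Cfsg.Agent.H19.MWType

/-! # MW project: the local group modulo `W`; TRB -/

set_option autoImplicit false
set_option maxRecDepth 100000
set_option synthInstance.maxSize 2048
open scoped Pointwise commutatorElement
open Subgroup

namespace Cfsg.Agent.H66.ML
open Cfsg.Agent.H19.MW Cfsg.Agent.H24.MH Cfsg.Agent.H23.D2 Cfsg.Agent.H8
open Cfsg.Agent.H42 (tb cnt)

local notation "C[" A "]" => Subgroup.centralizer (SetLike.coe A)
local notation "N[" A "]" => Subgroup.normalizer (SetLike.coe A)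

universe u
variable {G : Type*} [Group G]

/-- the centraliser of `t` is `⟨t⟩ × A₇` -/
structure MU (t : G) (μ : ℕ → G) : Prop where
  tt : t * t = 1
  mul : ∀ {A B : ℕ}, tb m7 A = true → tb m7 B = true → μ A * μ B = μ (mm A B)
  inj : ∀ {A B : ℕ}, tb m7 A = true → tb m7 B = true → μ A = μ B → A = B
  comm : ∀ {A : ℕ}, tb m7 A = true → μ A * t = t * μ A
  nm : ∀ {A : ℕ}, tb m7 A = true → μ A ≠ t
  cover : ∀ g, g * t = t * g → ∃ A, tb m7 A = true ∧ (g = μ A ∨ g = μ A * t)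

namespace MU
variable {t : G} {μ : ℕ → G} (h : MU t μ)
include h

theorem one : μ I4 = 1 := by
  have := h.mul m7_I4 m7_I4
  rwa [I4_mm (by decide), mul_eq_left] at this

theorem mul_eq {A B C D : ℕ} (hA : tb m7 A = true) (hB : tb m7 B = true) (hC : tb m7 C = true)
    (hD : tb m7 D = true) : μ A * μ B = μ C * μ D ↔ mm A B = mm C D := by
  rw [h.mul hA hB, h.mul hC hD]
  exact ⟨h.inj (m7_mul hA hB) (m7_mul hC hD), fun e => by rw [e]⟩

theorem sq_iff {A : ℕ} (hA : tb m7 A = true) : μ A * μ A = 1 ↔ mm A A = I4 := by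
  rw [h.mul hA hA, ← h.one]
  exact ⟨h.inj (m7_mul hA hA) m7_I4, fun e => by rw [e]⟩

theorem conj {A B C : ℕ} (hA : tb m7 A = true) (hB : tb m7 B = true) (hC : tb m7 C = true)
    (e : mm A B = mm C A) : μ A * μ B * (μ A)⁻¹ = μ C := by
  rw [(h.mul_eq hA hB hC hA).2 e, mul_inv_cancel_right]

theorem conj_t {A : ℕ} (hA : tb m7 A = true) : μ A * t * (μ A)⁻¹ = t := by
  rw [h.comm hA, mul_inv_cancel_right]

theorem sq_t {A : ℕ} (hA : tb m7 A = true) : μ A * t * (μ A * t) = μ A * μ A := by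
  rw [mul_assoc, ← mul_assoc t, ← h.comm hA, mul_assoc, h.tt, mul_one]

theorem nm' {A B : ℕ} (hA : tb m7 A = true) (hB : tb m7 B = true) : μ A * t ≠ μ B := fun e => by
  obtain ⟨C, hC, -, c⟩ := m7_inv hA
  refine h.nm (m7_mul hC hB) ?_
  rw [← h.mul hC hB, ← e, ← mul_assoc, h.mul hC hA, c, h.one, one_mul]

/-- `t` is not conjugate to an involution of `A₇` -/
theorem not_conj {A : ℕ} (hA : tb m7 A = true) (h2 : μ A * μ A = 1) (g : G) :
    g * μ A * g⁻¹ ≠ t := fun e => by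
  obtain ⟨B, hB, rfl⟩ := sq7 hA ((h.sq_iff hA).1 h2)
  have e1 : g * μ B * g⁻¹ * (g * μ B * g⁻¹) = t := by rw [← e, ← h.mul hB hB]; group
  obtain ⟨C, hC, c⟩ := h.cover (g * μ B * g⁻¹) (by rw [← e1]; group)
  refine h.nm (m7_mul hC hC) ?_
  rw [← h.mul hC hC, ← e1]
  rcases c with c | c <;> rw [c]
  exact (h.sq_t hC).symm

theorem trb {g : G} (hg : g * t * g⁻¹ = t * μ b1M) :
    ∃ x, x * t * x⁻¹ = t * μ b1M ∧ x * μ b1M * x⁻¹ = μ b1M ∧ x * μ b2M * x⁻¹ = μ b2M := by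
  have s1 := (h.sq_iff m7_b1).2 (by decide +kernel)
  have s2 := (h.sq_iff m7_b2).2 (by decide +kernel)
  have c12 := (h.mul_eq m7_b1 m7_b2 m7_b2 m7_b1).2 (by decide +kernel)
  have t1 := h.comm m7_b1
  have t2 := h.comm m7_b2
  have n1 : μ b1M ≠ 1 := fun e => absurd (h.inj m7_b1 m7_I4 (e.trans h.one.symm)) (by decide)
  have n2 : μ b2M ≠ 1 := fun e => absurd (h.inj m7_b2 m7_I4 (e.trans h.one.symm)) (by decide)
  have n12 : μ b1M ≠ μ b2M := fun e => absurd (h.inj m7_b1 m7_b2 e) (by decide)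
  have k1 : μ hM * μ b1M * (μ hM)⁻¹ = μ b2M := h.conj m7_h m7_b1 m7_b2 (by decide +kernel)
  have k2 : μ hM * μ b2M * (μ hM)⁻¹ = μ b1M * μ b2M := by
    rw [h.mul m7_b1 m7_b2]; exact h.conj m7_h m7_b2 (m7_mul m7_b1 m7_b2) (by decide +kernel)
  have k3 := h.conj_t m7_h
  have m1 := h.not_conj m7_b2 s2
  have m2 := h.nm m7_b2
  have m3 := h.nm' m7_b1 m7_b2
  generalize μ b1M = a at *
  generalize μ b2M = b at *
  generalize μ hM = k at *
  have key : ∀ x, x * (t * a) = t * a * x → g⁻¹ * x * g * t = t * (g⁻¹ * x * g) := fun x e => by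
    rw [← hg] at e
    calc _ = g⁻¹ * (x * (g * t * g⁻¹)) * g := by group
      _ = _ := by rw [e]; group
  have sq : ∀ x : G, x * x = 1 → g⁻¹ * x * g * (g⁻¹ * x * g) = 1 := fun x e => by
    calc _ = g⁻¹ * (x * x) * g := by group
      _ = 1 := by rw [e]; group
  obtain ⟨A, hA, eA⟩ := h.cover _ (key a (by rw [← mul_assoc, t1]))
  obtain ⟨B, hB, eB⟩ := h.cover _ (key b (by rw [← mul_assoc, t2, mul_assoc, mul_assoc, c12]))
  have e0 : g⁻¹ * t * g = t * (g⁻¹ * a * g) := by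
    calc g⁻¹ * t * g = g⁻¹ * (t * a * a) * g := by rw [mul_assoc t, s1, mul_one]
      _ = _ := by rw [← hg]; group
  have a2 : μ A * μ A = 1 := by
    rcases eA with e | e
    · rw [← e, sq a s1]
    · rw [← h.sq_t hA, ← e, sq a s1]
  have b2 : μ B * μ B = 1 := by
    rcases eB with e | e
    · rw [← e, sq b s2]
    · rw [← h.sq_t hB, ← e, sq b s2]
  replace eA := eA.resolve_right fun e => h.not_conj hA a2 g (by
    have : μ A = g⁻¹ * t * g := by rw [e0, e, ← mul_assoc, ← h.comm hA, mul_assoc, h.tt, mul_one]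
    rw [this]; group)
  have cAB : μ A * μ B = μ B * μ A := by
    have : g⁻¹ * a * g * (g⁻¹ * b * g) = g⁻¹ * b * g * (g⁻¹ * a * g) := by
      calc _ = g⁻¹ * (a * b) * g := by group
        _ = _ := by rw [c12]; group
    rw [eA] at this
    rcases eB with e | e <;> rw [e] at this
    · exact this
    · rw [mul_assoc (μ B), ← h.comm hA, ← mul_assoc, ← mul_assoc] at this
      exact mul_right_cancel this
  have cj : ∀ {x y : G}, g⁻¹ * x * g = g⁻¹ * y * g → x = y := fun e => by simpa using e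
  obtain ⟨L, hL, l1, l2⟩ := four7 hA hB ((h.sq_iff hA).1 a2) ((h.sq_iff hB).1 b2)
    (fun e => n1 (cj (by rw [eA, e, h.one]; group)))
    (fun e => by
      rw [e, h.one] at eB
      rcases eB with e | e
      · exact n2 (cj (by rw [e]; group))
      · exact m3 (cj (by rw [e, t1, ← hg]; group)))
    (fun e => by
      rw [← e, ← eA] at eB
      rcases eB with e | e
      · exact n12 (cj e).symm
      · exact m2 (cj (by rw [e, e0, eA, h.comm hA])))
    ((h.mul_eq hA hB hB hA).1 cAB)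
  have l3 := h.conj hL hA hB l1
  have l4 := h.conj hL hB (m7_mul hA hB) l2
  have l5 := h.conj_t hL
  rw [← h.mul hA hB] at l4
  replace eB := eB.resolve_right fun e => m1 (g * (μ L)⁻¹ * g⁻¹) (by
    have : b = g * (μ L * (g⁻¹ * t * g) * (μ L)⁻¹) * g⁻¹ := by
      rw [e0, eA, ← h.comm hA, show μ L * (μ A * t) * (μ L)⁻¹ =
        μ L * μ A * (μ L)⁻¹ * (μ L * t * (μ L)⁻¹) by group, l3, l5, ← e]
      group
    rw [this]; group)
  rw [← eA, ← eB] at l3 l4
  generalize μ L = l at l3 l4 l5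
  have p1 : g * l * g⁻¹ * a * (g * l * g⁻¹)⁻¹ = b := by
    calc _ = g * (l * (g⁻¹ * a * g) * l⁻¹) * g⁻¹ := by group
      _ = b := by rw [l3]; group
  have p2 : g * l * g⁻¹ * b * (g * l * g⁻¹)⁻¹ = a * b := by
    calc _ = g * (l * (g⁻¹ * b * g) * l⁻¹) * g⁻¹ := by group
      _ = _ := by rw [l4]; group
  have p3 : g * l * g⁻¹ * t * (g * l * g⁻¹)⁻¹ = t * (a * b) := by
    calc _ = g * (l * (g⁻¹ * t * g) * l⁻¹) * g⁻¹ := by group
      _ = g * (l * t * l⁻¹) * g⁻¹ * (g * l * g⁻¹ * a * (g * l * g⁻¹)⁻¹) := by rw [e0]; group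
      _ = _ := by rw [l5, hg, p1, mul_assoc]
  generalize g * l * g⁻¹ = y at p1 p2 p3
  have q1 : k⁻¹ * b * k = a := by rw [← k1]; group
  have q2 : k⁻¹ * (a * b) * k = b := by rw [← k2]; group
  have q3 : k⁻¹ * t * k = t := by nth_rw 1 [← k3]; group
  have q4 : ∀ z, k⁻¹ * (k⁻¹ * y) * k * z * (k⁻¹ * (k⁻¹ * y) * k)⁻¹ =
      k⁻¹ * (k⁻¹ * (y * (k * z * k⁻¹) * y⁻¹) * k) * k := fun z => by simp [mul_assoc]
  have q5 : ∀ z w, k⁻¹ * (z * w) * k = k⁻¹ * z * k * (k⁻¹ * w * k) := fun z w => by group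
  refine ⟨k⁻¹ * (k⁻¹ * y) * k, ?_, ?_, ?_⟩
  · rw [q4, k3, p3, q5 t, q3, q2, q5, q3, q1]
  · rw [q4, k1, p2, q2, q1]
  · rw [q4, k2, show y * (a * b) * y⁻¹ = y * a * y⁻¹ * (y * b * y⁻¹) by group, p1, p2, q5 b, q1, q2,
      q2]

end MU

section Loc
variable {t : G} {M W : Subgroup G} {θ : ℕ → G} (L : Loc t M W θ)
include L

theorem nW (g : G) : g ∈ N[W] := by
  have := L.nW
  rw [normalizer_eq_top]; exact mem_top g

theorem WC {w : G} (hw : w ∈ W) : w ∈ C[W] := mem_C.2 fun _ hv => comm_of_sq L.sq hv hw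

theorem VM : VV θ ≤ M := (VV_le_T0 θ).trans L.syl.le

theorem thW {v : ℕ} (hv : v < 16) : θ v ∈ W := L.le (L.tm.bV.mem v hv)

/-- an element commuting with `t` modulo `W` -/
theorem L1 {x : G} (h : x * t * x⁻¹ * t⁻¹ ∈ W) : ∃ w ∈ W, w * x * t = t * (w * x) := by
  have tt := L.spl.sq
  have h1 := norm_conj' (nW L t) h
  rw [mul_assoc t⁻¹, inv_mul_cancel_right, L.spl.inv] at h1
  obtain ⟨w, hw, e⟩ := L.onto _ (L.fix _ h1 (comm_of_invs tt (L.sq _ h1) (by
    rw [← mul_assoc t t, tt, one_mul]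
    calc _ = x * (t * t) * x⁻¹ := by group
      _ = 1 := by rw [tt]; group)).symm)
  rw [← mul_assoc t t, tt, one_mul] at e
  refine ⟨w⁻¹, inv_mem hw, ?_⟩
  calc w⁻¹ * x * t = w⁻¹ * (x * t * x⁻¹) * x := by group
    _ = _ := by rw [← e]; group

theorem L0 {m : G} (hm : m ∈ M) : m * t ∉ W := fun h => L.spl.mul_nm hm (VM L (L.fix _ h (by
  rw [← mul_assoc, L.spl.comm m hm])))

theorem same {a b : G} (ha : a ∈ M) (hb : b ∈ M) {A : ℕ} (h : Act θ a A) (k : Act θ b A) :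
    b * a⁻¹ ∈ VV θ := L.cen _ (mul_mem hb (inv_mem ha)) (L.tm.bV.same' h k)

theorem exists_mu [W.Normal] : ∃ μ : ℕ → G ⧸ W, MU (t : G ⧸ W) μ ∧
    ∀ m ∈ M, ∀ A, Act θ m A → (m : G ⧸ W) = μ A := by
  choose! r r1 r2 using L.real
  have key : ∀ m ∈ M, ∀ A, Act θ m A → (m : G ⧸ W) = r A := fun m hm A a => by
    obtain ⟨B, hB, b⟩ := L.act m hm
    obtain rfl := L.tm.bV.unique a b
    rw [QuotientGroup.eq_iff_div_mem, div_eq_mul_inv]
    exact L.le (same L (r1 A hB) hm (r2 A hB) a)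
  refine ⟨fun A => r A, ⟨by rw [← QuotientGroup.mk_mul, L.spl.sq]; rfl, fun {A B} hA hB => ?_,
    fun {A B} hA hB e => ?_, fun {A} hA => ?_, fun {A} hA e => ?_, fun g e => ?_⟩, key⟩
  · exact key _ (mul_mem (r1 A hA) (r1 B hB)) _ ((r2 A hA).mul (r2 B hB))
  · have := L.tm.bV.act_mul_right (centralizer_le L.le (WC L (QuotientGroup.eq.1 e))) (r2 A hA)
    rw [mul_inv_cancel_left] at this
    exact L.tm.bV.unique this (r2 B hB)
  · rw [← QuotientGroup.mk_mul, L.spl.comm _ (r1 A hA)]; rfl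
  · exact L0 L (inv_mem (r1 A hA)) (QuotientGroup.eq.1 e)
  · obtain ⟨g, rfl⟩ := QuotientGroup.mk_surjective g
    obtain ⟨w, hw, c⟩ := L1 L (x := g) ((QuotientGroup.eq_one_iff _).1 (by
      simp only [QuotientGroup.mk_mul, QuotientGroup.mk_inv, e]; group))
    have e1 : ((w * g : G) : G ⧸ W) = g := by
      rw [QuotientGroup.mk_mul, (QuotientGroup.eq_one_iff _).2 hw, one_mul]
    obtain ⟨m, hm, d⟩ := L.spl.cover' c
    obtain ⟨A, hA, a⟩ := L.act m hm
    refine ⟨A, hA, d.imp (fun d => ?_) fun d => ?_⟩ <;> rw [← e1, d, ← key m hm A a]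
    rfl

end Loc

theorem trb : TrbStmt.{u} := by
  intro G _ _ t M W θ L c
  have := L.nW
  obtain ⟨μ, h, k⟩ := exists_mu L
  obtain ⟨g, hg⟩ := isConj_iff.1 c
  have e1 := k _ (L.mem 16 (by norm_num)) _ (L.tm.act (by norm_num))
  have e2 := k _ (L.mem 32 (by norm_num)) _ (L.tm.act (by norm_num))
  rw [am_16] at e1
  rw [am_32] at e2
  obtain ⟨x, x1, x2, x3⟩ := h.trb (g := g) (by
    rw [← e1]; exact congrArg (QuotientGroup.mk (s := W)) hg)
  obtain ⟨x, rfl⟩ := QuotientGroup.mk_surjective x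
  refine ⟨x, ?_, ?_, ?_⟩ <;> rw [← QuotientGroup.eq_one_iff] <;>
    simp only [QuotientGroup.mk_mul, QuotientGroup.mk_inv, e1, e2, x1, x2, x3, mul_inv_cancel]

end Cfsg.Agent.H66.ML
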