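import Cfsg.Agent.H19.S93Kit

/-!
# Outer involutions of an odd central cover
-/

set_option autoImplicit false
open Subgroup

namespace Cfsg.Agent.H66.S93Out
open Cfsg.Agent.H46.S95 Cfsg.Agent.H19.S93Q

variable {Γ Δ : Type} [Group Γ] [Group Δ] {p : Δ →* Γ}

theorem root (hv : Cv p) {α : MulAut Δ} {z : Δ} (h : p z = 1) (e : α z = z⁻¹) :
    ∃ y, p y = 1 ∧ α y = y⁻¹ ∧ y * y * z = 1 := by
  obtain ⟨k, hk⟩ := hv.ker_odd h
  exact ⟨z ^ k, by rw [map_pow, h, one_pow], by rw [map_pow, e, inv_pow],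
    by rw [← pow_add, ← pow_succ, ← two_mul, ← hk, pow_orderOf_eq_one]⟩

theorem out : H19.S93Q.OutStmt := by
  intro Γ Δ _ _ p hv hO α a2 na
  obtain ⟨θ, -, hθ, hi⟩ := hv.exists_indHom
  obtain ⟨E, hE, hc⟩ := hO (θ α) (by rw [← map_mul, a2, map_one]) fun h => na ((hi α).1 h)
  have aa : ∀ x, α (α x) = x := fun x => by rw [← MulAut.mul_apply, a2, MulAut.one_apply]
  let E' : Subgroup Δ :=
    { carrier := {e | e * e = 1 ∧ p e ∈ E}
      one_mem' := ⟨mul_one 1, by simp⟩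
      mul_mem' := fun {a b} ha hb => ⟨by
        have := (hE _ (mul_mem ha.2 hb.2)).1
        have c := hv.comm_of (l := a) hb.1 (by
          rw [← inv_eq_of_mul_eq_one_right this, mul_inv_rev,
            inv_eq_of_mul_eq_one_right (hE _ ha.2).1, inv_eq_of_mul_eq_one_right (hE _ hb.2).1])
        rw [mul_assoc, ← mul_assoc b, ← c, mul_assoc, hb.1, mul_one, ha.1],
        by rw [map_mul]; exact mul_mem ha.2 hb.2⟩
      inv_mem' := fun {a} ha => by rwa [inv_eq_of_mul_eq_one_right ha.1] }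
  refine ⟨E', fun e he => ?_, hc.imp (fun h => ?_) fun ⟨h1, X, h2, h3⟩ => ⟨fun h => h1 ?_,
    α.toMonoidHom.eqLocus (MonoidHom.id Δ) ⊓ X.comap p, fun x hx => hx.1, fun e he => ?_⟩⟩
  · obtain ⟨-, h1, w, h2⟩ := hE _ he.2
    have fx : α e = e := hv.inv_eq (by rw [← map_mul, he.1, map_one]) he.1 (by rw [← hθ, h1])
    obtain ⟨w, rfl⟩ := hv.surj w
    have hz : p (e⁻¹ * ((α w)⁻¹ * w)) = 1 := by
      rw [map_mul, map_mul, map_inv, map_inv, ← hθ, ← h2, inv_mul_cancel]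
    obtain ⟨y, y1, y2, y3⟩ := root hv (α := α) hz (by
      have c := hv.cen _ (show p (e⁻¹ * ((α w)⁻¹ * w))⁻¹ = 1 by rw [map_inv, hz, inv_one]) e
      rw [← mul_right_inj e, ← c, map_mul, map_mul, map_inv, map_inv, fx, aa]
      simp [mul_assoc, he.1])
    refine ⟨he.1, fx, w * y, ?_⟩
    rw [map_mul, y2, mul_inv_rev, inv_inv, mul_assoc, ← mul_assoc _ w, ← hv.cen y y1, ← mul_assoc,
      ← mul_inv_cancel_left e ((α w)⁻¹ * w), ← mul_assoc,
      hv.cen _ (show p (y * y) = 1 by rw [map_mul, y1, one_mul]) e, mul_assoc, y3, mul_one]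
  · rw [← h]
    refine Nat.card_congr (Equiv.ofBijective (fun e : E' => (⟨p e, e.2.2⟩ : E))
      ⟨fun a b e => Subtype.ext (hv.inv_eq a.2.1 b.2.1 (congrArg Subtype.val e)), fun c => ?_⟩)
    obtain ⟨a, h1, h2⟩ := hv.lift_inv (hE _ c.2).1
    exact ⟨⟨a, h1, h2 ▸ c.2⟩, Subtype.ext h2⟩
  · refine eq_bot_iff.2 fun c hc => ?_
    obtain ⟨a, h1, rfl⟩ := hv.lift_inv (hE _ hc).1
    rw [mem_bot.1 (h.le (show a ∈ E' from ⟨h1, hc⟩)), map_one]
    exact one_mem _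
  · have le : X ≤ (α.toMonoidHom.eqLocus (MonoidHom.id Δ) ⊓ X.comap p).map p := fun x hx => by
      obtain ⟨x, rfl⟩ := hv.surj x
      have hz : p ((α x)⁻¹ * x) = 1 := by rw [map_mul, map_inv, ← hθ, h2 _ hx, inv_mul_cancel]
      obtain ⟨y, y1, y2, y3⟩ := root hv (α := α) hz (by rw [map_mul, map_inv, aa]; group)
      have e1 : p (x * y) = p x := by rw [map_mul, y1, mul_one]
      refine ⟨x * y, ⟨?_, mem_comap.2 (e1 ▸ hx)⟩, e1⟩
      change α (x * y) = x * y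
      rw [map_mul, y2, mul_inv_eq_iff_eq_mul, mul_assoc, ← mul_inv_cancel_left (α x) x,
        mul_assoc, mul_inv_cancel_left,
        ← hv.cen _ (show p (y * y) = 1 by rw [map_mul, y1, one_mul]), y3, mul_one]
    obtain ⟨a, ha, e1⟩ := (map_commutator _ _ p).ge (commutator_mono le le (h3 he.2))
    obtain ⟨m, -, m1, m2⟩ := hv.odd_pow (a := a) (by rw [e1, ← map_mul, he.1, map_one])
    exact hv.inv_eq m1 he.1 (m2.trans e1) ▸ pow_mem ha m

end Cfsg.Agent.H66.S93Out
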