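import Cfsg.Agent.H29.SpG2
import Cfsg.Agent.H66.T6Defs2

/-!
# SP, piece H1C: the movers are involutions
-/

set_option autoImplicit false

namespace Cfsg.Agent.H66.T6.H60.SpH1c

open Cfsg Cfsg.Agent.H63 Cfsg.Agent.H63.SL Cfsg.Agent.H26 Cfsg.Agent.H68.Sp Cfsg.Agent.H29.SpK
open Cfsg.Agent.H78 hiding tv tv_zero
open Subgroup Module

universe u v

section Ab

variable {G : Type u} [Group G] {A : Subgroup G} (hc : ∀ x ∈ A, ∀ y ∈ A, Commute x y)
include hc

theorem r1 {x1 x2 x3 x4 x5 x6 : G} (m1 : x1 ∈ A) (m2 : x2 ∈ A) (m3 : x3 ∈ A) (m4 : x4 ∈ A)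
    (m5 : x5 ∈ A) (m6 : x6 ∈ A) :
    x1 * x2 * x3 * x4 * x5 * x6 = x1 * x3 * x5 * (x2 * x4 * x6) := by
  let : CommGroup A :=
    { (inferInstance : Group A) with mul_comm := fun x y => Subtype.ext (hc _ x.2 _ y.2) }
  lift x1 to A using m1
  lift x2 to A using m2
  lift x3 to A using m3
  lift x4 to A using m4
  lift x5 to A using m5
  lift x6 to A using m6
  have : x1 * x2 * x3 * x4 * x5 * x6 = x1 * x3 * x5 * (x2 * x4 * x6) := by ac_rfl
  exact congrArg Subtype.val this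

theorem r4 {x1 x2 x3 x4 x5 x6 : G} (m1 : x1 ∈ A) (m2 : x2 ∈ A) (m3 : x3 ∈ A) (m4 : x4 ∈ A)
    (m5 : x5 ∈ A) (m6 : x6 ∈ A) :
    x1 * (x2 * x3 * x4) * (x5 * x6) = x3 * x6 * x4 * (x1 * x2 * x5) := by
  let : CommGroup A :=
    { (inferInstance : Group A) with mul_comm := fun x y => Subtype.ext (hc _ x.2 _ y.2) }
  lift x1 to A using m1
  lift x2 to A using m2
  lift x3 to A using m3
  lift x4 to A using m4
  lift x5 to A using m5
  lift x6 to A using m6
  have : x1 * (x2 * x3 * x4) * (x5 * x6) = x3 * x6 * x4 * (x1 * x2 * x5) := by ac_rfl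
  exact congrArg Subtype.val this

variable (h2 : ∀ x ∈ A, x * x = 1)
include h2

theorem r2 {z x1 x2 x3 x4 x5 x6 : G} (m0 : z ∈ A) (m1 : x1 ∈ A) (m2 : x2 ∈ A) (m3 : x3 ∈ A)
    (m4 : x4 ∈ A) (m5 : x5 ∈ A) (m6 : x6 ∈ A) :
    z * (x1 * x2 * x3 * (x4 * x5) * x6) * (x1 * x4 * x6) = x2 * (z * x5) * x3 := by
  let : CommGroup A :=
    { (inferInstance : Group A) with mul_comm := fun x y => Subtype.ext (hc _ x.2 _ y.2) }
  have sq : ∀ x : A, x * x = 1 := fun x => Subtype.ext (h2 _ x.2)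
  lift z to A using m0
  lift x1 to A using m1
  lift x2 to A using m2
  lift x3 to A using m3
  lift x4 to A using m4
  lift x5 to A using m5
  lift x6 to A using m6
  have : z * (x1 * x2 * x3 * (x4 * x5) * x6) * (x1 * x4 * x6) = x2 * (z * x5) * x3 :=
    calc _ = (x1 * x1) * (x4 * x4) * (x6 * x6) * (x2 * (z * x5) * x3) := by ac_rfl
      _ = _ := by simp only [sq, one_mul]
  exact congrArg Subtype.val this

theorem r3 {τ z x1 x2 x3 x4 x5 : G} (mt : τ ∈ A) (m0 : z ∈ A) (m1 : x1 ∈ A) (m2 : x2 ∈ A)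
    (m3 : x3 ∈ A) (m4 : x4 ∈ A) (m5 : x5 ∈ A)
    (H : τ * (x1 * x2 * (x3 * x4) * (x1 * x5)) = z * (x1 * (x5 * x3))) :
    x1 = τ * x2 * x4 * z := by
  let : CommGroup A :=
    { (inferInstance : Group A) with mul_comm := fun x y => Subtype.ext (hc _ x.2 _ y.2) }
  have sq : ∀ x : A, x * x = 1 := fun x => Subtype.ext (h2 _ x.2)
  lift τ to A using mt
  lift z to A using m0
  lift x1 to A using m1
  lift x2 to A using m2
  lift x3 to A using m3
  lift x4 to A using m4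
  lift x5 to A using m5
  have H' : τ * (x1 * x2 * (x3 * x4) * (x1 * x5)) = z * (x1 * (x5 * x3)) := Subtype.ext H
  have : x1 = τ * x2 * x4 * z :=
    calc x1 = (z * z) * (x5 * x5) * (x3 * x3) * x1 := by simp only [sq, one_mul]
      _ = z * (x1 * (x5 * x3)) * (z * x5 * x3) := by ac_rfl
      _ = τ * (x1 * x2 * (x3 * x4) * (x1 * x5)) * (z * x5 * x3) := by rw [H']
      _ = (x1 * x1) * (x5 * x5) * (x3 * x3) * (τ * x2 * x4 * z) := by ac_rfl
      _ = _ := by simp only [sq, one_mul]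
  exact congrArg Subtype.val this

end Ab

variable {F V : Type v} [Field F] [AddCommGroup V] [Module F V] {G : Type u} [Group G]
  {P : PForm F V} {φ : P.E →* G} {L : Subgroup G} {k : ℕ} {t : G} {c0 : F}

theorem ms {S : Set V} {x : V} (hx : x ∈ S) (c : F) : c • x ∈ Submodule.span F S :=
  Submodule.smul_mem _ c (Submodule.subset_span hx)

theorem m1 {S : Set V} {x : V} (hx : x ∈ S) : x ∈ Submodule.span F S := Submodule.subset_span hx

theorem li_of {u v w : V} (H : ∀ a b c : F, a • u + b • v + c • w = 0 → a = 0 ∧ b = 0 ∧ c = 0) :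
    LinearIndependent F ![u, v, w] := by
  rw [Fintype.linearIndependent_iff]
  intro g hg
  obtain ⟨h0, h1, h2⟩ := H (g 0) (g 1) (g 2) (by simpa [Fin.sum_univ_three] using hg)
  intro i
  fin_cases i
  exacts [h0, h1, h2]

theorem li_dual {u v w x y : V} (hux : P.f u x ≠ 0) (hvx : P.f v x = 0) (hwx : P.f w x = 0)
    (hvy : P.f v y ≠ 0) (hwy : P.f w y = 0) (hw : w ≠ 0) : LinearIndependent F ![u, v, w] := by
  refine li_of fun a b c H => ?_
  have h1 := congrArg (P.f · x) H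
  simp only [P.f_add_left, P.f_smul_left, hvx, hwx, mul_zero, add_zero, P.f_zero_left] at h1
  have ha : a = 0 := (mul_eq_zero.1 h1).resolve_right hux
  rw [ha, zero_smul, zero_add] at H
  have h2 := congrArg (P.f · y) H
  simp only [P.f_add_left, P.f_smul_left, hwy, mul_zero, add_zero, P.f_zero_left] at h2
  have hb : b = 0 := (mul_eq_zero.1 h2).resolve_right hvy
  rw [hb, zero_smul, zero_add] at H
  exact ⟨ha, hb, (smul_eq_zero.1 H).resolve_right hw⟩

theorem i3_13 {u v w : V} (H : I3 P u v w) : I2 P u w :=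
  ⟨H.2.1, LinearIndependent.pair_iff.2 fun a c h0 => by
    have := li3 H.2.2.2 (a := a) (b := 0) (c := c) (by rw [zero_smul, add_zero, h0])
    exact ⟨this.1, this.2.2⟩⟩

theorem i3_12 {u v w : V} (H : I3 P u v w) : I2 P u v :=
  ⟨H.1, LinearIndependent.pair_iff.2 fun a c h0 => by
    have := li3 H.2.2.2 (a := a) (b := c) (c := 0) (by rw [zero_smul, add_zero, h0])
    exact ⟨this.1, this.2.1⟩⟩

theorem span_smul (u v : V) {c : F} (hc : c ≠ 0) :
    Submodule.span F {u, c • v} = Submodule.span F {u, v} := by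
  rw [Submodule.span_insert, Submodule.span_insert,
    Submodule.span_singleton_smul_eq (IsUnit.mk0 c hc)]

theorem YW_smul (u v : V) {c : F} (hc : c ≠ 0) : YW P φ {u, c • v} = YW P φ {u, v} := by
  have : fixS P {u, c • v} = fixS P {u, v} := by
    ext e
    change (∀ x ∈ ({u, c • v} : Set V), e.1 x = x) ↔ ∀ x ∈ ({u, v} : Set V), e.1 x = x
    simp only [Set.mem_insert_iff, Set.mem_singleton_iff, forall_eq_or_imp, forall_eq, map_smul]
    exact and_congr_right fun _ => ⟨fun H => smul_right_injective V hc H, fun H => by rw [H]⟩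
  rw [YW, YW, this]

theorem mv_smul {u v : V} {c : F} (hc : c ≠ 0) {b : F} {p : G} :
    Mv P φ t c0 u (c • v) b p ↔ Mv P φ t c0 u v (b * c) p := by
  constructor
  · intro H
    refine ⟨YW_smul (φ := φ) u v hc ▸ H.cent, by rw [H.mv, smul_smul],
      by rw [H.sq, smul_smul, mul_assoc], fun h0 => ?_⟩
    rw [← S2_congr (span_smul u v hc)]
    exact H.zero ((mul_eq_zero.1 h0).resolve_right hc)
  · intro H
    refine ⟨(YW_smul (φ := φ) u v hc).symm ▸ H.cent, by rw [H.mv, smul_smul],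
      by rw [H.sq, smul_smul, mul_assoc], fun h0 => ?_⟩
    rw [S2_congr (span_smul u v hc)]
    exact H.zero (by rw [h0, zero_mul])

theorem comm_fix {u v : V} {b : F} {p : G} (hp : Mv P φ t c0 u v b p) {e : P.E} (hu : e.1 u = u)
    (hv : e.1 v = v) : φ e * p * (φ e)⁻¹ = p := by
  have : φ e * p = p * φ e := mem_centralizer_iff.1 hp.cent (φ e) ⟨e, by
    rintro x (rfl | rfl)
    exacts [hu, hv], rfl⟩
  rw [this, mul_inv_cancel_right]

section SG

variable (h : SG P φ L k)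
include h

theorem S2_le_YW {S T : Set V} (H : ∀ y ∈ T, ∀ x ∈ S, P.f y x = 0) : S2 P φ S ≤ YW P φ T := by
  refine (closure_le _).2 ?_
  rintro _ ⟨x, hx, c, rfl⟩
  exact ⟨eE P x 0 c, fun y hy =>
    eE_fix h (PForm.mem_perp_span.2 (H y hy) x hx) (P.f_zero_right y) c, rfl⟩

theorem conj_S2 (e : P.E) {S T : Set V} (H : ∀ x ∈ S, e.1 x ∈ Submodule.span F T) {g : G}
    (hg : g ∈ S2 P φ S) : φ e * g * (φ e)⁻¹ ∈ S2 P φ T := by
  have : S2 P φ S ≤ (S2 P φ T).comap (MulAut.conj (φ e)).toMonoidHom := by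
    refine (closure_le _).2 ?_
    rintro _ ⟨x, hx, c, rfl⟩
    change φ e * tv P φ x c * (φ e)⁻¹ ∈ S2 P φ T
    rw [conj_tv h]
    refine tv_mem_S2 ?_ c
    have h1 : Submodule.span F S ≤ (Submodule.span F T).comap (e.1 : V →ₗ[F] V) :=
      Submodule.span_le.2 H
    exact h1 hx
  exact this hg

theorem comm_mv {u v : V} {b : F} {p : G} (hp : Mv P φ t c0 u v b p) {S : Set V}
    (hu : ∀ x ∈ S, P.f u x = 0) (hv : ∀ x ∈ S, P.f v x = 0) {g : G} (hg : g ∈ S2 P φ S) :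
    g * p = p * g :=
  mem_centralizer_iff.1 hp.cent g (S2_le_YW h (by
    rintro y (rfl | rfl)
    exacts [hu, hv]) hg)

theorem mv_conj (ht : t ∈ C[L]) (e : P.E) {u v : V} {b : F} {p : G}
    (hp : Mv P φ t c0 u v b p) : Mv P φ t c0 (e.1 u) (e.1 v) b (φ e * p * (φ e)⁻¹) := by
  have hte : φ e * t = t * φ e := mem_centralizer_iff.1 ht _ (φ_mem h e)
  refine ⟨mem_centralizer_iff.2 ?_, ?_, ?_, fun h0 => conj_S2 h e ?_ (hp.zero h0)⟩
  · rintro _ ⟨n, hn, rfl⟩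
    have h1 := comm_fix hp (e := e⁻¹ * n * e)
      (by rw [emul, emul, hn _ (by simp), einv_apply])
      (by rw [emul, emul, hn _ (by simp), einv_apply])
    rw [map_mul, map_mul, map_inv] at h1
    conv_rhs => rw [← h1]
    group
  · have h1 : t = φ e * t * (φ e)⁻¹ := by rw [hte, mul_inv_cancel_right]
    calc _ = φ e * p * (φ e)⁻¹ * (φ e * t * (φ e)⁻¹) * (φ e * p * (φ e)⁻¹)⁻¹ := by rw [← h1]
      _ = φ e * (p * t * p⁻¹) * (φ e)⁻¹ := by group
      _ = (φ e * t * (φ e)⁻¹) * (φ e * Es P φ u (b • v) * (φ e)⁻¹) := by rw [hp.mv]; group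
      _ = _ := by rw [← h1, conj_Es h, map_smul]
  · calc _ = φ e * (p * p) * (φ e)⁻¹ := by group
      _ = _ := by rw [hp.sq, conj_Es h, map_smul]
  · rintro x (rfl | rfl)
    · exact m1 (by simp)
    · exact m1 (by simp)

theorem iso2 {u v : V} (huv : P.f u v = 0) :
    ∀ x ∈ ({u, v} : Set V), ∀ y ∈ ({u, v} : Set V), P.f x y = 0 := by
  have := PForm.f_symm_zero huv
  rintro x (rfl | rfl) y (rfl | rfl) <;> first | exact fs h _ | assumption

theorem iso3 {u v w : V} (huv : P.f u v = 0) (huw : P.f u w = 0) (hvw : P.f v w = 0) :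
    ∀ x ∈ ({u, v, w} : Set V), ∀ y ∈ ({u, v, w} : Set V), P.f x y = 0 := by
  have := PForm.f_symm_zero huv
  have := PForm.f_symm_zero huw
  have := PForm.f_symm_zero hvw
  rintro x (rfl | rfl | rfl) y (rfl | rfl | rfl) <;> first | exact fs h _ | assumption

theorem iso4 {u v w w' : V} (huv : P.f u v = 0) (huw : P.f u w = 0) (hvw : P.f v w = 0)
    (huw' : P.f u w' = 0) (hvw' : P.f v w' = 0) (hww' : P.f w w' = 0) :
    ∀ x ∈ ({u, v, w, w'} : Set V), ∀ y ∈ ({u, v, w, w'} : Set V), P.f x y = 0 := by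
  have := PForm.f_symm_zero huv
  have := PForm.f_symm_zero huw
  have := PForm.f_symm_zero hvw
  have := PForm.f_symm_zero huw'
  have := PForm.f_symm_zero hvw'
  have := PForm.f_symm_zero hww'
  rintro x (rfl | rfl | rfl | rfl) y (rfl | rfl | rfl | rfl) <;>
    first | exact fs h _ | assumption

end SG

theorem abel_S2 (g2 : G2 P φ) {S : Set V} (hS : ∀ x ∈ S, ∀ y ∈ S, P.f x y = 0) :
    ∀ x ∈ S2 P φ S, ∀ y ∈ S2 P φ S, Commute x y := fun x hx y hy => by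
  obtain ⟨-, h1, h2, h3, -⟩ := g2.el S hS
  exact mem_centralizer_iff.1 (h3 hy) x (h2 (h1 hx))

theorem mv_zero (h : SG P φ L k) (g2 : G2 P φ) (ht : t ∈ C[L]) {u v : V} (huv : P.f u v = 0)
    {s : G} (hs : s ∈ S2 P φ {u, v}) : Mv P φ t c0 u v 0 s := by
  obtain ⟨h0, -, -, h3, -⟩ := g2.el _ (iso2 h huv)
  refine ⟨h3 hs, ?_, by rw [h0 s hs, mul_zero, zero_smul, Es_zero], fun _ => hs⟩
  have : s * t = t * s := mem_centralizer_iff.1 ht _ (h.rng ▸ H60.SpG2a.S2_le_range _ hs)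
  rw [this, zero_smul, Es_zero, mul_one, mul_inv_cancel_right]

variable (P φ t c0) in
/-- The formula for the conjugates of a mover. -/
def Rel (u v : V) (p : G) (a β s : F) : Prop :=
  ∀ w (e : P.E), I3 P u v w → e.1 u = u → e.1 v = v + w → ∃ p', Mv P φ t c0 u w 1 p' ∧
    φ e * p * (φ e)⁻¹ = p' * (tv P φ v a * Es P φ u (β • v) * Es P φ v (s • w)) * p

theorem eqns_Rel : True := by have := @Rel.eq_1.{0, 0}; trivial

theorem exists_rel (h : Ctx0 P φ L k t) (hB : HB0 P φ L t c0) {u v : V} {p : G}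
    (hp : Mv P φ t c0 u v 1 p) : ∃ a β s, Rel P φ t c0 u v p a β s := by
  have hs := h.toSG
  by_cases hex : ∃ w, ∃ e : P.E, I3 P u v w ∧ e.1 u = u ∧ e.1 v = v + w
  swap
  · exact ⟨0, 0, 0, fun w e h1 h2 h3 => (hex ⟨w, e, h1, h2, h3⟩).elim⟩
  obtain ⟨w, e, h3, eu, ev⟩ := hex
  have hq := mv_conj hs h.tc.tc e hp
  rw [eu, ev] at hq
  obtain ⟨p', hp'⟩ := hB.ex u w (i3_13 h3) 1
  have hσ := hB.add3 u v w h3 p p' _ hp hp' hq
  obtain ⟨huv, huw, hvw, li⟩ := h3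
  have hI := iso3 hs huv huw hvw
  have mu : u ∈ ({u, v, w} : Set V) := by simp
  have mv : v ∈ ({u, v, w} : Set V) := by simp
  have mw : w ∈ ({u, v, w} : Set V) := by simp
  have z1 : p * p ∈ S2 P φ {u, v, w} := hp.sq ▸ Es_mem_S2 hs (m1 mu) (ms mv _)
  have z2 : p' * p' ∈ S2 P φ {u, v, w} := hp'.sq ▸ Es_mem_S2 hs (m1 mu) (ms mw _)
  obtain ⟨a1, a, a3, β, d, s, hx⟩ := (h.g2.crd3 u v w huv huw hvw _).1
    (mul_mem (inv_mem z2) (mul_mem (inv_mem z1) hσ))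
  rw [r1 (abel_S2 h.g2 hI) (tv_mem_S2 (m1 mu) _) (tv_mem_S2 (m1 mv) _) (tv_mem_S2 (m1 mw) _)
    (Es_mem_S2 hs (m1 mu) (ms mv _)) (Es_mem_S2 hs (m1 mu) (ms mw _))
    (Es_mem_S2 hs (m1 mv) (ms mw _))] at hx
  have hp'' := hB.mul u w (i3_13 ⟨huv, huw, hvw, li⟩) 1 0 _ _ hp'
    (mv_zero hs h.g2 h.tc.tc huw ((h.g2.crd2 u w huw _).2 ⟨a1, a3, d, rfl⟩))
  rw [add_zero] at hp''
  have hc := comm_mv hs hp (hI u mu) (hI v mv) (mul_mem (inv_mem z1) hσ)
  have key : φ e * p * (φ e)⁻¹ = p' * (tv P φ u a1 * tv P φ w a3 * Es P φ u (d • w)) *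
      (tv P φ v a * Es P φ u (β • v) * Es P φ v (s • w)) * p := by
    rw [mul_assoc p', ← hx, mul_assoc p', mul_assoc (p' * p')⁻¹, hc]
    group
  refine ⟨a, β, s, fun w' e' h3' eu' ev' => ?_⟩
  obtain ⟨y, hy⟩ := h.g1.witt ![u, v, w] ![u, v, w'] li h3'.2.2.2 (by
    have hI' := iso3 hs h3'.1 h3'.2.1 h3'.2.2.1
    intro i j
    rw [hI _ (by fin_cases i <;> simp) _ (by fin_cases j <;> simp),
      hI' _ (by fin_cases i <;> simp) _ (by fin_cases j <;> simp)])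
  have yu : y.1 u = u := hy 0
  have yv : y.1 v = v := hy 1
  have yw : y.1 w = w' := hy 2
  have hm := mv_conj hs h.tc.tc y hp''
  rw [yu, yw] at hm
  refine ⟨_, hm, ?_⟩
  have c1 := comm_fix hp yu yv
  have c2 := comm_fix hp (e := e⁻¹ * y⁻¹ * e')
    (by rw [emul, emul, eu', ← yu, einv_apply, ← eu, einv_apply, eu, yu])
    (by rw [emul, emul, ev', ← yw, ← yv, ← map_add, einv_apply, ← ev, einv_apply, yv])
  rw [map_mul, map_mul, map_inv, map_inv] at c2
  have c3 : φ y * (tv P φ v a * Es P φ u (β • v) * Es P φ v (s • w)) * (φ y)⁻¹ =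
      tv P φ v a * Es P φ u (β • v) * Es P φ v (s • w') := by
    calc _ = (φ y * tv P φ v a * (φ y)⁻¹) * (φ y * Es P φ u (β • v) * (φ y)⁻¹) *
          (φ y * Es P φ v (s • w) * (φ y)⁻¹) := by group
      _ = _ := by rw [conj_tv hs, conj_Es hs, conj_Es hs, map_smul, map_smul, yu, yv, yw]
  calc φ e' * p * (φ e')⁻¹ = φ y * (φ e * ((φ e)⁻¹ * (φ y)⁻¹ * φ e' * p *
        ((φ e)⁻¹ * (φ y)⁻¹ * φ e')⁻¹) * (φ e)⁻¹) * (φ y)⁻¹ := by group
    _ = φ y * (p' * (tv P φ u a1 * tv P φ w a3 * Es P φ u (d • w))) * (φ y)⁻¹ *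
        (φ y * (tv P φ v a * Es P φ u (β • v) * Es P φ v (s • w)) * (φ y)⁻¹) *
        (φ y * p * (φ y)⁻¹) := by rw [c2, key]; group
    _ = _ := by rw [c1, c3]

theorem eE_v (hs : SG P φ L k) {v w x : V} (hvw : P.f v w = 0) (hvx : P.f v x = 1)
    (hwx : P.f w x = 0) : (eE P x w 0).1 v = v + w := by
  rw [Es_apply hs (PForm.f_symm_zero hwx), hvx, hvw, one_smul, zero_smul, add_zero]

theorem conj3 (g a b c : G) :
    g * (a * b * c) * g⁻¹ = (g * a * g⁻¹) * (g * b * g⁻¹) * (g * c * g⁻¹) := by group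

theorem regroup {p p1 p2 p3 X Y Z : G} (c1 : p3 * Y * p = p1 * X * (p2 * Z * p))
    (c3 : X * p2 = p2 * X) (c4 : X * Z * p3 = p3 * (X * Z)) (c5 : Y * p3 = p3 * Y) :
    p1 * p2 * p3 * (X * Z) = p3 * p3 * Y := by
  have c6 : p3 * Y = p1 * p2 * (X * Z) := by
    apply mul_right_cancel (b := p)
    calc _ = p1 * (X * p2) * Z * p := by rw [c1]; group
      _ = _ := by rw [c3]; group
  rw [mul_assoc (p1 * p2), ← c4, ← mul_assoc, ← c6, mul_assoc, c5, mul_assoc]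

theorem rel_one (h : Ctx0 P φ L k t) {u v w x : V} {p : G} {a β s : F}
    (hR : Rel P φ t c0 u v p a β s) (h3 : I3 P u v w) (hux : P.f u x = 0) (hvx : P.f v x = 1)
    (hwx : P.f w x = 0) : a = 0 ∧ β = c0 := by
  have hs := h.toSG
  obtain ⟨huv, huw, hvw, li⟩ := id h3
  have eu : (eE P x w 0).1 u = u := eE_fix hs hux huw 0
  have ew : (eE P x w 0).1 w = w := eE_fix hs hwx (fs hs w) 0
  have ev := eE_v hs hvw hvx hwx
  have e2 : φ (eE P x w 0) * φ (eE P x w 0) = 1 := Es_sq hs x w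
  generalize eE P x w 0 = e at eu ew ev e2
  obtain ⟨p', hp', hq⟩ := hR w e h3 eu ev
  have hI := iso3 hs huv huw hvw
  have mu : u ∈ ({u, v, w} : Set V) := by simp
  have mv : v ∈ ({u, v, w} : Set V) := by simp
  have mw : w ∈ ({u, v, w} : Set V) := by simp
  have c1 : φ e * (φ e * p * (φ e)⁻¹) * (φ e)⁻¹ = p := by
    calc _ = (φ e * φ e) * p * (φ e * φ e)⁻¹ := by group
      _ = p := by rw [e2]; group
  have c2 : φ e * (tv P φ v a * Es P φ u (β • v) * Es P φ v (s • w)) * (φ e)⁻¹ =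
      tv P φ v a * tv P φ w a * Es P φ v (a • w) * (Es P φ u (β • v) * Es P φ u (β • w)) *
        Es P φ v (s • w) := by
    rw [conj3, conj_tv hs, conj_Es hs, conj_Es hs, map_smul, map_smul, eu, ev, ew,
      tv_add_vec hs hvw, smul_add, Es_add0 hs (by rw [fr hs, huv, mul_zero])
        (by rw [fr hs, huw, mul_zero]) (by rw [fr hs, P.f_smul_left, hvw, mul_zero, mul_zero]),
      ← Es_smul hs s (v + w), smul_add, Es_shear' hs, Es_smul hs]
  have n1 := tv_mem_S2 (P := P) (φ := φ) (m1 mv) a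
  have n2 := tv_mem_S2 (P := P) (φ := φ) (m1 mw) a
  have n3 := Es_mem_S2 hs (m1 mv) (ms mw a)
  have n4 := Es_mem_S2 hs (m1 mu) (ms mv β)
  have n5 := Es_mem_S2 hs (m1 mu) (ms mw β)
  have n6 := Es_mem_S2 hs (m1 mv) (ms mw s)
  have n0 := Es_mem_S2 hs (m1 mu) (ms mw (c0 * 1))
  have c3 := comm_mv hs hp' (hI u mu) (hI w mw)
    (mul_mem (mul_mem (mul_mem (mul_mem n1 n2) n3) (mul_mem n4 n5)) n6)
  conv_lhs at c1 => rw [hq, conj3, comm_fix hp' eu ew, c2, hq, ← mul_assoc, ← mul_assoc,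
    mul_assoc p', c3, ← mul_assoc p', hp'.sq,
    r2 (abel_S2 h.g2 hI) (h.g2.el _ hI).1 n0 n1 n2 n3 n4 n5 n6]
  rw [mul_eq_right, ← Es_adds hs huw] at c1
  obtain ⟨-, -, ha, -, hb, -⟩ := h.g2.uni3 u v w h3 0 0 a 0 (c0 * 1 + β) a (by
    rw [tv_zero, tv_zero, zero_smul, Es_zero, one_mul, one_mul, mul_one, c1])
  rw [mul_one, add_eq_zero_iff_eq_neg, fneg hs] at hb
  exact ⟨ha, hb.symm⟩

theorem rel_two (h : Ctx0 P φ L k t) {u v w w' x : V} {p : G} {β s : F}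
    (hR : Rel P φ t c0 u v p 0 β s) (h3 : I3 P u v w) (h3' : I3 P u v w')
    (h3'' : I3 P u v (w' + w)) (hww' : P.f w w' = 0) (hux : P.f u x = 0) (hvx : P.f v x = 1)
    (hwx : P.f w x = 0) (hw'x : P.f w' x = 0)
    (H : ∀ p1 p2 p3, Mv P φ t c0 u w 1 p1 → Mv P φ t c0 u w' 1 p2 →
      Mv P φ t c0 u (w' + w) 1 p3 → p1 * p2 * p3 ∈ S2 P φ {u, w, w'}) : β = 0 := by
  have hs := h.toSG
  obtain ⟨huv, huw, hvw, li⟩ := id h3
  obtain ⟨-, huw', hvw', -⟩ := id h3'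
  have eu : (eE P x w 0).1 u = u := eE_fix hs hux huw 0
  have ev := eE_v hs hvw hvx hwx
  have eu' : (eE P x w' 0).1 u = u := eE_fix hs hux huw' 0
  have ev' := eE_v hs hvw' hvx hw'x
  have ew' : (eE P x w' 0).1 w = w := eE_fix hs hwx hww' 0
  have evw : (eE P x w' 0).1 ((eE P x w 0).1 v) = v + (w' + w) := by
    rw [ev, map_add, ev', ew', add_assoc]
  generalize eE P x w 0 = e at eu ev evw
  generalize eE P x w' 0 = e' at eu' ev' ew' evw
  obtain ⟨p1, hp1, q1⟩ := hR w e h3 eu ev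
  obtain ⟨p2, hp2, q2⟩ := hR w' e' h3' eu' ev'
  obtain ⟨p3, hp3, q3⟩ := hR (w' + w) (e' * e) h3'' (by rw [emul, eu, eu']) evw
  rw [tv_zero, one_mul] at q1 q2 q3
  have hI := iso4 hs huv huw hvw huw' hvw' hww'
  have mu : u ∈ ({u, v, w, w'} : Set V) := by simp
  have mv : v ∈ ({u, v, w, w'} : Set V) := by simp
  have mw : w ∈ ({u, v, w, w'} : Set V) := by simp
  have mw' : w' ∈ ({u, v, w, w'} : Set V) := by simp
  have c1 : φ (e' * e) * p * (φ (e' * e))⁻¹ = φ e' * (φ e * p * (φ e)⁻¹) * (φ e')⁻¹ := by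
    rw [map_mul]; group
  have c2 : φ e' * (Es P φ u (β • v) * Es P φ v (s • w)) * (φ e')⁻¹ =
      Es P φ u (β • v) * Es P φ u (β • w') * (Es P φ v (s • w) * Es P φ w' (s • w)) := by
    calc _ = (φ e' * Es P φ u (β • v) * (φ e')⁻¹) * (φ e' * Es P φ v (s • w) * (φ e')⁻¹) := by
          group
      _ = _ := by
        rw [conj_Es hs, conj_Es hs, map_smul, map_smul, eu', ev', ew', smul_add,
          Es_add0 hs (by rw [fr hs, huv, mul_zero]) (by rw [fr hs, huw', mul_zero])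
            (by rw [fr hs, P.f_smul_left, hvw', mul_zero, mul_zero]),
          Es_symm hs (v + w'), Es_add0 hs (by rw [P.f_smul_left, fc hs, hvw, mul_zero])
            (by rw [P.f_smul_left, hww', mul_zero]) hvw', Es_symm hs (s • w), Es_symm hs (s • w)]
  have n1 := Es_mem_S2 hs (m1 mu) (ms mv β)
  have n2 := Es_mem_S2 hs (m1 mu) (ms mw' β)
  have n3 := Es_mem_S2 hs (m1 mv) (ms mw s)
  have n4 := Es_mem_S2 hs (m1 mw') (ms mw s)
  have n5 := Es_mem_S2 hs (m1 mv) (ms mw' s)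
  have n0 := Es_mem_S2 hs (m1 mu) (Submodule.smul_mem _ (c0 * 1) (add_mem (m1 mw') (m1 mw)))
  have hτ := H p1 p2 p3 hp1 hp2 hp3
  have hle : S2 P φ {u, w, w'} ≤ S2 P φ {u, v, w, w'} := S2_mono (Submodule.span_mono (by
    rintro y (rfl | rfl | rfl) <;> assumption))
  have hsum : ∀ y ∈ ({u, v, w, w'} : Set V), P.f (w' + w) y = 0 := fun y hy => by
    rw [P.f_add_left, hI w' mw' y hy, hI w mw y hy, add_zero]
  have c3 := comm_mv hs hp2 (hI u mu) (hI w' mw') (mul_mem (mul_mem n1 n2) (mul_mem n3 n4))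
  have c4 := comm_mv hs hp3 (hI u mu) hsum
    (mul_mem (mul_mem (mul_mem n1 n2) (mul_mem n3 n4)) (mul_mem n1 n5))
  have c5 := comm_mv hs hp3 (hI u mu) hsum (mul_mem n1 (mul_mem n5 n3))
  rw [q3, q1, conj3, comm_fix hp1 eu' ew', c2, q2, smul_add,
    Es_add0 hs (by rw [fr hs, hvw', mul_zero]) (by rw [fr hs, hvw, mul_zero])
      (by rw [fr hs, P.f_smul_left, fc hs, hww', mul_zero, mul_zero])] at c1
  have c6 := regroup c1 c3 c4 c5
  rw [hp3.sq] at c6
  have c7 := r3 (abel_S2 h.g2 hI) (h.g2.el _ hI).1 (hle hτ) n0 n1 n2 n3 n4 n5 c6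
  have c8 : Es P φ u (β • v) ∈ S2 P φ {u, w, w'} := by
    rw [c7]
    refine mul_mem (mul_mem (mul_mem hτ ?_) ?_) ?_
    · exact Es_mem_S2 hs (m1 (by simp)) (ms (by simp) _)
    · exact Es_mem_S2 hs (m1 (by simp)) (ms (by simp) _)
    · exact Es_mem_S2 hs (m1 (by simp))
        (Submodule.smul_mem _ _ (add_mem (m1 (by simp)) (m1 (by simp))))
  have c9 := S2_le_YW hs (T := {x}) (by
    rintro _ rfl y (rfl | rfl | rfl) <;> apply PForm.f_symm_zero <;> assumption) c8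
  have c10 := (H60.SpG2a.mem_YW hs (e := eE P u (β • v) 0)).1 c9 x rfl
  rw [Es_apply hs (by rw [fr hs, huv, mul_zero]), PForm.f_symm_zero hux, zero_smul, add_zero,
    fr hs, fc hs, hvx, mul_one, add_eq_left] at c10
  exact (smul_eq_zero.1 c10).resolve_right (li.ne_zero 0)

theorem exists_dual (h : Ctx0 P φ L k t) {u v w : V} (h3 : I3 P u v w) :
    ∃ x, P.f u x = 0 ∧ P.f v x = 1 ∧ P.f w x = 0 := by
  have hs := h.toSG
  have hI := iso3 hs h3.1 h3.2.1 h3.2.2.1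
  obtain ⟨Fr, hN, hF⟩ := h.g1.fr ![u, v, w] (fun i => (Fin.castLE h.k3 i, false))
    (fun i j H => Fin.castLE_injective h.k3 (congrArg Prod.fst H)) h3.2.2.2 (fun i j => by
      rw [hI _ (by fin_cases i <;> simp) _ (by fin_cases j <;> simp), if_neg (by simp [ng])])
  have f0 : Fr.e (Fin.castLE h.k3 0, false) = u := hF 0
  have f1 : Fr.e (Fin.castLE h.k3 1, false) = v := hF 1
  have f2 : Fr.e (Fin.castLE h.k3 2, false) = w := hF 2
  refine ⟨Fr.e (Fin.castLE h.k3 1, true), ?_, ?_, ?_⟩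
  · rw [← f0]; exact Fr.orth _ _ (by simp [ng])
  · rw [← f1]; exact hN _
  · rw [← f2]; exact Fr.orth _ _ (by simp [ng])

theorem h1c (h0 : C0Stmt.{u, v}) : H1cStmt'.{u, v} := by
  intro F V _ _ _ _ _ G _ _ P φ L k t hC r2 c0 hB
  have h := hC.toCtx0
  have hs := h.toSG
  obtain rfl := h0 P φ L k t hC r2 c0 hB
  refine ⟨hB, fun u v huv b p hp => ?_⟩
  by_cases hb : b = 0
  · subst hb
    obtain ⟨a, s, c, rfl⟩ := (h.g2.crd2 u v huv.1 p).1 (hp.zero rfl)
    refine ⟨s, fun w e h3 eu ev => ?_⟩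
    obtain ⟨-, huw, hvw, -⟩ := h3
    have hI := iso3 hs huv.1 huw hvw
    have mu : u ∈ ({u, v, w} : Set V) := by simp
    have mv : v ∈ ({u, v, w} : Set V) := by simp
    have mw : w ∈ ({u, v, w} : Set V) := by simp
    refine ⟨tv P φ w s * Es P φ u (c • w), mv_zero hs h.g2 h.tc.tc huw
      (mul_mem (tv_mem_S2 (m1 (by simp)) _) (Es_mem_S2 hs (m1 (by simp)) (ms (by simp) _))), ?_⟩
    rw [conj3, conj_tv hs, conj_tv hs, conj_Es hs, map_smul, eu, ev, tv_add_vec hs hvw, smul_add,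
      Es_add0 hs (by rw [fr hs, huv.1, mul_zero]) (by rw [fr hs, huw, mul_zero])
        (by rw [fr hs, P.f_smul_left, hvw, mul_zero, mul_zero])]
    exact r4 (abel_S2 h.g2 hI) (tv_mem_S2 (m1 mu) _) (tv_mem_S2 (m1 mv) _) (tv_mem_S2 (m1 mw) _)
      (Es_mem_S2 hs (m1 mv) (ms mw _)) (Es_mem_S2 hs (m1 mu) (ms mv _))
      (Es_mem_S2 hs (m1 mu) (ms mw _))
  · obtain ⟨a, β, s, hR⟩ := exists_rel h hB ((mv_smul hb (b := 1)).2 (by rwa [one_mul]))
    refine ⟨b * (s * b), fun w e h3 eu ev => ?_⟩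
    obtain ⟨-, huw, hvw, li⟩ := h3
    have h3 : I3 P u (b • v) (b • w) := ⟨by rw [fr hs, huv.1, mul_zero],
      by rw [fr hs, huw, mul_zero], by rw [fr hs, P.f_smul_left, hvw, mul_zero, mul_zero],
      li_of fun x y z H => by
        rw [smul_smul, smul_smul] at H
        obtain ⟨h1, h2, h3⟩ := li3 li H
        exact ⟨h1, (mul_eq_zero.1 h2).resolve_right hb, (mul_eq_zero.1 h3).resolve_right hb⟩⟩
    obtain ⟨x, h1, h2, h4⟩ := exists_dual h h3
    obtain ⟨rfl, rfl⟩ := rel_one h hR h3 h1 h2 h4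
    obtain ⟨p', hp', hq⟩ := hR _ e h3 eu (by rw [map_smul, ev, smul_add])
    rw [mv_smul hb, one_mul] at hp'
    refine ⟨p', hp', ?_⟩
    rw [hq, tv_zero, zero_smul, Es_zero, one_mul, one_mul, Es_smul hs, smul_smul, smul_smul,
      mul_assoc b]

end Cfsg.Agent.H66.T6.H60.SpH1c
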