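import Cfsg.Agent.H66.DnRS

/-!
# The diagram of type `Dₙ` and its symmetry
-/

set_option autoImplicit false

namespace Cfsg.Agent.H66.Dn

open Cfsg Cfsg.Agent.H63 Cfsg.Agent.H63.SL Cfsg.Agent.H34 Cfsg.Agent.H40 Cfsg.Agent.H34.TW
  Cfsg.Agent.H35.NF Equiv

variable {m : ℕ}

theorem A_symm (i j : Fin (m + 2)) : (R m).A i j = (R m).A j i := dotProduct_comm (al i) (al j)

theorem A_zero (i j : Fin (m + 2)) : (R m).A i j = 0 ↔
    (i : ℕ) ≠ j ∧ max (i : ℕ) 1 ≠ max (j : ℕ) 1 + 1 ∧ max (j : ℕ) 1 ≠ max (i : ℕ) 1 + 1 := by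
  rw [A_eq]; omega

theorem lace (hm : 1 ≤ m) : Lace (R m) := by
  refine lace_of A_symm (fun J h1 h2 => ?_) (by simp; omega)
  by_contra H
  push Not at H
  have key : ∀ i j, (R m).A i j ≠ 0 → (i ∈ J ↔ j ∈ J) := fun i j h =>
    ⟨fun a => by_contra fun b => h (H i a j b),
      fun a => by_contra fun b => h ((A_symm _ _).trans (H j a i b))⟩
  have k2 : ∀ (k : ℕ) (h : k < m + 2), ((⟨k, h⟩ : Fin (m + 2)) ∈ J ↔ (⟨2, by omega⟩ : Fin (m + 2)) ∈ J) := by
    intro k
    induction k with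
    | zero => exact fun h => key _ _ (by rw [A_eq]; simp)
    | succ k ih =>
      intro h
      by_cases e : k = 0
      · subst e; exact key _ _ (by rw [A_eq]; simp)
      · exact (key _ _ (by rw [A_eq]; dsimp only; split_ifs <;> omega)).trans (ih (by omega))
  obtain ⟨a, ha⟩ := h1
  obtain ⟨b, hb⟩ := h2
  exact hb ((k2 b b.2).2 ((k2 a a.2).1 ha))

/-- Rigidity of the folded diagram. -/
theorem rig_nat (k : Fin (m + 2) → Fin (m + 2)) (h0 : ∀ i : Fin (m + 2), (i : ℕ) ≤ 1 → (k i : ℕ) ≤ 1)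
    (h1 : ∀ i j : Fin (m + 2), max (k i : ℕ) 1 = max (k j : ℕ) 1 → max (i : ℕ) 1 = max (j : ℕ) 1)
    (h2 : ∀ i j : Fin (m + 2), 1 ≤ (i : ℕ) → (j : ℕ) = i + 1 →
      max (k i : ℕ) 1 ≤ max (k j : ℕ) 1 + 1 ∧ max (k j : ℕ) 1 ≤ max (k i : ℕ) 1 + 1) :
    ∀ (i : ℕ) (h : i < m + 2), max (k ⟨i, h⟩ : ℕ) 1 = max i 1 := by
  intro i
  induction i using Nat.strong_induction_on with
  | _ i ih =>
    intro h
    by_cases e : i ≤ 1
    · have := h0 ⟨i, h⟩ e; omega
    have a1 := ih (i - 1) (by omega) (by omega)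
    have a2 := ih (i - 2) (by omega) (by omega)
    have a3 := h2 ⟨i - 1, by omega⟩ ⟨i, h⟩ (by dsimp only; omega) (by dsimp only; omega)
    have a4 := h1 ⟨i - 1, by omega⟩ ⟨i, h⟩
    have a5 := h1 ⟨i - 2, by omega⟩ ⟨i, h⟩
    dsimp only at a4 a5
    omega

/-- The symmetry of the diagram. -/
def π0 (m : ℕ) : Perm (Fin (m + 2)) := swap 0 1

theorem eqns_π0 : True := by have := @π0.eq_1; trivial

theorem π0_val (i : Fin (m + 2)) : ((i : ℕ) = 0 ∧ (π0 m i : ℕ) = 1) ∨ ((i : ℕ) = 1 ∧ (π0 m i : ℕ) = 0) ∨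
    (2 ≤ (i : ℕ) ∧ (π0 m i : ℕ) = i) := by
  rw [π0, swap_apply_def]
  simp only [Fin.ext_iff, Fin.val_zero, Fin.val_one]
  split_ifs
  · exact Or.inl ⟨‹_›, rfl⟩
  · exact Or.inr (Or.inl ⟨‹_›, rfl⟩)
  · omega

theorem π0_π0 (i : Fin (m + 2)) : π0 m (π0 m i) = i := swap_apply_self _ _ _

theorem sym_of {π : Perm (Fin (m + 2))} (h : ∀ i j, (R m).A (π i) (π j) = (R m).A i j)
    (a0 : (π 0 : ℕ) ≤ 1) (a1 : (π 1 : ℕ) ≤ 1) : π = 1 ∨ π = π0 m := by
  have inj : ∀ i j, (π i : ℕ) = π j → (i : ℕ) = j := fun i j e =>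
    congrArg Fin.val (π.injective (Fin.ext e))
  have a2 := inj 0 1
  simp only [Fin.val_zero, Fin.val_one] at a2
  have key := rig_nat π (fun i hi => by
      obtain e | e : i = 0 ∨ i = 1 := by simp only [Fin.ext_iff, Fin.val_zero, Fin.val_one]; omega
      all_goals rwa [e]) (fun i j e => by
      have b1 := inj i j
      have b2 := inj i 0
      have b3 := inj i 1
      have b4 := inj j 0
      have b5 := inj j 1
      simp only [Fin.val_zero, Fin.val_one] at b2 b3 b4 b5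
      omega) fun i j e e' => by
      have := h i j
      rw [A_eq, A_eq] at this
      split_ifs at this <;> omega
  have k0 : ∀ i : Fin (m + 2), i = 0 ∨ i = 1 ∨ (2 ≤ (i : ℕ) ∧ (π i : ℕ) = i) := fun i => by
    have := key i i.2
    simp only [Fin.ext_iff, Fin.val_zero, Fin.val_one, Fin.eta] at this ⊢
    omega
  by_cases e : (π 0 : ℕ) = 0
  · refine Or.inl (Perm.ext fun i => Fin.ext ?_)
    rcases k0 i with rfl | rfl | h
    · exact e
    · change _ = 1; omega
    · exact h.2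
  · refine Or.inr (Perm.ext fun i => Fin.ext ?_)
    have := π0_val i
    rcases k0 i with rfl | rfl | h
    · change _ = 1; omega
    · change _ = 0; omega
    · omega

theorem leaf {a c : Fin (m + 2)} (h : ∀ x, x ≠ a → x ≠ c → (R m).A a x = 0) (h2 : 2 ≤ (a : ℕ)) :
    (a : ℕ) = m + 1 ∧ (c : ℕ) = m ∧ 3 ≤ (a : ℕ) := by
  simp only [A_zero, ne_eq, Fin.ext_iff] at h
  have a0 := h 0
  have a1 := h 1
  have a2 := h ⟨a - 1, by omega⟩
  have a4 := a.2
  simp only [Fin.val_zero, Fin.val_one] at a0 a1 a2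
  by_cases e : (a : ℕ) + 1 < m + 2
  · have a3 := h ⟨a + 1, e⟩
    dsimp only at a3
    omega
  · omega

theorem sym_D (hm : 1 ≤ m) (h2 : m ≠ 2) (π : Perm (Fin (m + 2)))
    (h : ∀ i j, (R m).A (π i) (π j) = (R m).A i j) : π = 1 ∨ π = π0 m := by
  have key : ∀ i : Fin (m + 2), (i : ℕ) ≤ 1 → (R m).A (π i) (π ⟨2, by omega⟩) ≠ 0 ∧
      π i ≠ π ⟨2, by omega⟩ ∧ ∀ x, x ≠ π i → x ≠ π ⟨2, by omega⟩ → (R m).A (π i) x = 0 := fun i hi => by
    refine ⟨by rw [h, A_eq]; dsimp only; split_ifs <;> omega, fun e => ?_, fun x a b => ?_⟩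
    · have := congrArg Fin.val (π.injective e)
      dsimp only at this; omega
    obtain ⟨x, rfl⟩ := π.surjective x
    rw [π.injective.ne_iff, Ne, Fin.ext_iff] at a b
    dsimp only at b
    rw [h, A_eq]; split_ifs <;> omega
  have k2 : ∀ i j : Fin (m + 2), (i : ℕ) ≤ 1 → (j : ℕ) ≤ 1 → i ≠ j → (π i : ℕ) ≤ 1 := fun i j a b c => by
    by_contra e
    have a1 := leaf (key i a).2.2 (by omega)
    have a2 := leaf (key j b).2.2
    have a3 := (key j b).1
    have a4 : (π i : ℕ) ≠ π j := fun e => c (π.injective (Fin.ext e))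
    have a5 : (π j : ℕ) ≠ π ⟨2, by omega⟩ := fun e => (key j b).2.1 (Fin.ext e)
    rw [A_eq] at a3
    split_ifs at a3 <;> omega
  exact sym_of h (k2 0 1 (by simp) (by simp) (by simp)) (k2 1 0 (by simp) (by simp) (by simp))

theorem gam (hm : 1 ≤ m) : Gam (R m) := by
  by_cases h2 : m = 2
  · subst h2
    refine H43.TW.gam_of' (ι := Fin 4) (lace hm) (P := fun π : Perm (Fin 4) => π 2 = 2)
      (fun π h => ?_) (by decide +kernel) (by decide +kernel) fun π a b c => ?_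
    · simp only [A_eq] at h
      revert π; decide +kernel
    · simp only [A_eq]
      revert π; decide +kernel
  · exact gam_of (lace hm) (π0 m) (swap_mul_self _ _) (sym_D hm h2)
      (Or.inr ⟨0, by simp [π0], by rw [A_eq]; simp [π0]⟩)

/-! ### The graph symmetry -/

/-- The symmetry on signed coordinates. -/
def gk (a : κ m) : κ m := if a.1 = 0 then bar a else a

/-- The reflection in `e₀`. -/
def ν (v : Fin (m + 2) → ℤ) : Fin (m + 2) → ℤ := fun i => if i = 0 then - v i else v i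

theorem eqns_gk : True := by have := @gk.eq_1; have := @ν.eq_1; trivial

@[simp] theorem gk_fst (a : κ m) : (gk a).1 = a.1 := by rw [gk]; split_ifs <;> rfl

theorem gk_ne {a : κ m} (h : a.1 ≠ 0) : gk a = a := if_neg h

theorem gk_zero (s : Bool) : gk ((0, s) : κ m) = (0, !s) := if_pos rfl

theorem gk_gk (a : κ m) : gk (gk a) = a := by
  by_cases h : a.1 = 0 <;> simp [gk, h]

theorem gk_bar (a : κ m) : gk (bar a) = bar (gk a) := by
  by_cases h : a.1 = 0 <;> simp [gk, h]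

theorem ν_ε (a : κ m) : ν (ε a) = ε (gk a) := by
  funext i
  simp only [ν, ε_apply, gk]
  by_cases h : a.1 = 0 <;> by_cases h' : i = a.1
  · simp [h, h', sg_not]
  · simp [h, h ▸ h']
  · simp [h, h']
  · simp [h, h']

theorem ν_add (v w : Fin (m + 2) → ℤ) : ν (v + w) = ν v + ν w := by
  funext i; simp only [ν, Pi.add_apply]; split_ifs <;> ring

theorem ν_dot (v w : Fin (m + 2) → ℤ) : ν v ⬝ᵥ ν w = v ⬝ᵥ w :=
  Finset.sum_congr rfl fun i _ => by simp only [ν]; split_ifs <;> ring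

theorem al_π0 (i : Fin (m + 2)) : al (π0 m i) = ν (al i) := by
  rw [al, al, ν_add, ν_ε, ν_ε]
  have := π0_val i
  congr 2
  · rw [gk_ne (fun e => by have : max (i : ℕ) 1 = 0 := congrArg Fin.val e; omega)]
    simp only [s1, Prod.mk.injEq, Fin.mk.injEq, and_true]; omega
  · simp only [s2, gk, bar, Fin.ext_iff, Fin.val_zero]
    rcases this with ⟨a, b⟩ | ⟨a, b⟩ | ⟨a, b⟩
    · simp [a, b]
    · simp [a, b]
    · rw [if_neg (by omega)]; simp [b]

theorem M_π0 (c : Fin (m + 2) → ℤ) : M m (c ∘ π0 m) = ν (M m c) := by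
  rw [M_apply, M_apply, ← Equiv.sum_comp (π0 m)]
  funext k
  simp only [Function.comp, π0_π0, al_π0, ν, Finset.sum_apply, Pi.smul_apply, smul_eq_mul]
  split_ifs <;> simp

/-- The graph symmetry of the roots. -/
def γ (m : ℕ) : Perm (Φ m) :=
  Function.Involutive.toPerm (fun r => ⟨r.1 ∘ π0 m, by rw [M_π0, ν_dot]; exact r.2⟩) fun r =>
    Subtype.ext (funext fun i => congrArg r.1 (π0_π0 i))

theorem eqns_γ : True := by have := @γ.eq_1; trivial

theorem vec_γ (r : Φ m) : vec (γ m r) = ν (vec r) := M_π0 _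

theorem γ_γ (r : Φ m) : γ m (γ m r) = r := Subtype.ext (funext fun i => congrArg r.1 (π0_π0 i))

theorem diag_γ : Diag (R m) (γ m) := ⟨π0 m, fun r i => congrArg r.1 (π0_π0 i)⟩

theorem γ_rt (a c : κ m) (h : a.1 ≠ c.1) :
    γ m (rt a c h) = rt (gk a) (gk c) (by simpa using h) :=
  vec_inj (by rw [vec_γ, vec_rt, vec_rt, ν_add, ν_ε, ν_ε])

theorem γ_simple (i : Fin (m + 2)) : γ m ((R m).simple i) = (R m).simple (π0 m i) :=
  vec_inj ((vec_γ _).trans (((congrArg ν (M_single i)).trans (al_π0 i).symm).trans (M_single _).symm))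

theorem long_iff {r : Φ m} : γ m r = r ↔ vec r 0 = 0 := by
  rw [← vec_inj.eq_iff, vec_γ]
  refine ⟨fun h => ?_, fun h => funext fun i => ?_⟩
  · have := congrFun h 0
    simp only [ν, if_true] at this
    omega
  · simp only [ν]; split_ifs with e
    · rw [e, h, neg_zero]
    · rfl

theorem long_rt {a c : κ m} (h : a.1 ≠ c.1) : γ m (rt a c h) = rt a c h ↔ a.1 ≠ 0 ∧ c.1 ≠ 0 := by
  rw [long_iff, vec_rt, Pi.add_apply, ε_apply, ε_apply]
  obtain ⟨i, s⟩ := a
  obtain ⟨j, t⟩ := c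
  cases s <;> cases t <;> split_ifs <;> simp_all [eq_comm]

theorem exists_long {r : Φ m} (h : γ m r = r) : ∃ a c h, a.1 ≠ 0 ∧ c.1 ≠ 0 ∧ r = rt a c h := by
  obtain ⟨a, c, e, rfl⟩ := exists_rt r
  exact ⟨a, c, e, ((long_rt e).1 h).1, ((long_rt e).1 h).2, rfl⟩

theorem exists_short {r : Φ m} (h : γ m r ≠ r) :
    ∃ (s : Bool) (c : κ m) (h : c.1 ≠ 0), r = rt (0, s) c h.symm := by
  obtain ⟨⟨i, s⟩, ⟨j, t⟩, e, rfl⟩ := exists_rt r
  rw [Ne, long_rt, not_and_or, not_not, not_not] at h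
  rcases h with rfl | rfl
  exacts [⟨s, (j, t), e.symm, rfl⟩, ⟨t, (i, s), e, rt_comm _ _ _⟩]

theorem γ_short (s : Bool) {c : κ m} (h : c.1 ≠ 0) :
    γ m (rt (0, s) c h.symm) = rt (0, !s) c h.symm := by
  rw [γ_rt]; congr 1
  exact gk_ne h

theorem ip_zero (s t : Bool) : ip ((0, s) : κ m) (0, t) = sg s * sg t := if_pos rfl

theorem pair_short (s t : Bool) {c d : κ m} (h : c.1 ≠ 0) (h' : d.1 ≠ 0) :
    (R m).pair (rt (0, s) c h.symm) (rt (0, t) d h'.symm) = sg s * sg t + ip c d := by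
  rw [pair_rt, ip_zero, ip_ne (a := (0, s)) h'.symm, ip_ne (c := (0, t)) h]; ring

theorem pair_long {a c d : κ m} (h : a.1 ≠ c.1) (ha : a.1 ≠ 0) (hc : c.1 ≠ 0) (t : Bool) (h' : d.1 ≠ 0) :
    (R m).pair (rt a c h) (rt (0, t) d h'.symm) = ip a d + ip c d := by
  rw [pair_rt, ip_ne (c := (0, t)) ha, ip_ne (c := (0, t)) hc]; ring

theorem exists_ne3 (hm : 2 ≤ m) (a b c : Fin (m + 2)) : ∃ d, d ≠ a ∧ d ≠ b ∧ d ≠ c := by
  by_contra H
  push Not at H
  have a0 := H ⟨0, by omega⟩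
  have a1 := H ⟨1, by omega⟩
  have a2 := H ⟨2, by omega⟩
  have a3 := H ⟨3, by omega⟩
  simp only [ne_eq, Fin.ext_iff] at a0 a1 a2 a3
  omega

theorem big (hm : 2 ≤ m) (α : Φ m) : 8 ≤ {s | (R m).pair α s = 1}.ncard := by
  obtain ⟨a, c, h, rfl⟩ := exists_rt α
  obtain ⟨i, i1, i2, -⟩ := exists_ne3 hm a.1 c.1 c.1
  obtain ⟨j, j1, j2, j3⟩ := exists_ne3 hm a.1 c.1 i
  have h1 : ∀ p : Bool × Bool × Bool, (if p.1 then a else c).1 ≠ if p.2.1 then i else j := by
    rintro ⟨_ | _, _ | _, s⟩ <;> simp [i1.symm, i2.symm, j1.symm, j2.symm]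
  let f : Bool × Bool × Bool → Φ m := fun p =>
    rt (if p.1 then a else c) (if p.2.1 then i else j, p.2.2) (h1 p)
  have hf : Function.Injective f := by
    rintro ⟨x, y, s⟩ ⟨x', y', s'⟩ e
    have h' : a ≠ c := fun e => h (congrArg _ e)
    rcases rt_inj e with ⟨e1, e2⟩ | ⟨e1, -⟩
    · cases x <;> cases x' <;> cases y <;> cases y' <;> simp_all
    · exact absurd (congrArg Prod.fst e1) (h1 (x', y, s))
  refine le_trans (by simp [Set.ncard_range_of_injective hf] : 8 ≤ (Set.range f).ncard)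
    (Set.ncard_le_ncard ?_)
  rintro _ ⟨⟨_ | _, y, s⟩, rfl⟩
  · simp only [f, Set.mem_ofPred_eq, pair_rt]
    rw [ip_ne (a := a) (c := (if y then i else j, s)) (h1 (true, y, s)), ip_ne (a := c) (c := (if y then i else j, s)) (h1 (false, y, s))]
    simp [ip_self, ip_ne h]
  · simp only [f, Set.mem_ofPred_eq, pair_rt]
    rw [ip_ne (a := a) (c := (if y then i else j, s)) (h1 (true, y, s)), ip_ne (a := c) (c := (if y then i else j, s)) (h1 (false, y, s))]
    simp [ip_self, ip_ne h.symm]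

/-- The highest root. -/
def top (m : ℕ) : Φ m := rt (Fin.last _, true) (⟨m, by omega⟩, true) (by simp [Fin.ext_iff])

theorem eqns_top : True := by have := @top.eq_1; trivial

theorem eq_top (hm : 1 ≤ m) {α : Φ m} (h : Top (R m) α) : α = top m := by
  obtain ⟨⟨i, s⟩, ⟨j, t⟩, e, rfl⟩ := exists_rt_lt α
  obtain rfl : s = true := (pos_rt e).1 h.1
  have key : ∀ (a c : κ m) (e' : c.1 < a.1), a.2 = true →
      0 ≤ ip (i, true) a + ip (i, true) c + ip (j, t) a + ip (j, t) c := fun a c e' ha => by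
    rw [← pair_rt _ _ e.ne' _ _ e'.ne']; exact h.2 _ ((pos_rt e').2 ha)
  have e1 : (j : ℕ) < i := e
  have e2 := i.2
  have a1 := fun e' => key (Fin.last _, true) (i, false) e' rfl
  have lt : m < m + 2 := by omega
  have a2 := fun e' => key (⟨m, lt⟩, true) (j, !t) e' rfl
  have a3 := fun e' => key (⟨m, lt⟩, true) (0, true) e' rfl
  simp only [ip, Fin.ext_iff, Fin.lt_def, Fin.val_last, Fin.val_zero, sg_not, sg_true, sg_false,
    mul_neg, sg_mul_self, if_true, mul_one, one_mul] at a1 a2 a3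
  have hi : (i : ℕ) = m + 1 := by omega
  have hj : (j : ℕ) = m := by omega
  obtain rfl : t = true := by
    cases t
    · simp only [sg_false] at a3; omega
    · rfl
  obtain rfl : i = Fin.last _ := Fin.ext hi
  obtain rfl : j = ⟨m, lt⟩ := Fin.ext hj
  rfl

theorem pair_top (hm : 2 ≤ m) (k : Fin (m + 2)) :
    (R m).pair (top m) ((R m).simple k) = if k = ⟨m, by omega⟩ then 1 else 0 := by
  have := k.2
  rw [top, simple_eq, pair_rt]
  have : ∀ k : ℕ, sg (decide (k = 0)) = if k = 0 then 1 else -1 := fun k => by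
    by_cases h : k = 0 <;> simp [h]
  simp only [ip, s1, s2, Fin.ext_iff, sg_true, this, Fin.val_last]
  split_ifs <;> omega

theorem orb_iff (i j : Fin (m + 2)) : Orb (R m) (γ m) i j ↔ max (i : ℕ) 1 = max (j : ℕ) 1 := by
  have := π0_val i
  simp only [Orb, γ_simple, (R m).simple_inj.eq_iff, Fin.ext_iff]
  omega

theorem adj_iff (i j : Fin (m + 2)) : Adj (R m) (γ m) i j ↔
    max (i : ℕ) 1 ≤ max (j : ℕ) 1 + 1 ∧ max (j : ℕ) 1 ≤ max (i : ℕ) 1 + 1 := by
  have := π0_val j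
  simp only [Adj, γ_simple, RS.pair_simple_simple, ne_eq, A_zero]
  omega

theorem long_simple (i : Fin (m + 2)) : γ m ((R m).simple i) = (R m).simple i ↔ 2 ≤ (i : ℕ) := by
  have := π0_val i
  simp only [γ_simple, (R m).simple_inj.eq_iff, Fin.ext_iff]
  omega

/-- The shift of signed coordinates. -/
def sh (a : κ m) : κ (m + 1) := (a.1.succ, a.2)

theorem eqns_sh : True := by have := @sh.eq_1; trivial

theorem cons_ε (a c : κ m) : (Fin.cons 0 (ε a + ε c) : Fin (m + 1 + 2) → ℤ) = ε (sh a) + ε (sh c) := by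
  funext i
  refine Fin.cases ?_ (fun i => ?_) i
  · simp [ε_apply, sh, (Fin.succ_ne_zero _).symm]
  · simp [ε_apply, sh]

theorem cons_dot (v w : Fin (m + 2) → ℤ) :
    (Fin.cons 0 v : Fin (m + 1 + 2) → ℤ) ⬝ᵥ (Fin.cons 0 w : Fin (m + 1 + 2) → ℤ) = v ⬝ᵥ w := by
  rw [dotProduct, Fin.sum_univ_succ]; simp [dotProduct]

/-- The long roots. -/
noncomputable def emb (r : Φ m) : Φ (m + 1) :=
  (exists_vec (v := Fin.cons 0 (vec r)) ((cons_dot _ _).trans (vec_dot r))).choose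

theorem eqns_emb : True := by have := @emb.eq_1; trivial

theorem vec_emb (r : Φ m) : vec (emb r) = Fin.cons 0 (vec r) :=
  (exists_vec (v := Fin.cons 0 (vec r)) ((cons_dot _ _).trans (vec_dot r))).choose_spec

theorem emb_rt (a c : κ m) (h : a.1 ≠ c.1) :
    emb (rt a c h) = rt (sh a) (sh c) (fun e => h (Fin.succ_injective _ e)) :=
  vec_inj (by rw [vec_emb, vec_rt, vec_rt, cons_ε])

theorem sub (hm : 1 ≤ m) : Sub (R (m + 1)) (γ (m + 1)) (R m) emb where
  lace := lace hm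
  gam := gam hm
  rng r := by
    refine ⟨fun h => ?_, fun ⟨s, h⟩ => by rw [long_iff, ← h, vec_emb]; rfl⟩
    obtain ⟨⟨i, s⟩, ⟨j, t⟩, e, h1, h2, rfl⟩ := exists_long h
    obtain ⟨i, rfl⟩ := Fin.exists_succ_eq.2 h1
    obtain ⟨j, rfl⟩ := Fin.exists_succ_eq.2 h2
    exact ⟨rt (i, s) (j, t) fun e' => e (congrArg Fin.succ e'), emb_rt _ _ _⟩
  pair r s := by rw [pair_eq, pair_eq, vec_emb, vec_emb, cons_dot]
  pos r := by
    obtain ⟨a, c, h, rfl⟩ := exists_rt_lt r
    rw [emb_rt, pos_rt h]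
    exact pos_rt (a := sh a) (c := sh c) (Fin.succ_lt_succ_iff.2 h)

theorem tl (hm : 2 ≤ m) : TL (R m) (γ m) where
  lace := lace (by omega)
  gam := gam (by omega)
  diag := diag_γ
  sq := γ_γ
  ex := ⟨_, mt (long_simple 0).1 (by simp)⟩
  orth r h := by
    obtain ⟨s, c, e, rfl⟩ := exists_short h
    rw [γ_short s e, pair_short _ _ e e, ip_self, sg_not, mul_neg, sg_mul_self]; rfl
  rt0 r h := by
    obtain ⟨s, c, e, rfl⟩ := exists_short h
    obtain ⟨d, d1, d2, -⟩ := exists_ne3 hm 0 c.1 0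
    exact ⟨rt c (d, true) d2.symm, (long_rt _).2 ⟨e, d1⟩, by
      rw [pair_long _ e d1 _ e, ip_self, ip_ne (a := (d, true)) d2]; rfl⟩
  rt1 r ρ h1 h2 h3 := by
    obtain ⟨s, c, e, rfl⟩ := exists_short h2
    obtain ⟨a, a', e', a1, a2, rfl⟩ := exists_long h1
    obtain ⟨d, d1, d2, d3⟩ := exists_ne3 hm 0 a.1 a'.1
    rw [pair_long _ a1 a2 _ e] at h3
    obtain rfl | rfl : c = a ∨ c = a' := by
      rcases ip_cases a c with b | b | b <;> rcases ip_cases a' c with b' | b' | b' <;>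
        first | omega | exact Or.inl b.1 | exact Or.inr b'.1
    · exact ⟨rt c (d, true) d2.symm, (long_rt _).2 ⟨e, d1⟩, by
        rw [pair_long _ e d1 _ e, ip_self, ip_ne (a := (d, true)) d2]; rfl, by
        rw [pair_rt, ip_self, ip_ne e', ip_ne (a := (d, true)) d2, ip_ne (a := (d, true)) d3]; rfl⟩
    · exact ⟨rt c (d, true) d3.symm, (long_rt _).2 ⟨e, d1⟩, by
        rw [pair_long _ e d1 _ e, ip_self, ip_ne (a := (d, true)) d3]; rfl, by
        rw [pair_rt, ip_self, ip_ne e'.symm, ip_ne (a := (d, true)) d2, ip_ne (a := (d, true)) d3]; rfl⟩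
  rt4 r r' h h' := by
    obtain ⟨s, c, e, rfl⟩ := exists_short h
    obtain ⟨t, d, e', rfl⟩ := exists_short h'
    rw [γ_short t e', pair_short _ _ e e', pair_short _ _ e e', sg_not]
    cases s <;> cases t <;> simp only [sg_true, sg_false] <;> omega
  rt5 r r' h h' := by
    obtain ⟨s, c, e, rfl⟩ := exists_short h
    obtain ⟨t, d, e', rfl⟩ := exists_short h'
    rw [γ_short t e', pair_short _ _ e e', pair_short _ _ e e', sg_not]
    cases s <;> cases t <;> simp only [sg_true, sg_false] <;> omega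
  big α := le_trans (by norm_num) (big hm α)
  nb α h := ⟨⟨m, by omega⟩, fun k => by rw [eq_top (by omega) h, pair_top hm]⟩
  rig k h1 h2 h3 i := by
    simp only [long_simple, orb_iff, adj_iff] at h1 h2 h3 ⊢
    exact (rig_nat k (fun i hi => by have := h1 i; omega) h2 (fun i j a b => h3 i j (by omega))
      i i.2).symm
  sub := by
    obtain ⟨m, rfl⟩ : ∃ k, m = k + 1 := ⟨m - 1, by omega⟩
    exact ⟨_, _, _, _, R m, emb, sub (by omega)⟩

theorem vec_flip (i j : Fin (m + 2)) (h : i ≠ j) (r : Φ m) (k : Fin (m + 2)) :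
    vec ((R m).τ (rt (i, true) (j, true) h) ((R m).τ (rt (i, true) (j, false) h) r)) k =
      if k = i ∨ k = j then - vec r k else vec r k := by
  rw [vec_τ, H43.TW.pair_τ _ (by
    rw [pair_rt, ip_self, ip_ne (a := (i, true)) h, ip_ne (a := (j, true)) h.symm]; simp [ip]), vec_τ,
    pair_eq, pair_eq, vec_rt, vec_rt]
  simp only [add_dotProduct, ε_dot, Pi.sub_apply, Pi.smul_apply, Pi.add_apply, ε_apply, sg_true,
    sg_false, smul_eq_mul]
  by_cases a : k = i
  · subst a; simp [h]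
  · by_cases b : k = j
    · subst b; simp [a]
    · simp [a, b]

theorem opp (hm : Odd m) : Opp (R m) (γ m) := by
  have key : ∀ k : ℕ, 2 * k < m + 2 → ∃ w ∈ (R m).W, ∀ r i,
      vec (w r) i = if 1 ≤ (i : ℕ) ∧ (i : ℕ) ≤ 2 * k then - vec r i else vec r i := by
    intro k
    induction k with
    | zero => exact fun _ => ⟨1, one_mem _, fun r i => (if_neg (by omega)).symm⟩
    | succ k ih =>
      intro h
      obtain ⟨w, hw, e⟩ := ih (by omega)
      have h' : (⟨2 * k + 1, by omega⟩ : Fin (m + 2)) ≠ ⟨2 * k + 2, by omega⟩ := by simp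
      refine ⟨_, mul_mem (mul_mem ((R m).τ_mem_W (rt (_, true) (_, true) h'))
        ((R m).τ_mem_W (rt (_, true) (_, false) h'))) hw, fun r i => ?_⟩
      rw [Perm.mul_apply, Perm.mul_apply, vec_flip, e]
      simp only [Fin.ext_iff]
      split_ifs <;> omega
  obtain ⟨k, rfl⟩ := hm
  obtain ⟨w, hw, e⟩ := key (k + 1) (by omega)
  refine ⟨w, hw, fun r => vec_inj (funext fun i => ?_)⟩
  have := i.2
  rw [e, vec_neg, vec_γ]
  simp only [ν, Fin.ext_iff, Fin.val_zero, Pi.neg_apply]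
  split_ifs <;> omega

end Cfsg.Agent.H66.Dn
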