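import Cfsg.Agent.H66.L3Act

/-!
# The Sylow subgroup in the field case for `L₃(q)`
-/

set_option autoImplicit false
set_option linter.style.haveILetI false
set_option linter.unusedSectionVars false

namespace Cfsg.Agent.H66.L3

open Cfsg Cfsg.Agent.H63 Cfsg.Agent.H63.SL Cfsg.Agent.H35.L3 Subgroup
open Cfsg.Agent.H8 (IsSylowIn)
open scoped commutatorElement

universe u v

theorem tc_sq {G : Type u} [Group G] {L : Subgroup G} {t : G} (T : Tc L t) : t * t = 1 := by
  rw [← _root_.pow_two, ← T.t2, pow_orderOf_eq_one]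

theorem mem_C1 {G : Type u} [Group G] {g t : G} : g ∈ C1[t] ↔ Commute g t :=
  mem_centralizer_singleton_iff

theorem commute_iff_conj {G : Type u} [Group G] {g t : G} : Commute t g ↔ t * g * t⁻¹ = g :=
  mul_inv_eq_iff_eq_mul.symm

/-- The elements of `W ⊔ ⟨t⟩` for an involution `t` normalizing `W`. -/
theorem mem_sup_zp {G : Type u} [Group G] {W : Subgroup G} {t g : G} (t2 : t * t = 1)
    (hN : t ∈ N[W]) : g ∈ W ⊔ zpowers t ↔ g ∈ W ∨ t * g ∈ W := by
  have ti : t⁻¹ = t := inv_eq_of_mul_eq_one_right t2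
  constructor
  · intro hg
    let H : Subgroup G :=
      { carrier := {g | g ∈ W ∨ t * g ∈ W}
        one_mem' := Or.inl W.one_mem
        mul_mem' := by
          rintro a b (ha | ha) (hb | hb)
          · exact Or.inl (W.mul_mem ha hb)
          · refine Or.inr ?_
            have := W.mul_mem (conj_mem_of_N hN ha) hb
            convert this using 1
            group
          · refine Or.inr ?_
            have := W.mul_mem ha hb
            convert this using 1
            group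
          · refine Or.inl ?_
            have := W.mul_mem (conj_mem_of_N hN ha) (by simpa [ti] using hb : t⁻¹⁻¹ * b ∈ W)
            convert this using 1
            rw [← mul_assoc t t, t2]
            group
        inv_mem' := by
          rintro a (ha | ha)
          · exact Or.inl (W.inv_mem ha)
          · refine Or.inr ?_
            have := conj_mem_of_N hN (W.inv_mem ha)
            convert this using 1
            rw [mul_inv_rev, mul_assoc, mul_assoc, ← mul_inv_rev, t2]
            group }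
    have : W ⊔ zpowers t ≤ H :=
      sup_le (fun a ha => Or.inl ha) (zpowers_le.2 (Or.inr (by rw [t2]; exact W.one_mem)))
    exact this hg
  · rintro (h | h)
    · exact mem_sup_left h
    · have : g = t * (t * g) := by rw [← mul_assoc, t2, one_mul]
      rw [this]
      exact mul_mem (mem_sup_right (mem_zpowers t)) (mem_sup_left h)

theorem isPGroup_zp {G : Type u} [Group G] {t : G} (h : Is2 t) : IsPGroup 2 (zpowers t) := by
  obtain ⟨k, hk⟩ := h
  rintro ⟨_, n, rfl⟩
  refine ⟨k, Subtype.ext ?_⟩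
  change (t ^ n) ^ 2 ^ k = 1
  rw [← zpow_natCast, ← zpow_mul, mul_comm, zpow_mul, zpow_natCast, hk, one_zpow]

theorem is2_of_sq {G : Type u} [Group G] {t : G} (h : t * t = 1) : Is2 t :=
  ⟨1, by simpa [_root_.pow_two] using h⟩

section Dbl

variable {F : Type v} [Field F] {G : Type u} [Group G] {A : Type u} [Field A]
  {x : Fin 3 → Fin 3 → F → G} {y : Fin 3 → Fin 3 → A → G} {t : G} {i : F →+* A} {σ : A ≃+* A}

theorem w3_res (D : Dbl3 x t i σ y) (r s e : F) : w3 y (i r) (i s) (i e) = w3 x r s e := by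
  simp only [w3]
  rw [D.res 0 1 (by decide), D.res 1 2 (by decide), D.res 0 2 (by decide)]

theorem t_w3 (D : Dbl3 x t i σ y) (r s e : A) :
    t * w3 y r s e * t⁻¹ = w3 y (σ r) (σ s) (σ e) := by
  simp only [w3]
  rw [← D.conj 0 1 (by decide), ← D.conj 1 2 (by decide), ← D.conj 0 2 (by decide)]
  group

theorem ac_t (D : Dbl3 x t i σ y) : AC y t false σ 1 1 :=
  ⟨one_ne_zero, one_ne_zero, fun r s e => ⟨σ e, by simp [t_w3 D]⟩, fun e => by simp [t_w3 D]⟩

theorem act_t (D : Dbl3 x t i σ y) (p : Pin3 y) : Act y t false σ :=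
  (act_iff D.st p).2 ⟨_, _, ac_t D⟩

theorem sig_ne (D : Dbl3 x t i σ y) : σ ≠ 1 := by
  rintro rfl
  obtain ⟨ω, h⟩ := D.tr
  have : ω = ω + 1 := h
  simp at this

theorem sig_sq (D : Dbl3 x t i σ y) : σ * σ = 1 := RingEquiv.ext D.sq

theorem sig_i (D : Dbl3 x t i σ y) (b : F) : σ (i b) = i b := (D.fix _).2 ⟨b, rfl⟩

theorem finite_A [Finite F] (D : Dbl3 x t i σ y) : Finite A :=
  Nat.finite_of_card_ne_zero (by rw [D.card]; exact pow_ne_zero _ Nat.card_pos.ne')

theorem U_le_W (D : Dbl3 x t i σ y) (px : Pin3 x) (p : Pin3 y) : U3 x ≤ U3 y := fun g hg => by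
  obtain ⟨r, s, e, rfl⟩ := (mem_U px).1 hg
  rw [← w3_res D]
  exact w3_mem p _ _ _

theorem w3_commute_t (D : Dbl3 x t i σ y) (p : Pin3 y) {r s e : A} :
    Commute (w3 y r s e) t ↔ σ r = r ∧ σ s = s ∧ σ e = e := by
  rw [Commute.symm_iff, commute_iff_conj, t_w3 D]
  exact ⟨w3_inj p, fun h => by rw [h.1, h.2.1, h.2.2]⟩

theorem W_fix (D : Dbl3 x t i σ y) (px : Pin3 x) (p : Pin3 y) : U3 y ⊓ C1[t] = U3 x := by
  ext g
  constructor
  · rintro ⟨hg, hc⟩
    obtain ⟨r, s, e, rfl⟩ := (mem_U p).1 hg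
    obtain ⟨h1, h2, h3⟩ := (w3_commute_t D p).1 (mem_C1.1 hc)
    obtain ⟨r, rfl⟩ := (D.fix _).1 h1
    obtain ⟨s, rfl⟩ := (D.fix _).1 h2
    obtain ⟨e, rfl⟩ := (D.fix _).1 h3
    rw [w3_res D]
    exact w3_mem px _ _ _
  · intro hg
    refine ⟨U_le_W D px p hg, ?_⟩
    obtain ⟨r, s, e, rfl⟩ := (mem_U px).1 hg
    rw [← w3_res D]
    exact mem_C1.2 ((w3_commute_t D p).2 ⟨sig_i D _, sig_i D _, sig_i D _⟩)

theorem W_h90 (D : Dbl3 x t i σ y) (p : Pin3 y) (t2 : t * t = 1) {w : G} (hw : w ∈ U3 y)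
    (h : t * w * (t * w) = 1) : ∃ v ∈ U3 y, t * w = v * t * v⁻¹ := by
  obtain ⟨r, s, e, rfl⟩ := (mem_U p).1 hw
  have ti : t⁻¹ = t := inv_eq_of_mul_eq_one_right t2
  have two := D.st.two
  have h1 : t * w3 y r s e * t⁻¹ * w3 y r s e = 1 := by rw [ti, ← h]; group
  rw [t_w3 D, w3_mul p] at h1
  obtain ⟨a, b, c⟩ := w3_eq_one D.st p h1
  obtain ⟨ω, hω⟩ := D.tr
  have a' : σ r = r := by linear_combination a - r * two
  have b' : σ s = s := by linear_combination b - s * two
  have c' : σ e = e + r * s := by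
    rw [b'] at c
    linear_combination c - (e + r * s) * two
  refine ⟨w3 y (r * ω) (s * ω) ((e + r * ω * s) * ω), w3_mem p _ _ _, ?_⟩
  have k : t * w3 y (r * ω) (s * ω) ((e + r * ω * s) * ω) * t⁻¹ =
      w3 y r s e * w3 y (r * ω) (s * ω) ((e + r * ω * s) * ω) := by
    rw [t_w3 D, w3_mul p]
    simp only [map_mul, map_add, a', b', c', hω]
    congr 1
    · ring
    · ring
    · linear_combination (r * s * ω + r * s) * two
  rw [eq_mul_inv_iff_mul_eq, mul_assoc, ← k, ← mul_assoc, ← mul_assoc, t2, one_mul, ti]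

theorem card_fix [Finite F] (D : Dbl3 x t i σ y) (c : A) :
    Nat.card {r : A | c * σ r = r} ≤ Nat.card F := by
  by_cases h : ∃ r0, r0 ≠ 0 ∧ c * σ r0 = r0
  · obtain ⟨r0, h0, h1⟩ := h
    have : ∀ r : {r : A | c * σ r = r}, ∃ b, (r : A) = i b * r0 := by
      rintro ⟨r, hr⟩
      have hr' : c * σ r = r := hr
      have hc : c ≠ 0 := by
        rintro rfl
        exact h0 (by simpa using h1.symm)
      have hs : σ r0 ≠ 0 := by simpa using h0
      obtain ⟨b, hb⟩ := (D.fix (r / r0)).1 (by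
        rw [map_div₀, div_eq_div_iff hs h0]
        apply mul_left_cancel₀ hc
        linear_combination r0 * hr' - r * h1)
      exact ⟨b, by rw [← hb]; field_simp⟩
    choose f hf using this
    exact Nat.card_le_card_of_injective f fun a b k => Subtype.ext (by rw [hf a, hf b, k])
  · push Not at h
    refine Nat.card_le_card_of_injective (fun _ => (0 : F)) ?_
    rintro ⟨a, ha⟩ ⟨b, hb⟩ -
    have a0 : a = 0 := by
      by_contra k
      exact h a k ha
    have b0 : b = 0 := by
      by_contra k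
      exact h b k hb
    exact Subtype.ext (a0.trans b0.symm)

end Dbl

section Main

variable {F : Type v} [Field F] [Finite F] {G : Type u} [Group G] [Finite G] {A : Type u} [Field A]
  {L S : Subgroup G} {x : Fin 3 → Fin 3 → F → G} {y : Fin 3 → Fin 3 → A → G} {t : G}
  {i : F →+* A} {σ : A ≃+* A}

/-- The elements of `S` of trivial type lie in `W`. -/
theorem s00 (M : M3 L x) (ka : KA L x) (px : Pin3 x) (p : Pin3 y) (T : Tc L t) (r2 : R2 L t)
    (D : Dbl3 x t i σ y) (act : ∀ g ∈ N[U3 y], ∃ ε φ, Act y g ε φ)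
    (hS : IsPGroup 2 S) (SN : S ≤ N[U3 y]) (WS : U3 y ≤ S) (tS : t ∈ S) :
    ∀ s ∈ S, Act y s false 1 → s ∈ U3 y := by
  have h := D.st
  have t2 := tc_sq T
  have ti : t⁻¹ = t := inv_eq_of_mul_eq_one_right t2
  have at' := act_t D p
  have s2 := sig_sq D
  have tW : t ∉ U3 y := fun k => sig_ne D (act_uniq h p at' (act_U h p k)).2
  -- the normalizer step
  have step : ∀ s ∈ S, Act y s false 1 → s ∈ N[U3 y ⊔ zpowers t] → s ∈ U3 y := by
    intro s hs as hn
    have k1 := conj_mem_of_N hn (mem_sup_right (mem_zpowers t))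
    rcases (mem_sup_zp t2 (SN tS)).1 k1 with k | k
    · exact absurd ((mem_normalizer_iff.1 (SN hs) t).2 k) tW
    obtain ⟨v, hv, e⟩ := W_h90 D p t2 k (by
      rw [← mul_assoc t t, t2, one_mul]
      calc s * t * s⁻¹ * (s * t * s⁻¹) = s * (t * t) * s⁻¹ := by group
        _ = 1 := by rw [t2]; group)
    rw [← mul_assoc t t, t2, one_mul] at e
    have gt : Commute (v⁻¹ * s) t := by
      rw [commute_iff_conj]
      calc v⁻¹ * s * t * (v⁻¹ * s)⁻¹ = v⁻¹ * (s * t * s⁻¹) * v := by group
        _ = t := by rw [e]; group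
    have gS : v⁻¹ * s ∈ S := S.mul_mem (WS ((U3 y).inv_mem hv)) hs
    have ag : Act y (v⁻¹ * s) false 1 := by
      simpa using act_mul h p (act_U h p ((U3 y).inv_mem hv)) as
    obtain ⟨c1, c2, k0⟩ := (act_iff h p).1 ag
    obtain ⟨rfl, rfl⟩ := k0.two h p (is2_of_mem hS gS)
    obtain ⟨u, hu, k, hk, e1⟩ := ka.c2 _ (T.cN (mem_C1.2 gt)) (by
      intro u hu
      have ut : Commute u t := mem_C1.1 ((W_fix D px p).ge hu).2
      have ct : Commute ⁅v⁻¹ * s, u⁆ t := by
        rw [commutatorElement_def]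
        exact ((gt.mul_left ut).mul_left gt.inv_left).mul_left ut.inv_left
      obtain ⟨a, b, c, rfl⟩ := (mem_U px).1 hu
      obtain ⟨e', he⟩ := k0.w (i a) (i b) (i c)
      have m : ∀ a : A, (1 : A ≃+* A) a = a := fun _ => rfl
      simp only [Bool.false_eq_true, if_false, one_mul, m] at he
      rw [commutatorElement_def, ← w3_res D, he, w3_inv h p, w3_mul p, add_self' h,
        add_self' h] at ct ⊢
      obtain ⟨b', hb⟩ := (D.fix _).1 ((w3_commute_t D p).1 ct).2.2
      rw [hb, ← map_zero i, w3_res D]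
      exact (mem_Z M.st px).2 ⟨_, rfl⟩)
    have uW := U_le_W D px p hu
    have ut : Commute u t := mem_C1.1 ((W_fix D px p).ge hu).2
    have e2 : k = u⁻¹ * (v⁻¹ * s) := by rw [e1]; group
    have kS : k ∈ S := e2 ▸ S.mul_mem (WS ((U3 y).inv_mem uW)) gS
    rcases r2 k hk (e2 ▸ ut.inv_left.mul_left gt) (is2_of_mem hS kS) with rfl | rfl
    · have : s = v * u := by rw [mul_one] at e1; rw [← e1]; group
      rw [this]
      exact mul_mem hv uW
    · have := act_mul h p (act_U h p uW) at'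
      rw [← e1] at this
      exact absurd (by simpa using (act_uniq h p this ag).2) (sig_ne D)
  let P : Subgroup G :=
    { carrier := {g | g ∈ S ∧ (Act y g false 1 ∨ Act y g false σ)}
      one_mem' := ⟨S.one_mem, Or.inl (act_U h p (U3 y).one_mem)⟩
      mul_mem' := by
        rintro a b ⟨ha, h1 | h1⟩ ⟨hb, h2 | h2⟩ <;> refine ⟨S.mul_mem ha hb, ?_⟩ <;>
          have := act_mul h p h1 h2
        · exact Or.inl (by simpa using this)
        · exact Or.inr (by simpa using this)
        · exact Or.inr (by simpa using this)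
        · exact Or.inl (by simpa [s2] using this)
      inv_mem' := by
        rintro a ⟨ha, h1⟩
        refine ⟨S.inv_mem ha, ?_⟩
        obtain ⟨ε, φ, k⟩ := act _ (SN (S.inv_mem ha))
        rcases h1 with h1 | h1
        · have := act_mul h p h1 k
          rw [mul_inv_cancel] at this
          obtain ⟨e1, e2⟩ := act_uniq h p this (act_U h p (U3 y).one_mem)
          have e1' : ε = false := by simpa using e1
          rw [one_mul] at e2
          exact Or.inl (e1' ▸ e2 ▸ k)
        · have := act_mul h p h1 k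
          rw [mul_inv_cancel] at this
          obtain ⟨e1, e2⟩ := act_uniq h p this (act_U h p (U3 y).one_mem)
          have e1' : ε = false := by simpa using e1
          have e3 : φ = σ := mul_left_cancel (e2.trans s2.symm)
          exact Or.inr (e1' ▸ e3 ▸ k) }
  have JP : U3 y ⊔ zpowers t ≤ P :=
    sup_le (fun g hg => ⟨WS hg, Or.inl (act_U h p hg)⟩) (zpowers_le.2 ⟨tS, Or.inr at'⟩)
  have PS : P ≤ S := fun g hg => hg.1
  have : Fact (Nat.Prime 2) := ⟨Nat.prime_two⟩
  have PJ : U3 y ⊔ zpowers t = P := by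
    by_contra hne
    obtain ⟨n, ⟨⟨nS, hn⟩, nN⟩, nJ⟩ := SetLike.exists_of_lt
      (H8.lt_inf_normalizer_of_lt (hS.to_le PS) (lt_of_le_of_ne JP hne))
    apply nJ
    rcases hn with hn | hn
    · exact mem_sup_left (step n nS hn nN)
    · refine (mem_sup_zp t2 (SN tS)).2 (Or.inr (step _ (S.mul_mem tS nS) ?_ ?_))
      · simpa [s2] using act_mul h p at' hn
      · exact mul_mem (le_normalizer (mem_sup_right (mem_zpowers t))) nN
  intro s hs as
  have : s ∈ U3 y ⊔ zpowers t := PJ ▸ (⟨hs, Or.inl as⟩ : s ∈ P)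
  rcases (mem_sup_zp t2 (SN tS)).1 this with k | k
  · exact k
  · exact absurd (by simpa using (act_uniq h p (act_mul h p at' as) (act_U h p k)).2) (sig_ne D)

/-- An involution modulo `W` has field part `1` or `σ`. -/
theorem act_sq (p : Pin3 y) (D : Dbl3 x t i σ y) {g : G} {ε : Bool} {φ : A ≃+* A}
    (k : Act y g ε φ) (hg : g * g ∈ U3 y) : φ = 1 ∨ φ = σ := by
  have := finite_A D
  exact aut_two (sig_sq D) (act_uniq D.st p (act_mul D.st p k k) (act_U D.st p hg)).2 (sig_ne D)

theorem j3 (four : 4 ≤ Nat.card F) (p : Pin3 y) (D : Dbl3 x t i σ y)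
    (act : ∀ g ∈ N[U3 y], ∃ ε φ, Act y g ε φ) (SN : S ≤ N[U3 y])
    (h0 : ∀ s ∈ S, Act y s false 1 → s ∈ U3 y) : J3 y S := by
  classical
  have h := D.st
  have := finite_A D
  intro E ES sq big
  by_cases hE : E ≤ U3 y
  · rcases elem_le h p hE sq with k | k
    · exact Or.inl (eq_of_le_of_card_ge k (by rw [p.cardR]; exact big))
    · exact Or.inr (eq_of_le_of_card_ge k (by rw [p.cardC]; exact big))
  exfalso
  have cm : ∀ a ∈ E, ∀ b ∈ E, a * b * a⁻¹ = b := by
    intro a ha b hb
    have h1 := inv_eq_of_mul_eq_one_right (sq _ (E.mul_mem ha hb))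
    rw [mul_inv_rev, inv_eq_of_mul_eq_one_right (sq _ ha),
      inv_eq_of_mul_eq_one_right (sq _ hb)] at h1
    rw [← h1]; group
  have ty : ∀ e ∈ E, ∃ ε, Act y e ε 1 ∨ Act y e ε σ := by
    intro e he
    obtain ⟨ε, φ, k⟩ := act e (SN (ES he))
    rcases act_sq p D k (by rw [sq e he]; exact one_mem _) with rfl | rfl
    · exact ⟨ε, Or.inl k⟩
    · exact ⟨ε, Or.inr k⟩
  have idx : ∀ T : Set (Bool × Bool), (∀ e ∈ E, ∃ b ∈ T, Act y e b.1 (if b.2 then σ else 1)) →
      Nat.card E ≤ Nat.card T * Nat.card ↥(E ⊓ U3 y) := by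
    intro T hT
    refine card_le_of_rel E _ T _ hT fun e he e' he' b k k' => ?_
    rw [inv_eq_of_mul_eq_one_right (sq _ he)]
    refine h0 _ (S.mul_mem (ES he) (ES he')) ?_
    have := act_mul h p k k'
    obtain ⟨b1, b2⟩ := b
    cases b2 <;> simpa [sig_sq D] using this
  have hq : Nat.card A = Nat.card F ^ 2 := D.card
  by_cases hε : ∃ e ∈ E, ∃ φ, Act y e true φ
  · obtain ⟨e, he, φ, k⟩ := hε
    obtain ⟨c1, c2, k⟩ := (act_iff h p).1 k
    have h1 : E ⊓ U3 y ≤ X3 y 0 2 := by
      rintro g ⟨hg, hw⟩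
      obtain ⟨r, s, a, rfl⟩ := (mem_U p).1 hw
      obtain ⟨a', ha⟩ := k.w r s a
      rw [cm e he _ hg] at ha
      obtain ⟨b1, b2, -⟩ := w3_inj p ha
      simp only [if_true] at b1 b2
      have b3 := sq _ hg
      rw [w3_sq h p] at b3
      have : r = 0 ∧ s = 0 := by
        rcases mul_eq_zero.1 (w3_eq_one h p b3).2.2 with b | b
        · exact ⟨b, by rw [b2, b]; simp⟩
        · exact ⟨by rw [b1, b]; simp, b⟩
      rw [this.1, this.2]
      exact (mem_Z h p).2 ⟨_, rfl⟩
    have h2 := card_le_of_le h1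
    rw [p.cardX 0 2 (by decide)] at h2
    have h3 := idx Set.univ (by
      intro e he
      obtain ⟨ε, k | k⟩ := ty e he
      · exact ⟨(ε, false), trivial, k⟩
      · exact ⟨(ε, true), trivial, k⟩)
    have h4 : Nat.card (Set.univ : Set (Bool × Bool)) = 4 := by simp
    rw [h4] at h3
    have h5 : 16 ≤ Nat.card A := by rw [hq]; nlinarith
    nlinarith
  · push Not at hε
    have ty' : ∀ e ∈ E, Act y e false 1 ∨ Act y e false σ := by
      intro e he
      obtain ⟨ε, k⟩ := ty e he
      cases ε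
      · exact k
      · exact k.elim (fun k => (hε e he _ k).elim) fun k => (hε e he _ k).elim
    obtain ⟨e, he, heW⟩ := SetLike.not_le_iff_exists.1 hE
    obtain ⟨c1, c2, k⟩ := (act_iff h p).1
      ((ty' e he).resolve_left fun k => heW (h0 e (ES he) k))
    have h3 := idx {(false, false), (false, true)} (by
      intro e he
      rcases ty' e he with k | k
      · exact ⟨(false, false), by simp, k⟩
      · exact ⟨(false, true), by simp, k⟩)
    have h4 : Nat.card ({(false, false), (false, true)} : Set (Bool × Bool)) = 2 := by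
      rw [Nat.card_coe_set_eq, Set.ncard_pair (by decide)]
    rw [h4] at h3
    have h5 := card_le_of_rel (E ⊓ U3 y) (X3 y 0 2)
      ({r : A | c1 * σ r = r} ×ˢ {r : A | c2 * σ r = r}) (fun g b => ∃ a, g = w3 y b.1 b.2 a)
      (by
        rintro g ⟨hg, hw⟩
        obtain ⟨r, s, a, rfl⟩ := (mem_U p).1 hw
        obtain ⟨a', ha⟩ := k.w r s a
        rw [cm e he _ hg] at ha
        obtain ⟨b1, b2, -⟩ := w3_inj p ha
        simp only [Bool.false_eq_true, if_false] at b1 b2
        exact ⟨(r, s), ⟨b1.symm, b2.symm⟩, a, rfl⟩)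
      (by
        rintro _ - _ - ⟨r, s⟩ ⟨a, rfl⟩ ⟨a', rfl⟩
        rw [w3_inv h p, w3_mul p, add_self' h, add_self' h]
        exact (mem_Z h p).2 ⟨_, rfl⟩)
    have h6 := card_le_of_rel (E ⊓ U3 y ⊓ X3 y 0 2) ⊥ {r : A | c1 * c2 * σ r = r}
      (fun g b => g = w3 y 0 0 b)
      (by
        rintro g ⟨⟨hg, -⟩, hw⟩
        obtain ⟨a, rfl⟩ := (mem_Z h p).1 hw
        have ha := k.z a
        rw [cm e he _ hg] at ha
        exact ⟨a, (w3_inj p ha).2.2.symm, rfl⟩)
      (by
        rintro _ - _ - a rfl rfl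
        simp)
    rw [inf_bot_eq, card_bot, mul_one] at h6
    have h7 : Nat.card ↥({r : A | c1 * σ r = r} ×ˢ {r : A | c2 * σ r = r}) ≤
        Nat.card F * Nat.card F := by
      rw [Nat.card_congr (Equiv.Set.prod _ _), Nat.card_prod]
      exact Nat.mul_le_mul (card_fix D _) (card_fix D _)
    have h8 := h5.trans (Nat.mul_le_mul h7 (h6.trans (card_fix D _)))
    rw [hq] at big
    have h9 : 0 < Nat.card F * Nat.card F * Nat.card F := by positivity
    nlinarith

theorem syl_of_j3 (h : St3 y) (p : Pin3 y) (hS : IsSylowIn 2 S N[U3 y]) (WS : U3 y ≤ S)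
    (J : J3 y S) : IsSylowIn 2 S ⊤ := by
  have : Fact (Nat.Prime 2) := ⟨Nat.prime_two⟩
  refine H8.isSylowIn_of_maximal le_top hS.isPGroup fun Q hQ _ SQ => ?_
  by_contra hc
  have lt : S < Q := lt_of_le_of_ne SQ fun e => hc e.ge
  have lt' := H8.lt_inf_normalizer_of_lt hQ lt
  refine lt'.ne (hS.eq_of_le hQ.to_inf_left ?_ lt'.le).symm
  rintro n ⟨-, hn⟩
  have key : ∀ V : Subgroup G, V ≤ U3 y → (∀ g ∈ V, g * g = 1) → Nat.card V = Nat.card A ^ 2 →
      V ≤ (U3 y).comap (MulAut.conj n).toMonoidHom := by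
    intro V hV sq hc
    rw [← map_le_iff_le_comap]
    have := J (V.map (MulAut.conj n).toMonoidHom) (by
      rintro _ ⟨g, hg, rfl⟩
      exact conj_mem_of_N hn (WS (hV hg))) (by
      rintro _ ⟨g, hg, rfl⟩
      rw [← map_mul, sq g hg, map_one]) (by
      rw [card_map_of_injective (MulAut.conj n).injective, hc])
    rcases this with e | e <;> rw [e]
    · exact R_le y
    · exact C_le y
  have : U3 y ≤ (U3 y).comap (MulAut.conj n).toMonoidHom :=
    sup_le (key _ (R_le y) (R_sq h p) (p.cardR 0)) (key _ (C_le y) (C_sq h p) (p.cardC 2))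
  exact mem_N_of_conj fun g hg => this hg

end Main

/-- **F1** -/
theorem f1_of (hp : PinStmt3.{u, v}) (hp' : PinStmt3.{u, u}) (ha : ActStmt.{u, u})
    (hk : KAStmt.{u, v}) : F1Stmt.{u, v} := by
  intro F _ _ G _ _ L x M t A _ i σ y T r2 D
  have : Fact (Nat.Prime 2) := ⟨Nat.prime_two⟩
  have := finite_A D
  have h := D.st
  have px := hp x M.st
  have p := hp' y h
  have act := ha y h
  have t2 := tc_sq T
  have s2 := sig_sq D
  have at' := act_t D p
  have tN : t ∈ N[U3 y] := (ac_t D).mem_N p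
  obtain ⟨S, hS, le⟩ := H8.exists_isSylowIn_ge (p := 2) (Q := zpowers t ⊔ U3 y) (H := N[U3 y])
    ((isPGroup_zp (is2_of_sq t2)).to_sup_of_normal_right' (p.two 0 2 (by decide))
      (zpowers_le.2 tN)) (sup_le (zpowers_le.2 tN) le_normalizer)
  have WS : U3 y ≤ S := le_sup_right.trans le
  have tS : t ∈ S := le (mem_sup_left (mem_zpowers t))
  have h0 := s00 M (hk L x M) px p T r2 D act hS.isPGroup hS.le WS tS
  have J := j3 M.four p D act hS.le h0
  refine ⟨S, ⟨WS, tS, hS.le, fun k => sig_ne D (act_uniq h p at' (act_U h p k)).2,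
    syl_of_j3 h p hS WS J, W_fix D px p, fun w hw => W_h90 D p t2 hw, ?_, ?_⟩, J, h0⟩
  · rw [commutator_le]
    intro a ha b hb
    obtain ⟨ε, φ, k⟩ := act a (hS.le ha)
    obtain ⟨ε', φ', k'⟩ := act b (hS.le hb)
    obtain ⟨ε'', φ'', k''⟩ := act _ (hS.le (S.inv_mem (S.mul_mem hb ha)))
    have e1 := act_mul h p (act_mul h p k' k) k''
    rw [mul_inv_cancel] at e1
    obtain ⟨e2, e3⟩ := act_uniq h p e1 (act_U h p (U3 y).one_mem)
    have e4 := act_mul h p (act_mul h p k k') k''
    rw [Bool.xor_comm ε, H73.ringAut_mul_comm φ, e2, e3] at e4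
    have : ⁅a, b⁆ = a * b * (b * a)⁻¹ := by rw [commutatorElement_def]; group
    rw [this]
    exact h0 _ (S.mul_mem (S.mul_mem ha hb) (S.inv_mem (S.mul_mem hb ha))) e4
  · have key : ∀ a ∈ S, a * a ∈ U3 y → a ∉ U3 y → t * a ∉ U3 y →
        Act y a true 1 ∨ Act y a true σ := by
      intro a ha sq h1 h2
      obtain ⟨ε, φ, k⟩ := act a (hS.le ha)
      cases ε
      · rcases act_sq p D k sq with rfl | rfl
        · exact (h1 (h0 a ha k)).elim
        · exact (h2 (h0 _ (S.mul_mem tS ha) (by simpa [s2] using act_mul h p at' k))).elim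
      · rcases act_sq p D k sq with rfl | rfl
        · exact Or.inl k
        · exact Or.inr k
    intro a ha b hb sa sb a1 b1 a2 b2
    have ab := S.mul_mem ha hb
    rcases key a ha sa a1 a2 with k | k <;> rcases key b hb sb b1 b2 with k' | k' <;>
      have e := act_mul h p k k'
    · exact Or.inl (h0 _ ab (by simpa using e))
    · exact Or.inr (h0 _ (S.mul_mem tS ab) (by simpa [s2] using act_mul h p at' e))
    · exact Or.inr (h0 _ (S.mul_mem tS ab) (by simpa [s2] using act_mul h p at' e))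
    · exact Or.inl (h0 _ ab (by simpa [s2] using e))

end Cfsg.Agent.H66.L3
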