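import Mathlib
import Cfsg.Agent.H37.FkKit
import Cfsg.Agent.H59.OnC

/-!
# The 2-fusion system of the O'Nan group
-/

set_option autoImplicit false
set_option maxRecDepth 200000

namespace Cfsg.Agent.H66.FkON

open Cfsg.Agent.H44 Cfsg.Agent.H59 Cfsg.Agent.H37.FK Subgroup
open Cfsg.Agent.H59.On hiding Good

/-- a class with a nontrivial element contains an involution -/
theorem exists_inv {K : Type*} [Group K] {N : Subgroup K} {X : Set K} (h : XC N X) :
    ∀ (k : ℕ) (y : K), y ∈ X → y ≠ 1 → y ^ 2 ^ k = 1 → ∃ s ∈ X, s * s = 1 ∧ s ≠ 1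
  | 0, y, _, h1, h2 => absurd (by simpa using h2) h1
  | k + 1, y, hy, h1, h2 => by
    by_cases e : y * y = 1
    · exact ⟨y, hy, e, h1⟩
    · exact exists_inv h k (y * y) (pow_two y ▸ h.pow hy 2) e
        (by rw [← pow_two, ← pow_mul, ← pow_succ', h2])

theorem pg : IsPGroup 2 S2 := IsPGroup.of_card card_S2

/-- the Sylow subgroup -/
noncomputable def SS : Sylow 2 Γ := pg.toSylow (by
  have h := S2.card_mul_index
  rw [card_S2, ONM.card] at h
  omega)

theorem SS_eq : (SS : Subgroup Γ) = S2 := rfl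

theorem mS (w : List ℕ) (h : comK eqB [[1], [6]] [w] = true) : ev ν w ∈ S2 := by
  have := ko.com h w (by simp)
  simp only [List.forall_mem_cons, ev_single] at this
  exact ⟨this.1, Or.inl this.2.1⟩

theorem mτ : ev ν τ ∈ S2 := ⟨τ_eq.1, Or.inr τ_eq.2⟩

theorem sqW (w : List ℕ) (h : eqB (w ++ w) [] = true) : ev ν w * ev ν w = 1 := by
  rw [← ev_append]; exact ko.eq _ _ h

/-- the Sylow subgroup is generated by involutions -/
theorem S2_gen {P : Subgroup Γ} (h : ∀ s ∈ S2, s * s = 1 → s ∈ P) : S2 ≤ P := by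
  have k : ∀ i ∈ [1, 3, 4, 6], ν i ∈ P := fun i hi => by
    have := (by decide +kernel : ∀ i ∈ [1, 3, 4, 6], comK eqB [[1], [6]] [[i]] = true ∧
      eqB ([i] ++ [i]) [] = true) i hi
    exact ev_single ν i ▸ h _ (mS _ this.1) (sqW _ this.2)
  have kτ : ev ν τ ∈ P := by
    have := h (ev ν (τ ++ [3])) (ev_append ν τ [3] ▸ mul_mem mτ (mS _ (by decide +kernel)))
      (sqW _ (by decide +kernel))
    rw [ev_append, ev_single] at this
    exact (mul_mem_cancel_right (k 3 (by simp))).1 this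
  have k7 : ν 7 ∈ P := by
    have := h (ev ν (τ ++ [7])) (ev_append ν τ [7] ▸ mul_mem mτ (mS _ (by decide +kernel)))
      (sqW _ (by decide +kernel))
    rw [ev_append, ev_single] at this
    exact (mul_mem_cancel_left kτ).1 this
  have k8 : ν 8 ∈ P := by
    have e : ν 8 = (ν 7)⁻¹ := hiv 7
    exact e ▸ inv_mem k7
  have kW : ∀ w ∈ Wf, ev ν w ∈ P := fun w hw => ev_mem fun x hx => by
    have := (by decide +kernel : ∀ w ∈ Wf, ∀ x ∈ w, x ∈ [1, 3, 4, 6, 7, 8]) w hw x hx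
    simp only [List.mem_cons, List.not_mem_nil, or_false] at this
    rcases this with rfl | rfl | rfl | rfl | rfl | rfl
    exacts [k 1 (by simp), k 3 (by simp), k 4 (by simp), k 6 (by simp), k7, k8]
  rintro s ⟨h3, h4 | h4⟩
  · obtain ⟨w, hw, e⟩ := cw_f.1 s (by simp [ev_single, h3, h4])
    exact e ▸ kW w hw
  · obtain ⟨w, hw, e⟩ := cw_f.1 ((ev ν τ)⁻¹ * s) (by
      simp only [List.forall_mem_cons, ev_single, mul_assoc, h3, h4, inv_mul_eq_iff_eq_mul]
      simp [← mul_assoc, τ_eq.1, τ_eq.2])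
    exact (mul_mem_cancel_left (inv_mem kτ)).1 (e ▸ kW w hw)

theorem nsc : NSC Γ := nsc_of_xc fun X hX ⟨y, hy, y1⟩ x hx => by
  obtain ⟨k, hk⟩ := hX.two y hy
  obtain ⟨s, hs, s2, s1⟩ := exists_inv hX k y hy y1 hk
  obtain ⟨m, hm⟩ := cls s2 s1
  have ha : ν 1 ∈ X := hm ▸ hX.conj s hs m trivial
  have hP : S2 ≤ hX.part S2 pg := S2_gen fun t ht t2 => ⟨by
    by_cases t1 : t = 1
    · exact t1 ▸ hX.one
    · obtain ⟨n, hn⟩ := cls t2 t1
      exact hX.conj' (g := n) trivial (hn ▸ ha), ht⟩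
  obtain ⟨g, hg⟩ := exists_conj_sylow SS hx.zpowers
  exact hX.conj' trivial (hP (hg x (mem_zpowers x))).1

theorem sq_com {y : Γ} (hy : y ∈ S2) : y * y * ν 6 = ν 6 * (y * y) := by
  obtain ⟨h1, h2 | h2⟩ := hy
  · rw [mul_assoc, h2, ← mul_assoc, h2, mul_assoc]
  · calc y * y * ν 6 = y * ν 1 * ν 6 * y := by rw [mul_assoc, h2]; group
      _ = ν 1 * (y * ν 6) * y := by rw [h1]; group
      _ = ν 1 * ν 1 * ν 6 * (y * y) := by rw [h2]; group
      _ = _ := by rw [a_sq, one_mul]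

/-- equations saying that the unknown commutes with the listed words -/
theorem eqs_com {ξ : Γ} (Y : List (List ℕ)) (h0 : Y.all (fun x => !x.contains 0) = true)
    (h : ∀ y ∈ Y, Commute ξ (ev ν y)) : Eqs (ux ν ξ) (Y.map fun w => (w ++ [0], [0] ++ w)) := by
  intro p hp
  obtain ⟨y, hy, rfl⟩ := List.mem_map.1 hp
  exact (com_eqs (n0 h0 hy)).2 (h y hy) _ (List.mem_singleton_self _)

theorem eqs_sq {ξ : Γ} (h : ξ * ξ = 1) : Eqs (ux ν ξ) [([0, 0], [])] := by
  simpa [eqs_cons, eqs_nil, ev_cons, ev_nil, ux] using h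

theorem eqs_val {ξ : Γ} {w : List ℕ} (hw : w.contains 0 = false) (h : Eqs (ux ν ξ) [([0], w)]) :
    ξ = ev ν w := by
  have := h _ (List.mem_singleton_self _)
  rwa [ev_ux ξ hw, ← l0] at this

/-- words in the Sylow subgroup -/
def Y : List (List ℕ) := [[3], [4], [7], [3, 4], [3, 7], [4, 7]]

theorem mY : ∀ y ∈ τ :: (τ ++ [4]) :: Y, ev ν y ∈ S2 := by
  have k : ∀ y ∈ Y, ev ν y ∈ S2 := fun y hy =>
    mS y ((by decide +kernel : ∀ y ∈ Y, comK eqB [[1], [6]] [y] = true) y hy)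
  simp only [List.forall_mem_cons]
  exact ⟨mτ, ev_append ν τ [4] ▸ mul_mem mτ (k _ (by simp [Y])), k⟩

theorem ns : NS Γ := ns_of_one SS fun g hg ho => by
  have hg' : ∀ x ∈ S2, g⁻¹ * x * g ∈ S2 := fun x hx => by
    have h : g ∈ normalizer (S2 : Set Γ) := mem_normalizer_fintype hg
    simpa using (mem_normalizer_iff.1 (inv_mem h) x).1 hx
  have tr : ∀ u v : Γ, g⁻¹ * u * g * v = v * (g⁻¹ * u * g) → Commute (g * v * g⁻¹) u :=
    fun u v e => by
      calc g * v * g⁻¹ * u = g * (v * (g⁻¹ * u * g)) * g⁻¹ := by group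
        _ = _ := by rw [← e]; group
  have m1 : ν 1 ∈ S2 := ev_single ν 1 ▸ mS [1] (by decide +kernel)
  have m6 : ν 6 ∈ S2 := ev_single ν 6 ▸ mS [6] (by decide +kernel)
  have ca : ∀ y ∈ S2, Commute (g * ν 1 * g⁻¹) y := fun y hy => tr _ _ (hg' y hy).1
  have ea : g * ν 1 * g⁻¹ = ν 1 := by
    obtain ⟨c, hc, e⟩ := ko.all cw_f.1 (ξ := g * ν 1 * g⁻¹)
      (hyps := [([0, 0], [])] ++ (τ :: (τ ++ [4]) :: Y).map fun w => (w ++ [0], [0] ++ w))
      (concl := [[], [1]].map fun w => [([0], w)]) (by decide +kernel) (by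
        simp only [List.forall_mem_cons, ev_single]
        exact ⟨ca _ m1, ca _ m6, by simp⟩)
      ((eqs_sq (by rw [conj_mul, a_sq]; group)).append
        (eqs_com _ (by decide) fun y hy => ca _ (mY y hy)))
    obtain ⟨w, hw, rfl⟩ := List.mem_map.1 hc
    have e' := eqs_val (n0 (by decide) hw) e
    simp only [List.mem_cons, List.not_mem_nil, or_false] at hw
    rcases hw with rfl | rfl
    · exact absurd (by simpa [ev_nil] using e') a_ne
    · rwa [ev_single] at e'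
  have cf : ∀ y ∈ S2, Commute (g * ν 6 * g⁻¹) (y * y) := fun y hy => tr _ _ (by
    have := sq_com (hg' y hy)
    rwa [show g⁻¹ * y * g * (g⁻¹ * y * g) = g⁻¹ * (y * y) * g by group] at this)
  have c1 : Commute (g * ν 6 * g⁻¹) (ν 1) := (hg _ m6).1
  have c6 : Commute (g * ν 6 * g⁻¹) (ν 6) := by
    have := c1.mul_right (cf _ (mY [7] (by simp [Y])))
    rwa [← ev_append, ← ev_cons, ko.eq _ [6] (by decide +kernel), ev_single] at this
  have f2 : ν 6 * ν 6 = 1 := ev_single ν 6 ▸ sqW [6] (by decide +kernel)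
  have ef : g ∈ S2 := by
    obtain ⟨c, hc, e⟩ := ko.all cw_f.1 (ξ := g * ν 6 * g⁻¹)
      (hyps := [([0, 0], [])] ++ ((τ :: (τ ++ [4]) :: Y).map fun w => w ++ w).map
        fun w => (w ++ [0], [0] ++ w))
      (concl := [[], [1], [6], [1, 6]].map fun w => [([0], w)]) (by decide +kernel) (by
        simp only [List.forall_mem_cons, ev_single]
        exact ⟨c1, c6, by simp⟩)
      ((eqs_sq (by rw [conj_mul, f2]; group)).append
        (eqs_com _ (by decide) fun y hy => by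
          obtain ⟨x, hx, rfl⟩ := List.mem_map.1 hy
          exact ev_append ν x x ▸ cf _ (mY x hx)))
    obtain ⟨w, hw, rfl⟩ := List.mem_map.1 hc
    have e' := eqs_val (n0 (by decide) hw) e
    simp only [List.mem_cons, List.not_mem_nil, or_false] at hw
    rcases hw with rfl | rfl | rfl | rfl
    · exact absurd (show ev ν [6] = ev ν [] by simpa [ev_nil, ev_single] using e')
        (ko.ne _ _ (by decide +kernel))
    · rw [ev_single, ← ea] at e'
      exact absurd (show ev ν [6] = ev ν [1] by simpa [ev_single] using e')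
        (ko.ne _ _ (by decide +kernel))
    · exact ⟨mul_inv_eq_iff_eq_mul.1 ea, Or.inl (mul_inv_eq_iff_eq_mul.1 (ev_single ν 6 ▸ e'))⟩
    · rw [ev_cons, ev_single] at e'
      exact ⟨mul_inv_eq_iff_eq_mul.1 ea, Or.inr (mul_inv_eq_iff_eq_mul.1 e')⟩
  intro x _
  rw [(Two.of_mem pg ef).eq_one ho]
  simp

theorem good : Good Spor.ON := ⟨nsc, ns.ofp⟩

theorem on : ONStmt := fun _ => good

end Cfsg.Agent.H66.FkON
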