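import Cfsg.Agent.H29.SpKit
import Cfsg.Agent.H66.T6Defs2

/-!
Standard subgroups of symplectic type: the movers for the transvections of a frame, common end.
-/

set_option autoImplicit false

namespace Cfsg.Agent.H66.T6.H78C1

open Cfsg Cfsg.Agent.H63 Cfsg.Agent.H63.SL Cfsg.Agent.H26 Cfsg.Agent.H68.Sp Cfsg.Agent.H29.SpK
open Subgroup Module
open scoped commutatorElement

universe u v

section Gen

variable {G : Type u} [Group G]

theorem cm_mul (p x y : G) : ⁅p, x * y⁆ = ⁅p, x⁆ * (x * ⁅p, y⁆ * x⁻¹) := by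
  simp only [commutatorElement_def]; group

theorem cm_conj {p x : G} (h : Commute p x) (y : G) : ⁅p, x * y * x⁻¹⁆ = x * ⁅p, y⁆ * x⁻¹ := by
  have : p = x * p * x⁻¹ := by rw [← h.eq, mul_inv_cancel_right]
  conv_lhs => rw [this]
  simp only [commutatorElement_def]; group

theorem cm_comm {p x y : G} (h : Commute p x) (h' : Commute y x) : Commute x ⁅p, y⁆ := by
  rw [commutatorElement_def]
  exact ((h.symm.mul_right h'.symm).mul_right h.symm.inv_right).mul_right h'.symm.inv_right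

theorem cm_pow {p y s : G} (h : ⁅p, y⁆ = s) (hs : Commute p s) (n : ℕ) : ⁅p ^ n, y⁆ = s ^ n := by
  induction n with
  | zero => simp
  | succ n ih =>
    have : ⁅p ^ (n + 1), y⁆ = p * ⁅p ^ n, y⁆ * p⁻¹ * ⁅p, y⁆ := by
      simp only [commutatorElement_def, pow_succ']; group
    rw [this, ih, h, (hs.pow_right n).eq, mul_inv_cancel_right, pow_succ]

theorem cm_odd {p y s : G} (h : ⁅p, y⁆ = s) (hs : Commute p s) (h2 : s * s = 1) {m : ℕ}
    (hm : Odd m) : ⁅p ^ m, y⁆ = s := by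
  obtain ⟨j, rfl⟩ := hm
  rw [cm_pow h hs, pow_succ, pow_mul, pow_two, h2, one_pow, one_mul]

theorem exists_odd [Finite G] (p : G) : ∃ m, Odd m ∧ Is2 (p ^ m) := by
  obtain ⟨j, m, hm, e⟩ := Nat.exists_eq_two_pow_mul_odd (orderOf_pos p).ne'
  exact ⟨m, hm, j, by rw [← pow_mul, mul_comm, ← e, pow_orderOf_eq_one]⟩

end Gen

variable {F V : Type v} [Field F] [AddCommGroup V] [Module F V] {G : Type u} [Group G]
  {P : PForm F V} {φ : P.E →* G} {L : Subgroup G} {k : ℕ} {t : G} {Fr : H78.Frame P k}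

theorem o1 {a b : H78.BI k} (hab : a.1 ≠ b.1) : P.f (Fr.e a) (Fr.e b) = 0 :=
  Fr.orth a b (H78.fst_ne_iff.1 hab).2

theorem third (h3 : 3 ≤ k) (i j : Fin k) : ∃ l : Fin k, l ≠ i ∧ l ≠ j := by
  by_contra H
  push Not at H
  have h0 := H ⟨0, by omega⟩
  have h1 := H ⟨1, by omega⟩
  have h2 := H ⟨2, by omega⟩
  simp only [Ne, Fin.ext_iff] at h0 h1 h2
  omega

theorem ET_Q {v y : V} (hy : P.f y v = 0) (c : F) : ET P φ v y c ∈ QW P φ {v} :=
  ET_mem_QW (Submodule.mem_span_singleton_self v) (by rintro s rfl; exact hy) c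

theorem φ_Y {v : V} {e : P.E} (he : e.1 v = v) : φ e ∈ YW P φ {v} :=
  mem_YW.2 ⟨e, by rintro s rfl; exact he, rfl⟩

theorem cQ {v : V} {p q : G} (hp : p ∈ C[QW P φ {v}]) (hq : q ∈ QW P φ {v}) : Commute p q :=
  (mem_centralizer_iff.1 hp q hq).symm

section SG

variable (h : SG P φ L k)
include h

theorem pr (hN : Fr.Norm) (a : H78.BI k) : P.f (Fr.e a) (Fr.e (H78.ng a)) = 1 := by
  obtain ⟨i, _ | _⟩ := a
  · exact hN i
  · rw [fc h]; exact hN i

/-- monomial elements -/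
theorem mono (g1 : G1 P k) (hN : Fr.Norm) (π : H78.BI k → H78.BI k) (hπ : Function.Injective π)
    (hn : ∀ c, π (H78.ng c) = H78.ng (π c)) (d : H78.BI k → F)
    (hd : ∀ c, d c * d (H78.ng c) = 1) : ∃ e : P.E, ∀ c, e.1 (Fr.e c) = d c • Fr.e (π c) := by
  have key : ∀ c, P.f (d c • Fr.e (π c)) (d (H78.ng c) • Fr.e (π (H78.ng c))) = 1 := fun c => by
    rw [P.f_smul_left, fr h, hn, pr h hN, mul_one, hd]
  let Fr' : H78.Frame P k :=
    { e := fun c => d c • Fr.e (π c)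
      sing := fun _ => sing h _
      orth := fun a b hab => by
        rw [P.f_smul_left, fr h, Fr.orth _ _ fun H => hab (hπ (by rw [H, hn])), mul_zero,
          mul_zero]
      pair := fun a => by rw [key]; exact one_ne_zero }
  exact g1.frt Fr Fr' hN fun i => key (i, false)

omit h in
theorem vz (g1 : G1 P k) {w : V} (hw : ∀ a, P.f w (Fr.e a) = 0) : w = 0 := by
  have := H78.Frame.mem_V0.2 hw
  rwa [g1.v0, Submodule.mem_bot] at this

/-- a vector orthogonal to `e b` and to the other indices is a multiple of `e b` -/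
theorem vb (g1 : G1 P k) (hN : Fr.Norm) {b : H78.BI k} {w : V} (hb : P.f w (Fr.e b) = 0)
    (hw : ∀ g, g.1 ≠ b.1 → P.f w (Fr.e g) = 0) : ∃ r : F, w = r • Fr.e b := by
  refine ⟨P.f w (Fr.e (H78.ng b)), ?_⟩
  rw [← sub_eq_zero, vsub h]
  refine vz (Fr := Fr) g1 fun a => ?_
  rw [P.f_add_left, P.f_smul_left]
  by_cases h1 : a = H78.ng b
  · rw [h1, pr h hN, mul_one, fadd_self h]
  rw [Fr.orth _ _ h1, mul_zero, add_zero]
  by_cases h2 : a = b
  · rw [h2, hb]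
  · exact hw a (H78.fst_ne_iff.2 ⟨h2, fun H => h1 (by rw [H, H78.ng_ng])⟩)

/-- an element of `Y_v` commuting with an element of `Q_v` -/
theorem fixw {v w : V} (hv : v ≠ 0) (hw : P.f w v = 0) {ν : F} {e : P.E} (he : e.1 v = v)
    (hc : Commute (φ e) (ET P φ v w ν)) {x : V} (hx : P.f v x = 0) :
    P.f (e.1 w) x = P.f w x := by
  have h1 := cm_φ_ET (φ := φ) h he (PForm.f_symm_zero hw) ν
  rw [commutatorElement_eq_one_iff_commute.2 hc] at h1
  have h2 : P.f v (e.1 w + w) = 0 := by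
    rw [P.f_add_right, PForm.f_symm_zero hw, add_zero, ← he, ef, PForm.f_symm_zero hw]
  obtain ⟨-, r, hr⟩ := ET_eq_one h hv h2 h1.symm
  have h3 := congrArg (P.f · x) hr
  simp only [P.f_add_left, P.f_smul_left, hx, mul_zero] at h3
  rwa [add_eq_zero_iff_eq_neg, fneg h] at h3

theorem stepA (g1 : G1 P k) (g2 : G2 P φ) (h3 : 3 ≤ k) (hN : Fr.Norm) {b : H78.BI k} {p : G}
    (hl : ∀ y ∈ YW P φ {Fr.e b}, p * y * p⁻¹ * y⁻¹ ∈ QW P φ {Fr.e b})
    (hS : ∀ c e, c.1 ≠ e.1 → c.1 ≠ b.1 → e.1 ≠ b.1 → ∀ r : F,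
      Commute p (Es P φ (Fr.e c) (r • Fr.e e))) {c : H78.BI k} (hc : c.1 ≠ b.1) :
    ∃ μ ν : F, ⁅p, tv P φ (Fr.e c) 1⁆ = ET P φ (Fr.e b) (μ • Fr.e c) ν := by
  obtain ⟨w, ν, hw, e1⟩ := (g2.crdQ _ _).1
    (hl (tv P φ (Fr.e c) 1) (φ_Y (eE_fix h (o1 hc.symm) (P.f_zero_right _) 1)))
  rw [← commutatorElement_def] at e1
  have key : ∀ g e, g.1 ≠ e.1 → g.1 ≠ b.1 → e.1 ≠ b.1 → g ≠ H78.ng c → e ≠ H78.ng c →
      P.f w (Fr.e g) = 0 := by
    intro g e h1 h2 h3 h4 h5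
    have c1 := hS g e h1 h2 h3 1
    rw [one_smul] at c1
    have c2 := cm_comm c1 (comm_tv_ET (φ := φ) h (Fr.orth c g h4) (Fr.orth c e h5) 1 0)
    rw [e1] at c2
    have c3 := fixw h (Fr.e_ne_zero b) hw (eE_fix h (o1 h2.symm) (o1 h3.symm) 0) c2
      (x := Fr.e (H78.ng e)) (o1 h3.symm)
    rw [Es_apply h (o1 h1), P.f_add_left, P.f_add_left, P.f_smul_left, P.f_smul_left, pr h hN,
      o1 (a := g) (b := H78.ng e) h1, mul_zero, add_zero, mul_one] at c3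
    exact add_eq_left.1 c3
  obtain ⟨r, hr⟩ := vb h g1 hN (b := b) (w := w + P.f w (Fr.e (H78.ng c)) • Fr.e c)
    (by rw [P.f_add_left, P.f_smul_left, hw, o1 hc, mul_zero, add_zero]) (by
      intro g hg
      rw [P.f_add_left, P.f_smul_left]
      by_cases h1 : g = H78.ng c
      · rw [h1, pr h hN, mul_one, fadd_self h]
      rw [Fr.orth _ _ h1, mul_zero, add_zero]
      by_cases h2 : g.1 = c.1
      · obtain ⟨l, l1, l2⟩ := third h3 b.1 c.1
        exact key g (l, false) (by rw [h2]; exact l2.symm) hg l1 h1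
          fun H => l2 (congrArg Prod.fst H)
      · exact key g c h2 hg hc h1 (H78.ne_ng c))
  refine ⟨P.f w (Fr.e (H78.ng c)), ν, ?_⟩
  rw [e1, ← ET_shear h _ (_ • Fr.e c) r, ← hr, add_comm w, ← add_assoc, vadd_self h, zero_add]

theorem stepB (hN : Fr.Norm) {b : H78.BI k} {p : G}
    (hS : ∀ c e, c.1 ≠ e.1 → c.1 ≠ b.1 → e.1 ≠ b.1 → ∀ r : F,
      Commute p (Es P φ (Fr.e c) (r • Fr.e e))) {c c' : H78.BI k} (hc : c.1 ≠ b.1)
    (hc' : c'.1 ≠ b.1) (hcc : c.1 ≠ c'.1) {μ ν : F}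
    (H : ⁅p, tv P φ (Fr.e c) 1⁆ = ET P φ (Fr.e b) (μ • Fr.e c) ν) (a : F) :
    ⁅p, tv P φ (Fr.e c') (a * a)⁆ = Es P φ (Fr.e b) ((μ * a) • Fr.e c') := by
  have n1 : P.f (Fr.e c') (a • Fr.e (H78.ng c)) = 0 := by
    rw [fr h, o1 (b := H78.ng c) hcc.symm, mul_zero]
  have xc : (eE P (Fr.e c') (a • Fr.e (H78.ng c)) 0).1 (Fr.e c) = Fr.e c + a • Fr.e c' := by
    rw [Es_apply h n1, o1 hcc, zero_smul, add_zero, fr h, pr h hN, mul_one]
  have xb : (eE P (Fr.e c') (a • Fr.e (H78.ng c)) 0).1 (Fr.e b) = Fr.e b :=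
    eE_fix h (o1 hc'.symm) (by rw [fr h, o1 (b := H78.ng c) hc.symm, mul_zero]) 0
  have c1 := cm_conj (hS c' (H78.ng c) hcc.symm hc' hc a) (tv P φ (Fr.e c) 1)
  have n2 : P.f (Fr.e c) (a • Fr.e c') = 0 := by rw [fr h, o1 hcc, mul_zero]
  have n3 : ∀ r : F, P.f (Fr.e b) (r • Fr.e c) = 0 := fun r => by rw [fr h, o1 hc.symm, mul_zero]
  have n4 : ∀ r : F, P.f (Fr.e b) (r • Fr.e c') = 0 := fun r => by
    rw [fr h, o1 hc'.symm, mul_zero]
  rw [H, Es, ET_eq (Fr.e c'), conj_tv h, conj_ET h, map_smul, xc, xb, tv_add_vec h n2, one_smul,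
    tv_smul h, mul_one, mul_assoc, cm_mul, cm_mul,
    commutatorElement_eq_one_iff_commute.2 (hS c c' hcc hc hc' a), H, mul_one, mul_inv_cancel,
    mul_one, smul_add, smul_smul] at c1
  have c2 := ET_mul (φ := φ) h (n3 μ) (n4 (μ * a)) ν 0
  rw [P.f_smul_left, fr h, o1 hcc, mul_zero, mul_zero, add_zero, add_zero, ← c1,
    mul_right_inj] at c2
  have c3 := comm_tv_ET (φ := φ) h (o1 hc) (u := Fr.e b) (v := (μ * a) • Fr.e c')
    (by rw [fr h, o1 hcc, mul_zero]) 1 0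
  rw [eq_comm, mul_inv_eq_iff_eq_mul, ← c3.eq, mul_right_inj] at c2
  exact c2

/-- transport by a monomial element -/
theorem trans (g2 : G2 P φ) (ht : t ∈ C[L]) (π : H78.BI k → H78.BI k)
    (hπ : Function.Bijective π) (hn : ∀ c, π (H78.ng c) = H78.ng (π c)) {d : H78.BI k → F}
    (hd : ∀ c, d c ≠ 0) {e : P.E} (he : ∀ c, e.1 (Fr.e c) = d c • Fr.e (π c)) {l1 s : F}
    {b : H78.BI k} {p : G} (H : MB P φ Fr t l1 b s p) :
    MB P φ Fr t l1 (π b) (d b * s) (φ e * p * (φ e)⁻¹) := by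
  have et : φ e * t * (φ e)⁻¹ = t := by
    rw [mem_centralizer_iff.1 ht _ (φ_mem h e), mul_inv_cancel_right]
  have cc : ∀ {x : G}, Commute p x → Commute (φ e * p * (φ e)⁻¹) (φ e * x * (φ e)⁻¹) :=
    fun {x} hx => hx.map (MulAut.conj (φ e))
  have nb : ∀ {c}, π c ≠ H78.ng (π b) → c ≠ H78.ng b := fun H1 H2 => H1 (by rw [H2, hn])
  refine ⟨?_, ?_, ?_, ?_, ?_⟩
  · refine mem_centralizer_iff.2 fun q hq => ?_
    obtain ⟨y, c, hy, rfl⟩ := (g2.crdQ _ _).1 hq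
    have h1 : e.1 ((d b)⁻¹ • Fr.e b) = Fr.e (π b) := by
      rw [map_smul, he, smul_smul, inv_mul_cancel₀ (hd b), one_smul]
    have h2 := cc (cQ H.cent (ET_mem_QW (u := (d b)⁻¹ • Fr.e b) (v := (e⁻¹).1 y)
      (Submodule.smul_mem _ _ (Submodule.mem_span_singleton_self _)) (by
        rintro _ rfl
        rw [← ef_right, he, fr h, hy, mul_zero]) c))
    rw [conj_ET h, h1, eapply_inv] at h2
    exact h2.symm.eq
  · obtain ⟨j, hj⟩ := H.two
    exact ⟨j, by rw [conj_pow, hj, mul_one, mul_inv_cancel]⟩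
  · have h1 := congrArg (MulAut.conj (φ e)) H.mv
    simp only [map_mul, map_inv, MulAut.conj_apply] at h1
    rw [et, conj_tv h, he, tv_smul h] at h1
    rw [h1]
    congr 2
    ring
  · intro c g hcg hc hg r
    obtain ⟨c, rfl⟩ := hπ.2 c
    obtain ⟨g, rfl⟩ := hπ.2 g
    obtain ⟨h1, h2⟩ := H78.fst_ne_iff.1 hcg
    have h3 := cc (H.comS c g (H78.fst_ne_iff.2 ⟨fun H => h1 (by rw [H]),
      fun H => h2 (by rw [H, hn])⟩) (nb hc) (nb hg) (r / (d c * d g)))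
    rw [conj_Es h, map_smul, he, he, Es_smul h, smul_smul, smul_smul] at h3
    have h4 : d c * (r / (d c * d g)) * d g = r := by field_simp [hd c, hd g]
    rwa [h4] at h3
  · intro c hc r
    obtain ⟨c, rfl⟩ := hπ.2 c
    have h1 := congrArg (MulAut.conj (φ e)) (H.comT c (nb hc) (r / d c))
    rw [map_commutatorElement] at h1
    simp only [MulAut.conj_apply] at h1
    rw [conj_tv h, conj_Es h, map_smul, he, he, tv_smul h, Es_smul h, smul_smul, smul_smul] at h1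
    have h2 : d c * d c * (r / d c * (r / d c)) = r * r := by field_simp [hd c]
    have h3 : d b * (l1 * s * (r / d c)) * d c = l1 * (d b * s) * r := by field_simp [hd c]
    rwa [h2, h3] at h1

/-- all movers from one -/
theorem allMB (g1 : G1 P k) (g2 : G2 P φ) (ht : t ∈ C[L]) (hN : Fr.Norm) {l1 : F}
    {b : H78.BI k} {p : G} (H : MB P φ Fr t l1 b 1 p) (b' : H78.BI k) (s : F) :
    ∃ p', MB P φ Fr t l1 b' s p' := by
  by_cases hs : s = 0
  · refine ⟨1, one_mem _, ⟨0, by simp⟩, ?_, fun _ _ _ _ _ _ => Commute.one_left _, ?_⟩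
    · rw [hs, zero_mul, tv_zero]; simp
    · intro c _ r
      rw [hs, mul_zero, zero_mul, zero_smul, Es_zero, commutatorElement_one_left]
  let π : H78.BI k → H78.BI k := fun c => (Equiv.swap b.1 b'.1 c.1, xor c.2 (xor b.2 b'.2))
  have hπ : Function.Involutive π := fun c => by simp [π]
  have hn : ∀ c, π (H78.ng c) = H78.ng (π c) := fun c => by simp [π, H78.ng]
  have hb : π b = b' := by simp [π]
  let d : H78.BI k → F := fun c => if c = b then s else if c = H78.ng b then s⁻¹ else 1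
  have hd : ∀ c, d c * d (H78.ng c) = 1 := fun c => by
    by_cases h1 : c = b
    · simp [d, h1, H78.ng_ne, hs]
    by_cases h2 : c = H78.ng b
    · simp [d, h2, H78.ng_ne, hs]
    · simp [d, h1, h2, H78.ng_eq_iff]
  obtain ⟨e, he⟩ := mono h g1 hN π hπ.injective hn d hd
  have := trans h g2 ht π hπ.bijective hn (fun c H => by simpa [H] using hd c) he H
  rw [hb, mul_one, show d b = s by simp [d]] at this
  exact ⟨_, this⟩

end SG

/-- The common end of C1A and C1B. -/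
theorem cend [Finite G] (hC : Ctx P φ L k t) (hN : Fr.Norm) (b : H78.BI k) {p : G}
    (hp : p ∈ C[QW P φ {Fr.e b}]) (hm : p * t * p⁻¹ = t * tv P φ (Fr.e b) 1)
    (hl : ∀ y ∈ YW P φ {Fr.e b}, p * y * p⁻¹ * y⁻¹ ∈ QW P φ {Fr.e b})
    (hS : ∀ c e, c.1 ≠ e.1 → c.1 ≠ b.1 → e.1 ≠ b.1 → ∀ r : F,
      Commute p (Es P φ (Fr.e c) (r • Fr.e e))) :
    ∃ l1, ∀ b s, ∃ p, MB P φ Fr t l1 b s p := by
  have h := hC.toSG
  obtain ⟨i, ib, -⟩ := third hC.k3 b.1 b.1
  obtain ⟨j, jb, ji⟩ := third hC.k3 b.1 i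
  obtain ⟨μ, ν, H0⟩ := stepA h hC.g1 hC.g2 hC.k3 hN hl hS (c := (i, false)) ib
  have H1 := stepB h hN hS (c := (i, false)) (c' := (j, false)) ib jb ji.symm H0 1
  rw [mul_one, mul_one] at H1
  have hb : ∀ {c : H78.BI k}, c ≠ H78.ng b → c ≠ b → c.1 ≠ b.1 := fun h1 h2 =>
    H78.fst_ne_iff.2 ⟨h2, H78.ne_ng_symm h1⟩
  have hQ : ∀ c, c ≠ H78.ng b → ∀ r : F, Commute p (Es P φ (Fr.e b) (r • Fr.e c)) :=
    fun c hc r => cQ hp (ET_Q (by
      rw [P.f_smul_left, Fr.orth c b (H78.ne_ng_symm hc), mul_zero]) 0)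
  have hτ : ∀ r : F, Commute p (tv P φ (Fr.e b) r) := fun r => cQ hp (ET_Q (P.f_zero_left _) r)
  have hT : ∀ c, c ≠ H78.ng b → ∀ r : F,
      ⁅p, tv P φ (Fr.e c) (r * r)⁆ = Es P φ (Fr.e b) ((μ * r) • Fr.e c) := by
    intro c hc r
    by_cases h1 : c = b
    · rw [h1, Es_self h, commutatorElement_eq_one_iff_commute.2 (hτ _)]
    by_cases h2 : c.1 = i
    · exact stepB h hN hS (c := (j, false)) jb (hb hc h1) (by rw [h2]; exact ji) H1 r
    · exact stepB h hN hS (c := (i, false)) ib (hb hc h1) (Ne.symm h2) H0 r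
  obtain ⟨m, hm1, hm2⟩ := exists_odd p
  have tt : Commute t (tv P φ (Fr.e b) 1) :=
    (mem_centralizer_iff.1 hC.tc.tc _ (ET_mem h _ _ _)).symm
  refine ⟨μ, allMB h hC.g1 hC.g2 hC.tc.tc hN (b := b) (p := p ^ m)
    ⟨pow_mem hp m, hm2, ?_, ?_, ?_⟩⟩
  · have h1 : ⁅p, t⁆ = tv P φ (Fr.e b) 1 := by
      rw [commutatorElement_def, hm, tt.eq, mul_inv_cancel_right]
    have h2 := cm_odd h1 (hτ 1) (tv_sq h _ _) hm1
    rw [commutatorElement_def, mul_inv_eq_iff_eq_mul] at h2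
    rw [h2, mul_one, tt.eq]
  · intro c e hce hc he r
    refine Commute.pow_left ?_ m
    by_cases h1 : c = b
    · rw [h1]; exact hQ e he r
    by_cases h2 : e = b
    · rw [h2, Es_symm h, Es_smul h]; exact hQ c hc r
    · exact hS c e hce (hb hc h1) (hb he h2) r
  · intro c hc r
    rw [mul_one]
    exact cm_odd (hT c hc r) (hQ c hc _) (Es_sq h _ _) hm1

end Cfsg.Agent.H66.T6.H78C1
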