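import Cfsg.Agent.H13.OrdCrit
import Cfsg.Agent.H3.Cores

/-! Groups with a self-centralising Sylow subgroup of prime order: normal subgroups. -/

set_option autoImplicit false

namespace Cfsg.Agent.H66.SC

open Cfsg H58 H13.Crit Subgroup

variable {G : Type*} [Group G] [Finite G] {p : ℕ} [hp : Fact p.Prime]

theorem of_spec (P : Sylow p G) (hP : Nat.card P = p)
    (h : ∀ g : G, p ∣ orderOf g → orderOf g = p) : SelfCent p G := by
  obtain ⟨x, hx, hx1⟩ := exists_mem_ne_one hP
  have ox := orderOf_eq_of_mem_of_card_prime hp.out hP hx hx1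
  refine SelfCent.of_one P hP (P.is_maximal' (IsPGroup.iff_orderOf.2 fun g => ?_)
    (le_centralizer_of_card_prime hP)).le
  rw [← Subgroup.orderOf_coe]
  by_cases k : p ∣ orderOf (g : G)
  · exact ⟨1, by rw [h _ k, pow_one]⟩
  have e := Commute.orderOf_mul_eq_mul_orderOf_of_coprime (g.2 x hx)
    (by rw [ox]; exact (Nat.Prime.coprime_iff_not_dvd hp.out).2 k)
  rw [h _ (by rw [e, ox]; exact dvd_mul_right _ _), ox] at e
  exact ⟨0, (Nat.mul_eq_left hp.out.ne_zero).1 e.symm⟩

variable (h : SelfCent p G) (P : Sylow p G)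
include h

theorem exists_e : ∃ e n, e ∣ p - 1 ∧ Nat.card (normalizer ((P : Subgroup G) : Set G)) = p * e ∧
    p * e * n = Nat.card G ∧ n % p = 1 := by
  obtain ⟨e, he⟩ := h.exists_card_normalizer P
  have h1 := relIndex_dvd_sub_one (h.card P)
  have := Fintype.ofFinite G
  have h2 := index_centralizer_sylow P
  have h3 := (P : Subgroup G).card_mul_index
  have h4 := card_normalizer_mul_card_sylow P
  rw [h.cent P] at h1 h2
  rw [h2, show Nat.card (P : Subgroup G) = p from h.card P, ← h4, ← mul_assoc] at h3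
  exact ⟨_, _, h1, (Nat.eq_of_mul_eq_mul_right Nat.card_pos h3).symm, h3.trans h4,
    Eq.trans (card_sylow_modEq_one p G) (Nat.mod_eq_of_lt hp.out.one_lt)⟩

theorem not_dvd {K : Subgroup G} (hPK : (P : Subgroup G) ≤ normalizer (K : Set G))
    (hK : ¬ p ∣ Nat.card K) {r : ℕ} (hr : r.Prime)
    (ha : ∀ a, 0 < a → r ^ a ∣ Nat.card K → ¬ r ^ a ≡ 1 [MOD p]) : ¬ r ∣ Nat.card K := fun k => by
  have := (dvd_card_inf_centralizer P.isPGroup' hPK hK hr k ha).trans (card_dvd_of_le inf_le_right)
  rw [h.cent P, show Nat.card (P : Subgroup G) = p from h.card P,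
    Nat.prime_dvd_prime_iff_eq hr hp.out] at this
  exact hK (this ▸ k)

theorem mul_dvd {K : Subgroup G} [K.Normal] (hK : ¬ p ∣ Nat.card K) :
    Nat.card (normalizer ((P : Subgroup G) : Set G)) * Nat.card K ∣ Nat.card G := by
  rw [← H3.card_sup_mul_card_inf, h.inf_normalizer P hK, card_bot, mul_one]
  exact card_subgroup_dvd_card _

theorem compl {e : ℕ} (he : Nat.card (normalizer ((P : Subgroup G) : Set G)) = p * e)
    {L : Subgroup G} [L.Normal] (hd : p ∣ Nat.card L) (hi : L.index = e) :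
    ∃ K : Subgroup G, (P : Subgroup G) ≤ normalizer (K : Set G) ∧ ¬ p ∣ Nat.card K ∧
      Nat.card K * p * e = Nat.card G := by
  have hPL := h.le_of_dvd P hd
  have h1 := index_mul_card_inf P hPL
  have hP : Nat.card (P : Subgroup G) = p := h.card P
  rw [hi, he, mul_comm p] at h1
  have hE : (P : Subgroup G) = L ⊓ normalizer ((P : Subgroup G) : Set G) :=
    eq_of_le_of_card_ge (le_inf hPL le_normalizer)
      (by rw [Nat.eq_of_mul_eq_mul_left (hi ▸ Nat.pos_of_ne_zero index_ne_zero_of_finite) h1, hP])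
  obtain ⟨K, -, k1, k2, k3⟩ := exists_compl_in P hPL (hE ▸ le_centralizer_of_card_prime hP)
  exact ⟨K, hPL.trans k1, k3, by rw [← hi, ← L.card_mul_index, ← k2]; congr 2; exact hP.symm⟩

end Cfsg.Agent.H66.SC
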