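import Cfsg.Agent.H56.S94Jg1
import Cfsg.Agent.H98.S94Pa1

/-!
# The involution `t` inverts `T`
-/

set_option autoImplicit false
open scoped Pointwise
open Subgroup

namespace Cfsg.Agent.H66.S94Jt1
open Cfsg.Agent.H46.S94 Cfsg.Agent.H8

universe u

local notation "N[" A "]" => Subgroup.normalizer (SetLike.coe A)

variable {G : Type u} [Group G]

theorem cj {T : Subgroup G} {g x : G} (hg : g ∈ N[T]) (hx : x ∈ T) : g * x * g⁻¹ ∈ T :=
  (mem_normalizer_iff.1 hg x).1 hx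

theorem ex_inv : ∀ (k : ℕ) (y : G), y ≠ 1 → y ^ 2 ^ k = 1 →
    ∃ m : ℕ, y ^ m * y ^ m = 1 ∧ y ^ m ≠ 1
  | 0, y, h1, h2 => absurd (by simpa using h2) h1
  | k + 1, y, h1, h2 => by
    by_cases e : y * y = 1
    · exact ⟨1, by simpa using e, by simpa using h1⟩
    · obtain ⟨m, h⟩ := ex_inv k (y * y) e (by rw [← pow_two, ← pow_mul, ← pow_succ', h2])
      exact ⟨2 * m, by rwa [pow_mul, pow_two]⟩

/-- the abstract situation -/
structure Hy (T V : Subgroup G) (t s z : G) : Prop where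
  ab : Ab T
  two : IsPGroup 2 T
  VT : V ≤ T
  tt : t * t = 1
  tN : t ∈ N[T]
  tT : t ∉ T
  sN : s ∈ N[T]
  st : s * t = t * s
  so : orderOf s = 7
  cV : Nat.card V = 8
  Vt : ∀ v ∈ V, v * t = t * v
  l0 : ∀ j ∈ N[V], Tw j → j * t = t * j → j ∈ St1 V t
  tr : ∀ v ∈ V, v ≠ 1 → ∃ i : ℕ, s ^ i * z * (s ^ i)⁻¹ = v
  big : 32 ≤ Nat.card T

namespace Hy

variable {T V : Subgroup G} {t s z : G} (h : Hy T V t s z)
include h

theorem ti : t⁻¹ = t := inv_eq_of_mul_eq_one_right h.tt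

theorem ct {x : G} (hx : x ∈ T) : t * x * t ∈ T := by
  have := cj h.tN hx
  rwa [h.ti] at this

theorem cT {x : G} (hx : x ∈ T) (c : x * t = t * x) : x ∈ V := by
  have tV : t ∈ N[V] := centralizer_le_normalizer _ h.Vt
  refine (H98.S94.mem_Tt h.tt tV (h.l0 x (centralizer_le_normalizer _ fun v hv =>
    h.ab v (h.VT hv) x hx) (H56.S94Jg1.tw_of_mem h.two hx) c)).resolve_right fun e => h.tT ?_
  exact (mul_mem_cancel_left hx).1 (h.VT e)

theorem cs {y : G} (hy : y ∈ T) (c : s * y = y * s) : y = 1 := by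
  have k : ∀ v ∈ T, v * t = t * v → s * v = v * s → v = 1 := fun v hv c1 c2 => by
    by_contra v1
    obtain ⟨i, e⟩ := h.tr v (h.cT hv c1) v1
    have c3 : Commute s v := c2
    have e1 : z = v := by
      rw [mul_inv_eq_iff_eq_mul, ← (c3.pow_left i).eq] at e
      exact mul_left_cancel e
    have : (V : Set G) ⊆ {1, v} := fun w hw => by
      by_cases w1 : w = 1
      · exact Or.inl w1
      · obtain ⟨j, e2⟩ := h.tr w hw w1
        exact Or.inr (show w = v by rw [← e2, e1, (c3.pow_left j).eq, mul_inv_cancel_right])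
    have h3 := (Set.ncard_le_ncard this).trans (Set.ncard_insert_le _ _)
    rw [Set.ncard_singleton, ← Nat.card_coe_set_eq, SetLike.coe_sort_coe, h.cV] at h3
    omega
  by_contra y1
  obtain ⟨n, hn⟩ := H56.S94Jg1.tw_of_mem h.two hy
  obtain ⟨m, m1, m2⟩ := ex_inv n y y1 hn
  have c1 : Commute s (y ^ m) := Commute.pow_right c m
  have c2 : Commute s t := h.st
  have hw := pow_mem hy m
  generalize y ^ m = w at *
  have := k (w * (t * w * t)) (mul_mem hw (h.ct hw)) (by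
    rw [mul_assoc, mul_assoc, h.tt, mul_one, h.ab w hw _ (h.ct hw), ← mul_assoc t, ← mul_assoc t,
      ← mul_assoc t, h.tt, one_mul, mul_assoc]) (c1.mul_right ((c2.mul_right c1).mul_right c2))
  refine m2 (k w hw ?_ c1)
  rw [← m1, mul_right_inj] at this
  rw [← this, mul_assoc, h.tt, mul_one, this]

variable [Finite G]

theorem nT {n : G} (hn : n ∈ N[St1 T t]) : n ∈ N[T] := by
  refine mem_normalizer_of_conj_smul_le fun x hx => ?_
  by_contra xT
  have le : MulAut.conj n • T ≤ St1 T t := by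
    rintro _ ⟨y, hy, rfl⟩
    exact cj hn (mem_sup_left hy)
  have xt := (H98.S94.mem_Tt h.tt h.tN (le hx)).resolve_left xT
  have l1 : T ⊓ MulAut.conj n • T ≤ V := fun y hy => h.cT hy.1 (by
    have c1 : y * x = x * y := by
      have := h.ab _ (mem_conj_smul.1 hy.2) _ (mem_conj_smul.1 hx)
      calc y * x = n * (n⁻¹ * y * n * (n⁻¹ * x * n)) * n⁻¹ := by group
        _ = x * y := by rw [this]; group
    have c2 := h.ab y hy.1 _ xt
    rw [← mul_assoc, c1, mul_assoc, mul_assoc] at c2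
    exact mul_left_cancel c2)
  have h1 := card_eq_card_mul_relIndex (inf_le_right : T ⊓ MulAut.conj n • T ≤ _)
  have h2 := relIndex_le_of_le_right (H := T) le (by
    rw [H98.S94.relIndex_Tt h.tt h.tN h.tT]; omega)
  have h3 := card_le_of_le l1
  rw [inf_relIndex_right, card_conj_smul] at h1
  rw [H98.S94.relIndex_Tt h.tt h.tN h.tT] at h2
  have h4 := Nat.mul_le_mul h3 h2
  have := h.big
  rw [← h1, h.cV] at h4
  omega

omit [Finite G] in
/-- the commutator map -/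
def ψ : T →* G := MonoidHom.mk' (fun y => y * t * (y : G)⁻¹ * t) fun a b => by
  have e1 := h.ab _ (h.ct (inv_mem a.2)) _ (mul_mem b.2 (h.ct (inv_mem b.2)))
  calc ((a * b : T) : G) * t * ((a * b : T) : G)⁻¹ * t
      = a * (b * (t * (b : G)⁻¹ * t) * (t * (a : G)⁻¹ * t)) := by
        simp only [coe_mul, mul_inv_rev, mul_assoc, ← mul_assoc t t, h.tt, one_mul]
    _ = _ := by rw [← e1]; simp only [mul_assoc]

omit [Finite G] in
theorem ψ_le : h.ψ.range ≤ T := by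
  rintro _ ⟨y, rfl⟩
  exact (by simpa only [mul_assoc] using mul_mem y.2 (h.ct (inv_mem y.2)) :
    (y : G) * t * (y : G)⁻¹ * t ∈ T)

theorem ψ_idx : h.ψ.range.relIndex T = 8 := by
  have e : h.ψ.ker = V.subgroupOf T := Subgroup.ext fun y => by
    change (y : G) * t * (y : G)⁻¹ * t = 1 ↔ (y : G) ∈ V
    rw [mul_eq_one_iff_eq_inv, h.ti, mul_inv_eq_iff_eq_mul]
    exact ⟨h.cT y.2, h.Vt y⟩
  have h1 := h.ψ.ker.card_mul_index
  rw [index_ker, e, Nat.card_congr (subgroupOfEquivOfLe h.VT).toEquiv, h.cV,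
    card_eq_card_mul_relIndex h.ψ_le, mul_comm] at h1
  exact (Nat.eq_of_mul_eq_mul_left Nat.card_pos h1).symm

theorem ψ_s : s ∈ N[h.ψ.range] := by
  refine mem_normalizer_fintype ?_
  rintro _ ⟨y, rfl⟩
  refine ⟨⟨_, cj h.sN y.2⟩, ?_⟩
  have c : Commute s t := h.st
  change s * y * s⁻¹ * t * (s * y * s⁻¹)⁻¹ * t = s * (y * t * (y : G)⁻¹ * t) * s⁻¹
  simp only [mul_inv_rev, inv_inv, mul_assoc, c.inv_left.eq, inv_mul_cancel_left]

theorem moved {x : G} (hx : x ∈ T) (e : x⁻¹ * (s * x * s⁻¹) ∈ h.ψ.range) : x ∈ h.ψ.range := by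
  have inj : ∀ a ∈ T, ∀ b ∈ T, a⁻¹ * (s * a * s⁻¹) = b⁻¹ * (s * b * s⁻¹) → a = b :=
    fun a ha b hb e => (mul_inv_eq_one.1 (h.cs (mul_mem hb (inv_mem ha)) (by
      calc s * (b * a⁻¹) = b * (b⁻¹ * (s * b * s⁻¹)) * s * a⁻¹ := by group
        _ = b * a⁻¹ * s := by rw [← e]; group))).symm
  obtain ⟨d, hd⟩ := Finite.surjective_of_injective (f := fun d : h.ψ.range =>
    (⟨(d : G)⁻¹ * (s * d * s⁻¹), mul_mem (inv_mem d.2) (cj h.ψ_s d.2)⟩ : h.ψ.range))
    (fun a b e => Subtype.ext (inj _ (h.ψ_le a.2) _ (h.ψ_le b.2) (congrArg Subtype.val e))) ⟨_, e⟩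
  exact inj _ (h.ψ_le d.2) _ hx (congrArg Subtype.val hd) ▸ d.2

theorem orbit {x y : G} (hx : x ∈ T) (x1 : x ∉ h.ψ.range) (hy : y ∈ T) (y1 : y ∉ h.ψ.range) :
    ∃ i : ℕ, (s ^ i * x * (s ^ i)⁻¹)⁻¹ * y ∈ h.ψ.range := by
  classical
  let W : Subgroup G :=
    { carrier := {g | g ∈ N[h.ψ.range] ∧ x⁻¹ * (g * x * g⁻¹) ∈ h.ψ.range}
      one_mem' := ⟨one_mem _, by simp⟩
      mul_mem' := fun {a b} ha hb => ⟨mul_mem ha.1 hb.1, by
        simpa [mul_assoc] using mul_mem ha.2 (cj ha.1 hb.2)⟩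
      inv_mem' := fun {a} ha => ⟨inv_mem ha.1, by
        simpa [mul_assoc] using cj (inv_mem ha.1) (inv_mem ha.2)⟩ }
  have hW : ∀ g ∈ zpowers s, g ∈ W → g = 1 := fun g hg gW => by
    by_contra g1
    have o : orderOf g = 7 := ((Nat.dvd_prime (by norm_num)).1
      (h.so ▸ orderOf_dvd_of_mem_zpowers hg)).resolve_left (by rwa [orderOf_eq_one_iff])
    have := eq_of_le_of_card_ge (zpowers_le.2 hg)
      (by rw [Nat.card_zpowers, Nat.card_zpowers, o, h.so])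
    exact x1 (h.moved hx (zpowers_le.2 gW (this ▸ mem_zpowers s)).2)
  have := Fintype.ofFinite (T ⧸ h.ψ.range.subgroupOf T)
  let f : ℕ → T ⧸ h.ψ.range.subgroupOf T := fun i =>
    ((⟨s ^ i * x * (s ^ i)⁻¹, cj (pow_mem h.sN i) hx⟩ : T) : T ⧸ h.ψ.range.subgroupOf T)
  have ne : ∀ w : T, (w : G) ∉ h.ψ.range → (w : T ⧸ h.ψ.range.subgroupOf T) ∈
      Finset.univ.erase ((1 : T) : T ⧸ h.ψ.range.subgroupOf T) := fun w hw =>
    Finset.mem_erase.2 ⟨fun e => hw (by simpa [mem_subgroupOf] using QuotientGroup.eq.1 e.symm),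
      Finset.mem_univ _⟩
  have e : (Finset.range 7).image f = Finset.univ.erase ((1 : T) : T ⧸ h.ψ.range.subgroupOf T) := by
    refine Finset.eq_of_subset_of_card_le (fun q hq => ?_) ?_
    · obtain ⟨i, -, rfl⟩ := Finset.mem_image.1 hq
      exact ne _ fun e => x1 ((mem_normalizer_iff.1 (pow_mem h.ψ_s i) x).2 e)
    · rw [Finset.card_erase_of_mem (Finset.mem_univ _), Finset.card_univ,
        ← Nat.card_eq_fintype_card, Finset.card_image_of_injOn, Finset.card_range]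
      · exact (congrArg (· - 1) h.ψ_idx).le
      · intro i hi j hj e
        have e1 : (s ^ i * x * (s ^ i)⁻¹)⁻¹ * (s ^ j * x * (s ^ j)⁻¹) ∈ h.ψ.range :=
          (QuotientGroup.eq (s := h.ψ.range.subgroupOf T)).1 e
        have := hW ((s ^ i)⁻¹ * s ^ j) (mul_mem (inv_mem (pow_mem (mem_zpowers s) i))
          (pow_mem (mem_zpowers s) j)) ⟨mul_mem (inv_mem (pow_mem h.ψ_s i)) (pow_mem h.ψ_s j), by
            simpa [mul_assoc] using cj (inv_mem (pow_mem h.ψ_s i)) e1⟩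
        exact pow_injOn_Iio_orderOf (by simpa [h.so] using hi) (by simpa [h.so] using hj)
          (inv_mul_eq_one.1 this)
  obtain ⟨i, -, e1⟩ := Finset.mem_image.1 (e ▸ ne ⟨y, hy⟩ y1)
  exact ⟨i, (QuotientGroup.eq (s := h.ψ.range.subgroupOf T)).1 e1⟩

theorem trans (hn : ¬ IsSylowIn 2 (St1 T t) ⊤) {y : G} (hy : y ∈ T) :
    ∃ n ∈ N[St1 T t], n * t * n⁻¹ = y * t := by
  have : Fact (Nat.Prime 2) := ⟨Nat.prime_two⟩
  have tS : t ∈ St1 T t := mem_sup_right (mem_zpowers t)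
  have p : IsPGroup 2 (St1 T t) := h.two.to_sup_of_normal_left' (fun x => ⟨1, Subtype.ext (by
    obtain ⟨_, k, rfl⟩ := x
    have : (t ^ k) ^ 2 = 1 := by rw [← zpow_natCast, ← zpow_mul, mul_comm, zpow_mul, zpow_natCast,
      sq, h.tt, one_zpow]
    simpa using this)⟩) (zpowers_le.2 h.tN)
  obtain ⟨P, hP⟩ := p.exists_le_sylow
  obtain ⟨n, nP, nN, nS⟩ := H10.exists_mem_normalizer_of_lt P.isPGroup'
    (lt_of_le_of_ne hP fun e => hn (e ▸ isSylowIn_top P))
  have TN : ∀ w ∈ T, w ∈ N[St1 T t] := fun w hw => le_normalizer (mem_sup_left hw)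
  have hx : n * t * n⁻¹ * t ∈ T := (H98.S94.mem_Tt h.tt h.tN (cj nN tS)).resolve_left
    fun e => h.tT ((mem_normalizer_iff.1 (h.nT nN) t).2 e)
  have x1 : n * t * n⁻¹ * t ∉ h.ψ.range := by
    rintro ⟨w, e⟩
    have e1 : (w : G) * t * (w : G)⁻¹ = n * t * n⁻¹ := mul_right_cancel e
    have c : (w : G)⁻¹ * n * t = t * ((w : G)⁻¹ * n) := by
      calc (w : G)⁻¹ * n * t = (w : G)⁻¹ * (n * t * n⁻¹) * n := by group
        _ = _ := by rw [← e1]; group
    have n1 := h.nT (mul_mem (inv_mem (TN _ w.2)) nN)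
    have := h.l0 _ (mem_normalizer_fintype fun v hv => h.cT (cj n1 (h.VT hv))
      (((Commute.mul_left c (h.Vt v hv)).mul_left (Commute.inv_left c)).eq))
      (H56.S94Jg1.tw_of_mem P.isPGroup' (mul_mem (inv_mem (hP (mem_sup_left w.2))) nP)) c
    exact nS ((mul_mem_cancel_left (inv_mem (mem_sup_left w.2))).1
      (sup_le_sup_right h.VT _ this))
  by_cases y1 : y ∈ h.ψ.range
  · obtain ⟨w, rfl⟩ := y1
    exact ⟨w, TN _ w.2, by
      change _ = (w : G) * t * (w : G)⁻¹ * t * t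
      rw [mul_assoc _ t t, h.tt, mul_one]⟩
  obtain ⟨i, w, e⟩ := h.orbit hx x1 hy y1
  have c : Commute (s ^ i) t := Commute.pow_left h.st i
  have sS : s ∈ N[St1 T t] := mem_normalizer_fintype fun a ha => by
    rcases H98.S94.mem_Tt h.tt h.tN ha with e | e
    · exact mem_sup_left (cj h.sN e)
    · refine (mul_mem_cancel_right tS).1 (mem_sup_left ?_)
      have := cj h.sN e
      rwa [mul_assoc, mul_assoc, ← (Commute.inv_left h.st).eq, ← mul_assoc, ← mul_assoc] at this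
  refine ⟨w * (s ^ i * n), mul_mem (TN _ w.2) (mul_mem (pow_mem sS i) nN), ?_⟩
  have hx' := cj (pow_mem h.sN i) hx
  have e1 : s ^ i * (n * t * n⁻¹) * (s ^ i)⁻¹ = s ^ i * (n * t * n⁻¹ * t) * (s ^ i)⁻¹ * t := by
    rw [mul_assoc _ (s ^ i)⁻¹ t, c.inv_left.eq]
    simp only [mul_assoc, ← mul_assoc t t, h.tt, one_mul]
  generalize s ^ i * (n * t * n⁻¹ * t) * (s ^ i)⁻¹ = a at *
  have e2 : y = a * (w * t * (w : G)⁻¹ * t) := eq_mul_of_inv_mul_eq e.symm
  calc (w : G) * (s ^ i * n) * t * (w * (s ^ i * n))⁻¹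
      = w * (s ^ i * (n * t * n⁻¹) * (s ^ i)⁻¹) * (w : G)⁻¹ := by group
    _ = y * t := by
      rw [e1, e2, ← mul_assoc (w : G), h.ab _ w.2 _ hx']
      simp only [mul_assoc, h.tt, mul_one]

theorem ls (hn : ¬ IsSylowIn 2 (St1 T t) ⊤) : LS t V T := by
  have inv : ∀ x ∈ T, t * x * t = x⁻¹ := fun x hx => by
    obtain ⟨n, -, e⟩ := h.trans hn hx
    have : x * t * (x * t) = 1 := by rw [← e, conj_mul, h.tt]; group
    exact eq_inv_of_mul_eq_one_right (by simpa only [mul_assoc] using this)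
  have om : ∀ x ∈ T, x * x = 1 → x ∈ V := fun x hx e => h.cT hx (by
    have := inv x hx
    rw [inv_eq_of_mul_eq_one_right e] at this
    rw [← this, mul_assoc, h.tt, mul_one, this])
  refine ⟨inv, om, fun v hv => ?_, fun x hx => h.trans hn hx⟩
  by_cases v1 : v = 1
  · exact ⟨1, one_mem _, by simp [v1]⟩
  obtain ⟨y, hy, y1⟩ : ∃ y ∈ T, y * y ≠ 1 := by
    by_contra! e
    have := card_le_of_le (show T ≤ V from fun y hy => om y hy (e y hy))
    have := h.big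
    have := h.cV
    omega
  obtain ⟨n, e⟩ := H56.S94Jg1.tw_of_mem h.two (mul_mem hy hy)
  obtain ⟨m, m1, m2⟩ := ex_inv n _ y1 e
  obtain ⟨i, e1⟩ := h.tr _ (om _ (pow_mem (mul_mem hy hy) m) m1) m2
  obtain ⟨j, e2⟩ := h.tr v hv v1
  refine ⟨_, cj (mul_mem (pow_mem h.sN j) (inv_mem (pow_mem h.sN i))) (pow_mem hy m), ?_⟩
  rw [conj_mul, ← (Commute.refl y).mul_pow, ← e1, ← e2]
  group

end Hy

theorem jt1 : JT1Stmt.{u} := by
  intro Γ _ G _ _ φ F t O T z σ ρ V L c tf big hn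
  refine Hy.ls (s := φ σ) (z := φ z) ⟨tf.ab, tf.two, tf.VT, c.cx.tt, tf.tN, tf.tT, tf.sN,
    c.cx.AC σ, by rw [orderOf_injective φ c.cx.inj, c.jf.so],
    by rw [card_map_of_injective c.cx.inj, c.jf.cV], ?_,
    fun j hj tw e => H56.S94Jg1.l0 c.jf c.cx hj tw e, ?_, big⟩ hn
  · rintro _ ⟨v, -, rfl⟩
    exact c.cx.AC v
  · rintro _ ⟨v, hv, rfl⟩ v1
    obtain ⟨i, e⟩ := c.jf.tr v hv fun e => v1 (by rw [e, map_one])
    exact ⟨i, by rw [← e, map_mul, map_mul, map_inv, map_pow]⟩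

end Cfsg.Agent.H66.S94Jt1
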