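import Cfsg.Agent.H46.L40Defs
import Cfsg.Agent.H86.RelSylow
import Cfsg.Agent.H89.PBasic
import Cfsg.Agent.S1910

/-! Project L40, piece R2B: the central involution lies in a conjugate of the centraliser. -/

set_option autoImplicit false

namespace Cfsg.Agent.H66.L40R2b

open Subgroup Cfsg.Agent.H46.L40
open Cfsg.Agent.H83 (cj mem_cj)

universe u

theorem block {y : S3} (h : y * z0 = z0 * y) :
    ∃ a b c d e : ZMod 3, (a * d - b * c) * e = 1 ∧ y.1 = !![a, b, 0; c, d, 0; 0, 0, e] := by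
  have h1 : y.1 * !![2, 0, 0; 0, 2, 0; 0, 0, 1] = !![2, 0, 0; 0, 2, 0; 0, 0, 1] * y.1 :=
    congrArg Subtype.val h
  have hd := y.det_coe
  have e := fun i j => congrFun (congrFun h1 i) j
  have e1 := e 0 2
  have e2 := e 1 2
  have e3 := e 2 0
  have e4 := e 2 1
  simp [Matrix.mul_apply, Fin.sum_univ_three] at e1 e2 e3 e4
  have f1 : y.1 0 2 = 0 := by linear_combination -e1
  have f2 : y.1 1 2 = 0 := by linear_combination -e2
  have f3 : y.1 2 0 = 0 := by linear_combination e3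
  have f4 : y.1 2 1 = 0 := by linear_combination e4
  rw [Matrix.det_fin_three, f1, f2, f3, f4] at hd
  refine ⟨y.1 0 0, y.1 0 1, y.1 1 0, y.1 1 1, y.1 2 2, by linear_combination hd, ?_⟩
  conv_lhs => rw [Matrix.eta_fin_three y.1, f1, f2, f3, f4]

theorem fin1 : ∀ a b c d e : ZMod 3, (a * d - b * c) * e = 1 →
    !![a, b, 0; c, d, 0; 0, 0, e] * w0.1 = w0.1 * !![a, b, 0; c, d, 0; 0, 0, e] →
    !![a, b, 0; c, d, 0; 0, 0, e] * a0.1 = a0.1 * !![a, b, 0; c, d, 0; 0, 0, e] →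
    !![a, b, 0; c, d, 0; 0, 0, e] = 1 ∨ !![a, b, 0; c, d, 0; 0, 0, e] = z0.1 := by decide +kernel

/-- the non-trivial elements of the quaternion group -/
def jl : List S3 := [z0, w0, q0, ⟨!![1, 2, 0; 2, 2, 0; 0, 0, 1], by decide⟩,
  ⟨!![0, 2, 0; 1, 0, 0; 0, 0, 1], by decide⟩, ⟨!![2, 2, 0; 2, 1, 0; 0, 0, 1], by decide⟩,
  ⟨!![2, 1, 0; 1, 1, 0; 0, 0, 1], by decide⟩]

theorem fin2 : ∀ a b c d e : ZMod 3, (a * d - b * c) * e = 1 →
    !![a, b, 0; c, d, 0; 0, 0, e] = 1 ∨ !![a, b, 0; c, d, 0; 0, 0, e] = z0.1 ∨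
    (∃ j ∈ jl, !![c, d, 0; 2 * a, 2 * b, 0; 0, 0, e] = j.1 * !![2 * b, a, 0; 2 * d, c, 0; 0, 0, e]) ∨
    ∃ j ∈ jl, !![a + c, b + d, 0; a + 2 * c, b + 2 * d, 0; 0, 0, e] =
      j.1 * !![a + b, a + 2 * b, 0; c + d, c + 2 * d, 0; 0, 0, e] := by
  decide +kernel

theorem trs : tr w0 = w0 ∧ tr a0 = a0 ∧ tr q0 = q0 * z0 := by
  rw [tr, tr, tr, inv_eq_of_mul_eq_one_right (show w0 * (w0 * z0) = 1 by decide +kernel),
    inv_eq_of_mul_eq_one_right (show a0 * a0 = 1 by decide +kernel),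
    inv_eq_of_mul_eq_one_right (show q0 * (q0 * z0) = 1 by decide +kernel)]
  decide +kernel

theorem fin3 : (∀ j ∈ jl, j = z0 ∨ j * j = z0) ∧
    z0 * r0 ≠ r0 * z0 ∧ 1 * (q0 * z0) ≠ q0 * 1 ∧ z0 * (q0 * z0) ≠ q0 * z0 ∧
    z0 * z0 = 1 ∧ w0 * z0 = z0 * w0 ∧ q0 * z0 = z0 * q0 ∧ a0 * z0 = z0 * a0 ∧ z0 ≠ 1 :=
  ⟨fun j hj => of_decide_eq_true (List.all_eq_true.1
    (show jl.all (fun j => decide (j = z0 ∨ j * j = z0)) = true by decide +kernel) j hj),
    by decide +kernel⟩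

theorem cwa {m : S3} (h1 : m * w0 = w0 * m) (h2 : m * a0 = a0 * m) : m = 1 ∨ m = z0 := by
  obtain ⟨a, b, c, d, e, h, hm⟩ := block (y := m) (by
    rw [← chk.1, ← mul_assoc, h1, mul_assoc, h1, mul_assoc])
  have := fin1 a b c d e h
  rw [← hm] at this
  exact (this (congrArg Subtype.val h1) (congrArg Subtype.val h2)).imp Subtype.ext Subtype.ext

/-- a non-trivial normal subgroup of the centraliser of `z0` contains `z0` -/
theorem nz {J : Subgroup S3} (hJ : ∀ c, c * z0 = z0 * c → ∀ y ∈ J, c * y * c⁻¹ ∈ J) {y : S3}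
    (hy : y ∈ J) (h : y * z0 = z0 * y) (h1 : y ≠ 1) : z0 ∈ J := by
  obtain ⟨a, b, c, d, e, h, hm⟩ := block h
  have key : ∀ s, s * z0 = z0 * s → ∀ j ∈ jl, s.1 * y.1 = j.1 * (y.1 * s.1) → z0 ∈ J :=
    fun s hs j hj e => by
      have e1 : s * y = j * (y * s) := Subtype.ext e
      have h2 : j ∈ J := by
        rw [show j = s * y * s⁻¹ * y⁻¹ by rw [e1]; group]
        exact mul_mem (hJ s hs y hy) (inv_mem hy)
      rcases fin3.1 j hj with e | e <;> rw [← e]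
      exacts [h2, mul_mem h2 h2]
  rcases fin2 a b c d e h with e | e | ⟨j, hj, e⟩ | ⟨j, hj, e⟩
  · exact absurd (Subtype.ext (hm.trans e)) h1
  · exact (show y = z0 from Subtype.ext (hm.trans e)) ▸ hy
  · refine key w0 fin3.2.2.2.2.2.1 j hj ?_
    rw [hm, show w0.1 = !![0, 1, 0; 2, 0, 0; 0, 0, 1] from rfl, Matrix.mul_fin_three,
      Matrix.mul_fin_three]
    simpa [mul_comm] using e
  · refine key q0 fin3.2.2.2.2.2.2.1 j hj ?_
    rw [hm, show q0.1 = !![1, 1, 0; 1, 2, 0; 0, 0, 1] from rfl, Matrix.mul_fin_three,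
      Matrix.mul_fin_three]
    simpa [mul_comm] using e

theorem fix (au : AutS) (ψ : S3 ≃* S3) (h1 : ψ w0 = w0) (h2 : ψ a0 = a0) (h3 : ψ q0 = q0) :
    (∀ x, ψ x = x) ∨ ∀ x, ψ x = z0 * x * z0⁻¹ := by
  obtain ⟨-, -, t3, t4, -⟩ := fin3
  obtain ⟨m, h | h⟩ := au ψ
  · rw [h, mul_inv_eq_iff_eq_mul] at h1 h2
    rcases cwa h1 h2 with rfl | rfl
    · exact .inl fun x => by simp [h]
    · exact .inr h
  · rw [h, mul_inv_eq_iff_eq_mul] at h1 h2 h3
    rw [trs.1] at h1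
    rw [trs.2.1] at h2
    rw [trs.2.2] at h3
    rcases cwa h1 h2 with rfl | rfl
    · exact absurd h3 t3
    · exact absurd h3 t4

variable {G : Type u} [Group G] [Finite G]

theorem small {P : Subgroup G} (hP : IsPGroup 2 P) {k : G} (hk : k ∈ P)
    (h : ∀ x ∈ P, x * k = k * x → x = 1 ∨ x = k) : ∀ x ∈ P, x = 1 ∨ x = k := by
  have := Fact.mk Nat.prime_two
  by_cases h0 : P = ⊥
  · exact fun x hx => .inl (mem_bot.1 (h0 ▸ hx))
  have : Nontrivial P := (nontrivial_iff_ne_bot P).2 h0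
  obtain ⟨z, -, hz, z1⟩ := H89.exists_mem_center_of_normal hP (N := ⊤) top_ne_bot
  have e := (h z z.2 (congrArg Subtype.val (mem_center_iff.1 hz ⟨k, hk⟩)).symm).resolve_left
    fun e => z1 (Subtype.ext e)
  exact fun x hx => h x hx (e ▸ congrArg Subtype.val (mem_center_iff.1 hz ⟨x, hx⟩))

omit [Finite G] in
theorem card_le_two {P : Subgroup G} {k : G} (h : ∀ x ∈ P, x = 1 ∨ x = k) : Nat.card P ≤ 2 :=
  (Set.ncard_le_ncard (s := (P : Set G)) (t := {1, k}) h).trans ((Set.ncard_insert_le _ _).trans (by simp))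

omit [Finite G] in
theorem te {K : Subgroup G} (hK : IsTightlyEmbedded K) {g x : G}
    (hg : g ∉ normalizer (K : Set G)) (hx : x ∈ K) (hx' : x ∈ cj g K) (h2 : x * x = 1) : x = 1 := by
  have h1 := (hK.2 g hg).of_dvd_nat (Subgroup.orderOf_dvd_natCard _ (mem_inf.2 ⟨hx, hx'⟩))
  rcases (Nat.dvd_prime Nat.prime_two).1 (orderOf_dvd_of_pow_eq_one ((sq x).trans h2)) with e | e
  · exact orderOf_eq_one_iff.1 e
  · exact absurd (e ▸ h1) (by decide)

theorem r2b : R2bS.{u} := by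
  intro au G _ _ φ hφ ⟨_, hK, _, nn⟩ h4 g k hg hk kk hu
  have := Fact.mk Nat.prime_two
  obtain ⟨-, t0, -, -, zz, wz, qz, az, z1⟩ := fin3
  by_contra hz
  have k1 : k ≠ 1 := fun e => hz (by simpa [e] using hu)
  have cK : ∀ {c : G}, c ∈ centralizer (φ.range : Set G) → ∀ m, φ m * c = c * φ m :=
    fun hc m => mem_centralizer_iff.1 hc _ ⟨m, rfl⟩
  have LK : ∀ m, φ m ∈ centralizer (φ.range : Set G) → m = 1 := fun m hm => by
    have e : ∀ x, m * x = x * m := fun x => hφ (by rw [map_mul, map_mul, cK hm])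
    exact (cwa (e _) (e _)).resolve_right fun h => t0 (h ▸ e r0)
  obtain ⟨K, eK⟩ : ∃ K, K = centralizer (φ.range : Set G) := ⟨_, rfl⟩
  have mK : ∀ c, (∀ m, c * φ m * c⁻¹ = φ m) → c ∈ K := fun c h => eK ▸ mem_centralizer_iff.2 (by
    rintro _ ⟨m, rfl⟩
    exact (mul_inv_eq_iff_eq_mul.1 (h m)).symm)
  rw [← eK] at hK nn h4 hk hu hz cK LK
  rw [nn] at hg
  obtain ⟨u, eu⟩ : ∃ u, u = φ z0 * k := ⟨_, rfl⟩
  rw [← eu] at hu
  have uu : u * u = 1 := by
    rw [eu, mul_assoc, ← mul_assoc k, ← cK hk, mul_assoc, kk, mul_one, ← map_mul, zz, map_one]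
  have u1 : u ≠ 1 := fun e => z1 (LK _ (by
    rw [eq_inv_of_mul_eq_one_left (eu.symm.trans e)]
    exact inv_mem hk))
  have uN : u ∈ normalizer (K : Set G) :=
    eu ▸ mul_mem (nn ▸ le_normalizer ⟨z0, rfl⟩) (le_normalizer hk)
  have cen : ∀ c, c * u = u * c → ∀ x ∈ cj g K, c * x * c⁻¹ ∈ cj g K := fun c hc x hx => by
    have h1 : g⁻¹ * c * g ∈ normalizer (K : Set G) := by
      by_contra h1
      have e : (g⁻¹ * c * g)⁻¹ * (g⁻¹ * u * g) * (g⁻¹ * c * g) = g⁻¹ * u * g := by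
        calc _ = g⁻¹ * (c⁻¹ * (u * c)) * g := by group
          _ = _ := by rw [← hc]; group
      have := te hK h1 (mem_cj.1 hu) (mem_cj.2 (e.symm ▸ mem_cj.1 hu)) (by
        calc _ = g⁻¹ * (u * u) * g := by group
          _ = 1 := by rw [uu]; group)
      exact u1 (by
        calc u = g * (g⁻¹ * u * g) * g⁻¹ := by group
          _ = 1 := by rw [this]; group)
    have h2 := (mem_normalizer_iff.1 h1 _).1 (mem_cj.1 hx)
    refine mem_cj.2 ?_
    convert h2 using 1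
    group
  have pz : ∀ {x : G}, x * x = 1 → x ≠ 1 → IsPGroup 2 (zpowers x) := fun h h1 =>
    IsPGroup.iff_card.2 ⟨1, by
      rw [Nat.card_zpowers, pow_one]
      exact orderOf_eq_prime ((sq _).trans h) h1⟩
  obtain ⟨T, hT, uT⟩ := H86.exists_isSylowIn (p := 2) (H := cj g K ⊓ normalizer (K : Set G))
    (zpowers_le.2 ⟨hu, uN⟩) (pz uu u1)
  replace uT : u ∈ T := uT (mem_zpowers u)
  have T0 : T ≠ ⊥ := fun e => u1 (mem_bot.1 (e ▸ uT))
  have ku : k * u = u * k := by rw [eu, ← mul_assoc, ← cK hk]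
  have TN : T ≤ normalizer (K : Set G) := hT.1.trans inf_le_right
  obtain ⟨x, xT, xu, x1, x2⟩ : ∃ x ∈ T, x * u = u * x ∧ x ≠ 1 ∧ x ≠ u := by
    by_contra! hc
    have h1 := small hT.2.1 uT fun x hx e => or_iff_not_imp_left.2 (hc x hx e)
    have nT : ∀ r, r * u = u * r → r ∈ normalizer (T : Set G) := fun r hr =>
      H86.mem_normalizer_of_conj_le fun b hb => by
        rcases h1 b hb with rfl | rfl
        · simp
        · rwa [hr, mul_inv_cancel_right]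
    obtain ⟨S, hS, hle⟩ := H86.exists_isSylowIn (p := 2) (H := K ⊔ T)
      (sup_le_sup_right (zpowers_le.2 hk) T)
      ((pz kk k1).to_sup_of_normal_right' hT.2.1 (zpowers_le.2 (nT k ku)))
    obtain ⟨-, -, -, -, ⟨e⟩⟩ := S1910.result K hK g hg T T0 hT.1 ⟨hT.2.1, hT.not_dvd_relIndex⟩ S
      (le_sup_right.trans hle) hS.1 ⟨hS.2.1, hS.not_dvd_relIndex⟩
    have hR := hS.inf_normal le_sup_left (sup_le le_normalizer TN)
    have kS : k ∈ S := hle (mem_sup_left (mem_zpowers k))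
    have c2 := card_le_two h1
    rw [← Nat.card_congr e.toEquiv] at c2
    have h2 : zpowers k = S ⊓ normalizer (T : Set G) ⊓ K :=
      eq_of_le_of_card_ge (zpowers_le.2 ⟨⟨kS, nT k ku⟩, hk⟩) (by
        rwa [Nat.card_zpowers, orderOf_eq_prime ((sq _).trans kk) k1])
    have h3 := card_le_two (small hR.2.1 ⟨kS, hk⟩ fun r hr e => by
      have h3 : r ∈ zpowers k := h2 ▸ ⟨⟨hr.1, nT r (by
        rw [eu, ← mul_assoc, ← cK hr.2, mul_assoc, e, mul_assoc])⟩, hr.2⟩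
      obtain ⟨n, rfl⟩ := h3
      rcases Int.even_or_odd' n with ⟨j, rfl | rfl⟩
      · left
        simp [zpow_mul, sq, kk]
      · right
        simp [zpow_add, zpow_mul, sq, kk])
    have h5 := ((S ⊓ K).subgroupOf K).card_mul_index
    rw [Nat.card_congr (subgroupOfEquivOfLe inf_le_right).toEquiv] at h5
    have h6 : ¬ 2 ∣ ((S ⊓ K).subgroupOf K).index := hR.not_dvd_relIndex
    rw [← h5] at h4
    have h7 := Nat.le_of_dvd Nat.card_pos ((Nat.Coprime.pow_left 2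
      ((Nat.Prime.coprime_iff_not_dvd Nat.prime_two).2 h6)).dvd_of_dvd_mul_right h4)
    omega
  have TK : ∀ y ∈ T, y ∈ K → y = 1 := fun y hy hy' => by
    obtain ⟨S, hS, hle⟩ := H86.exists_isSylowIn (p := 2) (H := K ⊔ T) le_sup_right hT.2.1
    exact mem_bot.1 ((S1910.result K hK g hg T T0 hT.1 ⟨hT.2.1, hT.not_dvd_relIndex⟩ S
      hle hS.1 ⟨hS.2.1, hS.not_dvd_relIndex⟩).1 ▸ mem_inf.2 ⟨hy, hy'⟩)
  have xN : x ∈ normalizer (φ.range : Set G) := nn ▸ TN xT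
  let e0 := MonoidHom.ofInjective hφ
  let ψ : S3 ≃* S3 := (e0.trans (φ.range.normalizerMonoidHom ⟨x, xN⟩)).trans e0.symm
  have eψ : ∀ m, φ (ψ m) = x * φ m * x⁻¹ := fun m =>
    congrArg Subtype.val (e0.apply_symm_apply (φ.range.normalizerMonoidHom ⟨x, xN⟩ (e0 m)))
  have ψz : ψ z0 = z0 := by
    refine (inv_mul_eq_one.1 (LK (z0⁻¹ * ψ z0) ?_)).symm
    have h1 : x * (φ z0 * k) = φ z0 * k * x := eu ▸ xu
    have h2 : φ (z0⁻¹ * ψ z0) = k * (x * k⁻¹ * x⁻¹) := by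
      rw [map_mul, map_inv, eψ]
      calc _ = (φ z0)⁻¹ * (x * (φ z0 * k)) * k⁻¹ * x⁻¹ := by group
        _ = _ := by rw [h1]; group
    rw [h2]
    exact mul_mem hk ((mem_normalizer_iff.1 (TN xT) _).1 (inv_mem hk))
  have cu : ∀ c, c * z0 = z0 * c → φ c * u = u * φ c := fun c hc => by
    rw [eu, ← mul_assoc, ← map_mul, hc, map_mul, mul_assoc, cK hk, mul_assoc]
  have key : ∀ c, c * z0 = z0 * c → ψ c = c := fun c hc => by
    by_contra hn
    refine hz (nz (J := (cj g K).comap φ) (y := ψ c * c⁻¹) (fun s hs y hy => ?_) ?_ ?_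
      fun e => hn (mul_inv_eq_one.1 e))
    · rw [mem_comap, map_mul, map_mul, map_inv]
      exact cen _ (cu s hs) _ hy
    · rw [mem_comap, map_mul, map_inv, eψ, mul_assoc, mul_assoc, ← mul_assoc (φ c)]
      exact mul_mem (hT.1 xT).1 (cen _ (cu c hc) _ (inv_mem (hT.1 xT).1))
    · have h1 : ψ c * z0 = z0 * ψ c := by rw [← ψz, ← map_mul, hc, map_mul]
      rw [mul_assoc, (Commute.inv_left hc).eq, ← mul_assoc, h1, mul_assoc]
  rcases fix au ψ (key _ wz) (key _ az) (key _ qz) with h | h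
  · exact x1 (TK x xT (mK x fun m => by rw [← eψ, h]))
  · refine x2 ?_
    have h1 := TK _ (mul_mem (inv_mem uT) xT) (mK _ fun m => by
      calc _ = u⁻¹ * (x * φ m * x⁻¹) * u := by group
        _ = k⁻¹ * (φ m * k) := by rw [← eψ, h, map_mul, map_mul, map_inv, eu]; group
        _ = _ := by rw [cK hk]; group)
    exact (inv_mul_eq_one.1 h1).symm

end Cfsg.Agent.H66.L40R2b
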