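import Cfsg.Agent.H78.G40A
import Cfsg.Agent.H66.L40R2b
import Cfsg.Agent.H26.SLBasic

/-! Project L40G, piece KITC: generators of centralisers in `SL₃(3)`. -/

set_option autoImplicit false
set_option maxRecDepth 100000

namespace Cfsg.Agent.H66.G40KitC

open Subgroup Cfsg.Agent.H46.L40 Cfsg.Agent.H78.G40

/-- matrices -/
abbrev Mt := Matrix (Fin 3) (Fin 3) (ZMod 3)

/-- each entry is a product of two earlier entries -/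
def ok : List Mt → List (Mt × ℕ × ℕ) → Bool
  | _, [] => true
  | acc, e :: r => decide (e.1 = acc.getD e.2.1 1 * acc.getD e.2.2 1) && ok (e.1 :: acc) r

/-- all the matrices produced -/
def res (acc : List Mt) (r : List (Mt × ℕ × ℕ)) : List Mt := acc ++ r.map Prod.fst

theorem ok_spec (H : Subgroup S3) (r : List (Mt × ℕ × ℕ)) : ∀ acc : List Mt,
    (∀ m ∈ acc, ∃ x ∈ H, x.1 = m) → ok acc r = true → ∀ m ∈ res acc r, ∃ x ∈ H, x.1 = m := by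
  induction r with
  | nil => intro acc h _ m hm; exact h m (by simpa [res] using hm)
  | cons e r ih =>
    intro acc h h1 m hm
    obtain ⟨h2, h3⟩ := Bool.and_eq_true_iff.mp h1
    have g : ∀ i, ∃ x ∈ H, x.1 = acc.getD i 1 := fun i => by
      by_cases hi : i < acc.length
      · rw [List.getD_eq_getElem _ _ hi]; exact h _ (List.getElem_mem hi)
      · rw [List.getD_eq_default _ _ (not_lt.mp hi)]; exact ⟨1, H.one_mem, rfl⟩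
    obtain ⟨x, hx, e1⟩ := g e.2.1
    obtain ⟨y, hy, e2⟩ := g e.2.2
    refine ih (e.1 :: acc) (fun m hm => ?_) h3 m ?_
    · rcases List.mem_cons.mp hm with rfl | hm
      · exact ⟨x * y, H.mul_mem hx hy, by rw [of_decide_eq_true h2, ← e1, ← e2]; rfl⟩
      · exact h m hm
    · simp only [res, List.map_cons, List.mem_append, List.mem_cons] at hm ⊢
      tauto

theorem mem_of (S : Set S3) (l : List S3) (hl : ∀ x ∈ l, x ∈ S) (r : List (Mt × ℕ × ℕ))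
    (h : ok (l.map Subtype.val) r = true) (y : S3) (hy : y.1 ∈ res (l.map Subtype.val) r) :
    y ∈ Subgroup.closure S := by
  obtain ⟨x, hx, e⟩ := ok_spec (Subgroup.closure S) r _ (fun m hm => by
    obtain ⟨x, hx, rfl⟩ := List.mem_map.mp hm
    exact ⟨x, Subgroup.subset_closure (hl x hx), rfl⟩) h _ hy
  exact (show x = y from Subtype.ext e) ▸ hx

def c1 : List (Mt × ℕ × ℕ) := [(!![1, 2, 0; 0, 1, 0; 0, 0, 1], 0, 0),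
  (!![2, 1, 0; 1, 1, 0; 0, 0, 1], 1, 2),
  (!![1, 2, 0; 0, 2, 0; 0, 0, 2], 2, 4),
  (!![1, 1, 0; 1, 2, 0; 0, 0, 1], 4, 3),
  (!![1, 0, 0; 2, 1, 0; 0, 0, 1], 5, 5),
  (!![1, 0, 0; 1, 2, 0; 0, 0, 2], 6, 7),
  (!![1, 1, 0; 0, 2, 0; 0, 0, 2], 8, 6),
  (!![1, 0, 0; 2, 2, 0; 0, 0, 2], 9, 8),
  (!![1, 0, 0; 0, 1, 0; 0, 0, 1], 10, 10),
  (!![0, 2, 0; 1, 1, 0; 0, 0, 1], 8, 10),
  (!![2, 0, 0; 1, 2, 0; 0, 0, 1], 8, 10),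
  (!![0, 1, 0; 2, 1, 0; 0, 0, 1], 9, 12),
  (!![2, 2, 0; 1, 2, 0; 0, 0, 2], 10, 14),
  (!![0, 2, 0; 2, 2, 0; 0, 0, 2], 10, 14),
  (!![1, 2, 0; 1, 0, 0; 0, 0, 1], 10, 14),
  (!![2, 1, 0; 0, 2, 0; 0, 0, 1], 11, 16),
  (!![1, 2, 0; 1, 1, 0; 0, 0, 2], 12, 18),
  (!![1, 1, 0; 2, 0, 0; 0, 0, 1], 12, 17),
  (!![1, 1, 0; 1, 0, 0; 0, 0, 2], 12, 18),
  (!![2, 1, 0; 2, 2, 0; 0, 0, 2], 12, 20),
  (!![1, 1, 0; 2, 1, 0; 0, 0, 2], 12, 20),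
  (!![0, 2, 0; 1, 2, 0; 0, 0, 1], 11, 21),
  (!![2, 2, 0; 2, 1, 0; 0, 0, 1], 12, 23),
  (!![0, 1, 0; 1, 2, 0; 0, 0, 2], 13, 25),
  (!![2, 2, 0; 1, 0, 0; 0, 0, 1], 13, 24),
  (!![2, 0, 0; 0, 2, 0; 0, 0, 1], 14, 26),
  (!![2, 0, 0; 1, 1, 0; 0, 0, 2], 15, 28),
  (!![0, 1, 0; 2, 0, 0; 0, 0, 1], 15, 27),
  (!![2, 1, 0; 1, 0, 0; 0, 0, 2], 15, 28),
  (!![0, 2, 0; 2, 1, 0; 0, 0, 2], 15, 29),
  (!![0, 2, 0; 1, 0, 0; 0, 0, 1], 15, 31),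
  (!![0, 1, 0; 2, 2, 0; 0, 0, 1], 15, 32),
  (!![2, 2, 0; 0, 1, 0; 0, 0, 2], 16, 34),
  (!![1, 2, 0; 2, 2, 0; 0, 0, 1], 15, 33),
  (!![2, 1, 0; 2, 0, 0; 0, 0, 1], 16, 35),
  (!![1, 2, 0; 2, 0, 0; 0, 0, 2], 17, 37),
  (!![2, 0, 0; 2, 1, 0; 0, 0, 2], 16, 36),
  (!![2, 1, 0; 0, 1, 0; 0, 0, 2], 16, 38),
  (!![2, 2, 0; 0, 2, 0; 0, 0, 1], 16, 39),
  (!![0, 1, 0; 1, 1, 0; 0, 0, 2], 17, 41),
  (!![0, 1, 0; 1, 0, 0; 0, 0, 2], 16, 40),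
  (!![2, 0, 0; 2, 2, 0; 0, 0, 1], 15, 42),
  (!![2, 0, 0; 0, 1, 0; 0, 0, 2], 16, 44),
  (!![0, 2, 0; 2, 0, 0; 0, 0, 2], 15, 45),
  (!![2, 2, 0; 2, 0, 0; 0, 0, 2], 9, 46)]

def c2 : List (Mt × ℕ × ℕ) := [(!![1, 2, 0; 0, 1, 0; 0, 0, 1], 0, 0),
  (!![1, 0, 0; 0, 1, 0; 0, 0, 1], 0, 1),
  (!![1, 2, 2; 0, 1, 1; 0, 0, 1], 1, 4),
  (!![1, 2, 1; 0, 1, 2; 0, 0, 1], 0, 5),
  (!![1, 0, 1; 0, 1, 2; 0, 0, 1], 0, 4),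
  (!![1, 0, 1; 0, 1, 0; 0, 0, 1], 0, 7),
  (!![1, 0, 2; 0, 1, 1; 0, 0, 1], 3, 6),
  (!![1, 0, 2; 0, 1, 2; 0, 0, 1], 0, 9),
  (!![1, 0, 2; 0, 1, 0; 0, 0, 1], 0, 10),
  (!![1, 0, 0; 2, 1, 0; 0, 0, 1], 10, 10),
  (!![1, 0, 0; 0, 1, 2; 0, 0, 1], 12, 12),
  (!![1, 0, 0; 2, 1, 0; 0, 1, 1], 1, 14),
  (!![1, 0, 0; 0, 1, 0; 1, 1, 1], 0, 13),
  (!![1, 0, 0; 0, 1, 0; 1, 2, 1], 0, 16),
  (!![1, 0, 0; 0, 1, 0; 1, 0, 1], 0, 17),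
  (!![1, 0, 0; 2, 1, 0; 0, 2, 1], 3, 18),
  (!![1, 0, 0; 0, 1, 0; 2, 2, 1], 0, 17),
  (!![1, 0, 0; 0, 1, 0; 2, 0, 1], 0, 20),
  (!![1, 0, 0; 0, 1, 0; 0, 2, 1], 21, 21)]

def c3 : List (Mt × ℕ × ℕ) := [(!![1, 2, 2; 1, 2, 1; 2, 2, 0], 0, 2),
  (!![1, 1, 2; 1, 2, 2; 2, 0, 2], 0, 2),
  (!![2, 1, 2; 1, 1, 2; 0, 2, 2], 0, 2),
  (!![0, 2, 0; 1, 1, 1; 0, 2, 1], 0, 5),
  (!![1, 0, 0; 2, 1, 1; 1, 0, 1], 0, 4),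
  (!![1, 0, 0; 2, 2, 1; 1, 2, 0], 0, 6),
  (!![2, 1, 2; 2, 2, 2; 1, 2, 0], 0, 8),
  (!![2, 2, 2; 1, 2, 2; 1, 1, 0], 0, 7),
  (!![2, 1, 2; 1, 1, 2; 1, 0, 1], 0, 9),
  (!![0, 2, 0; 1, 1, 1; 1, 0, 2], 0, 11),
  (!![0, 0, 2; 1, 2, 1; 1, 1, 0], 0, 11),
  (!![1, 1, 0; 0, 1, 0; 0, 0, 1], 0, 13),
  (!![0, 1, 0; 0, 0, 1; 1, 0, 0], 13, 12),
  (!![1, 2, 2; 2, 2, 0; 2, 1, 2], 0, 15),
  (!![1, 1, 2; 2, 0, 2; 2, 1, 1], 0, 15),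
  (!![1, 1, 1; 2, 0, 1; 1, 0, 0], 0, 17),
  (!![2, 1, 1; 0, 2, 1; 0, 1, 0], 0, 16),
  (!![2, 2, 1; 1, 0, 1; 2, 0, 0], 0, 17),
  (!![2, 2, 2; 1, 2, 0; 2, 0, 0], 0, 19),
  (!![1, 1, 2; 1, 2, 0; 1, 2, 1], 0, 21),
  (!![2, 1, 2; 1, 1, 0; 1, 1, 1], 0, 20),
  (!![2, 1, 1; 1, 0, 1; 1, 2, 1], 0, 22),
  (!![1, 0, 0; 1, 0, 2; 0, 1, 0], 0, 24),
  (!![1, 0, 0; 1, 1, 0; 0, 0, 1], 0, 24),
  (!![2, 1, 1; 1, 1, 2; 2, 0, 2], 26, 25),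
  (!![2, 2, 1; 2, 1, 2; 0, 2, 2], 0, 25),
  (!![2, 2, 2; 0, 2, 0; 0, 2, 1], 0, 28),
  (!![2, 1, 2; 0, 0, 2; 0, 2, 2], 0, 28),
  (!![2, 2, 2; 0, 0, 2; 1, 0, 2], 0, 28),
  (!![1, 1, 2; 1, 1, 0; 0, 2, 2], 0, 31),
  (!![2, 1, 2; 2, 1, 0; 1, 0, 2], 0, 30),
  (!![2, 1, 1; 2, 0, 1; 1, 1, 0], 0, 32),
  (!![1, 0, 0; 0, 1, 1; 0, 0, 1], 0, 34),
  (!![1, 0, 0; 1, 1, 1; 2, 0, 1], 8, 35),
  (!![1, 0, 0; 1, 2, 1; 2, 2, 0], 0, 35),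
  (!![1, 0, 0; 1, 2, 2; 2, 0, 2], 0, 36),
  (!![1, 0, 0; 1, 1, 2; 2, 1, 0], 0, 37),
  (!![2, 1, 2; 1, 1, 1; 2, 1, 0], 0, 39),
  (!![2, 1, 1; 1, 2, 1; 2, 0, 1], 0, 39),
  (!![1, 0, 0; 0, 1, 0; 0, 1, 1], 0, 41)]

def v0 : S3 := ⟨!![2, 1, 2; 1, 2, 2; 2, 2, 0], by decide⟩


theorem ok1 : ok ([x12, x21, a0].map Subtype.val) c1 = true := by decide +kernel

theorem ok2 : ok ([x12, x21, x23, x32].map Subtype.val) c2 = true := by decide +kernel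

theorem ok3 : ok ([w0, n23, v0].map Subtype.val) c3 = true := by decide +kernel

theorem f1 : ∀ a b c d e : ZMod 3, (a * d - b * c) * e = 1 →
    !![a, b, 0; c, d, 0; 0, 0, e] ∈ res ([x12, x21, a0].map Subtype.val) c1 := by decide +kernel

theorem f2 : ∀ (i j : Fin 3) (c : ZMod 3), i ≠ j →
    Matrix.transvection i j c ∈ res ([x12, x21, x23, x32].map Subtype.val) c2 := by decide +kernel

theorem f3 : ∀ a b c d e : ZMod 3, (a * d - b * c) * e = 1 →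
    !![a, b, 0; c, d, 0; 0, 0, e] * a0.1 = a0.1 * !![a, b, 0; c, d, 0; 0, 0, e] →
    !![a, b, 0; c, d, 0; 0, 0, e] ∈
      res ([z0, a0].map Subtype.val) [(1, 0, 0), (!![2, 0, 0; 0, 1, 0; 0, 0, 2], 1, 2)] := by
  decide +kernel

theorem gen1 : Subgroup.closure ({x12, x21, x23, x32} : Set S3) = ⊤ := by
  have := Fact.mk Nat.prime_three
  rw [eq_top_iff]
  intro m _
  refine H26.sl_transvection_induction (fun m : S3 => m ∈ Subgroup.closure ({x12, x21, x23, x32} : Set S3))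
    (one_mem _) (fun i j h c => ?_) (fun A B hA hB => mul_mem hA hB) m
  exact mem_of _ [x12, x21, x23, x32] (by simp) c2 ok2 _ (f2 i j c h)

theorem kitC : KitCS := by
  refine ⟨fun m h => ?_, fun m h h' => ?_, gen1, ?_⟩
  · obtain ⟨a, b, c, d, e, h, hm⟩ := L40R2b.block h
    exact mem_of _ [x12, x21, a0] (by simp) c1 ok1 _ (hm ▸ f1 a b c d e h)
  · obtain ⟨a, b, c, d, e, h, hm⟩ := L40R2b.block h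
    have h1 := f3 a b c d e h
    rw [← hm] at h1
    exact mem_of _ [z0, a0] (by simp) _ (by decide +kernel) _ (h1 (congrArg Subtype.val h'))
  · have e : y8 * n23 * y8⁻¹ = v0 := by
      rw [mul_inv_eq_iff_eq_mul]
      decide +kernel
    rw [e, eq_top_iff, ← gen1, Subgroup.closure_le]
    rintro x (rfl | rfl | rfl | rfl) <;>
      exact mem_of _ [w0, n23, v0] (by simp) c3 ok3 _ (by decide +kernel)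

end Cfsg.Agent.H66.G40KitC
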