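import Cfsg.Agent.H79.FixO
import Cfsg.Agent.H79.InvolSp

/-!
# The `2`-parts of centralisers of involutions in `Ω` in characteristic two
-/

set_option autoImplicit false
set_option linter.unusedSectionVars false

namespace Cfsg.Agent.H66.DnL

open Module LinearMap QuadraticMap Cfsg.Agent.H79
open Cfsg.Agent.H27 (isomGroup spOrder)
open Cfsg.Agent.H30 (O refl dickson IsExc hperp eichGroup)

/-- `2 ^ a` is the `2`-part of `N`. -/
def P2 (N a : ℕ) : Prop := ∃ o, Odd o ∧ N = 2 ^ a * o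

theorem eqns_P2 : True := by have := @P2.eq_1; trivial

theorem P2.fact {N a : ℕ} (h : P2 N a) : N.factorization 2 = a := by
  obtain ⟨o, ho, rfl⟩ := h
  rw [Nat.factorization_mul (by positivity) ho.pos.ne', Nat.prime_two.factorization_pow,
    Finsupp.add_apply, Finsupp.single_eq_same,
    Nat.factorization_eq_zero_of_not_dvd ho.not_two_dvd_nat, add_zero]

theorem P2.mul {N M a b : ℕ} (h : P2 N a) (k : P2 M b) : P2 (N * M) (a + b) := by
  obtain ⟨o, ho, rfl⟩ := h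
  obtain ⟨p, hp, rfl⟩ := k
  exact ⟨o * p, ho.mul hp, by ring⟩

theorem P2.half {N a : ℕ} (h : P2 (2 * N) (a + 1)) : P2 N a := by
  obtain ⟨o, ho, e⟩ := h
  exact ⟨o, ho, Nat.eq_of_mul_eq_mul_left two_pos (by rw [e]; ring)⟩

theorem P2.congr {N a b : ℕ} (h : P2 N a) (e : a = b) : P2 N b := e ▸ h

theorem p2_two : P2 2 1 := ⟨1, odd_one, rfl⟩

theorem p2_odd {o : ℕ} (h : Odd o) : P2 o 0 := ⟨o, h, by simp⟩

theorem p2_pow (f k : ℕ) : P2 ((2 ^ f) ^ k) (f * k) := ⟨1, odd_one, by rw [← pow_mul, mul_one]⟩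

theorem even_pow {f k : ℕ} (hf : 0 < f) (hk : 0 < k) : Even ((2 ^ f) ^ k) :=
  (Nat.even_pow' hk.ne').2 ((Nat.even_pow' hf.ne').2 even_two)

theorem odd_sub {f k : ℕ} (hf : 0 < f) (hk : 0 < k) : Odd ((2 ^ f) ^ k - 1) :=
  Nat.Even.sub_odd (Nat.one_le_pow _ _ (by positivity)) (even_pow hf hk) odd_one

theorem p2_prod {f : ℕ} (hf : 0 < f) (r : ℕ) :
    P2 (∏ i ∈ Finset.range r, ((2 ^ f) ^ (2 * (i + 1)) - 1)) 0 :=
  p2_odd (Finset.prod_induction _ Odd (fun _ _ => Odd.mul) odd_one fun _ _ => odd_sub hf (by omega))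

theorem p2_sp {f : ℕ} (hf : 0 < f) (r : ℕ) : P2 (spOrder (2 ^ f) r) (f * r ^ 2) :=
  (p2_pow f _).mul (p2_prod hf r)

variable {F V : Type*} [Field F] [Fintype F] [AddCommGroup V] [Module F V] [FiniteDimensional F V]
  {Q : QuadraticForm F V} {f : ℕ} (hf : 0 < f) (hF : Fintype.card F = 2 ^ f)
include hf hF

theorem p2_O (hQ : (polarBilin Q).Nondegenerate) {r : ℕ} (hV : finrank F V = 2 * r) :
    P2 (Nat.card (O Q)) (f * (r * (r - 1)) + if r = 0 then 0 else 1) := by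
  split_ifs with hr
  · rw [H30.card_O_of_finrank_zero (by omega), hr]; exact p2_odd odd_one
  by_cases hp : IsPlus (F := F) Q
  · rw [H30.card_O_plus hQ (m := r) (by omega) hV hp, Nat.card_eq_fintype_card, hF]
    exact (((p2_two.mul (p2_pow f _)).mul (p2_odd (odd_sub hf (by omega)))).mul (p2_prod hf _)).congr
      (by omega)
  · rw [H30.card_O_minus hQ (m := r) (by omega) hV hp, Nat.card_eq_fintype_card, hF]
    exact (((p2_two.mul (p2_pow f _)).mul (p2_odd (even_pow hf (by omega)).add_one)).mul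
      (p2_prod hf _)).congr (by omega)

theorem p2_sing (hQ : (polarBilin Q).Nondegenerate) {k r : ℕ} (hV : finrank F V = 2 * (k + r))
    {U : Submodule F V} (hk : finrank F U = k) (hU : ∀ u ∈ U, Q u = 0) :
    P2 (Nat.card (fixSub (O Q) U))
      (f * (k.choose 2 + 2 * k * r) + (f * (r * (r - 1)) + if r = 0 then 0 else 1)) := by
  induction k generalizing V with
  | zero =>
    rw [Submodule.finrank_eq_zero.1 hk, fixSub_bot, Subgroup.card_top]
    exact (p2_O hf hF hQ (by omega)).congr (by simp)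
  | succ k ih =>
    obtain ⟨e, he, he0⟩ := (Submodule.ne_bot_iff U).1 (H30.ne_bot_of_finrank_pos (by omega))
    obtain ⟨g, h⟩ := H30.exists_isHyp hQ (hU e he) he0
    have hUe : ∀ u ∈ U, polar Q u e = 0 := fun u hu => H30.mem_perp.1 (le_perp_of_sing hU he) u hu
    have h1 := finrank_comap_hperp h he hUe
    have h2 := h.finrank_hperp
    rw [card_fixSub_step hQ h he hUe (j := k + 2 * r) (by omega), hF]
    exact ((p2_pow f _).mul (ih (h.nondegOn_hperp hQ).restrict (by omega) (by omega)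
      fun u hu => hU _ hu)).congr (by rw [choose_two_succ]; ring)

variable (h2 : (2 : F) = 0) (hQ : (polarBilin Q).Nondegenerate) (hexc : ¬ IsExc Q) (t : O Q)
  (ht : t * t = 1)
include h2 hexc ht

omit hf hF h2 hexc in
theorem coe_sq : t.1 * t.1 = 1 := congrArg Subtype.val ht

theorem odd_rank {k r : ℕ} (hV : finrank F V = 2 * (2 * k + 1 + r)) (hk : rk t.1 = 2 * k + 1) :
    P2 (Nat.card ↥(Subgroup.centralizer {t} ⊓ (dickson hQ).ker))
      (f * (3 * k ^ 2 + k + 4 * k * r + r ^ 2)) := by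
  have hI := O_le_isom t.2
  have ht2 := coe_sq t ht
  have hna : ¬ AltType (polarBilin Q) t.1 := fun ha => by
    have := even_rk_of_altType h2 hQ (polar_isAlt h2) hI ht2 ha
    rw [hk] at this
    exact Nat.not_even_two_mul_add_one k this
  have c := (card_centralizer_ker h2 hQ hexc t ht2).1 fun h => hna h.2
  rw [(card_isom_wall h2 hQ (polar_isAlt h2) hI ht2).2.1 k hk, card_fixSub_nonsing h2 hQ hV hk
    (fun u hu v hv => nil_isotropic h2 hI ht2 hu hv) (by
      rw [altType_iff_sing h2] at hna; push Not at hna; exact hna), hF] at c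
  refine P2.half (c ▸ (((p2_pow f _).mul (p2_two.mul (p2_sp hf r))).mul (p2_sp hf k)).congr ?_)
  rw [show (2 * k + 1).choose 2 = (2 * k + 1) * k by
    rw [Nat.choose_two_right]
    exact Nat.div_eq_of_eq_mul_right two_pos (by rw [Nat.add_sub_cancel]; ring)]
  ring

theorem non_alt {k r : ℕ} (hV : finrank F V = 2 * (2 * k + 2 + r)) (hk : rk t.1 = 2 * k + 2)
    (hna : ¬ AltType (polarBilin Q) t.1) :
    P2 (Nat.card ↥(Subgroup.centralizer {t} ⊓ (dickson hQ).ker))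
      (f * (3 * k ^ 2 + 5 * k + 2 + (4 * k + 2) * r + r ^ 2)) := by
  have hI := O_le_isom t.2
  have ht2 := coe_sq t ht
  have c := (card_centralizer_ker h2 hQ hexc t ht2).1 fun h => hna h.2
  rw [(card_isom_wall h2 hQ (polar_isAlt h2) hI ht2).2.2 k hna hk, card_fixSub_nonsing h2 hQ hV hk
    (fun u hu v hv => nil_isotropic h2 hI ht2 hu hv) (by
      rw [altType_iff_sing h2] at hna; push Not at hna; exact hna), hF] at c
  refine P2.half (c ▸ (((p2_pow f _).mul (p2_two.mul (p2_sp hf r))).mul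
    ((p2_pow f _).mul (p2_sp hf k))).congr ?_)
  rw [show (2 * k + 1 + 1).choose 2 = (k + 1) * (2 * k + 1) by
    rw [Nat.choose_two_right]
    exact Nat.div_eq_of_eq_mul_right two_pos (by rw [Nat.add_sub_cancel]; ring)]
  ring

theorem alt {k r : ℕ} (hV : finrank F V = 2 * (2 * k + r)) (hk : rk t.1 = 2 * k)
    (ha : AltType (polarBilin Q) t.1) :
    P2 (Nat.card ↥(Subgroup.centralizer {t} ⊓ (dickson hQ).ker))
      (f * ((2 * k).choose 2 + k ^ 2 + 4 * k * r + r * (r - 1))) := by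
  have hI := O_le_isom t.2
  have ht2 := coe_sq t ht
  obtain ⟨c1, c2⟩ := card_centralizer_ker h2 hQ hexc t ht2
  have p := (p2_sing hf hF hQ hV hk ((altType_iff_sing h2 _).1 ha)).mul (p2_sp hf k)
  rw [(card_isom_wall h2 hQ (polar_isAlt h2) hI ht2).1 k ha hk, hF] at c1 c2
  split_ifs at p with hr
  · rw [c2 ⟨by omega, ha⟩]
    exact p.congr (by ring)
  · exact P2.half (c1 (fun h => hr (by omega)) ▸ p.congr (by ring))

omit hf hF h2 hexc ht in
/-- The exponent of two in the order of `C_Ω(t)`. -/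
noncomputable def cO : ℕ :=
  (Nat.card ↥(Subgroup.centralizer {t} ⊓ (dickson hQ).ker)).factorization 2

omit hf hF h2 hexc ht in
theorem eqns_cO : True := by have := @cO.eq_1.{0, 0}; trivial

omit hf hF h2 hexc ht in
/-- The least exponent for an outer involution. -/
def eo (n : ℕ) : ℕ :=
  3 * ((n - 1) / 2) ^ 2 + (n - 1) / 2 + 4 * ((n - 1) / 2) * ((n - 1) % 2) + ((n - 1) % 2) ^ 2

omit hf hF h2 hexc ht in
theorem eqns_eo : True := by have := @eo.eq_1; trivial

omit hf hF h2 hexc ht in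
theorem eo_eq {j r : ℕ} (hr : r ≤ 1) : eo (2 * j + 1 + r) = 3 * j ^ 2 + j + 4 * j * r + r ^ 2 := by
  rw [eo, show (2 * j + 1 + r - 1) / 2 = j by omega, show (2 * j + 1 + r - 1) % 2 = r by omega]

omit hf hF h2 hexc ht in
theorem eo_ge {m : ℕ} (hm : 2 ≤ m) : (m + 2) * (m + 1) + 3 ≤ 2 * eo (m + 2) := by
  obtain ⟨j, rfl | rfl⟩ := Nat.even_or_odd' m
  · rw [show 2 * j + 2 = 2 * j + 1 + 1 by omega, eo_eq le_rfl]; nlinarith
  · rw [show 2 * j + 1 + 2 = 2 * (j + 1) + 1 + 0 by omega, eo_eq zero_le_one]; nlinarith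

variable {n : ℕ} (hV : finrank F V = 2 * n)
include hV

theorem out_ge (h : dickson hQ t ≠ 1) : f * eo n ≤ cO hQ t := by
  obtain ⟨k, hk⟩ := Nat.not_even_iff_odd.1 (mt (dickson_eq_one_iff_rk hQ t).2 h)
  have h1 := two_mul_rk_le h2 hQ (O_le_isom t.2) (coe_sq t ht)
  obtain ⟨d, r, hr, rfl⟩ : ∃ d r, r ≤ 1 ∧ n = 2 * k + 1 + (2 * d + r) :=
    ⟨(n - (2 * k + 1)) / 2, (n - (2 * k + 1)) % 2, by omega, by omega⟩
  rw [cO, (odd_rank hf hF h2 hQ hexc t ht hV hk).fact,
    show 2 * k + 1 + (2 * d + r) = 2 * (k + d) + 1 + r by omega, eo_eq hr]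
  exact Nat.mul_le_mul_left _ (by nlinarith [Nat.le_mul_self d])

omit ht in
theorem out_min (hn : 1 ≤ n) : ∃ t : O Q, t * t = 1 ∧ dickson hQ t ≠ 1 ∧ cO hQ t = f * eo n := by
  obtain ⟨j, r, hr, rfl⟩ : ∃ j r, r ≤ 1 ∧ n = 2 * j + 1 + r :=
    ⟨(n - 1) / 2, (n - 1) % 2, by omega, by omega⟩
  obtain ⟨t, h3, h4, -⟩ := exists_invol_O h2 hQ (k := 2 * j + 1) (by omega) (by omega)
  refine ⟨t, Subtype.ext h3, fun h => ?_, ?_⟩
  · rw [dickson_eq_one_iff_rk, h4] at h
    exact Nat.not_even_two_mul_add_one j h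
  · rw [cO, (odd_rank hf hF h2 hQ hexc t (Subtype.ext h3) hV h4).fact, eo_eq hr]

theorem inn_ge (hn : 4 ≤ n) (h : dickson hQ t = 1) :
    f * (eo n + if Even n then 1 else 3) ≤ cO hQ t := by
  obtain ⟨k, hk⟩ := even_iff_exists_two_mul.1 ((dickson_eq_one_iff_rk hQ t).1 h)
  have h1 := two_mul_rk_le h2 hQ (O_le_isom t.2) (coe_sq t ht)
  by_cases ha : AltType (polarBilin Q) t.1
  · obtain ⟨d, r, hr, rfl⟩ : ∃ d r, r ≤ 1 ∧ n = 2 * k + (2 * d + r) :=
      ⟨(n - 2 * k) / 2, (n - 2 * k) % 2, by omega, by omega⟩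
    rw [cO, (alt hf hF h2 hQ hexc t ht hV hk ha).fact]
    refine Nat.mul_le_mul_left _ ?_
    have e1 : (2 * k).choose 2 + k = 2 * k ^ 2 := by
      have := choose_two_succ (2 * k)
      rw [Nat.choose_two_right (2 * k + 1), Nat.add_sub_cancel,
        Nat.div_eq_of_eq_mul_right two_pos (by ring : (2 * k + 1) * (2 * k) = 2 * (2 * k ^ 2 + k))]
        at this
      omega
    have e2 : (2 * d + r) * (2 * d + r - 1) + (2 * d + r) = (2 * d + r) ^ 2 := by
      rcases Nat.eq_zero_or_pos (2 * d + r) with e | e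
      · rw [e]; rfl
      · obtain ⟨s, hs⟩ : ∃ s, 2 * d + r = s + 1 := ⟨_, (Nat.sub_add_cancel e).symm⟩
        rw [hs, Nat.add_sub_cancel]; ring
    generalize (2 * d + r) * (2 * d + r - 1) = w at e2
    generalize (2 * k).choose 2 = c at e1
    obtain rfl | rfl : r = 0 ∨ r = 1 := by omega
    · obtain ⟨j, hj⟩ : ∃ j, k + d = j + 1 := ⟨k + d - 1, by omega⟩
      rw [show 2 * k + (2 * d + 0) = 2 * j + 1 + 1 by omega, eo_eq le_rfl, if_pos ⟨j + 1, by omega⟩]
      obtain rfl | ⟨d, rfl⟩ : d = 0 ∨ ∃ e, d = e + 1 := by cases d <;> simp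
      · obtain rfl : k = j + 1 := hj
        nlinarith
      · obtain rfl : j = k + d := by omega
        nlinarith
    · rw [show 2 * k + (2 * d + 1) = 2 * (k + d) + 1 + 0 by omega, eo_eq zero_le_one,
        if_neg (Nat.not_even_two_mul_add_one _)]
      nlinarith [Nat.le_mul_self d]
  · have hpos : 0 < rk t.1 := rk_pos.2 fun h => ha fun v => by
      rw [h]; exact (polar_isAlt h2).self_eq_zero v
    obtain ⟨k, rfl⟩ : ∃ j, k = j + 1 := ⟨k - 1, by omega⟩
    obtain ⟨d, r, hr, rfl⟩ : ∃ d r, r ≤ 1 ∧ n = 2 * k + 2 + (2 * d + r) :=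
      ⟨(n - (2 * k + 2)) / 2, (n - (2 * k + 2)) % 2, by omega, by omega⟩
    rw [cO, (non_alt hf hF h2 hQ hexc t ht hV hk ha).fact]
    refine Nat.mul_le_mul_left _ ?_
    obtain rfl | rfl : r = 0 ∨ r = 1 := by omega
    · rw [show 2 * k + 2 + (2 * d + 0) = 2 * (k + d) + 1 + 1 by omega, eo_eq le_rfl,
        if_pos ⟨k + d + 1, by omega⟩]
      nlinarith [Nat.le_mul_self d]
    · rw [show 2 * k + 2 + (2 * d + 1) = 2 * (k + d + 1) + 1 + 0 by omega, eo_eq zero_le_one,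
        if_neg (Nat.not_even_two_mul_add_one _)]
      nlinarith [Nat.le_mul_self d, (by omega : 1 ≤ k + d)]

end Cfsg.Agent.H66.DnL
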