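import Cfsg.Agent.H66.DnTL
import Cfsg.Agent.H40.OrthRel

/-!
# The groups `Ω⁺₂ₙ` in characteristic two satisfy Steinberg's relations of type `Dₙ`
-/

set_option autoImplicit false

namespace Cfsg.Agent.H66.Dn

open Cfsg Cfsg.Agent.H63 Cfsg.Agent.H63.SL Cfsg.Agent.H34 Cfsg.Agent.H40 Cfsg.Agent.H30
  Cfsg.Agent.H35 Subgroup QuadraticMap
open Cfsg.Agent.H40.LF (mem_XR x_mem_XR x_mem_UU UU_le)
open scoped commutatorElement

universe u v

variable {m : ℕ}

theorem ne_bar {a c : κ m} (h : a.1 ≠ c.1) : c ≠ bar a := fun e => h (by rw [e, bar_fst])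

theorem com_cases {r s : Φ m} (h : 0 ≤ (R m).pair r s) : ∃ a c a' c' h h', r = rt a c h ∧
    s = rt a' c' h' ∧ (a' = a ∨ (a' ≠ bar a ∧ c' ≠ bar a ∧ a' ≠ bar c ∧ c' ≠ bar c)) := by
  obtain ⟨a, c, e, rfl⟩ := exists_rt r
  obtain ⟨a', c', e', rfl⟩ := exists_rt s
  rw [pair_rt] at h
  by_cases h1 : a' = a
  · exact ⟨a, c, a', c', e, e', rfl, rfl, Or.inl h1⟩
  by_cases h2 : c' = a
  · exact ⟨a, c, c', a', e, e'.symm, rfl, rt_comm _ _ _, Or.inl h2⟩
  by_cases h3 : a' = c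
  · exact ⟨c, a, a', c', e.symm, e', rt_comm _ _ _, rfl, Or.inl h3⟩
  by_cases h4 : c' = c
  · exact ⟨c, a, c', a', e.symm, e'.symm, rt_comm _ _ _, rt_comm _ _ _, Or.inl h4⟩
  have key : ∀ x y : κ m, y ≠ x → ip x y ≤ 0 ∧ (y = bar x → ip x y = -1) := fun x y n =>
    ⟨by rcases ip_cases x y with b | b | b; exacts [absurd b.1 n, by omega, by omega],
      fun b => b ▸ ip_bar x⟩
  have b1 := key _ _ h1
  have b2 := key _ _ h2
  have b3 := key _ _ h3
  have b4 := key _ _ h4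
  refine ⟨a, c, a', c', e, e', rfl, rfl, Or.inr ⟨fun n => ?_, fun n => ?_, fun n => ?_, fun n => ?_⟩⟩
  exacts [by have := b1.2 n; omega, by have := b2.2 n; omega, by have := b3.2 n; omega,
    by have := b4.2 n; omega]

theorem rel_cases {r s : Φ m} (h : (R m).pair r s = -1) :
    ∃ (a c d : κ m) (h1 : a.1 ≠ c.1) (h2 : (bar c).1 ≠ d.1), a.1 ≠ d.1 ∧ r = rt a c h1 ∧
      s = rt (bar c) d h2 := by
  have key : ∀ (a c d : κ m) (h1 : a.1 ≠ c.1) (h2 : (bar c).1 ≠ d.1),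
      (R m).pair (rt a c h1) (rt (bar c) d h2) = -1 → a.1 ≠ d.1 := fun a c d h1 h2 h e => by
    rw [pair_rt, ip_bar, ip_ne (a := c) h2, ip_ne (c := bar c) h1] at h
    rcases ip_cases a d with b | b | b
    exacts [by omega, by omega, b.1 e]
  obtain ⟨a, c, e, rfl⟩ := exists_rt r
  obtain ⟨a', c', e', rfl⟩ := exists_rt s
  by_cases h1 : a' = bar a
  · subst h1; rw [rt_comm a] at h ⊢; exact ⟨c, a, c', _, e', key _ _ _ _ _ h, rfl, rfl⟩
  by_cases h2 : c' = bar a
  · subst h2; rw [rt_comm a, rt_comm a'] at h ⊢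
    exact ⟨c, a, a', _, e'.symm, key _ _ _ _ _ h, rfl, rfl⟩
  by_cases h3 : a' = bar c
  · subst h3; exact ⟨a, c, c', _, e', key _ _ _ _ _ h, rfl, rfl⟩
  by_cases h4 : c' = bar c
  · subst h4; rw [rt_comm a'] at h ⊢; exact ⟨a, c, a', _, e'.symm, key _ _ _ _ _ h, rfl, rfl⟩
  have k2 : ∀ x y : κ m, y ≠ bar x → 0 ≤ ip x y := fun x y n => by
    rcases ip_cases x y with b | b | b
    exacts [by omega, absurd b.1 n, by omega]
  have := k2 _ _ h1
  have := k2 _ _ h2
  have := k2 _ _ h3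
  have := k2 _ _ h4
  rw [pair_rt] at h
  omega

theorem pair_of_sum {k r s : Φ m} (h : vec k = vec r + vec s) : (R m).pair r s = -1 := by
  have := vec_dot k
  rw [h, add_dotProduct, dotProduct_add, dotProduct_add, vec_dot, vec_dot, dotProduct_comm (vec s),
    ← pair_eq] at this
  omega

section Frame

variable {F : Type v} [Field F] {V : Type*} [AddCommGroup V] [Module F V] {Q : QuadraticForm F V}

/-- A hyperbolic basis in characteristic two. -/
structure Hyp (Fr : Frame Q (κ m)) : Prop where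
  two : (2 : F) = 0
  bar : Fr.bar = bar
  z : Fr.z = 0

/-- The root elements. -/
noncomputable def xr (Fr : Frame Q (κ m)) (r : Φ m) (t : F) : O Q :=
  Fr.X (exists_rt r).choose (exists_rt r).choose_spec.choose t

theorem eqns_xr : True := by have := @xr.eq_1.{0, 0}; trivial

variable {Fr : Frame Q (κ m)} (H : Hyp Fr)
include H

theorem Hyp.pol {a c : κ m} (h : c ≠ Dn.bar a) : polar Q (Fr.b a) (Fr.b c) = 0 :=
  Fr.polar_ne (H.bar ▸ h)

theorem Hyp.pol' {a c : κ m} (h : c ≠ Dn.bar a) (t : F) : polar Q (Fr.b a) (t • Fr.b c) = 0 := by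
  rw [polar_smul_right', H.pol h, mul_zero]

theorem Hyp.isHyp (a : κ m) : IsHyp Q (Fr.b a) (Fr.b (Dn.bar a)) := H.bar ▸ Fr.isHyp a

theorem Hyp.X_comm (a c : κ m) (t : F) : Fr.X a c t = Fr.X c a t := by
  rw [Fr.X_swap, neg_eq_of_add_eq_zero_left (by rw [← two_mul, H.two, zero_mul])]

theorem Hyp.xr_rt (a c : κ m) (h : a.1 ≠ c.1) (t : F) : xr Fr (rt a c h) t = Fr.X a c t := by
  obtain ⟨_, e⟩ := (exists_rt (rt a c h)).choose_spec.choose_spec
  rcases rt_inj e with ⟨e1, e2⟩ | ⟨e1, e2⟩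
  · rw [xr, e2, e1]
  · rw [xr, e2, e1, H.X_comm]

theorem Hyp.eq_zero {v : V} (h : ∀ a, polar Q (Fr.b a) v = 0) : v = 0 := by
  obtain ⟨c, e⟩ := Fr.span v h
  rw [e, H.z, smul_zero]

theorem Hyp.ext {g k : O Q} (h : ∀ a, g.1 (Fr.b a) = k.1 (Fr.b a)) : g = k := by
  have := Fr.eq_one_or_refl (g := k⁻¹ * g) fun a => by rw [O_mul_apply, h, O_inv_apply]
  rw [H.z, refl_of_eq_zero (map_zero Q), or_self] at this
  exact (inv_mul_eq_one.1 this).symm

theorem Hyp.nondeg : (polarBilin Q).Nondegenerate :=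
  nondegenerate_of_forall fun _ h => H.eq_zero fun a => by rw [polar_comm, h]

theorem Hyp.decomp (v : V) : v = ∑ a, polar Q (Fr.b (Dn.bar a)) v • Fr.b a := by
  rw [← sub_eq_zero]
  refine H.eq_zero fun a => ?_
  rw [polar_sub_right, ← polarBilin_apply_apply (Q := Q) (Fr.b a) (∑ _, _), map_sum,
    Finset.sum_eq_single (Dn.bar a)]
  · simp [(H.isHyp a).pol]
  · intro c _ hc; simp [H.pol hc]
  · simp

theorem Hyp.X_apply {a c : κ m} (h : a.1 ≠ c.1) (t : F) :
    (Fr.X a c t).1 (Fr.b (Dn.bar c)) = Fr.b (Dn.bar c) - t • Fr.b a := by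
  rw [Frame.X, eich_apply_of_orth_left (Fr.Q_b a) (H.pol' (ne_bar h) t)
    (H.pol (ne_bar (a := Dn.bar c) h.symm)), polar_smul_right', (H.isHyp c).pol', mul_one]

theorem Hyp.add (r : Φ m) (t u : F) : xr Fr r (t + u) = xr Fr r t * xr Fr r u := by
  obtain ⟨a, c, h, rfl⟩ := exists_rt r
  rw [H.xr_rt, H.xr_rt, H.xr_rt, Frame.X, Frame.X, Frame.X,
    eich_mul (Fr.Q_b a) (H.pol' (ne_bar h) _) (H.pol' (ne_bar h) _), add_smul]

theorem Hyp.inv (r : Φ m) (t : F) : (xr Fr r t)⁻¹ = xr Fr r t := by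
  obtain ⟨a, c, h, rfl⟩ := exists_rt r
  rw [H.xr_rt, Frame.X, eich_inv, ← neg_smul,
    neg_eq_of_add_eq_zero_left (by rw [← two_mul, H.two, zero_mul])]

theorem Hyp.pin : Pin (R m) (xr Fr) where
  two := H.two
  add := H.add
  com r s h t u := by
    obtain ⟨a, c, a', c', e, e', rfl, rfl, h'⟩ := com_cases h
    rw [H.xr_rt, H.xr_rt]
    rcases h' with rfl | ⟨h1, h2, h3, h4⟩
    · exact eich_comm (Fr.Q_b _) (H.pol' (ne_bar e) _) (H.pol' (ne_bar e') _)
    · exact eich_rel_orth (H.pol h1) (H.pol' h2 _) (by rw [polar_smul_left', H.pol h3, mul_zero])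
        (by rw [polar_smul_left', H.pol' h4, mul_zero])
  rel r s k h t u := by
    rw [sum_iff] at h
    obtain ⟨a, c, d, h1, h2, h3, rfl, rfl⟩ := rel_cases (pair_of_sum h)
    obtain rfl : k = rt a d h3 := vec_inj (by
      rw [h, vec_rt, vec_rt, vec_rt, ε_bar]; abel)
    have e := eich_rel_LS (Fr.Q_b a) (Fr.Q_b c) (Fr.Q_b (Dn.bar c)) (H.pol (ne_bar h1))
      (H.pol (ne_bar (c := Dn.bar c) h1)) (H.isHyp c).pol (H.pol (ne_bar h3)) (H.pol (ne_bar (a := c) h2))
      (H.pol (ne_bar h2)) t u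
    rw [Fr.Q_b, mul_zero, zero_smul, eich_zero, mul_one] at e
    have e' : xr Fr (rt (Dn.bar c) d h2) u * xr Fr (rt a c h1) t =
        xr Fr (rt a c h1) t * xr Fr (rt (Dn.bar c) d h2) u * xr Fr (rt a d h3) (t * u) := by
      rw [H.xr_rt, H.xr_rt, H.xr_rt]; exact e
    rw [← H.inv (rt a d h3), (inv_mul_eq_iff_eq_mul.2 e').symm]
    simp only [commutatorElement_def, mul_inv_rev, H.inv, mul_assoc]
  inj r t h := by
    obtain ⟨a, c, e, rfl⟩ := exists_rt r
    have := H.X_apply e t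
    rw [← H.xr_rt a c e, h, O_one_apply, eq_comm, sub_eq_self, smul_eq_zero] at this
    exact this.resolve_right (H.isHyp a).left_ne_zero

theorem Hyp.gen : UU (xr Fr) Set.univ = eichGroup Q := by
  refine le_antisymm (UU_le fun r _ t => eich_mem_eichGroup _ _)
    (Fr.eichGroup_le (fun a c t h1 h2 => ?_) fun a t => ?_)
  · have h : a.1 ≠ c.1 := fun e => (fst_eq_iff.1 e.symm).elim h1 (H.bar ▸ h2)
    rw [← H.xr_rt a c h]
    exact x_mem_UU (Set.mem_univ _) t
  · rw [Frame.Z, H.z, smul_zero, eich_zero]; exact one_mem _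

omit H in
/-- The root elements in `Ω`. -/
noncomputable def xe (Fr : Frame Q (κ m)) (r : Φ m) (t : F) : eichGroup Q :=
  ⟨xr Fr r t, eich_mem_eichGroup _ _⟩

omit H in
theorem eqns_xe : True := by have := @xe.eq_1.{0, 0}; trivial

theorem Hyp.pin' : Pin (R m) (xe Fr) := PinM.pin_sub H.pin fun _ _ => eich_mem_eichGroup _ _

theorem Hyp.gen' : UU (xe Fr) Set.univ = ⊤ :=
  (PinM.gen_sub (x := xr Fr) (fun _ _ => eich_mem_eichGroup _ _) _).trans
    (by rw [H.gen, subgroupOf_self])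

end Frame

theorem center_eich {F : Type v} [Field F] {ι : Type} [Fintype ι] [DecidableEq ι]
    {Q : QuadraticForm F (ι → F)} (hQ : (polarBilin Q).Nondegenerate) (two : (2 : F) = 0)
    {e f : ι → F} (h : IsHyp Q e f) (h3 : 3 ≤ Fintype.card ι) : center (eichGroup Q) = ⊥ := by
  refine eq_bot_iff.2 fun g hg => Subtype.ext ?_
  rcases (mem_center_eichGroup_iff hQ h (by rwa [finrank_pi']) g).1 hg with e | e
  exacts [e, e.trans (negOne_eq_one_of_two_eq_zero two)]

theorem pomega_eich {F : Type v} [Field F] [Finite F] {ι : Type} [Fintype ι] [DecidableEq ι]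
    {Q : QuadraticForm F (ι → F)} (hQ : (polarBilin Q).Nondegenerate) (two : (2 : F) = 0)
    {e f : ι → F} (h : IsHyp Q e f) (h5 : 5 ≤ Fintype.card ι) :
    Nonempty (POmega F ⇑Q ≃* eichGroup Q) :=
  ⟨(pomegaEquivEich hQ (not_isExc_of_finrank (by rw [finrank_pi']; omega)) (by omega)).trans
    ((QuotientGroup.quotientMulEquivOfEq (center_eich hQ two h (by omega))).trans
      QuotientGroup.quotientBot)⟩

theorem finite_O {F : Type v} [Field F] [Finite F] {ι : Type} [Fintype ι] [DecidableEq ι]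
    (Q : QuadraticForm F (ι → F)) : Finite (O Q) := Finite.of_equiv _ (isoEquiv Q).toEquiv

theorem two_κ (a : κ m) : ∃ c, c ≠ a ∧ c ≠ bar a := by
  obtain ⟨j, h⟩ := exists_ne a.1
  exact ⟨(j, true), fun e => h (congrArg Prod.fst e), fun e => h (congrArg Prod.fst e)⟩

/-- The standard frame of the split form. -/
def frP (F : Type v) [Field F] (m : ℕ) : Frame (qPlus F (m + 2)) (κ m) where
  b a := Pi.single (if a.2 then .inl a.1 else .inr a.1) 1
  bar := bar
  z := 0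
  bar_bar := bar_bar
  Q_b := by rintro ⟨i, _ | _⟩ <;> simp [qPlus_apply]
  polar_b := by
    rintro ⟨i, _ | _⟩ ⟨j, _ | _⟩ <;> simp [polar_qPlus, Pi.single_apply, eq_comm, bar]
  polar_z a := by simp
  span v hv := ⟨0, by
    funext i
    rcases i with i | i
    · simpa [polar_qPlus, Pi.single_apply] using hv (i, false)
    · simpa [polar_qPlus, Pi.single_apply] using hv (i, true)⟩
  aniso _ := rfl
  two := two_κ

theorem eqns_frP : True := by have := @frP.eq_1.{0}; trivial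

theorem hyp_frP {F : Type v} [Field F] (two : (2 : F) = 0) : Hyp (frP F m) := ⟨two, rfl, rfl⟩

theorem pomega_plus (hm : 1 ≤ m) {F : Type v} [Field F] [Finite F] (two : (2 : F) = 0) :
    Nonempty (POmega F (quadFormPlus (m + 2) F) ≃* eichGroup (qPlus F (m + 2))) :=
  pomega_eich (Q := qPlus F (m + 2)) (qPlus_nondegenerate _) two ((frP F m).isHyp (0, true))
    (by simp; omega)

/-- **Rec** for type `Dₙ`. -/
theorem rec_D (hm : 1 ≤ m) :
    Rec.{u} (R m) fun K _ _ H _ => Nonempty (H ≃* POmega K (quadFormPlus (m + 2) K)) := by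
  apply PinM.rec_of (lace hm) fun K _ _ H _ => Nonempty (H ≃* POmega K (quadFormPlus (m + 2) K))
  exact fun K _ _ two => ⟨eichGroup (qPlus K (m + 2)), inferInstance, _, (hyp_frP two).pin',
    (hyp_frP two).gen', fun _ _ ⟨e⟩ => ⟨e.trans (pomegaEquivEich (Q := qPlus K (m + 2))
      (qPlus_nondegenerate _) (not_isExc_of_finrank (by simp; omega)) (by simp; omega)).symm⟩⟩

/-- **Mod** for type `Dₙ`. -/
theorem mod_D (hm : 1 ≤ m) {F : Type v} [Field F] [Finite F] (two : (2 : F) = 0) {Γ : Type u}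
    [Group Γ] [Finite Γ] (L : Subgroup Γ) (hq : IsQuasisimple L)
    (e : Nonempty ((L ⧸ oddCore L) ≃* POmega F (quadFormPlus (m + 2) F))) :
    ∃ y : Φ m → F → Γ, Mod (R m) L y :=
  PinM.exists_mod (lace hm) (hyp_frP two).pin' (hyp_frP two).gen' L hq
    (e.some.trans (pomega_plus hm two).some)

end Cfsg.Agent.H66.Dn
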