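import Cfsg.Agent.H66.DnInd
import Cfsg.Agent.H66.DnLin
import Cfsg.Agent.H66.DnPin

/-!
# The linear model of a group of type `Dₙ` in characteristic two
-/

set_option autoImplicit false
set_option linter.unusedSectionVars false

namespace Cfsg.Agent.H66.DnT

open Cfsg Cfsg.Agent.H63 Cfsg.Agent.H63.SL Cfsg.Agent.H63.WR Cfsg.Agent.H34 Cfsg.Agent.H40
  Cfsg.Agent.H35 Cfsg.Agent.H30 Cfsg.Agent.H66.Dn Cfsg.Agent.H66.DnL Subgroup Equiv QuadraticMap
  Module
open Cfsg.Agent.H40.LF (UU_le x_mem_L)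
open scoped commutatorElement

universe u v w

section Lin

variable {F : Type v} [Field F] {V : Type*} [AddCommGroup V] [Module F V] (Q : QuadraticForm F V)

/-- The action of the orthogonal group on `Ω`. -/
def cN : O Q →* MulAut (eichGroup Q) := @MulAut.conjNormal _ _ _ eichGroup_normal

theorem eqns_cN : True := by have := @cN.eq_1.{0, 0}; trivial

variable {Q}

theorem cN_apply (t : O Q) (w : eichGroup Q) : (cN Q t w : O Q) = t * w * t⁻¹ := rfl

theorem cN_coe (w : eichGroup Q) : cN Q w = MulAut.conj w :=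
  MulEquiv.ext fun _ => rfl

variable [Finite F] [FiniteDimensional F V] (h2 : (2 : F) = 0) (hQ : (polarBilin Q).Nondegenerate)
  (h5 : 5 ≤ finrank F V)
include h2 hQ h5

theorem mem_eich {t : O Q} : t ∈ eichGroup Q ↔ dickson hQ t = 1 := by
  rw [eichGroup_eq_kerDS hQ (not_isExc_of_finrank (by omega)) (by omega),
    mem_kerDS_of_two_eq_zero hQ h2]

theorem cN_inj : Function.Injective (cN Q) := (injective_iff_map_eq_one _).2 fun t ht => by
  obtain ⟨e, f, h⟩ := exists_isHyp_of_three_le hQ (by omega)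
  rcases eq_one_or_negOne_of_commute hQ h (by omega) t fun k hk => mul_inv_eq_iff_eq_mul.1
    ((cN_apply t ⟨k, hk⟩).symm.trans (by rw [ht]; rfl)) with e | e
  exacts [e, e.trans (negOne_eq_one_of_two_eq_zero h2)]

theorem cen_eich : center (eichGroup Q) = ⊥ := eq_bot_iff.2 fun z hz =>
  Subtype.ext (cN_inj h2 hQ h5 ((cN_coe z).trans ((MulEquiv.ext fun a =>
    mul_inv_eq_iff_eq_mul.2 (mem_center_iff.1 hz a).symm).trans (map_one _).symm)))

omit h2 hQ h5 in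
instance finO : Finite (O Q) :=
  haveI := Module.finite_of_finite F (M := V)
  Finite.of_injective (fun k : O Q => (k.1 : V → V)) fun _ _ e => O_ext (congrFun e)

theorem cf_cN (t : O Q) : cf (cN Q t) = cO hQ t := by
  rw [← cc_cf (cN_apply t), cc, cO, inf_comm,
    show eichGroup Q = (dickson hQ).ker from Subgroup.ext fun _ => mem_eich h2 hQ h5]

theorem cf_inn (w : eichGroup Q) : cf (MulAut.conj w) = cO hQ w := by
  rw [← cN_coe, cf_cN h2 hQ h5]

theorem mul_mem_eich {s t : O Q} (hs : dickson hQ s ≠ 1) (ht : dickson hQ t ≠ 1) :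
    s * t ∈ eichGroup Q := by
  rw [mem_eich h2 hQ h5, map_mul, (Int.units_eq_one_or _).resolve_left hs,
    (Int.units_eq_one_or _).resolve_left ht]
  simp

theorem cN_mem_inn {t : O Q} : cN Q t ∈ Inn (eichGroup Q) ↔ dickson hQ t = 1 := by
  rw [← mem_eich h2 hQ h5]
  exact ⟨fun ⟨w, e⟩ => cN_inj h2 hQ h5 ((cN_coe w).trans e) ▸ w.2, fun h => ⟨⟨t, h⟩, rfl⟩⟩

end Lin

variable {m : ℕ}

theorem γ_ne : γ m ≠ 1 := fun e => by
  have := γ_simple (m := m) 0
  rw [e, Perm.one_apply, (R m).simple_inj.eq_iff] at this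
  simp [π0] at this

theorem γ_sq : γ m * γ m = 1 := Perm.ext γ_γ

theorem conj_diag (hm : 1 ≤ m) {δ : Perm (Φ m)} (hδ : Diag (R m) δ) (h2 : δ * δ = 1) (h1 : δ ≠ 1) :
    ∃ τ, Diag (R m) τ ∧ τ * δ * τ⁻¹ = γ m := by
  have g := gam hm
  have a1 := inv_eq_of_mul_eq_one_right h2
  have a2 := inv_eq_of_mul_eq_one_right (γ_sq (m := m))
  have h3 : (γ m * δ) ^ 3 = 1 := (g.ord _ (NF.diag_mul diag_γ hδ)).elim (fun e => by
    have := g.two _ _ diag_γ hδ (by rw [pow_two, γ_sq]) (by rwa [pow_two]) (by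
      rw [← inv_eq_of_mul_eq_one_right ((pow_two _).symm.trans e), mul_inv_rev, a1, a2])
    rw [← (this.resolve_left γ_ne).resolve_left h1, γ_sq, one_pow]) id
  refine ⟨δ * γ m, NF.diag_mul hδ diag_γ, ?_⟩
  rw [mul_inv_rev, a1, a2, ← a2, eq_comm, inv_eq_iff_mul_eq_one, ← h3, a2, pow_three]
  simp only [mul_assoc]

section Refl

variable {F : Type v} [Field F] {V : Type*} [AddCommGroup V] [Module F V] {Q : QuadraticForm F V}
  {Fr : Frame Q (κ m)}

/-- The reflection inducing the graph automorphism. -/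
noncomputable def r0 (Fr : Frame Q (κ m)) : O Q := refl Q (Fr.b (0, true) + Fr.b (0, false))

theorem eqns_r0 : True := by have := @r0.eq_1.{0, 0}; trivial

variable (H : Hyp Fr)
include H

theorem Q_r0 : Q (Fr.b (0, true) + Fr.b (0, false)) = 1 := by
  rw [Q_add, Fr.Q_b, Fr.Q_b, zero_add, zero_add]
  exact (H.isHyp (0, true)).pol

theorem r0_b (a : κ m) : (r0 Fr).1 (Fr.b a) = Fr.b (gk a) := by
  obtain ⟨i, s⟩ := a
  rw [r0, H30.refl_apply, Q_r0 H, inv_one, one_mul, polar_add_right]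
  have k : ∀ v : V, -v = v := fun v => by
    rw [neg_eq_iff_add_eq_zero, ← two_smul F, H.two, zero_smul]
  by_cases e : i = 0
  · subst e
    rw [gk_zero]
    cases s
    · rw [H.pol (a := (0, false)) (c := (0, false)) (by simp [bar]),
        show polar Q (Fr.b (0, false)) (Fr.b (0, true)) = 1 from (H.isHyp (0, false)).pol]
      simp [k]
    · rw [H.pol (a := (0, true)) (c := (0, true)) (by simp [bar]),
        show polar Q (Fr.b (0, true)) (Fr.b (0, false)) = 1 from (H.isHyp (0, true)).pol]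
      simp [k]
  · rw [gk_ne e, H.pol (ne_bar e), H.pol (ne_bar e)]
    simp

theorem r0_conj (r : Φ m) (t : F) : r0 Fr * xr Fr r t * (r0 Fr)⁻¹ = xr Fr (γ m r) t := by
  obtain ⟨a, c, h, rfl⟩ := exists_rt r
  rw [γ_rt, H.xr_rt, H.xr_rt, Frame.X, Frame.X, eich_conj, map_smul, r0_b H, r0_b H]

theorem cN_r0 (r : Φ m) (t : F) : cN Q (r0 Fr) (xe Fr r t) = xe Fr (γ m r) t :=
  Subtype.ext (r0_conj H r t)

omit H in
theorem r0_sq : r0 Fr * r0 Fr = 1 := refl_mul_self _ _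

theorem dickson_r0 [Finite F] [FiniteDimensional F V] : dickson H.nondeg (r0 Fr) ≠ 1 := by
  rw [r0, dickson_refl _ (by rw [Q_r0 H]; exact one_ne_zero)]
  decide

end Refl

variable {F : Type v} [Field F] [Finite F] {G : Type u} [Group G] [Finite G] {L : Subgroup G}
  {x : Φ m → F → G}

section Diag

variable (hm : 1 ≤ m) (hM : Mod (R m) L x)
include hm hM

theorem exists_tor (c : Fin (m + 2) → Fˣ) : ∃ h ∈ L, ∀ r a,
    h * x r a * h⁻¹ = x r (↑(∏ i, c i ^ (2 * vec r i)) * a) := by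
  refine Finset.induction_on Finset.univ ⟨1, one_mem _, by simp⟩ fun i s hi ⟨h, hh', e⟩ => ?_
  obtain ⟨j, hj⟩ := exists_ne i
  refine ⟨hh (R m) x (rt (i, true) (j, true) hj.symm) (c i) *
    (hh (R m) x (rt (i, true) (j, false) hj.symm) (c i) * h), mul_mem (NF.hh_mem (x_mem_L hM) _ _)
      (mul_mem (NF.hh_mem (x_mem_L hM) _ _) hh'), fun r a => ?_⟩
  have k : ∀ g g' y : G, g * g' * y * (g * g')⁻¹ = g * (g' * y * g'⁻¹) * g⁻¹ := fun _ _ _ => by group
  rw [k, k, e, NF.hh_conj hM.pin (lace hm), NF.hh_conj hM.pin (lace hm), Finset.prod_insert hi,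
    ← mul_assoc, ← mul_assoc, ← Units.val_mul, ← Units.val_mul, ← zpow_add, Dn.pair_eq,
    Dn.pair_eq, vec_rt, vec_rt]
  simp only [add_dotProduct, ε_dot, sg_true, sg_false]
  congr 5
  ring

/-- Diagonal automorphisms are inner. -/
theorem fr_in {g : G} (f : Fr (R m) x g 1 1) : g ∈ L ⊔ C[L] := by
  obtain ⟨-, χ, e⟩ := f
  have p := hM.pin
  have hA := (NF.au_diag (NF.diag_one (R := R m))).1
  have n0 : ∀ r, χ r ≠ 0 := fun r => by simpa using NF.chi_ne p (e r 1)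
  have ng : ∀ a c h, χ (rt a c h) * χ (rt (bar a) (bar c) h) = 1 := fun a c h =>
    neg_rt a c h ▸ NF.chi_neg p (lace hm) hA e _
  have ad : ∀ a c d h h1 h2, χ (rt a c h) = χ (rt a d h1) * χ (rt (bar d) c h2) :=
    fun a c d h h1 h2 => NF.chi_add p hA e (sum_iff.2 (by simp only [vec_rt, ε_bar]; abel))
  choose j hj using fun i : Fin (m + 2) => exists_ne i
  let μ : κ m → F := fun a => χ (rt a (j a.1, true) (hj _).symm) * χ (rt a (j a.1, false) (hj _).symm)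
  have hμ : ∀ a c h, μ a = χ (rt a c h) * χ (rt a (bar c) h) := fun a c h => by
    by_cases e : j a.1 = c.1
    · obtain ⟨i, s⟩ := c
      obtain rfl : j a.1 = i := e
      cases s
      exacts [mul_comm _ _, rfl]
    · rw [ad a c (j a.1, true) h (hj _).symm e, ad a (bar c) (j a.1, false) h (hj _).symm e,
        mul_mul_mul_comm]
      exact (mul_one _).symm.trans (congrArg _ (ng (bar (j a.1, true)) c e).symm)
  have h1 : ∀ a c h, χ (rt a c h) * χ (rt a c h) = μ a * μ c := fun a c h => by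
    have := ng a (bar c) h
    simp only [bar_bar] at this
    rw [hμ a c h, hμ c a h.symm, rt_comm c a, rt_comm c (bar a) h.symm, mul_mul_mul_comm, this,
      mul_one]
  have h2 : ∀ i, μ (i, true) * μ (i, false) = 1 := fun i => by
    rw [hμ (i, true) (j i, true) (hj _).symm, hμ (i, false) (j i, false) (hj _).symm,
      mul_mul_mul_comm]
    exact (congrArg₂ _ (ng _ _ _) (ng _ _ _)).trans (mul_one _)
  have h3 : ∀ i, ∃ c : Fˣ, ∀ s, (↑(c ^ (2 * sg s)) : F) * ↑(c ^ (2 * sg s)) = μ (i, s) := fun i => by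
    obtain ⟨s, hs⟩ := NF.exists_sqrt p.two (μ (i, true))
    obtain ⟨c, rfl⟩ := NF.exists_sqrt p.two s
    have : c ≠ 0 := by
      rintro rfl
      exact mul_ne_zero (n0 _) (n0 _) (hs.symm.trans (by simp))
    refine ⟨Units.mk0 c this, fun s => ?_⟩
    cases s
    · rw [eq_inv_of_mul_eq_one_right (h2 i), ← hs]
      simp [zpow_neg, pow_two]
    · rw [← hs]
      simp [pow_two]
  choose c hc using h3
  obtain ⟨h, hh', e'⟩ := exists_tor hm hM c
  have h4 : ∀ a : κ m, ∏ i, c i ^ (2 * ε a i) = c a.1 ^ (2 * sg a.2) := fun a => by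
    rw [Finset.prod_eq_single a.1 (fun i _ hi => by simp [ε_apply, hi]) (by simp), ε_apply, if_pos rfl]
  have h5 : h⁻¹ * g ∈ C[L] := LF.mem_C hM fun r a => NF.commute_of_conj (by
    obtain ⟨b, d, h6, rfl⟩ := exists_rt r
    have h7 : χ (rt b d h6) = ↑(∏ i, c i ^ (2 * vec (rt b d h6) i)) := NF.sq_inj p.two (by
      simp only [vec_rt, Pi.add_apply, mul_add, zpow_add, Finset.prod_mul_distrib, h4, Units.val_mul]
      rw [mul_mul_mul_comm, hc, hc, h1])
    have h8 := e (rt b d h6) a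
    rw [h7, Perm.one_apply, RingAut.one_apply, ← e'] at h8
    rw [show ∀ y, h⁻¹ * g * y * (h⁻¹ * g)⁻¹ = h⁻¹ * (g * y * g⁻¹) * h from fun _ => by group, h8]
    group)
  simpa using mul_mem (mem_sup_left hh') (mem_sup_right h5 : _ ∈ L ⊔ C[L])

theorem typ_in {g : G} (t : Typ (R m) L x g 1 1) : g ∈ L ⊔ C[L] := by
  obtain ⟨l, hl, f⟩ := t
  simpa using mul_mem (mem_sup_left (inv_mem hl)) (fr_in hm hM f)

end Diag

theorem dimV : finrank F (Fin (m + 2) ⊕ Fin (m + 2) → F) = 2 * (m + 2) := by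
  rw [finrank_pi']; simp; omega

variable {V : Type w} [AddCommGroup V] [Module F V] [FiniteDimensional F V] {Q : QuadraticForm F V}
  {Fr : Frame Q (κ m)}

section Om

variable (hm : 1 ≤ m) (H : Hyp Fr) (hV : finrank F V = 2 * (m + 2))
include hm H hV

theorem cen_Om : center (eichGroup Q) = ⊥ := cen_eich H.two H.nondeg (by omega)

theorem mod_Om : Mod (R m) (Inn (eichGroup Q)) fun r a => MulAut.conj (xe Fr r a) :=
  mod_inn (lace hm) H.pin' H.gen' (cen_Om hm H hV)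

omit hm hV in
theorem fr_r0 : SL.Fr (R m) (fun r a => MulAut.conj (xe Fr r a)) (cN Q (r0 Fr)) (γ m) 1 :=
  ⟨diag_γ, 1, fun r a => by rw [cj_m, cN_r0 H]; simp⟩

/-- The elements of type `(γ, 1)` are the elements of `O - Ω`. -/
theorem typ_γ {α : MulAut (eichGroup Q)} :
    Typ (R m) (Inn (eichGroup Q)) (fun r a => MulAut.conj (xe Fr r a)) α (γ m) 1 ↔
      ∃ t, dickson H.nondeg t ≠ 1 ∧ α = cN Q t := by
  have hM := mod_Om hm H hV
  have t0 : Typ _ (Inn (eichGroup Q)) _ _ _ _ := ⟨1, one_mem _, by rw [one_mul]; exact fr_r0 H⟩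
  have d0 := dickson_r0 H
  have s0 := r0_sq (Fr := Fr)
  generalize r0 Fr = s at t0 d0 s0
  refine ⟨fun t => ?_, ?_⟩
  · have h1 := H37.Kit.typ_mul hM t t0
    rw [γ_sq, mul_one] at h1
    have h2 := typ_in hm hM h1
    rw [cen_inn (cen_Om hm H hV), sup_bot_eq] at h2
    obtain ⟨w, hw⟩ := h2
    refine ⟨w * s, by rwa [map_mul, (mem_eich H.two _ (by omega)).1 w.2, one_mul], ?_⟩
    rw [map_mul, cN_coe, hw, mul_assoc α, ← map_mul, s0, map_one, mul_one]
  · rintro ⟨t, ht, rfl⟩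
    have := H37.Kit.typ_mul hM (H37.Kit.typ_L hM (l := cN Q (t * s))
      ⟨⟨_, mul_mem_eich H.two _ (by omega) ht d0⟩, rfl⟩) t0
    rwa [one_mul, one_mul, ← map_mul, mul_assoc t, s0, mul_one] at this

end Om

/-- The linear model adapted to the diagram involution `δ`. -/
structure Md (Fr : Frame Q (κ m)) (L : Subgroup G) (x : Φ m → F → G) (δ τ : Perm (Φ m))
    (f : L →* eichGroup Q) (ρ : N[L] →* MulAut (eichGroup Q)) : Prop where
  hyp : Hyp Fr
  dim : finrank F V = 2 * (m + 2)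
  mod : Mod (R m) L x
  diag : Diag (R m) τ
  cj : τ * δ * τ⁻¹ = γ m
  tr : Tr L f ρ
  fx : ∀ r a, f ⟨x r a, x_mem_L mod r a⟩ = xe Fr (τ r) a

theorem model' (hm : 1 ≤ m) (H : Hyp Fr) (hV : finrank F V = 2 * (m + 2)) (hM : Mod (R m) L x)
    {δ τ : Perm (Φ m)} (hτ : Diag (R m) τ) (e : τ * δ * τ⁻¹ = γ m) : ∃ f ρ, Md Fr L x δ τ f ρ := by
  obtain ⟨θ, hθ⟩ := TM.exists_frame (lace hm) H.pin' H.gen' (cen_Om hm H hV) hτ 1 1 (by simp)
  have q := PinM.pin_map (lace hm) H.pin' θ.toMonoidHom (by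
    rw [(MonoidHom.ker_eq_bot_iff _).2 θ.injective]; exact bot_le)
  obtain ⟨f, ρ, T, h⟩ := exists_tr (lace hm) hM q (PinM.gen_map θ.surjective H.gen') (cen_Om hm H hV)
  exact ⟨f, ρ, H, hV, hM, hτ, e, T, fun r a => (h r a).trans (by simpa using hθ r a)⟩

theorem model (hm : 1 ≤ m) (hM : Mod (R m) L x) {δ : Perm (Φ m)} (hδ : Diag (R m) δ)
    (h2 : δ * δ = 1) (h1 : δ ≠ 1) : ∃ τ f ρ, Md (frP F m) L x δ τ f ρ :=
  let ⟨τ, h, e⟩ := conj_diag hm hδ h2 h1
  ⟨τ, model' hm (hyp_frP hM.pin.two) dimV hM h e⟩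

theorem model1 (hm : 1 ≤ m) (hM : Mod (R m) L x) : ∃ f ρ, Md (frP F m) L x (γ m) 1 f ρ :=
  model' hm (hyp_frP hM.pin.two) dimV hM NF.diag_one (by simp)

variable {δ τ : Perm (Φ m)} {f : L →* eichGroup Q} {ρ : N[L] →* MulAut (eichGroup Q)} (hm : 1 ≤ m)
  (D : Md Fr L x δ τ f ρ)
include hm D

theorem Md.five : 5 ≤ finrank F V := by rw [D.dim]; omega

theorem Md.graph {g : N[L]} (t : Typ (R m) L x g δ 1) :
    ∃ t, dickson D.hyp.nondeg t ≠ 1 ∧ ρ g = cN Q t :=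
  (typ_γ hm D.hyp D.dim).1 (D.cj ▸ D.tr.typ D.mod D.fx D.diag t)

theorem Md.cc_out {g : N[L]} {t : O Q} (e : ρ g = cN Q t) : cc L g = cO D.hyp.nondeg t := by
  rw [D.tr.cc_eq, e, cf_cN D.hyp.two _ (D.five hm)]

theorem Md.cc_inn (l : L) : cc L l = cO D.hyp.nondeg (f l).1 :=
  D.cc_out hm (g := ⟨l, le_normalizer l.2⟩) (D.tr.inn l)

theorem Md.sq {g : N[L]} {t : O Q} (e : ρ g = cN Q t) : t * t = 1 ↔ (g : G) * g ∈ C[L] := by
  rw [← coe_mul, ← D.tr.one_iff, map_mul, e, ← map_mul,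
    map_eq_one_iff _ (cN_inj D.hyp.two D.hyp.nondeg (D.five hm))]

theorem Md.fixC {r : L} (r2 : (r : G) * r = 1) {g : N[L]} {φ : F ≃+* F} (t : Typ (R m) L x g δ φ)
    (h : ¬ (2 * H79.rk (f r).1.1 = finrank F V ∧ H79.AltType (polarBilin Q) (f r).1.1)) :
    FixC L r g := by
  have hM := mod_Om hm D.hyp D.dim
  have h2 : f r * f r = 1 := by rw [← map_mul, show r * r = 1 from Subtype.ext r2, map_one]
  obtain ⟨v, hv, c⟩ := H79.exists_refl_comm D.hyp.two D.hyp.nondeg (f r).1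
    (congrArg (fun w : eichGroup Q => w.1.1) h2) h
  have t1 := H37.Kit.typ_mul hM (D.cj ▸ D.tr.typ D.mod D.fx D.diag t)
    ((typ_γ hm D.hyp D.dim).2 ⟨refl Q v, by rw [dickson_refl _ hv]; decide, rfl⟩)
  rw [γ_sq, mul_one] at t1
  have := inn_normal (H := eichGroup Q)
  obtain ⟨_, ⟨w, rfl⟩, c'⟩ := H31.WrX.cm_graph (lace hm) hM (r := MulAut.conj (f r))
    (by rw [← map_mul, h2, map_one]) (H37.Kit.typ_L hM ⟨_, rfl⟩) t1
    (commutator_le_right ⊤ _ (commutator_mem_commutator (mem_top _) ⟨_, rfl⟩))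
  have c2 : Commute (cN Q (refl Q v)) (cN Q (f r)) := Commute.map c (cN Q)
  have c3 := c'.mul_left (cN_coe (f r) ▸ c2).inv_left
  rw [← mul_assoc, mul_inv_cancel_right] at c3
  exact D.tr.fixC c3

omit D in
/-- **BAD** -/
theorem bad (hM : Mod (R m) L x) {r g : G} (hr : r ∈ L) (r2 : r * r = 1) (hg : g ∈ N[L])
    (g2 : Is2 g) (h : ¬ FixC L r g) : ∃ δ τ f ρ, Md (frP F m) L x δ τ f ρ ∧
      2 * H79.rk (f ⟨r, hr⟩).1.1 = 2 * (m + 2) ∧
      H79.AltType (polarBilin (qPlus F (m + 2))) (f ⟨r, hr⟩).1.1 := by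
  obtain ⟨δ, φ, t⟩ := H37.Kit.exists_typ hM hg
  have hδ : Diag (R m) δ := t.choose_spec.2.1
  have h1 : δ ≠ 1 := by
    rintro rfl
    exact h (H31.WrX.cm_graph (lace hm) hM r2 (H37.Kit.typ_L hM hr) t (by
      rw [← commutatorElement_inv]; exact inv_mem (H27.End.comm_mem_left hg hr))).fixC
  obtain ⟨k, hk⟩ := g2
  have t2 := H31.WrX.typ_pow (lace hm) hM t (2 ^ k)
  rw [hk] at t2
  obtain ⟨τ, f, ρ, D⟩ := model hm hM hδ (H37.Kit.gam_sq (gam hm) hδ ⟨k,
    ((H37.Kit.kit _ (lace hm) L x hM).typ_uniq _ _ _ _ _ t2 (H37.Kit.typ_L hM (one_mem L))).1⟩) h1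
  exact ⟨δ, τ, f, ρ, D, by_contra fun e =>
    h (D.fixC hm (r := ⟨r, hr⟩) (g := ⟨g, hg⟩) r2 t (D.dim ▸ e))⟩

end Cfsg.Agent.H66.DnT
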