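import Cfsg.Agent.H66.BG11
import Cfsg.Agent.H66.BG12Defs
import Cfsg.Agent.H3.BG13B

/-! Bender-Glauberman section 13 (mathcomp names, namespace `Cfsg.Agent.H66`): proved in `H3.BG13A`
(13.1 - 13.6) and `H3.BG13B` (13.7 - 13.13). -/
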