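import Cfsg.Agent.H35.L3Defs
import Cfsg.Agent.H73.Descent

/-!
# Coordinates on `U3 y` and the types of the elements of its normalizer
-/

set_option autoImplicit false
set_option linter.style.haveILetI false
set_option linter.unusedSectionVars false

namespace Cfsg.Agent.H66.L3

open Cfsg Cfsg.Agent.H63 Cfsg.Agent.H63.SL Cfsg.Agent.H35.L3 Subgroup
open scoped commutatorElement

universe u v

section Count

variable {G : Type u} [Group G]

/-- Counting through a relation with a finite set of values. -/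
theorem card_le_of_rel [Finite G] {B : Type v} (E K : Subgroup G) (T : Set B) [Finite T]
    (R : G → B → Prop) (hex : ∀ e ∈ E, ∃ b ∈ T, R e b)
    (hK : ∀ e ∈ E, ∀ e' ∈ E, ∀ b, R e b → R e' b → e⁻¹ * e' ∈ K) :
    Nat.card E ≤ Nat.card T * Nat.card ↥(E ⊓ K) := by
  classical
  have : Nonempty B := ⟨(hex 1 E.one_mem).choose⟩
  choose! f hfT hf using hex
  have hrep : ∀ b : B, ∃ r : G, (∃ e ∈ E, f e = b) → r ∈ E ∧ f r = b := by
    intro b
    by_cases h : ∃ e ∈ E, f e = b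
    · obtain ⟨e, he, hb⟩ := h
      exact ⟨e, fun _ => ⟨he, hb⟩⟩
    · exact ⟨1, fun h' => absurd h' h⟩
  choose rep hrep using hrep
  have h1 : ∀ e : E, (rep (f e))⁻¹ * e ∈ E ⊓ K := by
    intro e
    obtain ⟨a, b⟩ := hrep (f e) ⟨e, e.2, rfl⟩
    refine ⟨E.mul_mem (E.inv_mem a) e.2, hK _ a _ e.2 (f e) ?_ (hf _ e.2)⟩
    have := hf _ a
    rwa [b] at this
  rw [← Nat.card_prod]
  refine Nat.card_le_card_of_injective
    (fun e : E => ((⟨f e, hfT _ e.2⟩ : T), (⟨(rep (f e))⁻¹ * e, h1 e⟩ : ↥(E ⊓ K)))) ?_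
  intro e e' h
  have a : f e = f e' := congrArg (fun p => (p.1 : B)) h
  have b : (rep (f e))⁻¹ * e = (rep (f e'))⁻¹ * e' := congrArg (fun p => (p.2 : G)) h
  rw [a] at b
  exact Subtype.ext (mul_left_cancel b)

theorem mem_N_of_conj [Finite G] {H : Subgroup G} {g : G} (h : ∀ x ∈ H, g * x * g⁻¹ ∈ H) :
    g ∈ N[H] :=
  H8.mem_normalizer_of_conj_smul_le fun x hx => by
    have := h _ (H8.mem_conj_smul.1 hx)
    simpa [mul_assoc] using this

theorem conj_mem_of_N {H : Subgroup G} {g x : G} (hg : g ∈ N[H]) (hx : x ∈ H) :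
    g * x * g⁻¹ ∈ H := (mem_normalizer_iff.1 hg x).1 hx

theorem is2_of_mem {P : Subgroup G} (hP : IsPGroup 2 P) {g : G} (hg : g ∈ P) : Is2 g := by
  obtain ⟨k, hk⟩ := hP ⟨g, hg⟩
  exact ⟨k, congrArg Subtype.val hk⟩

end Count

section Aut

variable {A : Type v} [Field A]

theorem aut_two [Finite A] {σ τ : A ≃+* A} (h1 : σ * σ = 1) (h2 : τ * τ = 1) (h3 : σ ≠ 1) :
    τ = 1 ∨ τ = σ := by
  classical
  haveI : IsCyclic (RingAut A) := H73.isCyclic_ringAut
  haveI : Finite (RingAut A) := H73.finite_ringAut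
  haveI := Fintype.ofFinite (RingAut A)
  by_contra hc
  push Not at hc
  refine absurd ((Finset.card_le_card (s := ({1, σ, τ} : Finset (RingAut A))) fun x hx => ?_).trans
    (IsCyclic.card_pow_eq_one_le (α := RingAut A) two_pos)) ?_
  · simp only [Finset.mem_insert, Finset.mem_singleton] at hx
    rcases hx with rfl | rfl | rfl <;> simp [_root_.pow_two, h1, h2]
  · rw [Finset.card_eq_three.2 ⟨_, _, _, h3.symm, hc.1.symm, hc.2.symm, rfl⟩]
    decide

theorem eq_one_of_pow (two : (2 : A) = 0) {c : A} {k : ℕ} (h : c ^ 2 ^ k = 1) : c = 1 := by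
  induction k generalizing c with
  | zero => simpa using h
  | succ k ih =>
    have h1 : (c ^ 2) ^ 2 ^ k = 1 := by rw [← pow_mul, ← pow_succ']; exact h
    have h2 := ih h1
    have : (c - 1) ^ 2 = 0 := by linear_combination h2 + (1 - c) * two
    exact sub_eq_zero.1 (pow_eq_zero_iff two_ne_zero |>.1 this)

end Aut

section Coord

variable {A : Type v} [CommRing A] {G : Type u} [Group G]

/-- The element `a(r) b(s) c(e)` of `U3 y`. -/
def w3 (y : Fin 3 → Fin 3 → A → G) (r s e : A) : G := y 0 1 r * y 1 2 s * y 0 2 e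

theorem eqns_w3 : True := by
  have := @w3.eq_1.{0, 0}
  trivial

variable {y : Fin 3 → Fin 3 → A → G}

theorem x_zero (h : St3 y) {i j : Fin 3} (hij : i ≠ j) : y i j 0 = 1 := by
  have := h.add i j hij 0 0
  rw [add_zero] at this
  exact (mul_eq_left.1 this.symm)

theorem add_self' (h : St3 y) (a : A) : a + a = 0 := by linear_combination a * h.two

theorem w3_zero (h : St3 y) : w3 y 0 0 0 = 1 := by
  simp [w3, x_zero h]

theorem w3_a (h : St3 y) (r : A) : w3 y r 0 0 = y 0 1 r := by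
  simp [w3, x_zero h]

theorem w3_b (h : St3 y) (r : A) : w3 y 0 r 0 = y 1 2 r := by
  simp [w3, x_zero h]

theorem w3_c (h : St3 y) (r : A) : w3 y 0 0 r = y 0 2 r := by
  simp [w3, x_zero h]

theorem w3_ac (h : St3 y) (r e : A) : w3 y r 0 e = y 0 1 r * y 0 2 e := by
  simp [w3, x_zero h]

theorem w3_bc (h : St3 y) (r e : A) : w3 y 0 r e = y 1 2 r * y 0 2 e := by
  simp [w3, x_zero h]

theorem w3_mul (p : Pin3 y) (r s e r' s' e' : A) :
    w3 y r s e * w3 y r' s' e' = w3 y (r + r') (s + s') (e + e' + r' * s) :=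
  p.mul 0 1 2 (by decide) (by decide) (by decide) _ _ _ _ _ _

theorem w3_inj (p : Pin3 y) {r s e r' s' e' : A} (h : w3 y r s e = w3 y r' s' e') :
    r = r' ∧ s = s' ∧ e = e' :=
  p.uniq 0 1 2 (by decide) (by decide) (by decide) _ _ _ _ _ _ h

theorem mem_U (p : Pin3 y) {g : G} : g ∈ U3 y ↔ ∃ r s e, g = w3 y r s e :=
  p.memY 0 1 2 (by decide) (by decide) (by decide) g

theorem w3_mem (p : Pin3 y) (r s e : A) : w3 y r s e ∈ U3 y := (mem_U p).2 ⟨_, _, _, rfl⟩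

theorem mem_R (h : St3 y) (p : Pin3 y) {g : G} : g ∈ Row y 0 ↔ ∃ r e, g = w3 y r 0 e := by
  simp only [w3_ac h]
  exact p.memR 0 1 2 (by decide) (by decide) (by decide) g

theorem mem_C (h : St3 y) (p : Pin3 y) {g : G} : g ∈ Col y 2 ↔ ∃ s e, g = w3 y 0 s e := by
  simp only [w3_bc h]
  exact p.memC 0 1 2 (by decide) (by decide) (by decide) g

theorem mem_Z (h : St3 y) (p : Pin3 y) {g : G} : g ∈ X3 y 0 2 ↔ ∃ e, g = w3 y 0 0 e := by
  simp only [w3_c h]
  exact p.memX 0 2 (by decide) g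

theorem w3_inv (h : St3 y) (p : Pin3 y) (r s e : A) : (w3 y r s e)⁻¹ = w3 y r s (e + r * s) := by
  rw [inv_eq_iff_mul_eq_one, w3_mul p, add_self' h, add_self' h, ← w3_zero h]
  congr 1
  linear_combination (e + r * s) * h.two

theorem w3_eq_one (h : St3 y) (p : Pin3 y) {r s e : A} (k : w3 y r s e = 1) :
    r = 0 ∧ s = 0 ∧ e = 0 := w3_inj p (k.trans (w3_zero h).symm)

theorem w3_conj (h : St3 y) (p : Pin3 y) (r s e r' s' e' : A) :
    w3 y r s e * w3 y r' s' e' * (w3 y r s e)⁻¹ = w3 y r' s' (e' + r' * s + r * s') := by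
  rw [w3_inv h p, w3_mul p, w3_mul p]
  congr 1
  · linear_combination r * h.two
  · linear_combination s * h.two
  · linear_combination (e + r * s) * h.two

theorem w3_sq (h : St3 y) (p : Pin3 y) (r s e : A) :
    w3 y r s e * w3 y r s e = w3 y 0 0 (r * s) := by
  rw [w3_mul p, add_self' h, add_self' h, add_self' h, zero_add]

theorem w3_commute (p : Pin3 y) {r s e r' s' e' : A} :
    Commute (w3 y r s e) (w3 y r' s' e') ↔ r' * s = r * s' := by
  rw [commute_iff_eq, w3_mul p, w3_mul p]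
  constructor
  · intro k
    have := (w3_inj p k).2.2
    linear_combination this
  · intro k
    congr 1
    · ring
    · ring
    · linear_combination k

theorem R_le (y : Fin 3 → Fin 3 → A → G) : Row y 0 ≤ U3 y := le_sup_left

theorem C_le (y : Fin 3 → Fin 3 → A → G) : Col y 2 ≤ U3 y := le_sup_right

theorem Z_le_R (h : St3 y) (p : Pin3 y) : X3 y 0 2 ≤ Row y 0 := fun g hg => by
  obtain ⟨e, rfl⟩ := (mem_Z h p).1 hg
  exact (mem_R h p).2 ⟨_, _, rfl⟩

theorem Z_le_C (h : St3 y) (p : Pin3 y) : X3 y 0 2 ≤ Col y 2 := fun g hg => by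
  obtain ⟨e, rfl⟩ := (mem_Z h p).1 hg
  exact (mem_C h p).2 ⟨_, _, rfl⟩

theorem R_sq (h : St3 y) (p : Pin3 y) : ∀ g ∈ Row y 0, g * g = 1 := fun g hg => by
  obtain ⟨r, e, rfl⟩ := (mem_R h p).1 hg
  rw [w3_sq h p, mul_zero, w3_zero h]

theorem C_sq (h : St3 y) (p : Pin3 y) : ∀ g ∈ Col y 2, g * g = 1 := fun g hg => by
  obtain ⟨r, e, rfl⟩ := (mem_C h p).1 hg
  rw [w3_sq h p, zero_mul, w3_zero h]

theorem U_le_All (y : Fin 3 → Fin 3 → A → G) : U3 y ≤ All y := by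
  refine sup_le (closure_mono ?_) (closure_mono ?_)
  · rintro g ⟨j, hj, a, rfl⟩
    exact ⟨0, j, hj, a, rfl⟩
  · rintro g ⟨j, hj, a, rfl⟩
    exact ⟨j, 2, hj, a, rfl⟩

end Coord

section Act

variable {A : Type v} [Field A] {G : Type u} [Group G]

/-- The action of `g` on `U3 y`, with its constants. -/
structure AC (y : Fin 3 → Fin 3 → A → G) (g : G) (ε : Bool) (φ : A ≃+* A) (c1 c2 : A) : Prop where
  n1 : c1 ≠ 0
  n2 : c2 ≠ 0
  w : ∀ r s e, ∃ e', g * w3 y r s e * g⁻¹ =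
    w3 y (if ε then c2 * φ s else c1 * φ r) (if ε then c1 * φ r else c2 * φ s) e'
  z : ∀ e, g * w3 y 0 0 e * g⁻¹ = w3 y 0 0 (c1 * c2 * φ e)

variable {y : Fin 3 → Fin 3 → A → G}

theorem act_iff (h : St3 y) (p : Pin3 y) {g : G} {ε : Bool} {φ : A ≃+* A} :
    Act y g ε φ ↔ ∃ c1 c2, AC y g ε φ c1 c2 := by
  constructor
  · rintro ⟨c1, c2, h1, h2, h3⟩
    refine ⟨c1, c2, c1.ne_zero, c2.ne_zero, fun r s e => ?_, fun e => ?_⟩
    · obtain ⟨e1, k1⟩ := h1 r
      obtain ⟨e2, k2⟩ := h2 s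
      have k : g * w3 y r s e * g⁻¹ =
          (g * y 0 1 r * g⁻¹) * (g * y 1 2 s * g⁻¹) * (g * y 0 2 e * g⁻¹) := by
        simp only [w3]; group
      rw [k, k1, k2, h3]
      cases ε
      · simp only [fl, Bool.false_eq_true, if_false]
        rw [← w3_ac h, ← w3_bc h, ← w3_c h, w3_mul p, w3_mul p]
        simp only [add_zero, zero_add]
        exact ⟨_, rfl⟩
      · simp only [fl, if_true]
        change ∃ e', y 1 2 _ * y 0 2 e1 * (y 0 1 _ * y 0 2 e2) * _ = _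
        rw [← w3_ac h, ← w3_bc h, ← w3_c h, w3_mul p, w3_mul p]
        simp only [add_zero, zero_add]
        exact ⟨_, rfl⟩
    · rw [w3_c h, w3_c h, h3]
  · rintro ⟨c1, c2, k⟩
    refine ⟨Units.mk0 c1 k.n1, Units.mk0 c2 k.n2, fun a => ?_, fun a => ?_, fun a => ?_⟩
    · obtain ⟨e, he⟩ := k.w a 0 0
      refine ⟨e, ?_⟩
      rw [← w3_a h, he]
      cases ε
      · simp [fl, w3_ac h]
      · simp only [fl, if_true, map_zero, mul_zero, w3_bc h]
        rfl
    · obtain ⟨e, he⟩ := k.w 0 a 0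
      refine ⟨e, ?_⟩
      rw [← w3_b h, he]
      cases ε
      · simp [fl, w3_bc h]
      · simp only [fl, if_true, map_zero, mul_zero, w3_ac h]
        rfl
    · have := k.z a
      rwa [w3_c h, w3_c h] at this

theorem AC.mul {g g' : G} {ε ε' : Bool} {φ φ' : A ≃+* A} {c1 c2 d1 d2 : A}
    (k : AC y g ε φ c1 c2) (k' : AC y g' ε' φ' d1 d2) :
    AC y (g * g') (xor ε ε') (φ * φ') ((if ε' then c2 else c1) * φ d1)
      ((if ε' then c1 else c2) * φ d2) := by
  have m : ∀ a, (φ * φ') a = φ (φ' a) := fun _ => rfl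
  refine ⟨mul_ne_zero ?_ (by simpa using k'.n1), mul_ne_zero ?_ (by simpa using k'.n2),
    fun r s e => ?_, fun e => ?_⟩
  · cases ε'
    · simpa using k.n1
    · simpa using k.n2
  · cases ε'
    · simpa using k.n2
    · simpa using k.n1
  · obtain ⟨e1, h1⟩ := k'.w r s e
    obtain ⟨e2, h2⟩ := k.w (if ε' then d2 * φ' s else d1 * φ' r)
      (if ε' then d1 * φ' r else d2 * φ' s) e1
    refine ⟨e2, ?_⟩
    have : g * g' * w3 y r s e * (g * g')⁻¹ = g * (g' * w3 y r s e * g'⁻¹) * g⁻¹ := by group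
    rw [this, h1, h2]
    cases ε <;> cases ε' <;> simp [m, mul_assoc]
  · have : g * g' * w3 y 0 0 e * (g * g')⁻¹ = g * (g' * w3 y 0 0 e * g'⁻¹) * g⁻¹ := by group
    rw [this, k'.z, k.z, m]
    congr 1
    cases ε' <;> simp <;> ring

theorem AC.uniq (p : Pin3 y) {g : G} {ε ε' : Bool} {φ φ' : A ≃+* A} {c1 c2 d1 d2 : A}
    (k : AC y g ε φ c1 c2) (k' : AC y g ε' φ' d1 d2) :
    ε = ε' ∧ φ = φ' ∧ c1 = d1 ∧ c2 = d2 := by
  have key : ∀ r s, (if ε then c2 * φ s else c1 * φ r) = (if ε' then d2 * φ' s else d1 * φ' r) ∧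
      (if ε then c1 * φ r else c2 * φ s) = (if ε' then d1 * φ' r else d2 * φ' s) := by
    intro r s
    obtain ⟨e1, h1⟩ := k.w r s 0
    obtain ⟨e2, h2⟩ := k'.w r s 0
    have := w3_inj p (h1.symm.trans h2)
    exact ⟨this.1, this.2.1⟩
  have n1 := k.n1
  have n2 := k.n2
  have e1 : ε = ε' := by
    have := key 1 0
    cases ε <;> cases ε' <;> simp_all
  subst e1
  have e2 : c1 = d1 ∧ c2 = d2 := by
    have := key 1 1
    cases ε <;> simp_all
  obtain ⟨rfl, rfl⟩ := e2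
  refine ⟨rfl, ?_, rfl, rfl⟩
  ext a
  have := key a a
  cases ε <;> simp_all

theorem ac_U (h : St3 y) (p : Pin3 y) {g : G} (hg : g ∈ U3 y) : AC y g false 1 1 1 := by
  obtain ⟨a, b, c, rfl⟩ := (mem_U p).1 hg
  have m : ∀ a : A, (1 : A ≃+* A) a = a := fun _ => rfl
  refine ⟨one_ne_zero, one_ne_zero, fun r s e => ?_, fun e => ?_⟩
  · rw [w3_conj h p]
    simp only [m, Bool.false_eq_true, if_false, one_mul]
    exact ⟨_, rfl⟩
  · rw [w3_conj h p]
    simp [m]

theorem AC.pow {g : G} {c1 c2 : A} (h : St3 y) (p : Pin3 y) (k : AC y g false 1 c1 c2) (n : ℕ) :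
    AC y (g ^ n) false 1 (c1 ^ n) (c2 ^ n) := by
  induction n with
  | zero => simpa using ac_U h p (U3 y).one_mem
  | succ n ih =>
    have := ih.mul k
    have m : ∀ a : A, (1 : A ≃+* A) a = a := fun _ => rfl
    simpa [pow_succ, m] using this

theorem AC.two (h : St3 y) (p : Pin3 y) {g : G} {c1 c2 : A} (k : AC y g false 1 c1 c2)
    (hg : Is2 g) : c1 = 1 ∧ c2 = 1 := by
  obtain ⟨n, hn⟩ := hg
  have k1 := k.pow h p (2 ^ n)
  rw [hn] at k1
  have := k1.uniq p (ac_U h p (U3 y).one_mem)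
  exact ⟨eq_one_of_pow h.two this.2.2.1, eq_one_of_pow h.two this.2.2.2⟩

theorem AC.mem_N [Finite G] (p : Pin3 y) {g : G} {ε : Bool} {φ : A ≃+* A} {c1 c2 : A}
    (k : AC y g ε φ c1 c2) : g ∈ N[U3 y] :=
  mem_N_of_conj fun x hx => by
    obtain ⟨r, s, e, rfl⟩ := (mem_U p).1 hx
    obtain ⟨e', he⟩ := k.w r s e
    rw [he]
    exact w3_mem p _ _ _

theorem act_mul (h : St3 y) (p : Pin3 y) {g g' : G} {ε ε' : Bool} {φ φ' : A ≃+* A}
    (k : Act y g ε φ) (k' : Act y g' ε' φ') : Act y (g * g') (xor ε ε') (φ * φ') := by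
  obtain ⟨_, _, a⟩ := (act_iff h p).1 k
  obtain ⟨_, _, b⟩ := (act_iff h p).1 k'
  exact (act_iff h p).2 ⟨_, _, a.mul b⟩

theorem act_uniq (h : St3 y) (p : Pin3 y) {g : G} {ε ε' : Bool} {φ φ' : A ≃+* A}
    (k : Act y g ε φ) (k' : Act y g ε' φ') : ε = ε' ∧ φ = φ' := by
  obtain ⟨_, _, a⟩ := (act_iff h p).1 k
  obtain ⟨_, _, b⟩ := (act_iff h p).1 k'
  exact ⟨(a.uniq p b).1, (a.uniq p b).2.1⟩

theorem act_U (h : St3 y) (p : Pin3 y) {g : G} (hg : g ∈ U3 y) : Act y g false 1 :=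
  (act_iff h p).2 ⟨_, _, ac_U h p hg⟩

/-- An elementary abelian subgroup of `U3 y` lies in the row or in the column. -/
theorem elem_le (h : St3 y) (p : Pin3 y) {E : Subgroup G} (hE : E ≤ U3 y)
    (sq : ∀ e ∈ E, e * e = 1) : E ≤ Row y 0 ∨ E ≤ Col y 2 := by
  by_contra hc
  push Not at hc
  obtain ⟨g, hg, g1⟩ := SetLike.not_le_iff_exists.1 hc.1
  obtain ⟨g', hg', g2⟩ := SetLike.not_le_iff_exists.1 hc.2
  obtain ⟨r, s, e, rfl⟩ := (mem_U p).1 (hE hg)
  obtain ⟨r', s', e', rfl⟩ := (mem_U p).1 (hE hg')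
  have a1 : s ≠ 0 := by
    rintro rfl
    exact g1 ((mem_R h p).2 ⟨_, _, rfl⟩)
  have a2 : r' ≠ 0 := by
    rintro rfl
    exact g2 ((mem_C h p).2 ⟨_, _, rfl⟩)
  have b1 := sq _ hg
  have b2 := sq _ hg'
  have b3 := sq _ (E.mul_mem hg hg')
  rw [w3_sq h p] at b1 b2
  rw [w3_mul p, w3_sq h p] at b3
  have c1 := (mul_eq_zero.1 (w3_eq_one h p b1).2.2).resolve_right a1
  have c2 := (mul_eq_zero.1 (w3_eq_one h p b2).2.2).resolve_left a2
  have c3 := (w3_eq_one h p b3).2.2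
  rw [c1, c2, zero_add, add_zero] at c3
  exact mul_ne_zero a2 a1 c3

end Act

end Cfsg.Agent.H66.L3
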