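import Cfsg.Agent.H63.GvDefs

/-! Project CY, piece AB: an abelian `2`-group normalised by `A d` centralises it. -/

set_option autoImplicit false

namespace Cfsg.Agent.H66.CyAb

open Subgroup MulAction Cfsg.Agent.H11.Cy Cfsg.Agent.H45.Iv Cfsg.Agent.H63.Gv
open scoped commutatorElement

variable {G : Type} [Group G] {Ω : Type} [MulAction G Ω] {p : ℕ} {A : Ω → Subgroup G}

theorem A_comm (h : St p A) (d : Ω) {a b : G} (ha : a ∈ A d) (hb : b ∈ A d) : a * b = b * a := by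
  have := Fact.mk h.pp
  obtain ⟨g, hg⟩ := (isCyclic_of_prime_card (h.card d)).exists_zpow_surjective
  obtain ⟨m, hm⟩ := hg ⟨a, ha⟩
  obtain ⟨n, hn⟩ := hg ⟨b, hb⟩
  have := zpow_mul_comm g m n
  simp only at hm hn
  rw [hm, hn] at this
  exact congrArg Subtype.val this

/-- the products `s * a` -/
def Pr {d : Ω} {S : Subgroup G} (n : Nz A d S) : Subgroup G where
  carrier := {g | ∃ s ∈ S, ∃ a ∈ A d, g = s * a}
  one_mem' := ⟨1, one_mem _, 1, one_mem _, (mul_one _).symm⟩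
  mul_mem' := by
    rintro _ _ ⟨s, hs, a, ha, rfl⟩ ⟨t, ht, b, hb, rfl⟩
    exact ⟨_, mul_mem hs (n a ha t ht), _, mul_mem ha hb, by group⟩
  inv_mem' := by
    rintro _ ⟨s, hs, a, ha, rfl⟩
    exact ⟨_, n _ (inv_mem ha) _ (inv_mem hs), _, inv_mem ha, by group⟩

omit [MulAction G Ω] in
theorem sup_le_Pr {d : Ω} {S : Subgroup G} (n : Nz A d S) : S ⊔ A d ≤ Pr n :=
  sup_le (fun s hs => ⟨s, hs, 1, one_mem _, (mul_one _).symm⟩)
    fun a ha => ⟨1, one_mem _, a, ha, (one_mul _).symm⟩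

/-- **CM** -/
theorem cm (h : St p A) {d : Ω} {S F : Subgroup G} (n : Nz A d S) (hF : F ≤ S ⊔ A d) :
    ⁅F, F⁆ ≤ S := by
  rw [commutator_le]
  intro x hx y hy
  obtain ⟨s, hs, a, ha, rfl⟩ := sup_le_Pr n (hF hx)
  obtain ⟨t, ht, b, hb, rfl⟩ := sup_le_Pr n (hF hy)
  have e : ⁅s * a, t * b⁆ = s * (a * t * a⁻¹) * (b * s⁻¹ * b⁻¹) * t⁻¹ := by
    calc ⁅s * a, t * b⁆ = s * (a * t * a⁻¹) * (a * b) * a⁻¹ * s⁻¹ * b⁻¹ * t⁻¹ := by
          rw [commutatorElement_def]; group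
      _ = _ := by rw [A_comm h d ha hb]; group
  rw [e]
  exact mul_mem (mul_mem (mul_mem hs (n a ha t ht)) (n b hb _ (inv_mem hs))) (inv_mem ht)

theorem disj (h : St p A) (p2 : p ≠ 2) {d : Ω} {E : Subgroup G} (hE : IsPGroup 2 E) {c : G}
    (h1 : c ∈ A d) (h2 : c ∈ E) : c = 1 := by
  obtain ⟨k, hk⟩ := hE ⟨c, h2⟩
  have a : c ^ 2 ^ k = 1 := congrArg Subtype.val hk
  have b : c ^ p = 1 := by
    have := pow_card_eq_one' (x := (⟨c, h1⟩ : A d))
    rw [h.card] at this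
    exact congrArg Subtype.val this
  exact orderOf_eq_one_iff.1 (Nat.eq_one_of_dvd_coprimes
    (((Nat.coprime_primes h.pp Nat.prime_two).2 p2).pow_right k)
    (orderOf_dvd_of_pow_eq_one b) (orderOf_dvd_of_pow_eq_one a))

theorem A_le (h : St p A) {d : Ω} {S : Subgroup G} {u : G} (hu : u ∈ S) :
    A (u • d) ≤ S ⊔ A d := fun b hb => by
  have := h.eqv u⁻¹ _ b hb
  rw [inv_smul_smul] at this
  have e : b = u * (u⁻¹ * b * u⁻¹⁻¹) * u⁻¹ := by group
  rw [e]
  exact mul_mem (mul_mem (mem_sup_left hu) (mem_sup_right this)) (mem_sup_left (inv_mem hu))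

theorem ab : AbStmt := by
  intro G _ _ Ω _ _ p A h c d E hE com n u hu
  by_cases e : u • d = d
  · intro a ha
    have h1 : u * a * u⁻¹ ∈ A d := by have := h.eqv u d a ha; rwa [e] at this
    have h2 : u * a * u⁻¹ * a⁻¹ ∈ E := by
      have := mul_mem hu (n a ha _ (inv_mem hu))
      simpa only [mul_assoc] using this
    have := disj h c.p2 hE (mul_mem h1 (inv_mem ha)) h2
    calc a * u = (u * a * u⁻¹ * a⁻¹) * (a * u) := by rw [this, one_mul]
      _ = u * a := by group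
  · exfalso
    have ne : d ≠ u • d := Ne.symm e
    obtain ⟨la, lb, lc, -⟩ := c.ls d _ ne
    have R : Rl A d (u • d) ≤ E := cm h n (sup_le le_sup_right (A_le h hu))
    have Z : Zl A d (u • d) ≤ ⊥ := lc.zd.trans (commutator_le.2 fun x hx y hy => by
      rw [mem_bot, commutatorElement_eq_one_iff_mul_comm]; exact com x (R hx) y (R hy))
    obtain ⟨r, hr, er⟩ := la.tr _ (c.sk.ln d (u • d)).2
    refine (c.an d _ ne).1 r hr (fun hz => ?_) (mem_bot.1 (Z (lb.sq r hr)))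
    rw [mem_bot.1 (Z hz), one_smul] at er
    exact ne er

end Cfsg.Agent.H66.CyAb
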