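import Mathlib

/-! Four-groups of `PSL₂(F)` in characteristic two that are rotated by an element. -/

set_option autoImplicit false

namespace Cfsg.Agent.H66.CyB4f

open Matrix

variable {F : Type} [Field F]

abbrev M2 (F : Type) := Matrix (Fin 2) (Fin 2) F

theorem shape (h2 : (2 : F) = 0) {Z : SpecialLinearGroup (Fin 2) F} (zz : Z * Z = 1) :
    ∃ n b c : F, n * n = b * c ∧ Z.1 = 1 + !![n, b; c, n] := by
  have i := inv_eq_of_mul_eq_one_right zz
  rw [SpecialLinearGroup.SL2_inv_expl] at i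
  have e : Z.1 1 1 = Z.1 0 0 := congrFun (congrFun (congrArg Subtype.val i) 0) 0
  have d := Z.2
  rw [det_fin_two, e] at d
  refine ⟨Z.1 0 0 - 1, Z.1 0 1, Z.1 1 0, ?_, ?_⟩
  · linear_combination d + (1 - Z.1 0 0) * h2
  · ext i j
    fin_cases i <;> fin_cases j <;> simp [e]

theorem lin (h2 : (2 : F) = 0) {n b c m b' c' : F} (h : n * n = b * c) (h' : m * m = b' * c')
    (ne : (!![n, b; c, n] : M2 F) ≠ 0) (e : b * c' = b' * c) :
    ∃ t : F, (!![m, b'; c', m] : M2 F) = t • !![n, b; c, n] := by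
  by_cases hb : b = 0
  · have n0 : n = 0 := mul_self_eq_zero.1 (by rw [h, hb, zero_mul])
    have hc : c ≠ 0 := by
      rintro rfl
      apply ne
      ext i j
      fin_cases i <;> fin_cases j <;> simp [n0, hb]
    have b0 : b' = 0 := by rw [hb, zero_mul] at e; exact (mul_eq_zero.1 e.symm).resolve_right hc
    have m0 : m = 0 := mul_self_eq_zero.1 (by rw [h', b0, zero_mul])
    refine ⟨c' / c, ?_⟩
    ext i j
    fin_cases i <;> fin_cases j <;> simp [n0, hb, b0, m0, hc]
  · obtain ⟨t, rfl⟩ : ∃ t, b' = t * b := ⟨b' / b, by field_simp⟩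
    obtain rfl : c' = t * c := mul_left_cancel₀ hb (by linear_combination e)
    have m0 : m - t * n = 0 := mul_self_eq_zero.1 (by
      linear_combination h' + t * t * h + (t * t * b * c - m * t * n) * h2)
    refine ⟨t, ?_⟩
    ext i j
    fin_cases i <;> fin_cases j <;> simp [sub_eq_zero.1 m0]

theorem root (h2 : (2 : F) = 0) {Z S C : SpecialLinearGroup (Fin 2) F} {n b c : F}
    (h : n * n = b * c) (hZ : Z.1 = 1 + !![n, b; c, n]) (z1 : Z ≠ 1) (zz : Z * Z = 1)
    (h1 : C * Z * C⁻¹ = S) (h3 : C * S * C⁻¹ = Z * S) (cm : Commute Z S) :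
    ∃ t : F, S.1 = 1 + t • !![n, b; c, n] ∧ t * t = 1 + t := by
  have ss : S * S = 1 := by
    rw [← h1]
    calc _ = C * (Z * Z) * C⁻¹ := by group
      _ = 1 := by rw [zz]; group
  obtain ⟨m, b', c', h', hS⟩ := shape h2 ss
  have ne : (!![n, b; c, n] : M2 F) ≠ 0 := fun e => z1 (Subtype.ext (by rw [hZ, e, add_zero]; rfl))
  have e : b * c' = b' * c := by
    have k0 : Z * S = S * Z := cm.eq
    have k : Z.1 * S.1 = S.1 * Z.1 := congrArg Subtype.val k0
    rw [hZ, hS] at k
    have := congrFun (congrFun k 0) 0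
    simp [mul_apply, Fin.sum_univ_two] at this
    linear_combination this
  obtain ⟨t, ht⟩ := lin h2 h h' ne e
  rw [ht] at hS
  refine ⟨t, hS, ?_⟩
  have nn : (!![n, b; c, n] : M2 F) * !![n, b; c, n] = 0 := by
    ext i j
    fin_cases i <;> fin_cases j <;> simp [mul_apply, Fin.sum_univ_two]
    · linear_combination h + b * c * h2
    · linear_combination n * b * h2
    · linear_combination n * c * h2
    · linear_combination h + b * c * h2
  generalize (!![n, b; c, n] : M2 F) = N at *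
  have a3 : C * Z = S * C := mul_inv_eq_iff_eq_mul.1 h1
  have a4 : C * S = Z * S * C := mul_inv_eq_iff_eq_mul.1 h3
  have a1 : C.1 * Z.1 = S.1 * C.1 := congrArg Subtype.val a3
  have a2 : C.1 * S.1 = Z.1 * S.1 * C.1 := congrArg Subtype.val a4
  rw [hZ, hS] at a1 a2
  simp only [mul_add, add_mul, mul_one, one_mul, Matrix.mul_smul, Matrix.smul_mul, nn, add_zero,
    smul_zero] at a1 a2
  have b1 := add_left_cancel a1
  rw [b1, smul_smul, add_assoc] at a2
  have b2 := add_left_cancel a2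
  have b3 : (t * t - (1 + t)) • (N * C.1) = 0 := by rw [sub_smul, b2, add_smul, one_smul, sub_self]
  refine sub_eq_zero.1 ((smul_eq_zero.1 b3).resolve_right fun k => ne ?_)
  have a5 : C * C⁻¹ = 1 := mul_inv_cancel C
  have : C.1 * (C⁻¹).1 = 1 := congrArg Subtype.val a5
  rw [← mul_one N, ← this, ← mul_assoc, k, zero_mul]

theorem factSL (h2 : (2 : F) = 0) {z s s2 c c2 : SpecialLinearGroup (Fin 2) F} (z1 : z ≠ 1)
    (zz : z * z = 1) (h1 : c * z * c⁻¹ = s) (h3 : c * s * c⁻¹ = z * s) (cm : Commute z s)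
    (k1 : c2 * z * c2⁻¹ = s2) (k3 : c2 * s2 * c2⁻¹ = z * s2) (km : Commute z s2) :
    s2 = s ∨ s2 = z * s := by
  obtain ⟨n, b, d, h, hZ⟩ := shape h2 zz
  obtain ⟨t, a1, a2⟩ := root h2 h hZ z1 zz h1 h3 cm
  obtain ⟨t', b1, b2⟩ := root h2 h hZ z1 zz k1 k3 km
  have : (t' - t) * (t' - (1 + t)) = 0 := by
    linear_combination a2 + b2 + (1 + t - t * t') * h2
  rcases mul_eq_zero.1 this with e | e
  · exact Or.inl (Subtype.ext (by rw [a1, b1, sub_eq_zero.1 e]))
  · refine Or.inr (Subtype.ext ?_)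
    show s2.1 = z.1 * s.1
    rw [a1, b1, hZ, sub_eq_zero.1 e]
    ext i j
    fin_cases i <;> fin_cases j <;> simp [mul_apply, Fin.sum_univ_two]
    · linear_combination (-t) * h + (-t * b * d) * h2
    · linear_combination (-t * n * b) * h2
    · linear_combination (-t * n * d) * h2
    · linear_combination (-t) * h + (-t * b * d) * h2

theorem two_eq [Fintype F] (hF : 2 ∣ Fintype.card F) : (2 : F) = 0 := by
  obtain ⟨p, hp, n, pp, e⟩ := FiniteField.card' F
  rw [e] at hF
  obtain rfl := (Nat.prime_dvd_prime_iff_eq Nat.prime_two pp).1 (Nat.prime_two.dvd_of_dvd_pow hF)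
  exact CharP.cast_eq_zero F 2

theorem ctr (h2 : (2 : F) = 0) : Subgroup.center (SpecialLinearGroup (Fin 2) F) = ⊥ := by
  rw [eq_bot_iff]
  intro A hA
  obtain ⟨r, h, e⟩ := Matrix.SpecialLinearGroup.mem_center_iff.1 hA
  have : r - 1 = 0 := mul_self_eq_zero.1 (by
    rw [Fintype.card_fin] at h
    linear_combination h + (1 - r) * h2)
  rw [sub_eq_zero.1 this, map_one] at e
  exact Subtype.ext e.symm

theorem fact {M : Type*} [Group M] [Fintype F] (hF : 2 ∣ Fintype.card F)
    (e : M ≃* ProjectiveSpecialLinearGroup (Fin 2) F) {z s s2 c c2 : M} (z1 : z ≠ 1)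
    (zz : z * z = 1) (h1 : c * z * c⁻¹ = s) (h3 : c * s * c⁻¹ = z * s) (cm : Commute z s)
    (k1 : c2 * z * c2⁻¹ = s2) (k3 : c2 * s2 * c2⁻¹ = z * s2) (km : Commute z s2) :
    s2 = s ∨ s2 = z * s := by
  have h2 := two_eq hF
  let f : M ≃* SpecialLinearGroup (Fin 2) F :=
    (e.trans (QuotientGroup.quotientMulEquivOfEq (ctr h2))).trans QuotientGroup.quotientBot
  have := factSL h2 (z := f z) (s := f s) (s2 := f s2) (c := f c) (c2 := f c2)
    (by simpa using z1) (by rw [← map_mul, zz, map_one]) (by rw [← h1]; simp)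
    (by rw [← map_mul f z, ← h3]; simp) (cm.map f) (by rw [← k1]; simp)
    (by rw [← map_mul f z, ← k3]; simp) (km.map f)
  rw [← map_mul] at this
  exact this.imp (fun h => f.injective h) fun h => f.injective h

end Cfsg.Agent.H66.CyB4f
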