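import Cfsg.Agent.S4020
import Cfsg.Agent.H8.GoldType
import Cfsg.Agent.H98.SylIn
import Cfsg.Agent.H63.BG1
import Cfsg.Agent.H3.Cores
import Cfsg.Agent.H15.GWKAut

/-! Groups in which `p`-subgroups of equal order are conjugate: general lemmas. -/

set_option autoImplicit false
set_option linter.unusedSectionVars false

namespace Cfsg.Agent.H66.DC

open Cfsg Cfsg.Agent.H63 Cfsg.Agent.H67 Subgroup
open scoped commutatorElement

/-- `p`-subgroups of the same order are conjugate. -/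
def PC (G : Type*) [Group G] : Prop :=
  ∀ p : ℕ, p.Prime → ∀ H K : Subgroup G, IsPGroup p H → IsPGroup p K → Nat.card H = Nat.card K →
    ∃ g : G, K = cj g H

/-- Subgroups of the same order are conjugate. -/
def AC (G : Type*) [Group G] : Prop :=
  ∀ H K : Subgroup G, Nat.card H = Nat.card K → ∃ g : G, K = cj g H

variable {G : Type*} [Group G] [Finite G]

omit [Finite G] in
theorem AC.pc (h : AC G) : PC G := fun _ _ H K _ _ e => h H K e

theorem card_comap_eq {Q : Type*} [Group Q] {φ : G →* Q} (hφ : Function.Surjective φ)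
    {H K : Subgroup Q} (e : Nat.card H = Nat.card K) :
    Nat.card (H.comap φ) = Nat.card (K.comap φ) := by
  have : Finite Q := Finite.of_surjective φ hφ
  have h1 : H.index = K.index := Nat.eq_of_mul_eq_mul_left (Nat.card_pos (α := H))
    (by rw [card_mul_index, e, card_mul_index])
  have h2 := (H.comap φ).card_mul_index
  rw [← (K.comap φ).card_mul_index, index_comap_of_surjective _ hφ,
    index_comap_of_surjective _ hφ, h1] at h2
  exact Nat.eq_of_mul_eq_mul_right (Nat.pos_of_ne_zero index_ne_zero_of_finite) h2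

theorem AC.of_surj (h : AC G) {Q : Type*} [Group Q] {φ : G →* Q} (hφ : Function.Surjective φ) :
    AC Q := by
  intro H K e
  obtain ⟨g, hg⟩ := h _ _ (card_comap_eq hφ e)
  refine ⟨φ g, ?_⟩
  rw [← map_comap_eq_self_of_surjective hφ K, hg, map_cj, map_comap_eq_self_of_surjective hφ]

theorem PC.of_surj (h : PC G) {Q : Type*} [Group Q] {φ : G →* Q} (hφ : Function.Surjective φ) :
    PC Q := by
  intro p hp H K hH hK e
  have := Fact.mk hp
  have key : ∀ X : Subgroup Q, IsPGroup p X → ∃ T : Subgroup G, IsPGroup p T ∧ T.map φ = X ∧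
      Nat.card T = p ^ (Nat.card (X.comap φ)).factorization p := fun X hX => by
    obtain ⟨T, hT⟩ := H98.exists_sylIn p (X.comap φ)
    have h1 := hT.map φ
    rw [map_comap_eq_self_of_surjective hφ] at h1
    exact ⟨T, hT.isPGroup, (h1.eq_of_le le_rfl hX h1.le).symm, hT.card_eq_pow_factorization⟩
  obtain ⟨T, h1, h2, h3⟩ := key H hH
  obtain ⟨U, h4, h5, h6⟩ := key K hK
  obtain ⟨g, hg⟩ := h p hp T U h1 h4 (by rw [h3, h6, card_comap_eq hφ e])
  exact ⟨φ g, by rw [← h5, hg, map_cj, h2]⟩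

theorem pg_zpowers {p : ℕ} {x : G} (hx : orderOf x = p) : IsPGroup p (zpowers x) :=
  IsPGroup.of_card (n := 1) (by rw [Nat.card_zpowers, hx, pow_one])

theorem PC.conj_mem (h : PC G) {p : ℕ} (hp : p.Prime) {x y : G} (hx : orderOf x = p)
    (hy : orderOf y = p) : ∃ g : G, g * x * g⁻¹ ∈ zpowers y := by
  obtain ⟨g, hg⟩ := h p hp _ _ (pg_zpowers hx) (pg_zpowers hy)
    (by rw [Nat.card_zpowers, Nat.card_zpowers, hx, hy])
  exact ⟨g, hg ▸ conj_mem_cj (mem_zpowers x)⟩

theorem PC.conj_two (h : PC G) {x y : G} (hx : orderOf x = 2) (hy : orderOf y = 2) :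
    ∃ g : G, g * x * g⁻¹ = y := by
  obtain ⟨g, hg⟩ := h.conj_mem Nat.prime_two hx hy
  refine ⟨g, ?_⟩
  have h1 : g * x * g⁻¹ ≠ 1 := fun e => H8.GD.ta_ne_one hx (by simpa using e)
  obtain ⟨n, hn⟩ := mem_powers_iff_mem_zpowers.2 hg
  rw [← hn] at h1 ⊢
  simp only at h1 ⊢
  rw [← pow_mod_orderOf, hy] at h1 ⊢
  rcases Nat.mod_two_eq_zero_or_one n with e | e <;> rw [e] at h1 ⊢
  · exact absurd (pow_zero y) h1
  · exact pow_one y

theorem PC.mem_normal (h : PC G) {N : Subgroup G} [hN : N.Normal] {p : ℕ} (hp : p.Prime)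
    (hd : p ∣ Nat.card N) {x : G} (hx : orderOf x = p) : x ∈ N := by
  have := Fact.mk hp
  obtain ⟨y, hy⟩ := exists_prime_orderOf_dvd_card' p hd
  obtain ⟨g, hg⟩ := h.conj_mem hp hx ((orderOf_coe y).trans hy)
  simpa [mul_assoc] using hN.conj_mem _ (zpowers_le.2 y.2 hg) g⁻¹

theorem PC.syl (h : PC G) {p : ℕ} [Fact p.Prime] {P : Subgroup G} (hP : IsSyl p P ⊤) :
    IsCyclic P ∨ IsElementaryAbelian p P ∨ Nonempty (P ≃* QuaternionGroup 2) := by
  obtain ⟨S, rfl⟩ := exists_sylow_top hP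
  exact S4020.result h S

theorem PC.syl_odd (h : PC G) {p : ℕ} [hp : Fact p.Prime] (h2 : p ≠ 2) {P : Subgroup G}
    (hP : IsSyl p P ⊤) : IsCyclic P ∨ IsElementaryAbelian p P := by
  rcases h.syl hP with h1 | h1 | ⟨⟨e⟩⟩
  · exact Or.inl h1
  · exact Or.inr h1
  · exfalso
    obtain ⟨n, hn⟩ := (syl_isPGroup hP).exists_card_eq
    rw [Nat.card_congr e.toEquiv, Nat.card_eq_fintype_card, QuaternionGroup.card] at hn
    exact h2 ((Nat.prime_dvd_prime_iff_eq Nat.prime_two hp.out).1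
      (Nat.prime_two.dvd_of_dvd_pow (hn ▸ (by decide : 2 ∣ 4 * 2)))).symm

theorem PC.elem_le (h : PC G) {N P : Subgroup G} [N.Normal] {p : ℕ} (hp : p.Prime)
    (hd : p ∣ Nat.card N) (hP : IsElementaryAbelian p P) : P ≤ N := fun x hx => by
  have := Fact.mk hp
  by_cases h1 : x = 1
  · exact h1 ▸ one_mem N
  · exact h.mem_normal hp hd (orderOf_eq_prime (hP.2 x hx) h1)

theorem cyc_le {N P : Subgroup G} [hN : N.Normal] (hN' : ⁅N, N⁆ = N) {p : ℕ} [Fact p.Prime]
    (hd : p ∣ Nat.card N) (hP : IsSyl p P ⊤) (hc : IsCyclic P) : P ≤ N := by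
  have hn : ∀ X : Subgroup G, X ≤ N[N] := fun X => le_top.trans (normalizer_eq_top_iff.2 hN).ge
  have h1 : ⁅P ⊔ N, P ⊔ N⁆ ≤ N := by
    rw [commutator_le]
    intro x hx y hy
    obtain ⟨a, ha, b, hb, rfl⟩ := (mem_sup_of_le_normalizer (hn P)).1 hx
    obtain ⟨c, hc', d, hd', rfl⟩ := (mem_sup_of_le_normalizer (hn P)).1 hy
    have e : a * c = c * a := comm_of_isMulCommutative inferInstance ha hc'
    rw [← QuotientGroup.eq_one_iff, commutatorElement_def]
    simp only [QuotientGroup.mk_mul, QuotientGroup.mk_inv, (QuotientGroup.eq_one_iff _).2 hb,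
      (QuotientGroup.eq_one_iff _).2 hd', mul_one]
    rw [← QuotientGroup.mk_mul, e, QuotientGroup.mk_mul]
    group
  rcases cyclic_Sylow_tiVsub_der1 (hall_of_le hP le_sup_left le_top : IsSyl p P (P ⊔ N)) hc
    with h2 | h2
  · exfalso
    have h3 : IsSyl p (P ⊓ N) N := by
      obtain ⟨S, rfl⟩ := exists_sylow_top hP
      have h4 := (H98.sylIn_top S).inf_of_normal le_top (hn ⊤)
      exact syl_mk h4.le h4.isPGroup h4.not_dvd_relIndex
    refine syl_ne_bot h3 hd (eq_bot_iff.2 (h2 ▸ inf_le_inf_left _ ?_))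
    exact hN'.ge.trans (commutator_mono le_sup_right le_sup_right)
  · exact h2.trans h1

theorem not_dvd_index_of_le {N P : Subgroup G} {p : ℕ} [Fact p.Prime] (hP : IsSyl p P ⊤)
    (h : P ≤ N) : ¬ p ∣ N.index := fun hd =>
  syl_not_dvd hP (by rw [relIndex_top_right]; exact hd.trans (index_dvd_of_le h))

/-- A perfect normal subgroup containing a Sylow `2`-subgroup is a Hall subgroup. -/
theorem PC.coprime (h : PC G) {N S : Subgroup G} [N.Normal] (hN' : ⁅N, N⁆ = N)
    (hS : IsSyl 2 S ⊤) (hSN : S ≤ N) : (Nat.card N).Coprime N.index := by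
  refine Nat.Coprime.symm (Nat.coprime_of_dvd fun p hp h1 h2 => ?_)
  have := Fact.mk hp
  by_cases e : p = 2
  · subst e
    exact not_dvd_index_of_le hS hSN h1
  obtain ⟨P, hP⟩ := exists_syl p (⊤ : Subgroup G)
  refine not_dvd_index_of_le hP ?_ h1
  rcases h.syl_odd e hP with h3 | h3
  · exact cyc_le hN' h2 hP h3
  · exact h.elem_le hp h2 h3

/-- Burnside's fusion lemma for subgroups of an abelian Sylow subgroup. -/
theorem fus_ab {p : ℕ} [Fact p.Prime] {P E : Subgroup G} (hP : IsSyl p P ⊤) (hab : P ≤ C[P])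
    (hE : E ≤ P) {g : G} (hg : cj g E ≤ P) : ∃ n ∈ N[P], cj n E = cj g E := by
  have h1 : IsSyl p P C[cj g E] := hall_of_le hP (hab.trans (centralizer_anti hg)) le_top
  have h2 : IsSyl p (cj g P) C[cj g E] := by
    refine syl_of_card_ge h1 ?_ (isPGroup_cj (syl_isPGroup hP) g) (card_cj g P).ge
    rw [← cj_centralizer]
    exact cj_mono (hab.trans (centralizer_anti hE))
  obtain ⟨c, hc, e⟩ := syl_conj h2 h1
  refine ⟨c * g, cj_eq_self_iff.1 (by rw [cj_mul, ← e]), ?_⟩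
  rw [cj_mul, cj_eq_self_of_mem_centralizer hc]

/-- The counting lemma. -/
theorem PC.count (h : PC G) {p : ℕ} [hp : Fact p.Prime] {P : Subgroup G} (hP : IsSyl p P ⊤)
    (he : IsElementaryAbelian p P) (h2 : p ^ 2 ∣ Nat.card P) :
    Nat.card P ^ 2 ≤ p ^ 4 * P.relIndex N[P] := by
  have hab : P ≤ C[P] := le_centralizer_iff_isMulCommutative.2 he.1
  have hpg := syl_isPGroup hP
  have key : ∀ x ∈ P, ∀ y ∈ P, ∃ E : Subgroup G, E ≤ P ∧ Nat.card E = p ^ 2 ∧ x ∈ E ∧ y ∈ E := by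
    intro x hx y hy
    have hxy : zpowers x ⊔ zpowers y ≤ P := sup_le (zpowers_le.2 hx) (zpowers_le.2 hy)
    have h3 : Nat.card ↥(zpowers x ⊔ zpowers y) ∣ p ^ 2 := by
      refine (card_sup_dvd (Or.inl (le_normalizer_of_le_centralizer
        (((zpowers_le.2 hx).trans hab).trans (centralizer_anti (zpowers_le.2 hy)))))).trans ?_
      rw [Nat.card_zpowers, Nat.card_zpowers, pow_two]
      exact mul_dvd_mul (orderOf_dvd_of_pow_eq_one (he.2 x hx)) (orderOf_dvd_of_pow_eq_one (he.2 y hy))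
    obtain ⟨k, hk, e⟩ := (Nat.dvd_prime_pow hp.out).1 h3
    obtain ⟨K, h4, h5⟩ := Sylow.exists_subgroup_card_pow_prime_le p h2
      ((zpowers x ⊔ zpowers y).subgroupOf P) (by rw [card_subgroupOf hxy, e]) hk
    have h6 : zpowers x ⊔ zpowers y ≤ K.map P.subtype := by
      rw [← map_subtype_subgroupOf hxy]
      exact map_mono h5
    exact ⟨K.map P.subtype, map_subtype_le K, by rw [card_map_subtype, h4],
      h6 (mem_sup_left (mem_zpowers x)), h6 (mem_sup_right (mem_zpowers y))⟩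
  obtain ⟨E, hE, hc, -⟩ := key 1 (one_mem _) 1 (one_mem _)
  let f : (E × E) × (N[P] ⧸ P.subgroupOf N[P]) → P × P := fun z =>
    (⟨z.2.out * z.1.1 * (z.2.out : G)⁻¹, conj_mem_of_mem_normalizer z.2.out.2 (hE z.1.1.2)⟩,
      ⟨z.2.out * z.1.2 * (z.2.out : G)⁻¹, conj_mem_of_mem_normalizer z.2.out.2 (hE z.1.2.2)⟩)
  have hf : Function.Surjective f := by
    rintro ⟨x, y⟩
    obtain ⟨E', hE', hc', hx, hy⟩ := key x x.2 y y.2
    obtain ⟨g, rfl⟩ := h p hp.out E E' (hpg.to_le hE) (hpg.to_le hE') (hc.trans hc'.symm)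
    obtain ⟨n, hn, e⟩ := fus_ab hP hab hE hE'
    obtain ⟨u, hu⟩ := QuotientGroup.mk_out_eq_mul (P.subgroupOf N[P]) ⟨n, hn⟩
    have e' : cj ((QuotientGroup.mk ⟨n, hn⟩ : N[P] ⧸ P.subgroupOf N[P]).out : G) E = cj g E := by
      have h4 : ((u : N[P]) : G) ∈ C[E] := centralizer_anti hE (hab u.2)
      rw [hu, coe_mul, cj_mul, cj_eq_self_of_mem_centralizer h4, e]
    rw [← e'] at hx hy
    obtain ⟨a, ha, ea⟩ := mem_cj'.1 hx
    obtain ⟨b, hb, eb⟩ := mem_cj'.1 hy
    exact ⟨((⟨a, ha⟩, ⟨b, hb⟩), QuotientGroup.mk ⟨n, hn⟩), Prod.ext (Subtype.ext ea) (Subtype.ext eb)⟩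
  have h3 := Nat.card_le_card_of_surjective f hf
  rw [Nat.card_prod, Nat.card_prod, Nat.card_prod, hc, ← pow_two, ← pow_add] at h3
  exact h3

/-- `|N_G(P) : P| ≤ |N_N(P) : P| |G : N|` for a normal subgroup `N`. -/
theorem relIndex_norm_dvd {N P : Subgroup G} [N.Normal] (h : P ≤ N) :
    P.relIndex N[P] ∣ (P.subgroupOf N).relIndex N[P.subgroupOf N] * N.index := by
  have h1 : (P.subgroupOf N).relIndex N[P.subgroupOf N] = P.relIndex (N[P] ⊓ N) := by
    rw [normalizer_subgroupOf h, ← inf_subgroupOf_right N[P], relIndex_subgroupOf inf_le_right]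
  rw [h1, ← relIndex_mul_relIndex P (N[P] ⊓ N) N[P] (le_inf le_normalizer h) inf_le_left,
    inf_comm, inf_relIndex_right]
  exact mul_dvd_mul_left _ (relIndex_dvd_index_of_normal N _)

omit [Finite G] in
theorem eq_one_of_coprime {y c z : G} (h : y * c * y⁻¹ = z * c) (hz : y * z = z * y)
    (hc : (orderOf y).Coprime (orderOf z)) : z = 1 := by
  have h1 : ∀ n : ℕ, y ^ n * c * (y ^ n)⁻¹ = z ^ n * c := by
    intro n
    induction n with
    | zero => simp
    | succ n ih =>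
      calc y ^ (n + 1) * c * (y ^ (n + 1))⁻¹ = y * (y ^ n * c * (y ^ n)⁻¹) * y⁻¹ := by group
        _ = (y * z ^ n) * y⁻¹ * (y * c * y⁻¹) := by rw [ih]; group
        _ = z ^ (n + 1) * c := by rw [h, (Commute.pow_right hz n).eq]; group
  have h2 := h1 (orderOf y)
  rw [pow_orderOf_eq_one, one_mul, inv_one, mul_one, eq_comm, mul_eq_right] at h2
  exact orderOf_eq_one_iff.1 (Nat.Coprime.eq_one_of_dvd hc.symm (orderOf_dvd_of_pow_eq_one h2))

end Cfsg.Agent.H66.DC
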