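import Cfsg.Agent.H66.DC1
import Cfsg.Agent.S0813
import Cfsg.Agent.H15.GWKPSL
import Cfsg.Agent.H29.Cover
import Cfsg.Agent.H28.Transport
import Cfsg.Agent.H73.Descent

/-! Groups in which `p`-subgroups of equal order are conjugate: socle `L₂(q)`. -/

set_option autoImplicit false
set_option linter.unusedSectionVars false

namespace Cfsg.Agent.H66.DC

open Cfsg Cfsg.Agent.H63 Cfsg.Agent.H67 Subgroup
open scoped commutatorElement MatrixGroups

theorem arith_two {a r : ℕ} (ha : 2 ≤ a) (ho : Odd r) (hd : r ∣ (2 ^ a - 1) * a)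
    (hle : (2 ^ a) ^ 2 ≤ 2 ^ 4 * r) :
    a = 2 ∨ (a = 3 ∧ (r = 7 ∨ r = 21)) ∨ (a = 5 ∧ r = 155) := by
  have h2 : r.Coprime 2 := Nat.coprime_two_right.2 ho
  have h7 : a < 7 := by
    by_contra h
    have h1 : ∀ k : ℕ, 16 * (k + 7) ≤ 2 ^ (k + 7) := fun k => by
      induction k with
      | zero => norm_num
      | succ k ih => rw [show k + 1 + 7 = k + 7 + 1 by ring, pow_succ]; omega
    have h3 := h1 (a - 7)
    rw [show a - 7 + 7 = a by omega] at h3
    have h4 : 0 < 2 ^ a - 1 := by omega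
    have h5 := Nat.le_of_dvd (Nat.mul_pos h4 (by omega)) hd
    obtain ⟨q, hq⟩ : ∃ q, 2 ^ a = q + 1 := ⟨2 ^ a - 1, by omega⟩
    rw [hq] at hle h3 h5
    simp only [Nat.add_sub_cancel] at h5
    nlinarith
  interval_cases a
  · exact Or.inl rfl
  · have : r ∈ Nat.divisors 21 := Nat.mem_divisors.2 ⟨hd, by norm_num⟩
    rw [show Nat.divisors 21 = {1, 3, 7, 21} by decide] at this
    simp only [Finset.mem_insert, Finset.mem_singleton] at this
    omega
  · have : r ∣ 15 := (h2.pow_right 2).dvd_of_dvd_mul_right hd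
    have := Nat.le_of_dvd (by norm_num) this
    omega
  · obtain ⟨k, hk⟩ := hd
    have : k = 1 := by
      have h1 : k ≠ 0 := by rintro rfl; omega
      have h3 : k ≠ 2 := by rintro rfl; omega
      by_contra h4
      have h5 := Nat.mul_le_mul_left r (show 3 ≤ k by omega)
      omega
    subst this
    omega
  · have : r ∣ 189 := h2.dvd_of_dvd_mul_right (show r ∣ 189 * 2 from hd)
    have := Nat.le_of_dvd (by norm_num) this
    omega

theorem arith_odd {p m f : ℕ} (hp : 3 ≤ p) (hm : 2 ≤ m) (ho : Odd m) (hf : f ∣ m)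
    (hle : 2 * (p ^ m) ^ 2 ≤ p ^ 4 * ((p ^ m - 1) * f)) : m = 3 := by
  by_contra h
  obtain ⟨k, rfl⟩ : ∃ k, m = k + 1 + 4 := ⟨m - 5, by obtain ⟨j, rfl⟩ := ho; omega⟩
  have h1 : ∀ k : ℕ, k + 1 + 4 < 2 * 3 ^ (k + 1) := fun k => by
    induction k with
    | zero => norm_num
    | succ k ih => rw [pow_succ]; omega
  have h2 := Nat.le_of_dvd (by omega) hf
  have h3 : 3 ^ (k + 1) ≤ p ^ (k + 1) := Nat.pow_le_pow_left hp _
  have h4 : f < 2 * p ^ (k + 1) := by have := h1 k; omega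
  have h5 : 0 < p ^ (k + 1 + 4) := by positivity
  have h6 : p ^ 4 * ((p ^ (k + 1 + 4) - 1) * f) ≤ p ^ (k + 1 + 4) * (p ^ 4 * f) := by
    rw [mul_left_comm]
    exact Nat.mul_le_mul_right _ (Nat.sub_le _ _)
  have h7 : p ^ 4 * f < p ^ 4 * (2 * p ^ (k + 1)) := Nat.mul_lt_mul_of_pos_left h4 (by positivity)
  have h8 : p ^ 4 * (2 * p ^ (k + 1)) = 2 * p ^ (k + 1 + 4) := by ring
  have h9 := Nat.mul_lt_mul_of_pos_left h7 h5
  rw [h8] at h9
  nlinarith

variable {G : Type*} [Group G] [Finite G] {F : Type*} [Field F] [Fintype F]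

theorem psl_data {L : Type*} [Group L] [Finite L] (e : L ≃* PSL(2, F)) {p m : ℕ} [hp : Fact p.Prime]
    (hF : Fintype.card F = p ^ m) {P : Subgroup L} (hP : IsSyl p P ⊤) :
    Nat.card P = p ^ m ∧ (∀ x ∈ P, x ^ p = 1) ∧
      Nat.gcd 2 (p ^ m - 1) * P.relIndex N[P] = p ^ m - 1 ∧
      Nat.gcd 2 (p ^ m - 1) * Nat.card L = (p ^ m + 1) * (p ^ m * (p ^ m - 1)) := by
  have := H73.charP_of_card hF
  have hF' : Nat.card F = p ^ m := Nat.card_eq_fintype_card.trans hF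
  obtain ⟨S, rfl⟩ := exists_sylow_top hP
  let φ : L →* PGL(2, F) := H29.pslp.comp e.toMonoidHom
  have h1 : Function.Injective φ := H29.pslp_injective.comp e.injective
  have h2 : H29.IsCover p φ := H29.isCover_of_injective h1 (by
    rw [MonoidHom.range_comp, MonoidHom.range_eq_top.2 e.surjective, ← MonoidHom.range_eq_map,
      H29.range_pslp])
  obtain ⟨x, hx⟩ := h2.sylow_map S
  have h3 : Nat.card (S : Subgroup L) = p ^ m := by
    rw [← card_map_of_injective h1, hx, H29.card_uni, hF']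
  have h4 : Nat.gcd 2 (p ^ m - 1) * Nat.card L = (p ^ m + 1) * (p ^ m * (p ^ m - 1)) := by
    rw [Nat.card_congr e.toEquiv, H29.card_PSL2_eq, ← hF', H29.card_L]
  refine ⟨h3, fun y hy => h1 ?_, ?_, h4⟩
  · rw [map_pow, map_one]
    exact H29.pow_char_eq_one_of_mem_uni p (hx ▸ mem_map_of_mem φ hy)
  · have h5 := h2.card_sylow
    rw [S.card_eq_index_normalizer, hF'] at h5
    rw [← N[(S : Subgroup L)].index_mul_card, ← card_mul_relIndex le_normalizer, h3] at h4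
    have h6 : N[(S : Subgroup L)].index = p ^ m + 1 := h5
    rw [h6, mul_left_comm, mul_left_comm (Nat.gcd _ _)] at h4
    exact Nat.eq_of_mul_eq_mul_left (pow_pos hp.out.pos m)
      (Nat.eq_of_mul_eq_mul_left (Nat.succ_pos _) h4)

theorem three_dvd_psl {L : Type*} [Group L] {q : ℕ} (hq : 1 ≤ q)
    (h : Nat.gcd 2 (q - 1) * Nat.card L = (q + 1) * (q * (q - 1))) : 3 ∣ Nat.card L := by
  have h1 : 3 ∣ (q + 1) * (q * (q - 1)) := by
    obtain ⟨k, rfl⟩ := Nat.exists_eq_add_of_le' hq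
    rw [Nat.add_sub_cancel]
    have : k % 3 = 0 ∨ k % 3 = 1 ∨ k % 3 = 2 := by omega
    rcases this with h | h | h
    · exact Dvd.dvd.mul_left (Dvd.dvd.mul_left (by omega) _) _
    · exact Dvd.dvd.mul_right (by omega) _
    · exact Dvd.dvd.mul_left (Dvd.dvd.mul_right (by omega) _) _
  rw [← h] at h1
  exact (Nat.Coprime.coprime_dvd_right (Nat.gcd_dvd_left _ _) (by decide)).dvd_of_dvd_mul_left h1

/-- The numerical data for a group with socle `L₂(p ^ m)`. -/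
theorem PC.psl_num (h : PC G) {N S : Subgroup G} [N.Normal] (hN' : ⁅N, N⁆ = N) (hS : IsSyl 2 S ⊤)
    (hSN : S ≤ N) (hC : C[N] = ⊥) (e : N ≃* PSL(2, F)) {p m : ℕ} [hp : Fact p.Prime]
    (hF : Fintype.card F = p ^ m) (h4 : 4 ≤ p ^ m) :
    Odd N.index ∧ ¬ 3 ∣ N.index ∧ N.index ∣ m ∧
      (2 ≤ m → Nat.gcd 2 (p ^ m - 1) * (p ^ m) ^ 2 ≤ p ^ 4 * ((p ^ m - 1) * N.index)) ∧
      (N.index = m * Nat.gcd 2 (p ^ m - 1) → Nonempty (G ≃* MulAut PSL(2, F))) := by
  have hm : 1 ≤ m := Nat.pos_of_ne_zero (by rintro rfl; simp at h4)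
  have hco := h.coprime hN' hS hSN
  have ho : Odd N.index := Nat.not_even_iff_odd.1 fun he => not_dvd_index_of_le hS hSN he.two_dvd
  obtain ⟨P, hP⟩ := exists_syl p N
  have hP' : IsSyl p (P.subgroupOf N) ⊤ := hall_top_iff.2 (hall_subgroupOf hP)
  obtain ⟨h1, h2, h3, h5⟩ := psl_data e hF hP'
  rw [card_subgroupOf hP.1] at h1
  have h6 := S0813.result p m hm hF 2 le_rfl fun _ => h4
  rw [if_pos rfl, one_mul, H29.card_PGL2, Nat.card_eq_fintype_card (α := F), hF, ← h5,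
    ← mul_assoc] at h6
  have hi := H15.conjAut_injective N e hC
  have h7 := card_dvd_of_injective _ hi
  rw [h6, ← N.index_mul_card] at h7
  have h8 : N.index ∣ m * Nat.gcd 2 (p ^ m - 1) := Nat.dvd_of_mul_dvd_mul_right Nat.card_pos h7
  refine ⟨ho, fun h9 => ?_, ((Nat.coprime_two_right.2 ho).coprime_dvd_right
    (Nat.gcd_dvd_left _ _)).dvd_of_dvd_mul_right h8, fun h9 => ?_, fun h9 => ?_⟩
  · exact absurd (Nat.dvd_gcd (three_dvd_psl (by omega) h5) h9) (by rw [hco]; decide)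
  · have hd : p ∣ Nat.card N := (h1 ▸ dvd_pow_self p (by omega)).trans (card_dvd_of_le hP.1)
    have hPG : IsSyl p P ⊤ := by
      refine syl_mk le_top (syl_isPGroup hP) ?_
      rw [relIndex_top_right, ← relIndex_mul_index hP.1, hp.out.dvd_mul, not_or]
      exact ⟨syl_not_dvd hP, fun h => hp.out.one_lt.ne' (Nat.dvd_one.1 (hco ▸ Nat.dvd_gcd hd h))⟩
    have h2' : ∀ x ∈ P, x ^ p = 1 := fun x hx => congrArg Subtype.val (h2 ⟨x, hP.1 hx⟩ hx)
    have hab : IsMulCommutative P := by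
      rcases h.syl hPG with h | h | ⟨⟨f⟩⟩
      · infer_instance
      · exact h.1
      · exfalso
        have h10 : f.symm (QuaternionGroup.a 1) ^ p = 1 := Subtype.ext (h2' _ (f.symm _).2)
        have h11 := orderOf_dvd_of_pow_eq_one h10
        rw [MulEquiv.orderOf_eq, QuaternionGroup.orderOf_a_one] at h11
        rcases hp.out.eq_one_or_self_of_dvd 2 ((by decide : 2 ∣ 2 * 2).trans h11) with h | h
        · omega
        · subst h
          omega
    have h10 := h.count hPG ⟨hab, h2'⟩ (h1 ▸ pow_dvd_pow p h9)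
    have h11 := Nat.le_of_dvd (Nat.mul_pos (Nat.pos_of_ne_zero (relIndex_ne_zero' _ _))
      ho.pos) (relIndex_norm_dvd hP.1)
    rw [h1] at h10
    calc _ ≤ Nat.gcd 2 (p ^ m - 1) * (p ^ 4 * ((P.subgroupOf N).relIndex N[P.subgroupOf N] * N.index)) :=
          Nat.mul_le_mul_left _ (h10.trans (Nat.mul_le_mul_left _ h11))
      _ = _ := by rw [mul_left_comm, ← mul_assoc (Nat.gcd _ _), h3]
  · have : Finite (MulAut PSL(2, F)) := Nat.finite_of_card_ne_zero (by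
      rw [h6, ← h9]
      exact (Nat.mul_pos ho.pos Nat.card_pos).ne')
    exact ⟨MulEquiv.ofBijective _ (hi.bijective_of_nat_card_le (by rw [h6, ← h9, N.index_mul_card]))⟩

theorem equiv_of_index {N : Subgroup G} (h : N.index = 1) {X : Type*} [Group X] (e : N ≃* X) :
    Nonempty (G ≃* X) :=
  ⟨(topEquiv.symm.trans (MulEquiv.subgroupCongr (index_eq_one.1 h).symm)).trans e⟩

/-- The field with `p ^ n` elements. -/
theorem nonempty_galois {p n : ℕ} [Fact p.Prime] (hn : n ≠ 0) (hF : Fintype.card F = p ^ n) :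
    Nonempty (F ≃+* GaloisField p n) := by
  have := Fintype.ofFinite (GaloisField p n)
  exact ⟨FiniteField.ringEquivOfCardEq (by
    rw [hF, ← Nat.card_eq_fintype_card, GaloisField.card _ _ hn])⟩

theorem PC.psl_even (h : PC G) {N S : Subgroup G} [N.Normal] (hN' : ⁅N, N⁆ = N) (hS : IsSyl 2 S ⊤)
    (hSN : S ≤ N) (hC : C[N] = ⊥) (e : N ≃* PSL(2, F)) {m : ℕ} (hF : Fintype.card F = 2 ^ m)
    (hm : 2 ≤ m) :
    (m = 2 ∧ Nonempty (G ≃* PSL(2, F))) ∨ (m = 3 ∧ Nonempty (G ≃* PSL(2, GaloisField 2 3))) ∨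
      (m = 5 ∧ Nonempty (G ≃* MulAut PSL(2, GaloisField 2 5))) := by
  have h4 : 4 ≤ 2 ^ m := Nat.pow_le_pow_right (n := 2) two_pos hm
  obtain ⟨h1, h2, h3, h5, h6⟩ := h.psl_num hN' hS hSN hC e hF h4
  have ho : Odd (2 ^ m - 1) := Nat.Even.sub_odd (by omega)
    (Nat.even_pow.2 ⟨even_two, by omega⟩) odd_one
  rw [Nat.coprime_two_left.2 ho] at h5 h6
  rw [one_mul] at h5
  rcases arith_two hm (ho.mul h1) (mul_dvd_mul_left _ h3) (h5 hm) with rfl | ⟨rfl, h7⟩ | ⟨rfl, h7⟩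
  · refine Or.inl ⟨rfl, equiv_of_index ?_ e⟩
    exact (Nat.coprime_two_right.2 h1).eq_one_of_dvd h3
  · obtain ⟨ι⟩ := nonempty_galois (by decide) hF
    exact Or.inr (Or.inl ⟨rfl, equiv_of_index (by omega) (e.trans (H28.pslEquiv ι _))⟩)
  · obtain ⟨ι⟩ := nonempty_galois (by decide) hF
    obtain ⟨f⟩ := h6 (by omega)
    exact Or.inr (Or.inr ⟨rfl, ⟨f.trans (MulAut.congr (H28.pslEquiv ι _))⟩⟩)

/-- `p` is a prime, `p ≡ ± 3 (mod 8)`, and `F` has `p` or `p ^ 3` elements. -/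
def Fld (F : Type*) [Fintype F] : Prop :=
  ∃ p : ℕ, p.Prime ∧ (p % 8 = 3 ∨ p % 8 = 5) ∧ (Fintype.card F = p ∨ Fintype.card F = p ^ 3)

theorem PC.psl_odd (h : PC G) {N S : Subgroup G} [N.Normal] (hN' : ⁅N, N⁆ = N) (hS : IsSyl 2 S ⊤)
    (hSN : S ≤ N) (hC : C[N] = ⊥) (e : N ≃* PSL(2, F))
    (h8 : Fintype.card F % 8 = 3 ∨ Fintype.card F % 8 = 5) (h5 : 5 ≤ Fintype.card F) :
    Fld F ∧ Nonempty (G ≃* PSL(2, F)) := by
  obtain ⟨p, _, ⟨m, hm⟩, hp, hF⟩ := FiniteField.card' F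
  have := Fact.mk hp
  simp only [PNat.mk_coe] at hF
  rw [hF] at h8 h5
  have hp2 : Odd p := hp.odd_of_ne_two (by
    rintro rfl
    have : 2 ∣ 2 ^ m := dvd_pow_self 2 hm.ne'
    omega)
  have hsq : ∀ k : ℕ, (p ^ 2) ^ k % 8 = 1 := fun k => by
    have : p ^ 2 % 8 = 1 := by
      have h1 := Nat.odd_iff.1 hp2
      have : p % 8 = 1 ∨ p % 8 = 3 ∨ p % 8 = 5 ∨ p % 8 = 7 := by omega
      rcases this with h | h | h | h <;> rw [Nat.pow_mod, h]
    rw [Nat.pow_mod, this, one_pow, Nat.one_mod_eq_one.2 (by decide)]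
  obtain ⟨k, rfl⟩ : Odd m := by
    by_contra he
    obtain ⟨k, rfl⟩ := Nat.not_odd_iff_even.1 he
    have := hsq k
    rw [← pow_mul, two_mul] at this
    omega
  have h9 : p % 8 = 3 ∨ p % 8 = 5 := by
    rwa [pow_succ, pow_mul, Nat.mul_mod, hsq, one_mul, Nat.mod_mod] at h8
  obtain ⟨h1, h2, h3, h6, -⟩ := h.psl_num hN' hS hSN hC e hF (by omega)
  rcases Nat.eq_zero_or_pos k with rfl | hk
  · exact ⟨⟨p, hp, h9, Or.inl (by simpa using hF)⟩, equiv_of_index (by simpa using h3) e⟩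
  · rw [Nat.gcd_eq_left (by omega)] at h6
    have h7 := arith_odd (by omega) (by omega) (odd_two_mul_add_one k) h3 (h6 (by omega))
    rw [h7] at hF h3
    exact ⟨⟨p, hp, h9, Or.inr hF⟩, equiv_of_index
      ((Nat.prime_three.eq_one_or_self_of_dvd _ h3).resolve_right fun e => h2 (e ▸ dvd_rfl)) e⟩

end Cfsg.Agent.H66.DC
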