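import Cfsg.Agent.H66.DC2
import Cfsg.Agent.H61.Huppert2
import Cfsg.Agent.H29.SmallGroups
import Cfsg.Agent.S0205
import Cfsg.Prelude.Def_Perm

/-! Groups in which `p`-subgroups of equal order are conjugate: the affine case. -/

set_option autoImplicit false
set_option linter.unusedSectionVars false

namespace Cfsg.Agent.H66.DC

open Cfsg Cfsg.Agent.H63 Cfsg.Agent.H67 Subgroup
open scoped commutatorElement MatrixGroups

section Field

variable {F : Type*} [Field F]

theorem sa_unique {a b a' b' : F} {σ σ' : RingAut F} (ha : a ≠ 0)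
    (h : ∀ x, a * σ x + b = a' * σ' x + b') : a = a' ∧ b = b' ∧ σ = σ' := by
  obtain rfl : b = b' := by simpa using h 0
  obtain rfl : a = a' := by simpa using h 1
  exact ⟨rfl, rfl, RingEquiv.ext fun x => mul_left_cancel₀ ha (add_right_cancel (h x))⟩

theorem sa_pow {g : Equiv.Perm F} {a b : F} {σ : RingAut F} (ha : a ≠ 0)
    (h : ∀ x, g x = a * σ x + b) (n : ℕ) :
    ∃ a' b' : F, a' ≠ 0 ∧ ∀ x, (g ^ n) x = a' * (σ ^ n) x + b' := by
  induction n with
  | zero => exact ⟨1, 0, one_ne_zero, fun x => by simp⟩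
  | succ n ih =>
    obtain ⟨a', b', h1, h2⟩ := ih
    refine ⟨a * σ a', a * σ b' + b, mul_ne_zero ha (by simpa using h1), fun x => ?_⟩
    rw [pow_succ', pow_succ', Equiv.Perm.mul_apply, h, h2, map_add, map_mul]
    change _ = _ * σ ((σ ^ n) x) + _
    ring

/-- The permutation `x ↦ a σ(x) + b`. -/
def saPerm (a : Fˣ) (b : F) (σ : RingAut F) : Equiv.Perm F :=
  (σ.toEquiv.trans a.mulLeft).trans (Equiv.addRight b)

theorem saPerm_apply (a : Fˣ) (b : F) (σ : RingAut F) (x : F) : saPerm a b σ x = a * σ x + b := rfl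

theorem card_sa [Finite F] : Nat.card (semiaffineGroup F) =
    Nat.card F * ((Nat.card F - 1) * Nat.card (RingAut F)) := by
  rw [← Nat.card_units, ← Nat.card_prod, ← Nat.card_prod]
  refine (Nat.card_eq_of_bijective (fun z : F × Fˣ × RingAut F =>
    (⟨saPerm z.2.1 z.1 z.2.2, z.2.1, z.1, z.2.2, fun _ => rfl⟩ : semiaffineGroup F)) ⟨?_, ?_⟩).symm
  · rintro ⟨b, a, σ⟩ ⟨b', a', σ'⟩ e
    obtain ⟨h1, h2, h3⟩ := sa_unique a.ne_zero fun x =>
      (congrArg (fun g : semiaffineGroup F => g.1 x) e : a * σ x + b = a' * σ' x + b')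
    exact Prod.ext h2 (Prod.ext (Units.ext h1) h3)
  · rintro ⟨g, a, b, σ, h⟩
    exact ⟨(b, a, σ), Subtype.ext (Equiv.ext fun x => (h x).symm)⟩

theorem card_aff_le [Finite F] : Nat.card (affineGroup F) ≤ Nat.card F * (Nat.card F - 1) := by
  rw [← Nat.card_units, ← Nat.card_prod]
  refine Nat.card_le_card_of_surjective (fun z : F × Fˣ =>
    (⟨saPerm z.2 z.1 1, z.2, z.1, fun _ => rfl⟩ : affineGroup F)) ?_
  rintro ⟨g, a, b, h⟩
  exact ⟨(b, a), Subtype.ext (Equiv.ext fun x => (h x).symm)⟩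

end Field

/-- No nontrivial normal subgroup of odd order. -/
def NoOdd (G : Type*) [Group G] : Prop := ∀ N : Subgroup G, N.Normal → Odd (Nat.card N) → N = ⊥

variable {G : Type*} [Group G] [Finite G]

theorem NoOdd.core (hO : NoOdd G) {X : Subgroup G} (hX : N[X] = ⊤) : O[{2}ᶜ](X) = ⊥ :=
  hO _ (normalizer_eq_top_iff.1 (top_le_iff.1 (le_normalizer_piCoreOf hX.ge)))
    (Nat.coprime_two_right.1 ((isPi_compl_singleton_iff_coprime Nat.prime_two).1
      (isPi_piCoreOf _ X)))

theorem NoOdd.cent_le (hO : NoOdd G) {S : Subgroup G} [hn : S.Normal] (hS : IsSyl 2 S ⊤)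
    (hab : S ≤ C[S]) : C[S] ≤ S := by
  have h1 : IsSyl 2 S C[S] := hall_of_le hS hab le_top
  have h2 := (Burnside_normal_complement h1 inf_le_left).isSdp h1
  rw [hO.core (top_le_iff.1 (le_normalizer_centralizer (normalizer_eq_top_iff.2 hn).ge))] at h2
  exact h2.eq_of_bot_left.ge

theorem range_equiv {X : Type*} [Group X] {φ : G →* X} (hφ : Function.Injective φ)
    {A : Subgroup X} [Finite A] (h : ∀ g, φ g ∈ A) (hc : Nat.card A ≤ Nat.card G) :
    Nonempty (G ≃* A) :=
  ⟨MulEquiv.ofBijective (φ.codRestrict A h) (Function.Injective.bijective_of_nat_card_le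
    (fun _ _ e => hφ (congrArg Subtype.val e)) hc)⟩

theorem PC.embed (h : PC G) (hO : NoOdd G) {S : Subgroup G} [hn : S.Normal] (hS : IsSyl 2 S ⊤)
    (he : IsElementaryAbelian 2 S) {a : ℕ} (ha : 1 ≤ a) (hc : Nat.card S = 2 ^ a) :
    ∃ φ : G →* Equiv.Perm (GaloisField 2 a), Function.Injective φ ∧
      ∀ g, φ g ∈ semiaffineGroup (GaloisField 2 a) := by
  have hab : S ≤ C[S] := le_centralizer_iff_isMulCommutative.2 he.1
  obtain ⟨H, hH⟩ := exists_isSdp_of_normal_hall (hall_isHallOf hS)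
    ⟨le_top, (normalizer_eq_top_iff.2 hn).ge⟩
  have ho : Odd (Nat.card H) := Nat.coprime_two_right.1
    ((isPi_compl_singleton_iff_coprime Nat.prime_two).1 (hH.isPi_compl_of_hall_left hS))
  let _ : CommGroup S := { (inferInstance : Group S) with
    mul_comm := fun x y => Subtype.ext (comm_of_isMulCommutative he.1 x.2 y.2) }
  let cn : G →* MulAut S := MulAut.conjNormal
  let _ : DistribMulAction H (Additive S) :=
    { smul := fun g v => Additive.ofMul (cn g.1 v.toMul)
      one_smul := fun v => by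
        change Additive.ofMul (cn 1 v.toMul) = v
        simp
      mul_smul := fun a b v => by
        change Additive.ofMul (cn (a.1 * b.1) v.toMul) = Additive.ofMul (cn a.1 (cn b.1 v.toMul))
        simp
      smul_zero := fun a => by
        change Additive.ofMul (cn a.1 1) = 0
        simp
      smul_add := fun a v w => by
        change Additive.ofMul (cn a.1 (v.toMul * w.toMul)) =
          Additive.ofMul (cn a.1 v.toMul) + Additive.ofMul (cn a.1 w.toMul)
        simp }
  have hp : ∀ (g : H) (v : Additive S), ((g • v).toMul : G) = g.1 * v.toMul.1 * g.1⁻¹ :=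
    fun g v => rfl
  have hf : ∀ g : H, (∀ v : Additive S, g • v = v) → g = 1 := fun g hg =>
    Subtype.ext (hH.eq_one (hO.cent_le hS hab fun x hx => by
      have := hp g (Additive.ofMul ⟨x, hx⟩)
      rw [hg] at this
      exact eq_mul_inv_iff_mul_eq.1 this) g.2)
  have hTL : H61.IsTL H (Additive S) := ⟨hf, fun v w hv hw => by
    have h2 : ∀ u : Additive S, u ≠ 0 → orderOf (u.toMul : G) = 2 := fun u hu =>
      orderOf_eq_prime (he.2 _ u.toMul.2) fun e => hu (Subtype.ext e : u.toMul = 1)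
    obtain ⟨g, hg⟩ := h.conj_two (h2 v hv) (h2 w hw)
    obtain ⟨x, hx, k, hk, rfl⟩ := hH.exists_mul' (mem_top g)
    refine ⟨⟨x, hx⟩, (Subtype.ext ?_ : (_ : S) = w.toMul)⟩
    rw [← hg]
    refine (hp ⟨x, hx⟩ v).trans ?_
    conv_lhs => rw [← conj_eq_of_mem_centralizer (hab hk) v.toMul.2]
    simp only [mul_inv_rev, mul_assoc]⟩
  have h2 : 2 ∣ Nat.card S := hc ▸ dvd_pow_self 2 (by omega)
  have : Nontrivial S := Finite.one_lt_card_iff_nontrivial.1
    (Nat.le_of_dvd Nat.card_pos h2)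
  have hcA : Nat.card (Additive S) = 2 ^ a := hc
  obtain ⟨F, _, _, e₀, he₀⟩ := (hTL.huppert (S0205.result ho)).resolve_right (by
    intro h
    simp only [Set.mem_insert_iff, Set.mem_singleton_iff] at h
    rw [hcA, ← hc] at h
    omega)
  obtain ⟨ι⟩ := nonempty_galois (F := F) (p := 2) (n := a) (by omega)
    (by rw [← Nat.card_eq_fintype_card, ← Nat.card_congr e₀.toEquiv, hcA])
  let e := e₀.trans ι.toAddEquiv
  have he' : ∀ g : H, ∃ (c : (GaloisField 2 a)ˣ) (σ : RingAut (GaloisField 2 a)),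
      ∀ v, e (g • v) = c * σ (e v) := fun g => by
    obtain ⟨c, σ, hσ⟩ := he₀ g
    have h1 : c ≠ 0 := by
      rintro rfl
      obtain ⟨v, hv⟩ := exists_ne (0 : Additive S)
      have := hσ v
      rw [zero_mul, map_eq_zero_iff _ e₀.injective] at this
      exact hv ((smul_eq_zero_iff_eq g).1 this)
    refine ⟨Units.mk0 (ι c) (by simpa using h1), (ι.symm.trans σ).trans ι, fun v => ?_⟩
    change ι (e₀ (g • v)) = ι c * ι (σ (ι.symm (ι (e₀ v))))
    rw [hσ, map_mul, ι.symm_apply_apply]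
  let f₀ : Additive S ≃ G ⧸ H := Equiv.ofBijective (fun v => ((v.toMul : G) : G ⧸ H))
    ⟨fun u v huv => (Subtype.ext (inv_mul_eq_one.1 (hH.eq_one
      (mul_mem (inv_mem u.toMul.2) v.toMul.2) (QuotientGroup.eq.1 huv))) : u.toMul = v.toMul),
    fun x => by
      obtain ⟨g, rfl⟩ := QuotientGroup.mk_surjective x
      obtain ⟨k, hk, x, hx, rfl⟩ := hH.exists_mul (mem_top g)
      exact ⟨Additive.ofMul ⟨k, hk⟩, QuotientGroup.eq.2 (by simpa using hx)⟩⟩
  have key : ∀ (k : S) (x : H) (v : Additive S),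
      (k.1 * x.1) • f₀ v = f₀ (x • v + Additive.ofMul k) := fun k x v => by
    rw [add_comm]
    refine QuotientGroup.eq.2 ?_
    change (k.1 * x.1 * v.toMul.1)⁻¹ * (k.1 * (x.1 * v.toMul.1 * x.1⁻¹)) ∈ H
    simp [mul_assoc]
  let f := f₀.symm.trans e.toEquiv
  let φ : G →* Equiv.Perm (GaloisField 2 a) :=
    f.permCongrHom.toMonoidHom.comp (MulAction.toPermHom G (G ⧸ H))
  have hφ : ∀ (k : S) (x : H) (v : Additive S),
      φ (k.1 * x.1) (e v) = e (x • v) + e (Additive.ofMul k) := fun k x v => by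
    change e (f₀.symm ((k.1 * x.1) • f₀ (e.symm (e v)))) = _
    rw [e.symm_apply_apply, key, f₀.symm_apply_apply, map_add]
  refine ⟨φ, (injective_iff_map_eq_one φ).2 fun g hg => ?_, fun g => ?_⟩
  · obtain ⟨k, hk, x, hx, rfl⟩ := hH.exists_mul (mem_top g)
    have h1 := hφ ⟨k, hk⟩ ⟨x, hx⟩
    rw [hg] at h1
    have h3 : e (Additive.ofMul ⟨k, hk⟩) = 0 := by simpa using (h1 0).symm
    have h4 : k = 1 := congrArg Subtype.val
      ((map_eq_zero_iff _ e.injective).1 h3 : (⟨k, hk⟩ : S) = 1)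
    have h5 := hf ⟨x, hx⟩ fun v => e.injective (by simpa [h3] using (h1 v).symm)
    rw [h4, show x = 1 from congrArg Subtype.val h5, one_mul]
  · obtain ⟨k, hk, x, hx, rfl⟩ := hH.exists_mul (mem_top g)
    obtain ⟨c, σ, hσ⟩ := he' ⟨x, hx⟩
    refine ⟨c, e (Additive.ofMul ⟨k, hk⟩), σ, fun y => ?_⟩
    obtain ⟨v, rfl⟩ := e.surjective y
    rw [← hσ]
    exact hφ ⟨k, hk⟩ ⟨x, hx⟩ v

theorem PC.affine (h : PC G) (hO : NoOdd G) {S : Subgroup G} [hn : S.Normal] (hS : IsSyl 2 S ⊤)
    (he : IsElementaryAbelian 2 S) (h4 : 4 ∣ Nat.card S) :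
    (Nat.card S = 4 ∧ Nonempty (G ≃* alternatingGroup (Fin 4))) ∨ (8 ≤ Nat.card S ∧
      (Nonempty (G ≃* affineGroup (GaloisField 2 3)) ∨
        Nonempty (G ≃* semiaffineGroup (GaloisField 2 3)) ∨
        Nonempty (G ≃* semiaffineGroup (GaloisField 2 5)))) := by
  obtain ⟨a, hc⟩ := (syl_isPGroup hS).exists_card_eq
  have ha : 2 ≤ a := (Nat.pow_dvd_pow_iff_le_right one_lt_two).1 (hc ▸ h4 : 2 ^ 2 ∣ 2 ^ a)
  obtain ⟨φ, h1, h2⟩ := h.embed hO hS he (by omega) hc
  have := Fintype.ofFinite (GaloisField 2 a)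
  have hq : Nat.card (GaloisField 2 a) = 2 ^ a := GaloisField.card 2 a (by omega)
  have hr : Nat.card (RingAut (GaloisField 2 a)) = a :=
    H73.card_ringAut (Nat.card_eq_fintype_card.symm.trans hq)
  have h3 := card_sa (F := GaloisField 2 a)
  rw [hq, hr] at h3
  have h5 := card_dvd_of_injective (φ.codRestrict _ h2) fun _ _ e => h1 (congrArg Subtype.val e)
  have hG : Nat.card G = 2 ^ a * S.index := by rw [← hc, card_mul_index]
  rw [h3, hG] at h5
  have h6 := h.count hS he h4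
  rw [normalizer_eq_top_iff.2 hn, relIndex_top_right, hc] at h6
  have ho : Odd S.index := Nat.not_even_iff_odd.1 fun he => not_dvd_index_of_le hS le_rfl he.two_dvd
  have h7 := Nat.dvd_of_mul_dvd_mul_left (by positivity) h5
  rcases arith_two ha ho h7 h6 with rfl | ⟨rfl, h8 | h8⟩ | ⟨rfl, h8⟩
  · refine Or.inl ⟨hc, H29.nonempty_mulEquiv_A4 ?_ fun g hg => ?_⟩
    · have h8 : S.index ∣ 3 := (Nat.coprime_two_right.2 ho).dvd_of_dvd_mul_right h7
      rcases Nat.prime_three.eq_one_or_self_of_dvd _ h8 with h9 | h9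
      · exfalso
        obtain rfl := index_eq_one.1 h9
        obtain ⟨x, hx⟩ := exists_prime_orderOf_dvd_card' (G := G) 2 (by omega)
        have : (zpowers x).Normal := ⟨fun y hy g => by
          rwa [comm_of_isMulCommutative he.1 (mem_top g) (mem_top y), mul_inv_cancel_right]⟩
        have h11 := card_dvd_of_le (h.elem_le (N := zpowers x) Nat.prime_two
          (by rw [Nat.card_zpowers, hx]) he)
        rw [Nat.card_zpowers, hx, hc] at h11
        omega
      · omega
    · have h8 : S.index ≤ 3 := Nat.le_of_dvd (by decide)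
        ((Nat.coprime_two_right.2 ho).dvd_of_dvd_mul_right h7)
      have h9 := (zpowers g).card_mul_index
      rw [Nat.card_zpowers, hg] at h9
      have h10 : (zpowers g).index = 2 := by omega
      have := normal_of_index_eq_two h10
      have h11 := card_dvd_of_le (h.elem_le (N := zpowers g) Nat.prime_two
        (by rw [Nat.card_zpowers, hg]; decide) he)
      rw [Nat.card_zpowers, hg, hc] at h11
      omega
  · refine Or.inr ⟨hc.ge, Or.inl (range_equiv h1 (fun g => ?_) (card_aff_le.trans ?_))⟩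
    · obtain ⟨c, b, σ, hσ⟩ := h2 g
      obtain ⟨a', b', h9, h10⟩ := sa_pow c.ne_zero hσ (Nat.card G)
      rw [← map_pow, pow_card_eq_one', map_one] at h10
      have h11 := (sa_unique (σ' := 1) (a' := 1) (b' := 0) h9 fun x =>
        (h10 x).symm.trans (by simp)).2.2
      have h12 : σ = 1 := by
        rw [← orderOf_eq_one_iff]
        refine Nat.eq_one_of_dvd_coprimes (show (Nat.card G).Coprime 3 by rw [hG, h8]; decide)
          (orderOf_dvd_of_pow_eq_one h11) ((_root_.orderOf_dvd_natCard (σ : RingAut _)).trans hr.dvd)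
      exact ⟨c, b, fun x => by rw [hσ, h12]; rfl⟩
    · rw [hq, hG, h8]
      decide
  · exact Or.inr ⟨hc.ge, Or.inr (Or.inl (range_equiv h1 h2 (by rw [h3, hG, h8]; decide)))⟩
  · exact Or.inr ⟨by omega, Or.inr (Or.inr (range_equiv h1 h2 (by rw [h3, hG, h8]; decide)))⟩

end Cfsg.Agent.H66.DC
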