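import Cfsg.Agent.H34.TwDefs
import Cfsg.Agent.H35.NFa
import Cfsg.Agent.H35.PinRec
import Cfsg.Agent.H37.TwAut

/-!
# The twisted subgroup of a group with Steinberg's relations: the twist
-/

set_option autoImplicit false
set_option linter.unusedSectionVars false
set_option linter.style.haveILetI false

namespace Cfsg.Agent.H66.TM

open Cfsg Cfsg.Agent.H63 Cfsg.Agent.H63.SL Cfsg.Agent.H34 Cfsg.Agent.H40 Cfsg.Agent.H80
  Cfsg.Agent.H75 Cfsg.Agent.H34.TW Cfsg.Agent.H35 Cfsg.Agent.H35.PinM Subgroup Equiv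
open Cfsg.Agent.H40.LF (mem_XR x_mem_XR x_mem_UU UU_le UU_eq_gen)
open scoped commutatorElement

universe u v w

variable {ι Φ : Type} [Fintype ι] [DecidableEq ι] {R : RS ι Φ} {γ : Perm Φ}

/-! ### Roots -/

theorem exists_sym (h : Lace R) (hγ : Diag R γ) : ∃ T : (sgn R).Sym, T.ρ = γ := by
  obtain ⟨π, hπ⟩ := id hγ
  have h1 : ∀ i, γ (R.simple i) = R.simple (π i) := fun i => R.rc_inj (funext fun k => by
    obtain ⟨k, rfl⟩ := π.surjective k
    simp [hπ, R.rc_simple, Pi.single_apply])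
  refine ⟨⟨γ, π, NF.diag_pos hγ, h1, fun i => ?_⟩, rfl⟩
  have := NF.au_τ h (NF.au_diag hγ) (R.simple i)
  rw [h1, R.τ_simple, R.τ_simple] at this
  rw [sgn_s, ← this, inv_mul_cancel_right]

section roots

variable (tl : TL R γ)
include tl

theorem gneg (r : Φ) : γ (R.neg r) = R.neg (γ r) := (LF.linP_diag tl.diag).1.neg r

theorem gpair (r s : Φ) : R.pair (γ r) (γ s) = R.pair r s :=
  NF.au_pair tl.lace (NF.au_diag tl.diag) r s

theorem gpair' (r s : Φ) : R.pair (γ r) s = R.pair r (γ s) := by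
  rw [← gpair tl, tl.sq]

theorem gsum {r s k : Φ} (e : R.rc k = R.rc r + R.rc s) :
    R.rc (γ k) = R.rc (γ r) + R.rc (γ s) := (LF.linP_diag tl.diag).1.sum e

theorem gshort {r : Φ} (h : γ r ≠ r) : γ (γ r) ≠ γ r := fun e => h (γ.injective e)

variable {T : (sgn R).Sym} (hρ : T.ρ = γ)
include hρ

omit tl in
theorem gsimple (i : ι) : γ (R.simple i) = R.simple (T.π i) := hρ ▸ T.ρ_α i

theorem orb_iff {i j : ι} : j ∈ T.orb i ↔ Orb R γ i j := by
  constructor
  · intro h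
    refine (T.iff_of_mem_orb (P := fun j => Orb R γ i j) (fun k => ?_) h).2 (Or.inl rfl)
    simp only [Orb, ← gsimple hρ]
    constructor
    · rintro (e | e)
      · exact Or.inr (by rw [← e, tl.sq])
      · exact Or.inl (γ.injective e)
    · rintro (e | e)
      · exact Or.inr (by rw [e])
      · exact Or.inl (by rw [e, tl.sq])
  · rintro (e | e)
    · rw [R.simple_inj e]; exact T.mem_orb_self i
    · rw [gsimple hρ] at e
      rw [R.simple_inj e]; exact ⟨1, by simp⟩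

theorem phi_pos {i : ι} {r : Φ} (hr : r ∈ (sgn R).Phi (T.orb i)) (hp : R.Pos r) :
    r = R.simple i ∨ r = γ (R.simple i) := by
  obtain ⟨k, h1, -⟩ := hp.exists_wt_pos
  have hk : k ∈ T.orb i := by
    by_contra e
    have := (mem_Phi_iff R).1 hr k e
    omega
  have h2 : R.pair (R.simple k) r = 2 * R.rc r k := by
    rw [R.pair_simple_left, R.wt_def, Finset.sum_eq_single k, R.A_self, mul_comm]
    · intro j _ hj
      by_cases hj' : j ∈ T.orb i
      · rw [← T.orb_eq_of_mem hk, orb_iff tl hρ] at hj'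
        rcases hj' with e | e
        · exact absurd (R.simple_inj e) hj
        · rw [← R.pair_simple_simple, e, tl.orth _ fun e' => hj (R.simple_inj (e.trans e')), mul_zero]
      · rw [(mem_Phi_iff R).1 hr j hj', zero_mul]
    · simp
  rw [SL.eq_of_two_le tl.lace (r := R.simple k) (s := r) (by omega)]
  exact (orb_iff tl hρ).1 hk

theorem phi_neg {i : ι} {r : Φ} (hr : r ∈ (sgn R).Phi (T.orb i)) (hp : ¬ R.Pos r) :
    r = R.neg (R.simple i) ∨ r = γ (R.neg (R.simple i)) := by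
  rw [gneg tl, ← R.neg_eq_iff, ← R.neg_eq_iff]
  exact phi_pos tl hρ ((sgn R).neg_mem_Phi hr) ((R.pos_neg_iff r).2 hp)

omit tl in
theorem simple_mem_phi (i : ι) : R.simple i ∈ (sgn R).Phi (T.orb i) :=
  (sgn R).α_mem_Phi (T.mem_orb_self i)

omit tl in
theorem g_mem_phi {i : ι} {r : Φ} (hr : r ∈ (sgn R).Phi (T.orb i)) : γ r ∈ (sgn R).Phi (T.orb i) :=
  hρ ▸ T.ρ_mem_Phi (T.stable_orb i) hr

theorem wJ_long [Finite Φ] {i : ι} (h : γ (R.simple i) = R.simple i) :
    (sgn R).wJ (T.orb i) = R.τ (R.simple i) := by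
  rw [show T.orb i = {i} from Set.ext fun j => by
    rw [orb_iff tl hρ, Orb, h, or_self]; exact R.simple_inj.eq_iff, (sgn R).wJ_singleton, R.τ_simple]
  rfl

theorem wJ_short [Finite Φ] {i : ι} (h : γ (R.simple i) ≠ R.simple i) :
    (sgn R).wJ (T.orb i) = R.τ (R.simple i) * R.τ (γ (R.simple i)) := by
  have h0 := tl.orth _ h
  have h1 : ∀ r s, R.pair r s = 0 → R.τ r s = s := fun r s e => R.rc_inj (by simp [R.rc_τ, e])
  refine ((sgn R).eq_wJ ?_ fun j hj => ?_).symm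
  · rw [gsimple hρ, R.τ_simple, R.τ_simple]
    exact mul_mem ((sgn R).s_mem_WJ (T.mem_orb_self i))
      ((sgn R).s_mem_WJ ((orb_iff tl hρ).2 (Or.inr (gsimple hρ i).symm)))
  · rw [sgn_pos, sgn_α, Perm.mul_apply]
    rcases (orb_iff tl hρ).1 hj with e | e
    · rw [e, h1 (γ (R.simple i)) _ (by rw [SL.symm tl.lace, h0]), R.τ_self]
      exact R.not_pos_neg_simple i
    · rw [e, R.τ_self, h1 _ _ (by rw [R.pair_neg_right, h0, neg_zero]), ← e]
      exact R.not_pos_neg_simple j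

theorem orb_of_wJ [Finite Φ] {i j : ι} (e : (sgn R).wJ (T.orb i) = (sgn R).wJ (T.orb j)) :
    Orb R γ i j := by
  have : R.simple j ∈ (sgn R).inv ((sgn R).wJ (T.orb i)) := by
    rw [e, (sgn R).inv_wJ]; exact ⟨simple_mem_phi hρ j, R.pos_simple j⟩
  rw [(sgn R).inv_wJ] at this
  exact phi_pos tl hρ this.1 this.2

theorem wJ_comm [Finite Φ] {i j : ι} (e : ¬ Adj R γ i j) :
    (sgn R).wJ (T.orb i) * (sgn R).wJ (T.orb j) = (sgn R).wJ (T.orb j) * (sgn R).wJ (T.orb i) := by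
  rw [Adj, not_or, not_not, not_not] at e
  have h1 : ∀ r s, R.pair r s = 0 → Commute (R.τ r) (R.τ s) := fun r s e => by
    have := R.conj_τ (R.τ_mem_W r) s
    rw [show R.τ r s = s from R.rc_inj (by simp [R.rc_τ, e])] at this
    exact mul_inv_eq_iff_eq_mul.1 this
  have a1 := h1 _ _ e.1
  have a2 := h1 _ _ e.2
  have a3 := h1 _ _ ((gpair' tl _ _).trans e.2)
  have a4 := h1 _ _ ((gpair tl _ _).trans e.1)
  by_cases hi : γ (R.simple i) = R.simple i <;> by_cases hj : γ (R.simple j) = R.simple j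
  · rw [wJ_long tl hρ hi, wJ_long tl hρ hj]; exact a1
  · rw [wJ_long tl hρ hi, wJ_short tl hρ hj]; exact a1.mul_right a2
  · rw [wJ_short tl hρ hi, wJ_long tl hρ hj]; exact a1.mul_left a3
  · rw [wJ_short tl hρ hi, wJ_short tl hρ hj]; exact (a1.mul_right a2).mul_left (a3.mul_right a4)

theorem orb_of_comm [Finite Φ] {i j : ι} (a : Adj R γ i j)
    (e : (sgn R).wJ (T.orb i) * (sgn R).wJ (T.orb j) = (sgn R).wJ (T.orb j) * (sgn R).wJ (T.orb i)) :
    Orb R γ i j := by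
  by_contra hne
  have hd : ∀ k, k ∈ T.orb i → k ∉ T.orb j := fun k h1 h2 => hne ((orb_iff tl hρ).1 (by
    rw [← T.orb_eq_of_mem h1, T.orb_eq_of_mem h2]; exact T.mem_orb_self j))
  have hp : ∀ r ∈ (sgn R).Phi (T.orb i), R.Pos r → R.Pos ((sgn R).wJ (T.orb j) r) := fun r hr hp => by
    by_contra h
    have : r ∈ (sgn R).inv ((sgn R).wJ (T.orb j)) := ⟨hp, h⟩
    rw [(sgn R).inv_wJ] at this
    obtain ⟨k, hk⟩ := hp.exists_coord_pos
    by_cases h1 : k ∈ T.orb i
    · have := (mem_Phi_iff R).1 this.1 k (hd k h1); omega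
    · have := (mem_Phi_iff R).1 hr k h1; omega
  have h1 := hp _ (simple_mem_phi hρ i) (R.pos_simple i)
  have h2 : (sgn R).wJ (T.orb j) (R.simple i) ∈ (sgn R).inv ((sgn R).wJ (T.orb i)) := by
    refine ⟨h1, ?_⟩
    have h3 := hp _ ((sgn R).neg_mem_Phi ((sgn R).map_mem_Phi ((sgn R).wJ_mem _) (simple_mem_phi hρ i)))
      ((R.pos_neg_iff _).2 fun h => ((sgn R).pos_wJ_iff (simple_mem_phi hρ i)).1 h (R.pos_simple i))
    rw [sgn_neg, R.W_neg ((sgn R).wJ_mem_W _), R.pos_neg_iff, ← Perm.mul_apply, ← e] at h3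
    exact h3
  rw [(sgn R).inv_wJ] at h2
  have h3 : ∀ k ∈ T.orb j, R.rc ((sgn R).wJ (T.orb j) (R.simple i)) k = 0 := fun k hk =>
    (mem_Phi_iff R).1 h2.1 k fun h => hd k h hk
  have hj := T.mem_orb_self j
  have hij : j ≠ i := fun e => hd j (e ▸ hj) hj
  by_cases hl : γ (R.simple j) = R.simple j
  · have := h3 j hj
    rw [wJ_long tl hρ hl, R.rc_τ, SL.symm tl.lace] at this
    rw [Adj, hl, or_self] at a
    simp [R.rc_simple, hij, a] at this
  · have hj' : T.π j ∈ T.orb j := (orb_iff tl hρ).2 (Or.inr (gsimple hρ j).symm)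
    have hij' : T.π j ≠ i := fun e => hd i (T.mem_orb_self i) (e ▸ hj')
    have hjj : T.π j ≠ j := fun e => hl (by rw [gsimple hρ, e])
    have b1 := h3 j hj
    have b2 := h3 _ hj'
    rw [wJ_short tl hρ hl, Perm.mul_apply, R.rc_τ, R.rc_τ, SL.pair_τ, tl.orth _ hl, gsimple hρ,
      SL.symm tl.lace (R.simple j), SL.symm tl.lace (R.simple (T.π j))] at b1 b2
    rw [Adj, gsimple hρ] at a
    simp [R.rc_simple, hij, hij', hjj, hjj.symm] at b1 b2
    exact a.elim (fun a => a b1) fun a => a b2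

end roots

/-! ### Automorphisms from pinnings -/

variable {E : Type v} [Field E] [Finite E] {H : Type w} [Group H] [Finite H] {x : Φ → E → H}

theorem exists_aut (h : Lace R) (p : Pin R x) (gen : UU x Set.univ = ⊤) (hZ : center H = ⊥)
    {y : Φ → E → H} (q : Pin R y) (gen' : UU y Set.univ = ⊤) :
    ∃ θ : MulAut H, ∀ r a, θ (x r a) = y r a := by
  have pz : Pin R fun r a => (x r a, y r a) :=
    { two := p.two
      add := fun r a b => Prod.ext (p.add r a b) (q.add r a b)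
      com := fun r s e a b => Prod.ext (p.com r s e a b) (q.com r s e a b)
      rel := fun r s k e a b => Prod.ext (p.rel r s k e a b) (q.rel r s k e a b)
      inj := fun r a e => p.inj r a (congrArg Prod.fst e) }
  have hq := quasisimple_UU h pz
  haveI := H52.IsQuasisimple.nontrivial (quasisimple h p gen)
  set K := UU (fun r a => (x r a, y r a)) Set.univ
  let f : K →* H := (MonoidHom.fst H H).comp K.subtype
  let g : K →* H := (MonoidHom.snd H H).comp K.subtype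
  have hf : Function.Surjective f := MonoidHom.range_eq_top.1 (eq_top_iff.2 (gen.ge.trans
    (UU_le fun r _ a => ⟨⟨_, mem_UU_univ (x := fun r a => (x r a, y r a)) r a⟩, rfl⟩)))
  have hg : Function.Surjective g := MonoidHom.range_eq_top.1 (eq_top_iff.2 (gen'.ge.trans
    (UU_le fun r _ a => ⟨⟨_, mem_UU_univ (x := fun r a => (x r a, y r a)) r a⟩, rfl⟩)))
  have key : ∀ f g : K →* H, Function.Surjective f → Function.Surjective g →
      (∀ k, f k = 1 → g k = 1 → k = 1) → Function.Injective f := fun f g hf hg e => by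
    rw [← MonoidHom.ker_eq_bot_iff, eq_bot_iff]
    intro k hk
    have h1 := (H52.IsQuasisimple.normal_eq_top_or_le_center hq f.ker).resolve_left (fun e' => by
      obtain ⟨a, ha⟩ := exists_ne (1 : H)
      obtain ⟨a, rfl⟩ := hf a
      exact ha (e'.ge (mem_top a))) hk
    refine e k hk (mem_bot.1 (hZ ▸ mem_center_iff.2 fun a => ?_))
    obtain ⟨a, rfl⟩ := hg a
    rw [← map_mul, ← map_mul, mem_center_iff.1 h1]
  have f1 := key f g hf hg fun k a b => Subtype.ext (Prod.ext a b)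
  have g1 := key g f hg hf fun k a b => Subtype.ext (Prod.ext b a)
  refine ⟨(MulEquiv.ofBijective f ⟨f1, hf⟩).symm.trans (MulEquiv.ofBijective g ⟨g1, hg⟩), fun r a => ?_⟩
  have : (MulEquiv.ofBijective f ⟨f1, hf⟩).symm (x r a) =
      ⟨_, mem_UU_univ (x := fun r a => (x r a, y r a)) r a⟩ := by
    rw [MulEquiv.symm_apply_eq]; rfl
  rw [MulEquiv.trans_apply, this]; rfl

/-- Graph, diagonal and field automorphisms exist. -/
theorem exists_frame (h : Lace R) (p : Pin R x) (gen : UU x Set.univ = ⊤) (hZ : center H = ⊥)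
    {δ : Perm Φ} (hδ : Diag R δ) (φ : E ≃+* E) (χ : Φ → Eˣ)
    (hχ : ∀ r s k, R.rc k = R.rc r + R.rc s → χ k = χ r * χ s) :
    ∃ θ : MulAut H, ∀ r a, θ (x r a) = x (δ r) (χ r * φ a) := by
  refine exists_aut h p gen hZ ⟨p.two, fun r a b => by rw [map_add, mul_add, p.add], fun r s e a b =>
    p.com _ _ (by rwa [NF.au_pair h (NF.au_diag hδ)]) _ _, fun r s k e a b => ?_, fun r a e => ?_⟩ ?_
  · rw [p.rel _ _ _ ((LF.linP_diag hδ).1.sum e), hχ r s k e, Units.val_mul, map_mul, mul_mul_mul_comm]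
  · simpa using p.inj _ _ e
  · refine eq_top_iff.2 (gen.ge.trans (UU_le fun r _ a => ?_))
    have := mem_UU_univ (x := fun r a => x (δ r) (χ r * φ a)) (δ⁻¹ r) (φ.symm (↑(χ (δ⁻¹ r))⁻¹ * a))
    simpa using this

theorem aut_ext (gen : UU x Set.univ = ⊤) {θ θ' : MulAut H} (e : ∀ r a, θ (x r a) = θ' (x r a)) :
    θ = θ' :=
  MulEquiv.ext fun g => (gen.ge.trans (UU_le (K := θ.toMonoidHom.eqLocus θ'.toMonoidHom)
    fun r _ a => e r a)) (mem_top g)

/-! ### The twisted root elements -/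

open Classical in
/-- The twisted root element. -/
noncomputable def zz (γ : Perm Φ) (σ : E ≃+* E) (x : Φ → E → H) (r : Φ) (β : E) : H :=
  if γ r = r then x r β else x r β * x (γ r) (σ β)

theorem eqns_zz : True := by
  have := @zz.eq_1.{0, 0}
  trivial

variable {σ : E ≃+* E}

theorem zz_long {r : Φ} (h : γ r = r) (β : E) : zz γ σ x r β = x r β := if_pos h

theorem zz_short {r : Φ} (h : γ r ≠ r) (β : E) : zz γ σ x r β = x r β * x (γ r) (σ β) := if_neg h

theorem zz_mem_UU {A : Set Φ} {r : Φ} (h1 : r ∈ A) (h2 : γ r ∈ A) (β : E) : zz γ σ x r β ∈ UU x A := by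
  by_cases h : γ r = r
  · rw [zz_long h]; exact x_mem_UU h1 _
  · rw [zz_short h]; exact mul_mem (x_mem_UU h1 _) (x_mem_UU h2 _)

theorem zz_map {θ : H → H} (hθ : ∀ a b, θ (a * b) = θ a * θ b) {r : Φ} {f g : E → E}
    (h1 : ∀ a, θ (x r a) = x r (f a)) (h2 : ∀ a, θ (x (γ r) a) = x (γ r) (g a))
    (h3 : ∀ a, g (σ a) = σ (f a)) (β : E) : θ (zz γ σ x r β) = zz γ σ x r (f β) := by
  by_cases h : γ r = r
  · rw [zz_long h, zz_long h, h1]
  · rw [zz_short h, zz_short h, hθ, h1, h2, h3]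

variable {F : Type v} [Field F] {i : F →+* E}

theorem zz_mem_TG (qf : QF i σ) {r : Φ} {β : E} (hβ : γ r = r → σ β = β) :
    zz γ σ x r β ∈ TG γ i σ x := by
  by_cases h : γ r = r
  · obtain ⟨b, rfl⟩ := (qf.fix β).1 (hβ h)
    exact subset_closure (Or.inl ⟨r, h, b, zz_long h _⟩)
  · exact subset_closure (Or.inr ⟨r, h, β, zz_short h _⟩)

theorem TG_le (qf : QF i σ) {K : Subgroup H}
    (h : ∀ r β, (γ r = r → σ β = β) → zz γ σ x r β ∈ K) : TG γ i σ x ≤ K := by
  refine (closure_le _).2 ?_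
  rintro _ (⟨r, hr, a, rfl⟩ | ⟨r, hr, a, rfl⟩)
  · rw [← zz_long (x := x) (σ := σ) hr]; exact h r _ fun _ => (qf.fix _).2 ⟨a, rfl⟩
  · rw [← zz_short (x := x) hr]; exact h r _ fun e => absurd e hr

variable (tl : TL R γ) (p : Pin R x) (gen : UU x Set.univ = ⊤)
include tl p

theorem gcom {r : Φ} (h : γ r ≠ r) (a b : E) : Commute (x r a) (x (γ r) b) :=
  p.com _ _ (tl.orth r h).ge a b

theorem zz_add (r : Φ) (a b : E) : zz γ σ x r (a + b) = zz γ σ x r a * zz γ σ x r b := by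
  by_cases h : γ r = r
  · simp only [zz_long h, p.add]
  · simp only [zz_short h, p.add, map_add]
    exact (gcom tl p h _ _).mul_mul_mul_comm _ _

theorem zz_zero (r : Φ) : zz γ σ x r 0 = 1 := by
  have := zz_add (σ := σ) tl p r 0 0
  rwa [add_zero, left_eq_mul] at this

theorem zz_sq (r : Φ) (a : E) : zz γ σ x r a * zz γ σ x r a = 1 := by
  rw [← zz_add tl p, ← two_mul, p.two, zero_mul, zz_zero tl p]

include gen

theorem two_inj {r s : Φ} (h : r ≠ s) {a b a' b' : E} (e : x r a * x s b = x r a' * x s b') :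
    a = a' ∧ b = b' := by
  haveI := tl.lace.fin
  have e1 : x r (-a' + a) = x s (b' + -b) := by
    rw [p.add, p.add, LF.x_neg p, LF.x_neg p, inv_mul_eq_iff_eq_mul, ← mul_assoc, ← e,
      mul_inv_cancel_right]
  have e2 : x r (-a' + a) = 1 := by
    by_contra e2
    exact h (Split.eq_of_mem_X (P := spl tl.lace p gen (center_odd tl.lace p gen))
      (x_mem_XR r _) (e1 ▸ x_mem_XR s _) e2)
  exact ⟨(neg_add_eq_zero.1 (p.inj _ _ e2)).symm, (add_neg_eq_zero.1 (p.inj _ _ (e1 ▸ e2))).symm⟩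

theorem zz_inj {r : Φ} {a b : E} (e : zz γ σ x r a = zz γ σ x r b) : a = b := by
  by_cases h : γ r = r
  · rw [zz_long h, zz_long h] at e
    exact LF.x_inj p e
  · rw [zz_short h, zz_short h] at e
    exact (two_inj tl p gen (Ne.symm h) e).1

variable (qf : QF i σ) {t : MulAut H} (ht : ∀ r a, t (x r a) = x (γ r) (σ a))
include qf ht

omit gen in
theorem zz_fix {r : Φ} {β : E} (hβ : γ r = r → σ β = β) : t (zz γ σ x r β) = zz γ σ x r β := by
  by_cases h : γ r = r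
  · rw [zz_long h, ht, h, hβ h]
  · rw [zz_short h, map_mul, ht, ht, tl.sq, qf.sq, (gcom tl p h _ _).eq]

omit qf in
theorem exists_zz {A : Set Φ} {r : Φ} (hA : ∀ s ∈ A, s = r ∨ s = γ r) {g : H} (hg : g ∈ UU x A)
    (hf : t g = g) : ∃ β, (γ r = r → σ β = β) ∧ g = zz γ σ x r β := by
  by_cases h : γ r = r
  · obtain ⟨a, rfl⟩ := (mem_XR p).1 (UU_le (K := XR x r) (fun s hs a => by
      rw [show s = r by simpa [h] using hA s hs]; exact x_mem_XR r a) hg)
    rw [ht, h] at hf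
    exact ⟨a, fun _ => LF.x_inj p hf, (zz_long h a).symm⟩
  · let K : Subgroup H :=
      { carrier := {g | ∃ a b, g = x r a * x (γ r) b}
        one_mem' := ⟨0, 0, by rw [SL.x_zero p, SL.x_zero p, one_mul]⟩
        mul_mem' := by
          rintro _ _ ⟨a, b, rfl⟩ ⟨a', b', rfl⟩
          exact ⟨a + a', b + b', by
            rw [p.add, p.add]; exact (gcom tl p h _ _).symm.mul_mul_mul_comm _ _⟩
        inv_mem' := by
          rintro _ ⟨a, b, rfl⟩
          exact ⟨-a, -b, by rw [LF.x_neg p, LF.x_neg p, (gcom tl p h _ _).eq, mul_inv_rev]⟩ }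
    obtain ⟨a, b, rfl⟩ := UU_le (K := K) (fun s hs a => by
      rcases hA s hs with rfl | rfl
      · exact ⟨a, 0, by rw [SL.x_zero p, mul_one]⟩
      · exact ⟨0, a, by rw [SL.x_zero p, one_mul]⟩) hg
    rw [map_mul, ht, ht, tl.sq, ← (gcom tl p h _ _).eq] at hf
    exact ⟨a, fun e => absurd e h, by rw [zz_short h, (two_inj tl p gen (Ne.symm h) hf).2]⟩

omit gen qf in
theorem t_Dg {g : H} (hg : g ∈ Dg x) : t g ∈ Dg x := by
  obtain ⟨χ, e⟩ := hg
  refine ⟨fun r => Units.map (σ : E →* E) (χ (γ r)), fun r a => ?_⟩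
  have := congrArg t (e (γ r) (σ.symm a))
  simpa [ht, tl.sq] using this

/-- The twist. -/
theorem exists_twist (hz : ∀ z ∈ center H, Odd (orderOf z)) :
    ∃ τ : (spl tl.lace p gen hz).Twist, τ.T.ρ = γ ∧ ∀ g, τ.σ g = t g := by
  haveI := tl.lace.fin
  obtain ⟨T, hρ⟩ := exists_sym tl.lace tl.diag
  refine ⟨(rdl tl.lace p gen hz).twist T t.toMonoidHom (fun r g hg => ?_) (fun g hg => t_Dg tl p ht hg)
    (fun k => ?_) fun k => ?_, hρ, fun _ => rfl⟩
  · obtain ⟨a, rfl⟩ := (mem_XR p).1 hg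
    rw [hρ]
    show t _ ∈ XR x _
    rw [ht]; exact x_mem_XR _ _
  · have : t (nn R x (R.simple k) 1) = nn R x (R.simple (T.π k)) 1 := by
      simp [nn, ht, gneg tl, gsimple hρ]
    show t (nn R x (R.simple k) 1) * (nn R x (R.simple (T.π k)) 1)⁻¹ ∈ Dg x
    rw [this, mul_inv_cancel]; exact one_mem _
  · have h1 := (sgn R).neg_mem_Phi (simple_mem_phi hρ k)
    refine ⟨zz γ σ x (R.neg (R.simple k)) 1, zz_mem_UU (A := {r | r ∈ (sgn R).Phi (T.orb k) ∧ ¬ R.Pos r})
      ⟨h1, R.not_pos_neg_simple k⟩ ⟨g_mem_phi hρ h1, by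
        rw [NF.diag_pos tl.diag]; exact R.not_pos_neg_simple k⟩ _, fun e => one_ne_zero
      (zz_inj tl p gen (e.trans (zz_zero tl p _).symm)), zz_fix tl p qf ht fun _ => map_one σ⟩

variable {hz : ∀ z ∈ center H, Odd (orderOf z)} {τ : (spl tl.lace p gen hz).Twist} (hρ : τ.T.ρ = γ)
  (hσ : ∀ g, τ.σ g = t g)
include hρ hσ

theorem mem_UJ {k : ι} {g : H} :
    g ∈ τ.UJ k ↔ ∃ β, (γ (R.simple k) = R.simple k → σ β = β) ∧ g = zz γ σ x (R.simple k) β := by
  constructor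
  · intro hg
    exact exists_zz tl p gen ht (fun s hs => phi_pos tl hρ hs.1 hs.2) hg.1 ((hσ g).symm.trans hg.2)
  · rintro ⟨β, hβ, rfl⟩
    have h1 := simple_mem_phi hρ k
    exact ⟨zz_mem_UU (A := {r | r ∈ (sgn R).Phi (τ.T.orb k) ∧ R.Pos r}) ⟨h1, R.pos_simple k⟩
      ⟨g_mem_phi hρ h1, (NF.diag_pos tl.diag _).2 (R.pos_simple k)⟩ _,
      (hσ _).trans (zz_fix tl p qf ht hβ)⟩

theorem G1_eq : τ.G1 = TG γ i σ x := by
  haveI := tl.lace.fin
  refine le_antisymm (τ.G1_le (fun k g hg => ?_) fun k g hg => ?_) (TG_le qf fun r β hβ => ?_)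
  · obtain ⟨β, hβ, rfl⟩ := (mem_UJ tl p gen qf ht hρ hσ).1 hg
    exact zz_mem_TG qf hβ
  · obtain ⟨β, hβ, rfl⟩ := exists_zz tl p gen ht (fun s hs => phi_neg tl hρ hs.1 hs.2) hg.1
      ((hσ g).symm.trans hg.2)
    exact zz_mem_TG qf hβ
  · have hf : zz γ σ x r β ∈ τ.fix := (hσ _).trans (zz_fix tl p qf ht hβ)
    by_cases hr : R.Pos r
    · exact τ.Up_le_G1 ⟨zz_mem_UU (A := {r | R.Pos r}) hr ((NF.diag_pos tl.diag _).2 hr) _, hf⟩
    · exact τ.Vn_le_G1 ⟨zz_mem_UU (A := {r | ¬ R.Pos r}) hr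
        (fun h => hr ((NF.diag_pos tl.diag _).1 h)) _, hf⟩

theorem card_UJ_long {k : ι} (h : γ (R.simple k) = R.simple k) : Nat.card (τ.UJ k) = Nat.card F :=
  (Nat.card_congr (Equiv.ofBijective (fun a : F => (⟨_, (mem_UJ tl p gen qf ht hρ hσ).2
    ⟨i a, fun _ => (qf.fix _).2 ⟨a, rfl⟩, rfl⟩⟩ : τ.UJ k))
    ⟨fun _ _ e => i.injective (zz_inj tl p gen (congrArg Subtype.val e)), fun g => by
      obtain ⟨β, hβ, e⟩ := (mem_UJ tl p gen qf ht hρ hσ).1 g.2
      obtain ⟨a, rfl⟩ := (qf.fix _).1 (hβ h)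
      exact ⟨a, Subtype.ext e.symm⟩⟩)).symm

theorem card_UJ_short {k : ι} (h : γ (R.simple k) ≠ R.simple k) : Nat.card (τ.UJ k) = Nat.card E :=
  (Nat.card_congr (Equiv.ofBijective (fun a : E => (⟨_, (mem_UJ tl p gen qf ht hρ hσ).2
    ⟨a, fun e => absurd e h, rfl⟩⟩ : τ.UJ k))
    ⟨fun _ _ e => zz_inj tl p gen (congrArg Subtype.val e), fun g => by
      obtain ⟨β, -, e⟩ := (mem_UJ tl p gen qf ht hρ hσ).1 g.2
      exact ⟨β, Subtype.ext e.symm⟩⟩)).symm

theorem long_of_card {k l : ι} (e : Nat.card (τ.UJ k) = Nat.card (τ.UJ l))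
    (h : γ (R.simple k) = R.simple k) : γ (R.simple l) = R.simple l := by
  by_contra h'
  haveI : Finite F := Finite.of_injective i i.injective
  rw [card_UJ_long tl p gen qf ht hρ hσ h, card_UJ_short tl p gen qf ht hρ hσ h', qf.card] at e
  have := Finite.one_lt_card (α := F)
  nlinarith

end Cfsg.Agent.H66.TM
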