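import Cfsg.Agent.H43.FamA
import Cfsg.Agent.H66.TwM1
import Cfsg.Agent.H31.WrCls

/-!
# Transport of the action of `N(L)` to a centreless model of `L`
-/

set_option autoImplicit false
set_option linter.unusedSectionVars false

namespace Cfsg.Agent.H66.DnT

open Cfsg Cfsg.Agent.H63 Cfsg.Agent.H63.SL Cfsg.Agent.H63.WR Cfsg.Agent.H34 Cfsg.Agent.H40
  Cfsg.Agent.H35 Cfsg.Agent.H35.PinM Subgroup Equiv
open Cfsg.Agent.H27.End (conj_mem mem_C1 comm_of_C mem_C)
open Cfsg.Agent.H40.LF (UU_le x_mem_L)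
open Cfsg.Agent.H8 (IsSylowIn)
open scoped commutatorElement

universe u v w

section Fix

variable {H : Type w} [Group H]

/-- The fixed points of an automorphism. -/
def fx (α : MulAut H) : Subgroup H := α.toMonoidHom.eqLocus (MonoidHom.id H)

/-- The exponent of two in the number of fixed points. -/
noncomputable def cf (α : MulAut H) : ℕ := (Nat.card (fx α)).factorization 2

/-- The inner automorphisms. -/
abbrev Inn (H : Type w) [Group H] : Subgroup (MulAut H) := (MulAut.conj : H →* MulAut H).range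

theorem eqns_fx : True := by have := @fx.eq_1.{0}; have := @cf.eq_1.{0}; trivial

theorem mem_fx {α : MulAut H} {h : H} : h ∈ fx α ↔ α h = h := Iff.rfl

theorem cj_m (α : MulAut H) (g : H) : α * MulAut.conj g * α⁻¹ = MulAut.conj (α g) :=
  MulEquiv.ext fun a => by simp

theorem inn_normal : (Inn H).Normal := ⟨by rintro _ ⟨g, rfl⟩ m; exact ⟨_, (cj_m m g).symm⟩⟩

theorem cj_inj (hZ : center H = ⊥) : Function.Injective (MulAut.conj : H →* MulAut H) := by
  rw [← MonoidHom.ker_eq_bot_iff, eq_bot_iff, ← hZ]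
  exact fun g hg => mem_center_iff.2 fun a => (mul_inv_eq_iff_eq_mul.1 (DFunLike.congr_fun hg a)).symm

theorem cen_inn (hZ : center H = ⊥) : C[Inn H] = ⊥ := eq_bot_iff.2 fun m hm =>
  mem_bot.2 (MulEquiv.ext fun g => cj_inj hZ (by
    rw [← cj_m, ← hm _ ⟨g, rfl⟩, mul_inv_cancel_right]; rfl))

theorem cf_conj (α β : MulAut H) : cf (β * α * β⁻¹) = cf α := by
  rw [cf, cf, ← card_map_of_injective (K := fx α) (f := β.toMonoidHom) β.injective]
  rw [show fx (β * α * β⁻¹) = (fx α).map β.toMonoidHom from Subgroup.ext fun g => by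
    obtain ⟨g, rfl⟩ := β.surjective g
    simp [mem_fx]]

theorem cf_hom {K : Type u} [Group K] [Finite K] {f : K →* H} (hf : Function.Surjective f)
    (hk : f.ker ≤ center K) (ho : ∀ z ∈ f.ker, Odd (orderOf z)) {θ : MulAut K} {α : MulAut H}
    (e : ∀ k, α (f k) = f (θ k)) : cf θ = cf α := by
  obtain ⟨Q, hQ⟩ := H8.exists_isSylowIn 2 ((fx α).comap f)
  have one : ∀ z ∈ f.ker, Is2 z → z = 1 := fun z hz ⟨k, h⟩ => eq_one_of_odd (ho z hz) h
  have QC : Q ≤ fx θ := fun q hq => by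
    have hz : θ q * q⁻¹ ∈ f.ker := by
      rw [MonoidHom.mem_ker, map_mul, ← e, mem_fx.1 (hQ.le hq), map_inv, mul_inv_cancel]
    obtain ⟨n, hn⟩ := H27.End.is2_of_mem hQ.isPGroup hq
    refine mem_fx.2 (mul_inv_eq_one.1 (one _ hz ⟨n, ?_⟩))
    have c : Commute (θ q) q⁻¹ := by
      have := (show Commute q (θ q * q⁻¹) from mem_center_iff.1 (hk hz) q).symm.mul_left (.refl q)
      rw [inv_mul_cancel_right] at this
      exact this.inv_right
    rw [c.mul_pow, ← map_pow, inv_pow, hn]; simp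
  have s1 : IsSylowIn 2 Q (fx θ) := hQ.mono QC fun k hk => by
    rw [mem_comap, mem_fx, e, mem_fx.1 hk]
  have := Finite.of_surjective f hf
  have s2 := (hQ.map f).card_eq
  have inj : Function.Injective (f.comp Q.subtype) := (injective_iff_map_eq_one _).2 fun q hq =>
    Subtype.ext (one _ hq (H27.End.is2_of_mem hQ.isPGroup q.2))
  have s3 := Nat.card_congr (MonoidHom.ofInjective inj).toEquiv
  rw [MonoidHom.range_comp, range_subtype] at s3
  rw [map_comap_eq_self_of_surjective hf, ← s3, s1.card_eq] at s2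
  exact Nat.pow_right_injective le_rfl s2

theorem cc_cf {G : Type u} [Group G] {L : Subgroup G} {g : G} {θ : MulAut L}
    (e : ∀ l : L, (θ l : G) = g * l * g⁻¹) : cc L g = cf θ := by
  rw [cc, cf, ← card_map_of_injective (K := fx θ) L.subtype_injective]
  rw [show (fx θ).map L.subtype = L ⊓ C1[g] from Subgroup.ext fun a =>
    ⟨by
      rintro ⟨l, hl, rfl⟩
      exact ⟨l.2, mem_C1.2 (NF.commute_of_conj ((e l).symm.trans (congrArg Subtype.val hl))).symm⟩,
    fun h => ⟨⟨a, h.1⟩, Subtype.ext ((e _).trans (mem_C1.1 h.2).symm.mul_inv_cancel), rfl⟩⟩]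

/-- Two involutions modulo a normal subgroup whose product has odd order are conjugate. -/
theorem dih {A : Type w} [Group A] {I : Subgroup A} [I.Normal] {a b : A} (ha : a * a ∈ I)
    (hb : b * b ∈ I) {k : ℕ} (hk : Odd k) (h : (a * b) ^ k ∈ I) : ∃ β, β * b * β⁻¹ * a⁻¹ ∈ I := by
  have key : ∀ g, QuotientGroup.mk' I g = 1 ↔ g ∈ I := fun g => QuotientGroup.eq_one_iff g
  rw [← key, map_mul] at ha hb
  rw [← key, map_pow, map_mul] at h
  obtain ⟨m, -, e⟩ := H37.Kit.conj_of_odd ha hb (Odd.of_dvd_nat hk (orderOf_dvd_of_pow_eq_one h))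
  obtain ⟨β, rfl⟩ := QuotientGroup.mk'_surjective I m
  exact ⟨β, (key _).1 (by rw [map_mul, map_mul, map_mul, map_inv, map_inv, e, mul_inv_cancel])⟩

/-- A `2`-element of the coset `I a` is conjugate into `S a`. -/
theorem exists_u {A : Type w} [Group A] [Finite A] {I S : Subgroup A} [I.Normal]
    (hS : IsSylowIn 2 S I) {a l : A} (ha : a ∈ N[S]) (a2 : Is2 a) (hl : l ∈ I) (e2 : Is2 (l * a)) :
    ∃ u ∈ S, ∃ y, u * a = y * (l * a) * y⁻¹ := by
  have key : ∀ g, QuotientGroup.mk' I g = 1 ↔ g ∈ I := fun g => QuotientGroup.eq_one_iff g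
  let X := (zpowers (QuotientGroup.mk' I a)).comap (QuotientGroup.mk' I)
  have IX : I ≤ X := fun g hg => by rw [mem_comap, (key g).2 hg]; exact one_mem _
  have aX : a ∈ X := mem_zpowers _
  obtain ⟨T, hT, h1⟩ := H8.exists_isSylowIn_ge (hS.isPGroup.to_sup_of_normal_left'
    (H27.End.isPGroup_zpowers a2) (zpowers_le.2 ha)) (sup_le (hS.le.trans IX) (zpowers_le.2 aX))
  obtain ⟨y, hy, h2⟩ := hT.exists_conj_le (H27.End.isPGroup_zpowers e2)
    (zpowers_le.2 (mul_mem (IX hl) aX))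
  refine ⟨y * (l * a) * y⁻¹ * a⁻¹, ?_, y, by group⟩
  rw [← hS.eq_of_le (Q := T ⊓ I) hT.isPGroup.to_inf_left inf_le_right
    (le_inf (le_sup_left.trans h1) hS.le)]
  refine ⟨mul_mem (h2 (H8.conj_mem_conj_smul.2 (mem_zpowers _)))
    (T.inv_mem (h1 (mem_sup_right (mem_zpowers a)))), (key _).1 ?_⟩
  obtain ⟨k, hk⟩ := mem_zpowers_iff.1 hy
  rw [map_mul, map_mul, map_mul, map_mul, map_inv, map_inv, ← hk, (key l).2 hl]
  group

end Fix

section Tr

variable {G : Type u} [Group G] {H : Type w} [Group H] {L : Subgroup G}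

/-- `f` is a central extension with odd kernel and `ρ` is the induced action of `N(L)`. -/
structure Tr (L : Subgroup G) (f : L →* H) (ρ : N[L] →* MulAut H) : Prop where
  surj : Function.Surjective f
  ker : ∀ l : L, f l = 1 ↔ (l : G) ∈ C[L]
  odd : ∀ z ∈ Z[L], Odd (orderOf z)
  perf : ⁅L, L⁆ = L
  act : ∀ (g : N[L]) (l : L), ρ g (f l) = f ⟨g * l * (g : G)⁻¹, conj_mem g.2 l.2⟩

theorem exists_rho [Finite H] {f : L →* H} (hf : Function.Surjective f)
    (hk : ∀ l : L, f l = 1 ↔ (l : G) ∈ C[L]) : ∃ ρ : N[L] →* MulAut H,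
      ∀ (g : N[L]) (l : L), ρ g (f l) = f ⟨g * l * (g : G)⁻¹, conj_mem g.2 l.2⟩ := by
  have key : ∀ g : N[L], ∃ α : MulAut H, ∀ l, α (f l) = f (L.normalizerMonoidHom g l) := fun g => by
    let φ := f.liftOfSurjective hf ⟨f.comp (L.normalizerMonoidHom g).toMonoidHom, fun l hl =>
      (hk _).2 (mem_C fun y hy => by
        have := (comm_of_C ((hk l).1 hl) (conj_mem (inv_mem g.2) hy)).map (MulAut.conj (g : G))
        simpa [mul_assoc] using this)⟩
    have e : ∀ l, φ (f l) = f (L.normalizerMonoidHom g l) := fun l =>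
      f.liftOfRightInverse_comp_apply _ _ _ l
    exact ⟨MulEquiv.ofBijective φ (Finite.surjective_iff_bijective.1 fun y => by
      obtain ⟨l, rfl⟩ := hf y
      exact ⟨f ((L.normalizerMonoidHom g).symm l), by rw [e, MulEquiv.apply_symm_apply]⟩), e⟩
  choose ρ hρ using key
  refine ⟨MonoidHom.mk' ρ fun a b => MulEquiv.ext fun y => ?_, hρ⟩
  obtain ⟨l, rfl⟩ := hf y
  rw [MulAut.mul_apply, hρ, hρ, hρ, map_mul, MulAut.mul_apply]

variable {f : L →* H} {ρ : N[L] →* MulAut H} (T : Tr L f ρ)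
include T

theorem Tr.inn (l : L) : ρ ⟨l, le_normalizer l.2⟩ = MulAut.conj (f l) := MulEquiv.ext fun y => by
  obtain ⟨k, rfl⟩ := T.surj y
  rw [T.act, MulAut.conj_apply, ← map_inv, ← map_mul, ← map_mul]
  rfl

theorem Tr.one_iff (g : N[L]) : ρ g = 1 ↔ (g : G) ∈ C[L] := by
  refine ⟨fun h => ?_, fun h => MulEquiv.ext fun y => ?_⟩
  · have h1 : ⁅zpowers (g : G), L⁆ ≤ C[L] := by
      rw [commutator_comm, commutator_le]
      intro l hl y hy
      obtain ⟨k, rfl⟩ := mem_zpowers_iff.1 hy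
      have h2 := T.act (g ^ k) ⟨l, hl⟩
      rw [map_zpow, h, one_zpow, MulAut.one_apply, ← mul_inv_eq_one, ← map_inv, ← map_mul,
        T.ker] at h2
      simpa [commutatorElement_def, mul_assoc] using h2
    have h2 : ⁅⁅zpowers (g : G), L⁆, L⁆ = ⊥ := commutator_eq_bot_iff_le_centralizer.2 h1
    have h3 := commutator_commutator_eq_bot_of_rotate (H₁ := L) (H₂ := L) (H₃ := zpowers (g : G))
      (by rwa [commutator_comm L]) h2
    rw [T.perf, commutator_comm, commutator_eq_bot_iff_le_centralizer] at h3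
    exact h3 (mem_zpowers _)
  · obtain ⟨l, rfl⟩ := T.surj y
    rw [T.act, MulAut.one_apply]
    exact congrArg f (Subtype.ext (comm_of_C h l.2).mul_inv_cancel)

theorem Tr.mul (l : L) (g : N[L]) :
    ρ ⟨l * g, mul_mem (le_normalizer l.2) g.2⟩ = MulAut.conj (f l) * ρ g := by
  rw [← T.inn, ← map_mul]; rfl

theorem Tr.inn_iff (g : N[L]) : ρ g ∈ Inn H ↔ (g : G) ∈ L ⊔ C[L] := by
  refine ⟨fun ⟨y, hy⟩ => ?_, fun h => ?_⟩
  · obtain ⟨l, rfl⟩ := T.surj y
    have := (T.one_iff ⟨(l⁻¹ : L) * g, _⟩).1 (by rw [T.mul, ← hy, ← map_mul]; simp)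
    simpa using mul_mem (mem_sup_left l.2) (mem_sup_right this : _ ∈ L ⊔ C[L])
  · obtain ⟨l, hl, k, hk, e⟩ := H37.Kit.exists_LK h
    have kN : k ∈ N[L] := centralizer_le_normalizer _ hk
    have := T.mul ⟨l, hl⟩ ⟨k, kN⟩
    rw [(T.one_iff ⟨k, kN⟩).2 hk, mul_one] at this
    exact ⟨_, this.symm.trans (congrArg ρ (Subtype.ext e))⟩

theorem Tr.cc_eq [Finite G] (g : N[L]) : cc L g = cf (ρ g) :=
  (cc_cf (θ := L.normalizerMonoidHom g) fun _ => rfl).trans (cf_hom T.surj
    (fun l hl => mem_center_iff.2 fun k => Subtype.ext (comm_of_C ((T.ker l).1 hl) k.2).symm)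
    (fun l hl => by rw [← orderOf_coe]; exact T.odd _ ⟨l.2, (T.ker l).1 hl⟩) (T.act g))

theorem Tr.fixC {r : L} {g : N[L]} {y : H}
    (h : Commute (MulAut.conj y * ρ g) (MulAut.conj (f r))) : FixC L r g := by
  obtain ⟨l, rfl⟩ := T.surj y
  rw [← T.mul, ← T.inn, ← commutatorElement_eq_one_iff_commute, ← map_commutatorElement,
    T.one_iff] at h
  exact ⟨l, l.2, h⟩

end Tr

section Pin

variable {ι Φ : Type} [Fintype ι] [DecidableEq ι] {R : RS ι Φ} {F : Type v} [Field F] [Finite F]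
  {G : Type u} [Group G] [Finite G] {L : Subgroup G} {x : Φ → F → G} {H : Type w} [Group H]
  [Finite H] {y : Φ → F → H}

theorem exists_tr (h : Lace R) (hM : Mod R L x) (q : Pin R y) (gen : UU y Set.univ = ⊤)
    (hZ : center H = ⊥) : ∃ (f : L →* H) (ρ : N[L] →* MulAut H), Tr L f ρ ∧
      ∀ r a, f ⟨x r a, x_mem_L hM r a⟩ = y r a := by
  let x' : Φ → F → L := fun r a => ⟨x r a, x_mem_L hM r a⟩
  have p : Pin R x' := pin_sub hM.pin _
  have gen' : UU x' Set.univ = ⊤ := (PinM.gen_sub _ _).trans (by rw [hM.gen, subgroupOf_self])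
  have pz : Pin R fun r a => (x' r a, y r a) :=
    { two := p.two
      add := fun r a b => Prod.ext (p.add r a b) (q.add r a b)
      com := fun r s e a b => Prod.ext (p.com r s e a b) (q.com r s e a b)
      rel := fun r s k e a b => Prod.ext (p.rel r s k e a b) (q.rel r s k e a b)
      inj := fun r a e => p.inj r a (congrArg Prod.fst e) }
  have hq := quasisimple_UU h pz
  have hL := quasisimple h p gen'
  have := H52.IsQuasisimple.nontrivial hL
  have := H52.IsQuasisimple.nontrivial (quasisimple h q gen)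
  set K := UU (fun r a => (x' r a, y r a)) Set.univ
  let f : K →* L := (MonoidHom.fst L H).comp K.subtype
  let g : K →* H := (MonoidHom.snd L H).comp K.subtype
  have hf : Function.Surjective f := MonoidHom.range_eq_top.1 (eq_top_iff.2 (gen'.ge.trans
    (UU_le fun r _ a => ⟨⟨_, mem_UU_univ (x := fun r a => (x' r a, y r a)) r a⟩, rfl⟩)))
  have hg : Function.Surjective g := MonoidHom.range_eq_top.1 (eq_top_iff.2 (gen.ge.trans
    (UU_le fun r _ a => ⟨⟨_, mem_UU_univ (x := fun r a => (x' r a, y r a)) r a⟩, rfl⟩)))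
  have z : ∀ a ∈ center K, g a = 1 := fun k hk => mem_bot.1 (hZ ▸ mem_center_iff.2 fun a => by
    obtain ⟨a, rfl⟩ := hg a
    rw [← map_mul, ← map_mul, mem_center_iff.1 hk])
  have z1 : f.ker ≤ center K := (H52.IsQuasisimple.normal_eq_top_or_le_center hq _).resolve_left
    fun e' => by
      obtain ⟨a, ha⟩ := exists_ne (1 : L)
      obtain ⟨a, rfl⟩ := hf a
      exact ha (e'.ge (mem_top a))
  have z2 : g.ker ≤ center K := (H52.IsQuasisimple.normal_eq_top_or_le_center hq _).resolve_left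
    fun e' => by
      obtain ⟨a, ha⟩ := exists_ne (1 : H)
      obtain ⟨a, rfl⟩ := hg a
      exact ha (e'.ge (mem_top a))
  let π : L →* H := f.liftOfSurjective hf ⟨g, fun k hk => z k (z1 hk)⟩
  have e : ∀ k, π (f k) = g k := fun k => f.liftOfRightInverse_comp_apply _ _ _ k
  have hπ : Function.Surjective π := fun a => by
    obtain ⟨a, rfl⟩ := hg a
    exact ⟨_, e a⟩
  have hk : ∀ l : L, π l = 1 ↔ (l : G) ∈ C[L] := fun l => by
    refine ⟨fun hl => mem_C fun a ha => ?_, fun hl => mem_bot.1 (hZ ▸ mem_center_iff.2 fun a => ?_)⟩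
    · obtain ⟨l, rfl⟩ := hf l
      obtain ⟨b, hb⟩ := hf ⟨a, ha⟩
      have := congrArg (fun k => (f k : G)) (mem_center_iff.1 (z2 ((e l).symm.trans hl)) b)
      simp only [map_mul, hb, coe_mul] at this
      exact this.symm
    · obtain ⟨a, rfl⟩ := hπ a
      rw [← map_mul, ← map_mul]
      exact congrArg π (Subtype.ext (comm_of_C hl a.2).symm)
  obtain ⟨ρ, hρ⟩ := exists_rho hπ hk
  refine ⟨π, ρ, ⟨hπ, hk, hM.zodd, ?_, hρ⟩,
    fun r a => e ⟨_, mem_UU_univ (x := fun r a => (x' r a, y r a)) r a⟩⟩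
  have := hL.1
  rw [← L.map_subtype_commutator, Group.IsPerfect.commutator_eq_top, ← MonoidHom.range_eq_map,
    range_subtype]

variable {f : L →* H} {ρ : N[L] →* MulAut H} (hM : Mod R L x) (T : Tr L f ρ) {τ : Perm Φ}
  (e : ∀ r a, f ⟨x r a, x_mem_L hM r a⟩ = y (τ r) a)
include T e

theorem Tr.mono {g : N[L]} {δ : Perm Φ} {φ : F ≃+* F} (m : NF.Mono x g δ φ) :
    NF.Mono (fun r a => MulAut.conj (y r a)) (ρ g) (τ * δ * τ⁻¹) φ := by
  obtain ⟨χ, h⟩ := m
  refine ⟨fun r => χ (τ⁻¹ r), fun r a => ?_⟩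
  obtain ⟨r, rfl⟩ := τ.surjective r
  rw [cj_m, ← e, T.act]
  simp only [h, e, Perm.mul_apply, Perm.inv_def, symm_apply_apply]

theorem Tr.typ (hτ : Diag R τ) {g : N[L]} {δ : Perm Φ} {φ : F ≃+* F} (t : Typ R L x g δ φ) :
    Typ R (Inn H) (fun r a => MulAut.conj (y r a)) (ρ g) (τ * δ * τ⁻¹) φ := by
  obtain ⟨l, hl, hδ, m⟩ := t
  exact ⟨_, ⟨f ⟨l, hl⟩, rfl⟩, NF.diag_mul (NF.diag_mul hτ hδ) (NF.diag_inv hτ),
    T.mul ⟨l, hl⟩ g ▸ T.mono hM e m⟩

omit T e in
theorem mod_inn (h : Lace R) (q : Pin R y) (gen : UU y Set.univ = ⊤) (hZ : center H = ⊥) :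
    Mod R (Inn H) fun r a => MulAut.conj (y r a) := by
  have := mod_UU h (pin_map h q MulAut.conj (by
    rw [(MonoidHom.ker_eq_bot_iff _).2 (cj_inj hZ)]; exact bot_le))
  rwa [UU_map, gen, ← MonoidHom.range_eq_map] at this

end Pin

end Cfsg.Agent.H66.DnT
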