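import Cfsg.Agent.H43.TwE6a

/-!
# The root system of type `Dₙ`, `n = m + 2`

Simple roots `α₀ = e₁ + e₀`, `αᵢ = eᵢ - eᵢ₋₁`.  A root is given by its coordinates in the simple roots.
-/

set_option autoImplicit false

namespace Cfsg.Agent.H66.Dn

open Cfsg Cfsg.Agent.H63 Cfsg.Agent.H63.SL Cfsg.Agent.H34 Cfsg.Agent.H40 Cfsg.Agent.H34.TW
  Cfsg.Agent.H35.NF Equiv

variable {m : ℕ}

/-- Signed coordinates. -/
abbrev κ (m : ℕ) : Type := Fin (m + 2) × Bool

/-- The sign. -/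
def sg (b : Bool) : ℤ := if b then 1 else -1

theorem eqns_sg : True := by have := @sg.eq_1; trivial

@[simp] theorem sg_true : sg true = 1 := rfl

@[simp] theorem sg_false : sg false = -1 := rfl

theorem sg_not (b : Bool) : sg (!b) = - sg b := by cases b <;> rfl

theorem sg_mul_self (b : Bool) : sg b * sg b = 1 := by cases b <;> rfl

/-- The opposite signed coordinate. -/
def bar (a : κ m) : κ m := (a.1, !a.2)

theorem eqns_bar : True := by have := @bar.eq_1; trivial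

@[simp] theorem bar_fst (a : κ m) : (bar a).1 = a.1 := rfl

@[simp] theorem bar_snd (a : κ m) : (bar a).2 = !a.2 := rfl

@[simp] theorem bar_bar (a : κ m) : bar (bar a) = a := by simp [bar]

theorem fst_eq_iff {a c : κ m} : c.1 = a.1 ↔ c = a ∨ c = bar a := by
  obtain ⟨i, s⟩ := a
  obtain ⟨j, t⟩ := c
  cases s <;> cases t <;> simp [bar]

/-- The vector `± eᵢ`. -/
def ε (a : κ m) : Fin (m + 2) → ℤ := Pi.single a.1 (sg a.2)

theorem eqns_ε : True := by have := @ε.eq_1; trivial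

theorem ε_apply (a : κ m) (i : Fin (m + 2)) : ε a i = if i = a.1 then sg a.2 else 0 := by
  simp [ε, Pi.single_apply]

theorem ε_bar (a : κ m) : ε (bar a) = - ε a := by
  funext i; simp only [ε_apply, Pi.neg_apply, bar_fst, bar_snd, sg_not]; split_ifs <;> simp

theorem ε_dot (a : κ m) (v : Fin (m + 2) → ℤ) : ε a ⬝ᵥ v = sg a.2 * v a.1 := by simp [ε]

/-- The inner product of signed coordinates. -/
def ip (a c : κ m) : ℤ := if a.1 = c.1 then sg a.2 * sg c.2 else 0

theorem eqns_ip : True := by have := @ip.eq_1; trivial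

theorem ε_dot_ε (a c : κ m) : ε a ⬝ᵥ ε c = ip a c := by
  rw [ε_dot, ε_apply, ip]; split_ifs <;> simp

theorem ip_self (a : κ m) : ip a a = 1 := by simp [ip, sg_mul_self]

theorem ip_ne {a c : κ m} (h : a.1 ≠ c.1) : ip a c = 0 := if_neg h

theorem ip_bar (a : κ m) : ip a (bar a) = -1 := by simp [ip, sg_not, sg_mul_self]

theorem ip_comm (a c : κ m) : ip a c = ip c a := by rw [← ε_dot_ε, dotProduct_comm, ε_dot_ε]

theorem ip_cases (a c : κ m) :
    (c = a ∧ ip a c = 1) ∨ (c = bar a ∧ ip a c = -1) ∨ (a.1 ≠ c.1 ∧ ip a c = 0) := by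
  by_cases h : c.1 = a.1
  · rcases fst_eq_iff.1 h with rfl | rfl
    exacts [Or.inl ⟨rfl, ip_self _⟩, Or.inr (Or.inl ⟨rfl, ip_bar _⟩)]
  · exact Or.inr (Or.inr ⟨Ne.symm h, ip_ne (Ne.symm h)⟩)

theorem pick {v : Fin (m + 2) → ℤ} (h0 : v ⬝ᵥ v ≠ 0) (h : v ⬝ᵥ v ≤ 2) : ∃ a, ε a ⬝ᵥ v = 1 := by
  obtain ⟨i, hi⟩ : ∃ i, v i ≠ 0 := by
    by_contra H
    push Not at H
    exact h0 (by simp [dotProduct, H])
  have h1 : v i * v i ≤ 2 := (Finset.single_le_sum (f := fun i => v i * v i)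
    (fun i _ => mul_self_nonneg _) (Finset.mem_univ i)).trans h
  have h2 : v i = 1 ∨ v i = -1 := by
    have : v i ≤ 1 := by nlinarith
    have : -1 ≤ v i := by nlinarith
    omega
  rcases h2 with e | e
  · exact ⟨(i, true), by simp [ε_dot, e]⟩
  · exact ⟨(i, false), by simp [ε_dot, e]⟩

theorem dot_sub_ε {v : Fin (m + 2) → ℤ} {a : κ m} (h : ε a ⬝ᵥ v = 1) :
    (v - ε a) ⬝ᵥ (v - ε a) = v ⬝ᵥ v - 1 := by
  rw [sub_dotProduct, dotProduct_sub, dotProduct_sub, dotProduct_comm v (ε a), h, ε_dot_ε, ip_self]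
  ring

theorem exists_ε {v : Fin (m + 2) → ℤ} (h : v ⬝ᵥ v = 2) :
    ∃ a c : κ m, a.1 ≠ c.1 ∧ v = ε a + ε c := by
  obtain ⟨a, ha⟩ := pick (v := v) (by omega) h.le
  have h1 := dot_sub_ε ha
  obtain ⟨c, hc⟩ := pick (v := v - ε a) (by omega) (by omega)
  have h2 := dot_sub_ε hc
  have h3 : v = ε a + ε c := by
    have := dotProduct_self_eq_zero.1 (show (v - ε a - ε c) ⬝ᵥ (v - ε a - ε c) = 0 by omega)
    rw [sub_sub, sub_eq_zero] at this
    exact this
  refine ⟨a, c, fun e => ?_, h3⟩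
  rw [h3, dotProduct_add, ε_dot_ε, ε_dot_ε, ip_self] at ha
  rcases ip_cases a c with h | h | h
  exacts [by omega, by omega, h.1 e]

/-- First entry of the simple root. -/
def s1 (i : Fin (m + 2)) : κ m := (⟨max i 1, by omega⟩, true)

/-- Second entry of the simple root. -/
def s2 (i : Fin (m + 2)) : κ m := (⟨i - 1, by omega⟩, decide ((i : ℕ) = 0))

theorem eqns_s : True := by have := @s1.eq_1; have := @s2.eq_1; trivial

theorem s_ne (i : Fin (m + 2)) : (s1 i).1 ≠ (s2 i).1 := by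
  simp only [s1, s2, ne_eq, Fin.mk.injEq]; omega

/-- The simple roots. -/
def al (i : Fin (m + 2)) : Fin (m + 2) → ℤ := ε (s1 i) + ε (s2 i)

/-- From root coordinates to vectors. -/
def M (m : ℕ) : (Fin (m + 2) → ℤ) →ₗ[ℤ] (Fin (m + 2) → ℤ) :=
  Matrix.vecMulLinear (Matrix.of al)

theorem eqns_M : True := by have := @al.eq_1; have := @M.eq_1; trivial

theorem M_apply (c : Fin (m + 2) → ℤ) : M m c = ∑ i, c i • al i := by
  rw [M, Matrix.vecMulLinear_apply, Matrix.vecMul_eq_sum]; rfl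

theorem M_single (i : Fin (m + 2)) : M m (Pi.single i 1) = al i := by
  simp [M_apply, Pi.single_apply]

theorem dot_ε (a c a' c' : κ m) :
    (ε a + ε c) ⬝ᵥ (ε a' + ε c') = ip a a' + ip a c' + ip c a' + ip c c' := by
  simp only [add_dotProduct, dotProduct_add, ε_dot_ε]; ring

theorem dot_ε_self {a c : κ m} (h : a.1 ≠ c.1) : (ε a + ε c) ⬝ᵥ (ε a + ε c) = 2 := by
  rw [dot_ε, ip_self, ip_self, ip_ne h, ip_ne h.symm]; rfl

theorem al_dot (i : Fin (m + 2)) : al i ⬝ᵥ al i = 2 := dot_ε_self (s_ne i)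

/-- Coordinates of `eₖ - e₀`. -/
def dd (k : ℕ) : Fin (m + 2) → ℤ := fun i => if 1 ≤ (i : ℕ) ∧ (i : ℕ) ≤ k then 1 else 0

/-- Coordinates of `2 e₀`. -/
def zz : Fin (m + 2) → ℤ := Pi.single 0 1 - Pi.single 1 1

theorem eqns_dd : True := by have := @dd.eq_1; have := @zz.eq_1; trivial

theorem M_dd : ∀ (k : ℕ) (h : k < m + 2), M m (dd k) = ε (⟨k, h⟩, true) - ε (0, true)
  | 0, h => by
    have : dd (m := m) 0 = 0 := funext fun i => if_neg (by omega)
    rw [this, map_zero]; exact (sub_self _).symm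
  | k + 1, h => by
    have : dd (m := m) (k + 1) = dd k + Pi.single ⟨k + 1, h⟩ 1 := funext fun i => by
      simp only [dd, Pi.add_apply, Pi.single_apply, Fin.ext_iff]; split_ifs <;> omega
    rw [this, map_add, M_dd k (by omega), M_single, al]
    have e1 : s1 (⟨k + 1, h⟩ : Fin (m + 2)) = (⟨k + 1, h⟩, true) := by simp [s1]
    have e2 : s2 (⟨k + 1, h⟩ : Fin (m + 2)) = bar (⟨k, by omega⟩, true) := by simp [s2, bar]
    rw [e1, e2, ε_bar]; abel

theorem M_zz : M m zz = ε (0, true) + ε (0, true) := by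
  have e1 : s1 (0 : Fin (m + 2)) = s1 1 := by simp [s1]
  have e2 : s2 (0 : Fin (m + 2)) = (0, true) := by simp [s2]
  have e3 : s2 (1 : Fin (m + 2)) = bar (0, true) := by simp [s2, bar]
  rw [zz, map_sub, M_single, M_single, al, al, e1, e2, e3, ε_bar]; abel

theorem ε_eq (a : κ m) : ε a = sg a.2 • ε (a.1, true) := by
  funext i; simp [ε_apply]

theorem M_inj : Function.Injective (M m) := by
  let N : Matrix (Fin (m + 2)) (Fin (m + 2)) ℤ := Matrix.of fun k => dd k + dd k + zz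
  have h : N * Matrix.of al = (2 : ℤ) • (1 : Matrix _ _ ℤ) := by
    ext k j
    have : M m (dd k + dd k + zz) j = (N * Matrix.of (al (m := m)) : Matrix _ _ ℤ) k j := rfl
    rw [← this, map_add, map_add, M_dd k k.2, M_zz]
    simp only [Pi.add_apply, Pi.sub_apply, ε_apply, Matrix.smul_apply, Matrix.one_apply, Fin.eta,
      sg_true, eq_comm (a := k)]
    split_ifs <;> simp
  have h2 : (Matrix.of (al (m := m))).det ≠ 0 := fun e => by
    have := congrArg Matrix.det h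
    rw [Matrix.det_mul, e, mul_zero, Matrix.det_smul, Matrix.det_one] at this
    exact absurd this.symm (by positivity)
  rw [injective_iff_map_eq_zero]
  intro v hv
  by_contra e
  exact h2 (Matrix.exists_vecMul_eq_zero_iff.1 ⟨v, e, hv⟩)

/-- Coordinates of `ε a + ε c`. -/
def crd (a c : κ m) : Fin (m + 2) → ℤ :=
  sg a.2 • dd a.1 + sg c.2 • dd c.1 + (if a.2 = c.2 then sg a.2 else 0) • zz

theorem eqns_crd : True := by have := @crd.eq_1; trivial

theorem M_crd (a c : κ m) : M m (crd a c) = ε a + ε c := by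
  rw [crd, map_add, map_add, map_smul, map_smul, map_smul, M_dd _ a.1.2, M_dd _ c.1.2, M_zz,
    ε_eq a, ε_eq c]
  obtain ⟨i, s⟩ := a
  obtain ⟨j, t⟩ := c
  cases s <;> cases t <;> simp <;> abel

theorem crd_nonneg {a c : κ m} (h : c.1 < a.1) (ha : a.2 = true) : 0 ≤ crd a c := fun i => by
  obtain ⟨k, s⟩ := a
  obtain ⟨j, t⟩ := c
  obtain rfl : s = true := ha
  have h' : (j : ℕ) < k := h
  cases t <;> simp only [crd, dd, zz, Pi.add_apply, Pi.smul_apply, Pi.sub_apply, Pi.single_apply,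
    Fin.ext_iff, Fin.val_zero, Fin.val_one, sg_true, sg_false, smul_eq_mul, Pi.zero_apply] <;>
    split_ifs <;> first | omega | simp_all

/-- The roots. -/
abbrev Φ (m : ℕ) : Type := {c : Fin (m + 2) → ℤ // M m c ⬝ᵥ M m c = 2}

/-- The vector of a root. -/
def vec (r : Φ m) : Fin (m + 2) → ℤ := M m r.1

/-- The root `ε a + ε c`. -/
def rt (a c : κ m) (h : a.1 ≠ c.1) : Φ m := ⟨crd a c, by rw [M_crd]; exact dot_ε_self h⟩

theorem eqns_rt : True := by have := @vec.eq_1; have := @rt.eq_1; trivial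

theorem vec_inj : Function.Injective (vec (m := m)) := fun _ _ h => Subtype.ext (M_inj h)

theorem vec_rt (a c : κ m) (h : a.1 ≠ c.1) : vec (rt a c h) = ε a + ε c := M_crd a c

theorem vec_dot (r : Φ m) : vec r ⬝ᵥ vec r = 2 := r.2

theorem rt_comm (a c : κ m) (h : a.1 ≠ c.1) : rt a c h = rt c a h.symm :=
  vec_inj (by rw [vec_rt, vec_rt, add_comm (ε a)])

theorem exists_rt (r : Φ m) : ∃ a c h, r = rt a c h :=
  let ⟨a, c, h, e⟩ := exists_ε (vec_dot r)
  ⟨a, c, h, vec_inj (e.trans (vec_rt a c h).symm)⟩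

theorem exists_rt_lt (r : Φ m) : ∃ (a c : κ m) (h : c.1 < a.1), r = rt a c h.ne' := by
  obtain ⟨a, c, h, rfl⟩ := exists_rt r
  rcases lt_or_gt_of_ne h with h' | h'
  exacts [⟨c, a, h', rt_comm _ _ _⟩, ⟨a, c, h', rfl⟩]

theorem exists_vec {v : Fin (m + 2) → ℤ} (h : v ⬝ᵥ v = 2) : ∃ r : Φ m, vec r = v :=
  let ⟨a, c, h, e⟩ := exists_ε h
  ⟨rt a c h, (vec_rt a c h).trans e.symm⟩

theorem dot_M (v c : Fin (m + 2) → ℤ) : v ⬝ᵥ M m c = ∑ j, c j * (v ⬝ᵥ al j) := by
  simp only [M_apply, dotProduct_sum, dotProduct_smul, smul_eq_mul]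

/-- The root system of type `Dₘ₊₂`. -/
def R (m : ℕ) : RS (Fin (m + 2)) (Φ m) where
  rc r := r.1
  co r := r.1
  A i j := al i ⬝ᵥ al j
  len _ := 1
  neg r := ⟨-r.1, by rw [map_neg, neg_dotProduct_neg]; exact r.2⟩
  simple i := ⟨Pi.single i 1, by rw [M_single, al_dot]⟩
  refl i s := ⟨s.1 - (∑ j, s.1 j * (al i ⬝ᵥ al j)) • Pi.single i 1, by
    rw [← dot_M, map_sub, map_smul, M_single]
    simp only [sub_dotProduct, dotProduct_sub, smul_dotProduct, dotProduct_smul, s.2, al_dot,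
      dotProduct_comm (M m s.1) (al i), smul_eq_mul]
    ring⟩
  rc_inj := Subtype.val_injective
  rc_neg _ := rfl
  len_neg _ := rfl
  rc_simple _ := rfl
  len_pos _ := one_pos
  rc_co _ _ := rfl
  symm i j := by rw [dotProduct_comm]
  pos_or_neg r := by
    obtain ⟨a, c, h, rfl⟩ := exists_rt_lt r
    cases e : a.2
    · refine Or.inr (neg_nonneg.1 ?_)
      have : -crd a c = crd (bar a) (bar c) :=
        M_inj (by rw [map_neg, M_crd, M_crd, ε_bar, ε_bar, neg_add])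
      exact (crd_nonneg (a := bar a) (c := bar c) h (by simp [e])).trans_eq this.symm
    · exact Or.inl (crd_nonneg h e)
  rc_refl _ _ := rfl
  len_refl _ _ := rfl
  pair_self' r := by
    simp only [← dot_M]
    refine Eq.trans ?_ r.2
    rw [dot_M]
    simp only [dotProduct_comm (M m r.1)]

theorem eqns_R : True := by have := @R.eq_1; trivial

theorem pair_eq (r s : Φ m) : (R m).pair r s = vec r ⬝ᵥ vec s := by
  rw [RS.pair_def, vec, vec, dotProduct_comm, dot_M]
  refine Finset.sum_congr rfl fun i _ => ?_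
  rw [dotProduct_comm, dot_M]; rfl

theorem pair_rt (a c : κ m) (h : a.1 ≠ c.1) (a' c' : κ m) (h' : a'.1 ≠ c'.1) :
    (R m).pair (rt a c h) (rt a' c' h') = ip a a' + ip a c' + ip c a' + ip c c' := by
  rw [pair_eq, vec_rt, vec_rt, dot_ε]

theorem vec_neg (r : Φ m) : vec ((R m).neg r) = - vec r := map_neg _ _

theorem neg_rt (a c : κ m) (h : a.1 ≠ c.1) : (R m).neg (rt a c h) = rt (bar a) (bar c) h :=
  vec_inj (by rw [vec_neg, vec_rt, vec_rt (bar a) (bar c) h, ε_bar, ε_bar, neg_add])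

theorem sum_iff {k r s : Φ m} : (R m).rc k = (R m).rc r + (R m).rc s ↔ vec k = vec r + vec s :=
  M_inj.eq_iff.symm.trans (by rw [map_add]; rfl)

theorem vec_τ (b r : Φ m) : vec ((R m).τ b r) = vec r - (R m).pair b r • vec b := by
  have := congrArg (M m) ((R m).rc_τ b r)
  rwa [map_sub, map_smul] at this

theorem simple_eq (i : Fin (m + 2)) : (R m).simple i = rt (s1 i) (s2 i) (s_ne i) :=
  vec_inj ((M_single i).trans (vec_rt _ _ _).symm)

theorem pos_rt {a c : κ m} (h : c.1 < a.1) : (R m).Pos (rt a c h.ne') ↔ a.2 = true := by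
  refine ⟨fun hp => ?_, fun e => crd_nonneg h e⟩
  by_contra e
  rw [← (R m).not_pos_neg_iff, neg_rt] at hp
  exact hp (crd_nonneg (a := bar a) (c := bar c) h (by simpa using e))

theorem rt_inj {a c a' c' : κ m} {h : a.1 ≠ c.1} {h' : a'.1 ≠ c'.1} (e : rt a c h = rt a' c' h') :
    (a' = a ∧ c' = c) ∨ (a' = c ∧ c' = a) := by
  have h1 := pair_rt a c h a' c' h'
  rw [← e, RS.pair_self] at h1
  rcases ip_cases a a' with a1 | a1 | a1 <;> rcases ip_cases a c' with a2 | a2 | a2 <;>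
    rcases ip_cases c a' with a3 | a3 | a3 <;> rcases ip_cases c c' with a4 | a4 | a4 <;>
    first
    | omega
    | exact Or.inl ⟨a1.1, a4.1⟩
    | exact Or.inr ⟨a3.1, a2.1⟩
    | exact absurd (congrArg Prod.fst (a1.1.trans a2.1.symm)) h'
    | exact absurd (congrArg Prod.fst (a3.1.trans a4.1.symm)) h'
    | exact absurd (congrArg Prod.fst (a1.1.symm.trans a3.1)) h
    | exact absurd (congrArg Prod.fst (a2.1.symm.trans a4.1)) h

instance finiteΦ : Finite (Φ m) :=
  Finite.of_surjective (fun p : {p : κ m × κ m // p.1.1 ≠ p.2.1} => rt p.1.1 p.1.2 p.2) fun r =>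
    let ⟨a, c, h, e⟩ := exists_rt r
    ⟨⟨(a, c), h⟩, e.symm⟩

theorem A_eq (i j : Fin (m + 2)) : (R m).A i j =
    if (i : ℕ) = j then 2 else if max (i : ℕ) 1 = max (j : ℕ) 1 + 1 ∨ max (j : ℕ) 1 = max (i : ℕ) 1 + 1
      then -1 else 0 := by
  change al i ⬝ᵥ al j = _
  rw [al, al, dot_ε]
  have : ∀ k : ℕ, sg (decide (k = 0)) = if k = 0 then 1 else -1 := fun k => by
    by_cases h : k = 0 <;> simp [h]
  simp only [ip, s1, s2, Fin.mk.injEq, sg_true, this]
  split_ifs <;> omega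

end Cfsg.Agent.H66.Dn
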