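import Cfsg.Agent.H37.FkO

/-!
# S5161, piece O6: supports of the quaternion groups in a Sylow subgroup of `Ω(Q)`
-/

set_option autoImplicit false

namespace Cfsg.Agent.H66.FkO6

open Cfsg Cfsg.Agent.H37.FK Cfsg.Agent.H30 Subgroup QuadraticMap Module

variable {F V : Type} [Field F] [AddCommGroup V] [Module F V] {Q : QuadraticForm F V}

theorem mem_pl {e f u : V} : u ∈ pl (F := F) e f ↔ ∃ a b : F, a • e + b • f = u :=
  Submodule.mem_span_pair

theorem left_mem (e f : V) : e ∈ pl (F := F) e f := Submodule.subset_span (by simp)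

theorem right_mem (e f : V) : f ∈ pl (F := F) e f := Submodule.subset_span (by simp)

theorem pl_le {e f : V} {W : Submodule F V} (he : e ∈ W) (hf : f ∈ W) : pl e f ≤ W :=
  Submodule.span_le.2 (Set.pair_subset he hf)

theorem pl_orth {e f u x : V} (hu : u ∈ pl (F := F) e f) (he : polar Q x e = 0)
    (hf : polar Q x f = 0) : polar Q x u = 0 := by
  obtain ⟨a, b, rfl⟩ := mem_pl.1 hu
  rw [polar_add_right, polar_smul_right', polar_smul_right', he, hf]; ring

theorem two_cancel (h2 : (2 : F) ≠ 0) {w : V} (h : -w = w) : w = 0 :=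
  (smul_eq_zero.1 (show (2 : F) • w = 0 by rw [two_smul]; exact neg_eq_iff_add_eq_zero.1 h)
    ).resolve_left h2

section Plane

variable (h2 : (2 : F) ≠ 0) {e f : V} (he : Q e = 1) (hf : Q f = 1) (hef : polar Q e f = 0)
include he hf hef

theorem polar_comb (a b c d : F) :
    polar Q (a • e + b • f) (c • e + d • f) = 2 * (a * c + b * d) := by
  simp only [polar_add_left, polar_add_right, polar_smul_left', polar_smul_right', polar_self',
    he, hf, hef, polar_comm Q f e]
  ring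

include h2

theorem zero_of_orth {u : V} (hu : u ∈ pl (F := F) e f) (h1 : polar Q u e = 0)
    (h3 : polar Q u f = 0) : u = 0 := by
  obtain ⟨a, b, rfl⟩ := mem_pl.1 hu
  have e1 := polar_comb he hf hef a b 1 0
  have e2 := polar_comb he hf hef a b 0 1
  simp only [one_smul, zero_smul, add_zero, zero_add, mul_one, mul_zero, h1, h3] at e1 e2
  rw [(mul_eq_zero.1 e1.symm).resolve_left h2, (mul_eq_zero.1 e2.symm).resolve_left h2]
  simp

/-- the square of an isometry of order dividing 4 of a plane is `± 1` -/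
theorem sq_pm (g : O Q) (h1 : g.1 e ∈ pl (F := F) e f) (h3 : g.1 f ∈ pl (F := F) e f)
    (h4 : g.1 (g.1 (g.1 (g.1 e))) = e) :
    (g.1 (g.1 e) = e ∧ g.1 (g.1 f) = f) ∨ (g.1 (g.1 e) = -e ∧ g.1 (g.1 f) = -f) := by
  obtain ⟨a, b, ea⟩ := mem_pl.1 h1
  obtain ⟨c, d, ec⟩ := mem_pl.1 h3
  have p1 := O_polar g e e
  have p2 := O_polar g e f
  have p3 := O_polar g f f
  rw [← ea, polar_comb he hf hef, polar_self', he] at p1
  rw [← ea, ← ec, polar_comb he hf hef, hef] at p2
  rw [← ec, polar_comb he hf hef, polar_self', hf] at p3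
  have q1 := mul_left_cancel₀ h2 p1
  have q2 := (mul_eq_zero.1 p2).resolve_left h2
  have q3 := mul_left_cancel₀ h2 p3
  have s1 : g.1 (g.1 e) = (a * a + b * c) • e + (a * b + b * d) • f := by
    rw [← ea, map_add, map_smul, map_smul, ← ea, ← ec]; module
  have s2 : g.1 (g.1 f) = (c * a + d * c) • e + (c * b + d * d) • f := by
    rw [← ec, map_add, map_smul, map_smul, ← ea, ← ec]; module
  have hd : (a * d - b * c - 1) * (a * d - b * c + 1) = 0 := by
    linear_combination (c * c + d * d) * q1 + q3 - (a * c + b * d) * q2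
  rcases mul_eq_zero.1 hd with hd | hd
  · have e1 : d = a := by linear_combination a * hd - d * q1 + b * q2
    have e2 : c = -b := by linear_combination -b * hd - c * q1 + a * q2
    subst e1 e2
    have p5 := polar_comb he hf hef (d * d + b * -b) (d * b + b * d) 1 0
    have p6 : polar Q (g.1 (g.1 (g.1 (g.1 e)))) e = 2 := by rw [h4, polar_self', he, mul_one]
    rw [s1, map_add, map_add, map_smul, map_smul, map_smul, map_smul, s1, s2, polar_add_left,
      polar_smul_left', polar_smul_left'] at p6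
    have p7 := polar_comb he hf hef (-b * d + d * -b) (-b * b + d * d) 1 0
    simp only [one_smul, zero_smul, add_zero] at p5 p7
    rw [p5, p7] at p6
    have b0 : d * b = 0 := by
      have : (2 : F) ^ 4 * (d * b) ^ 2 = 0 := by
        linear_combination -p6 + 2 * (d * d + b * b + 1) * q1
      simpa [h2] using this
    have a0 : (d * d - b * b - 1) * (d * d - b * b + 1) = 0 := by
      linear_combination (d * d + b * b + 1) * q1 - 4 * (d * b) * b0
    rcases mul_eq_zero.1 a0 with a0 | a0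
    · left
      rw [s1, s2]
      constructor <;> match_scalars <;> first | linear_combination a0 | linear_combination 2 * b0 |
        linear_combination -2 * b0
    · right
      rw [s1, s2]
      constructor <;> match_scalars <;> first | linear_combination a0 | linear_combination 2 * b0 |
        linear_combination -2 * b0
  · have e1 : d = -a := by linear_combination a * hd - d * q1 + b * q2
    have e2 : c = b := by linear_combination -b * hd - c * q1 + a * q2
    subst e1 e2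
    left
    rw [s1, s2]
    constructor <;> match_scalars <;> first | linear_combination q1 | ring1

/-- an isometry with square `-1` of a plane -/
theorem rot (g : O Q) (h1 : g.1 e ∈ pl (F := F) e f) (h4 : g.1 (g.1 e) = -e) :
    ∃ b : F, g.1 e = b • f ∧ g.1 f = -b • e := by
  obtain ⟨a, b, ea⟩ := mem_pl.1 h1
  have p1 := O_polar g (g.1 e) e
  rw [h4, polar_neg_left, polar_comm Q e] at p1
  have p2 := polar_comb he hf hef a b 1 0
  have p3 := O_polar g e e
  rw [← ea, polar_comb he hf hef, polar_self', he] at p3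
  simp only [one_smul, zero_smul, add_zero, ea] at p2
  have a0 : a = 0 := mul_left_cancel₀ (pow_ne_zero 2 h2) (by linear_combination -p1 - 2 * p2)
  have b1 : b * b = 1 := mul_left_cancel₀ h2 (by rw [a0] at p3; linear_combination p3)
  rw [a0, zero_smul, zero_add] at ea
  refine ⟨b, ea.symm, ?_⟩
  rw [← ea, map_smul] at h4
  rw [← one_smul F (g.1 f), ← b1, mul_smul, h4, smul_neg, neg_smul]

end Plane

/-- `g² = -1` on `W`, `g = 1` on the complement -/
structure Sp (Q : QuadraticForm F V) (W : Submodule F V) (g : O Q) : Prop where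
  cod : ∀ u, ∃ w w', w ∈ W ∧ w' ∈ perp Q W ∧ w + w' = u
  sq : ∀ w ∈ W, g.1 (g.1 w) = -w
  fix : ∀ w ∈ perp Q W, g.1 w = w

namespace Sp

variable {W : Submodule F V} {g : O Q} (h : Sp Q W g)
include h

theorem sq_eq {w w' : V} (h1 : w ∈ W) (h3 : w' ∈ perp Q W) : g.1 (g.1 (w + w')) = -w + w' := by
  rw [map_add, map_add, h.sq w h1, h.fix w' h3, h.fix w' h3]

theorem four (u : V) : g.1 (g.1 (g.1 (g.1 u))) = u := by
  obtain ⟨w, w', h1, h3, rfl⟩ := h.cod u
  rw [h.sq_eq h1 h3, h.sq_eq (neg_mem h1) h3, neg_neg]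

theorem add_mem (u : V) : u + g.1 (g.1 u) ∈ perp Q W := by
  obtain ⟨w, w', h1, h3, rfl⟩ := h.cod u
  rw [h.sq_eq h1 h3, show w + w' + (-w + w') = w' + w' by abel]
  exact (perp Q W).add_mem h3 h3

theorem mem_of_neg (h2 : (2 : F) ≠ 0) {u : V} (e : g.1 (g.1 u) = -u) : u ∈ W := by
  obtain ⟨w, w', h1, h3, rfl⟩ := h.cod u
  rw [h.sq_eq h1 h3, neg_add, add_right_inj] at e
  rwa [two_cancel h2 e.symm, add_zero]

theorem mem_of_fix (h2 : (2 : F) ≠ 0) {u : V} (e : g.1 (g.1 u) = u) : u ∈ perp Q W := by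
  obtain ⟨w, w', h1, h3, rfl⟩ := h.cod u
  rw [h.sq_eq h1 h3, add_left_inj] at e
  rwa [two_cancel h2 e, zero_add]

end Sp

section Fam

variable {k : ℕ} {e f : Fin k → V} (on : ONP Q e f)
include on

theorem orth_pl {i j : Fin k} (h : i ≠ j) {u w : V} (hu : u ∈ pl (F := F) (e i) (f i))
    (hw : w ∈ pl (F := F) (e j) (f j)) : polar Q u w = 0 :=
  pl_orth hw (by rw [polar_comm]; exact pl_orth hu (on.ee j i h.symm) (on.ef j i))
    (by rw [polar_comm]; exact pl_orth hu (by rw [polar_comm]; exact on.ef i j) (on.ff j i h.symm))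

theorem finrank_two (h2 : (2 : F) ≠ 0) {a b : Fin k} (h : a ≠ b) :
    finrank F ↥(pl (F := F) (e a) (f a) ⊔ pl (e b) (f b)) = 4 := by
  have li : LinearIndependent F ![e a, f a, e b, f b] :=
    LinearMap.linearIndependent_of_isOrthoᵢ (B := polarBilin Q) (fun i j hij => by
      fin_cases i <;> fin_cases j <;> first | exact absurd rfl hij |
        simp [Function.onFun, on.ef, on.ee _ _ h, on.ee _ _ h.symm, on.ff _ _ h, on.ff _ _ h.symm,
          polar_comm Q (f _) (e _)]) (fun i => by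
      fin_cases i <;> simp [-polar_self, polar_self', on.qe, on.qf, h2])
  have := finrank_span_eq_card li
  rw [show Set.range ![e a, f a, e b, f b] = {e a, f a} ∪ {e b, f b} by
    ext x; simp; tauto, Submodule.span_union] at this
  exact this

theorem nondeg_two (h2 : (2 : F) ≠ 0) {a b : Fin k} (h : a ≠ b) :
    NondegOn Q (pl (F := F) (e a) (f a) ⊔ pl (e b) (f b)) := fun x hx hx' => by
  obtain ⟨u, hu, w, hw, rfl⟩ := Submodule.mem_sup.1 hx
  have l := fun y hy => hx' y (Submodule.mem_sup_left hy)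
  have r := fun y hy => hx' y (Submodule.mem_sup_right hy)
  have l' : ∀ y ∈ pl (F := F) (e a) (f a), polar Q u y = 0 := fun y hy => by
    simpa only [polar_add_left, orth_pl on h.symm hw hy, add_zero] using l y hy
  have r' : ∀ y ∈ pl (F := F) (e b) (f b), polar Q w y = 0 := fun y hy => by
    simpa only [polar_add_left, orth_pl on h hu hy, zero_add] using r y hy
  rw [zero_of_orth h2 (on.qe a) (on.qf a) (on.ef a a) hu (l' _ (left_mem _ _))
    (l' _ (right_mem _ _)), zero_of_orth h2 (on.qe b) (on.qf b) (on.ef b b) hw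
    (r' _ (left_mem _ _)) (r' _ (right_mem _ _)), add_zero]

/-- a plane moved by `g` lies in the support -/
theorem moved (h2 : (2 : F) ≠ 0) {W : Submodule F V} {g : O Q} (h : Sp Q W g)
    {π : Equiv.Perm (Fin k)} (hπ : OInd Q e f g π) {c : Fin k} (hc : π c ≠ c) :
    π (π c) = c ∧ pl (e c) (f c) ≤ W := by
  have o : ∀ u ∈ pl (F := F) (e c) (f c), ∀ y ∈ pl (F := F) (e c) (f c),
      polar Q (u + g.1 (g.1 u)) y = 0 := fun u hu y hy => by
    rw [← h.fix _ (h.add_mem u), map_add, polar_add_left, orth_pl on hc ((hπ c u).1 hu) hy,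
      ← O_polar g, h.four, orth_pl on hc.symm hu ((hπ c y).1 hy), add_zero]
  have m : ∀ u ∈ pl (F := F) (e c) (f c), g.1 (g.1 u) ∈ pl (F := F) (e (π (π c))) (f (π (π c))) :=
    fun u hu => (hπ _ _).1 ((hπ c u).1 hu)
  have e1 : π (π c) = c := by
    by_contra h'
    have := o _ (left_mem _ _) _ (left_mem _ _)
    rw [polar_add_left, orth_pl on h' (m _ (left_mem _ _)) (left_mem _ _), polar_self', on.qe,
      mul_one, add_zero] at this
    exact h2 this
  rw [e1] at m
  exact ⟨e1, fun u hu => h.mem_of_neg h2 (eq_neg_of_add_eq_zero_right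
    (zero_of_orth h2 (on.qe c) (on.qf c) (on.ef c c) (Submodule.add_mem _ hu (m u hu))
      (o u hu _ (left_mem _ _)) (o u hu _ (right_mem _ _))))⟩

end Fam

variable [FiniteDimensional F V] (h2 : (2 : F) ≠ 0) {S : Subgroup (O Q)} (D : ODec Q S)
include h2

theorem forward {W : Submodule F V} (h : QSup Q (S ⊓ commutator (O Q)) W) : ∃ a b, a ≠ b ∧
    Equiv.swap a b ∈ (D.P : Subgroup (Equiv.Perm (Fin D.k))) ∧
    W = pl (D.e a) (D.f a) ⊔ pl (D.e b) (D.f b) := by
  obtain ⟨h4, hW, x, hx, y, hy, hxy, h5, h6⟩ := h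
  have cod := Submodule.codisjoint_iff_exists_add_eq.1 hW.isCompl.codisjoint
  have sx : Sp Q W x := ⟨cod, fun w hw => (h5 w hw).1, fun w hw => (h6 w hw).1⟩
  have sy : Sp Q W y := ⟨cod, fun w hw => (h5 w hw).2, fun w hw => (h6 w hw).2⟩
  have key : ∀ g, Sp Q W g → ∀ π ∈ (D.P : Subgroup (Equiv.Perm (Fin D.k))), OInd Q D.e D.f g π →
      ∀ a, π a ≠ a → ∃ a b, a ≠ b ∧ Equiv.swap a b ∈ (D.P : Subgroup (Equiv.Perm (Fin D.k))) ∧
        W = pl (D.e a) (D.f a) ⊔ pl (D.e b) (D.f b) := fun g hg π hP hπ a ha => by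
    obtain ⟨e1, l1⟩ := moved D.on h2 hg hπ ha
    obtain ⟨-, l2⟩ := moved D.on h2 hg hπ (c := π a) (by rw [e1]; exact ha.symm)
    have eW : pl (D.e a) (D.f a) ⊔ pl (D.e (π a)) (D.f (π a)) = W :=
      Submodule.eq_of_le_of_finrank_eq (sup_le l1 l2) (by rw [finrank_two D.on h2 ha.symm, h4])
    refine ⟨a, π a, ha.symm, ?_, eW.symm⟩
    rwa [show Equiv.swap a (π a) = π from Equiv.ext fun c => ?_]
    by_cases c1 : c = a
    · rw [c1, Equiv.swap_apply_left]
    by_cases c2 : c = π a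
    · rw [c2, Equiv.swap_apply_right, e1]
    rw [Equiv.swap_apply_of_ne_of_ne c1 c2]
    by_contra c3
    have := (moved D.on h2 hg hπ (Ne.symm c3)).2 (left_mem _ _)
    rw [← eW] at this
    obtain ⟨u, hu, w, hw, e2⟩ := Submodule.mem_sup.1 this
    have e3 := polar_self' Q (D.e c)
    nth_rewrite 2 [← e2] at e3
    rw [polar_add_right, orth_pl D.on c1 (left_mem _ _) hu, orth_pl D.on c2 (left_mem _ _) hw,
      D.on.qe, mul_one, add_zero] at e3
    exact h2 e3.symm
  obtain ⟨π, hP, hπ⟩ := D.perm x hx.1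
  obtain ⟨σ, hP', hσ⟩ := D.perm y hy.1
  by_cases c1 : ∃ a, π a ≠ a
  · exact c1.elim (key x sx π hP hπ)
  by_cases c2 : ∃ a, σ a ≠ a
  · exact c2.elim (key y sy σ hP' hσ)
  simp only [not_exists, not_not] at c1 c2
  have fx : ∀ w ∈ perp Q W, (x * y).1 w = (y * x).1 w := fun w hw => by
    rw [O_mul_apply, O_mul_apply, (h6 w hw).1, (h6 w hw).2, (h6 w hw).1]
  have pc : ∀ c, (x * y).1 (D.e c) = (y * x).1 (D.e c) ∧ (x * y).1 (D.f c) = (y * x).1 (D.f c) :=
    fun c => by
      have m1 := (hπ c _).1 (left_mem (D.e c) (D.f c))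
      have m2 := (hπ c _).1 (right_mem (D.e c) (D.f c))
      have m3 := (hσ c _).1 (left_mem (D.e c) (D.f c))
      rw [c1] at m1 m2
      rw [c2] at m3
      rcases sq_pm h2 (D.on.qe c) (D.on.qf c) (D.on.ef c c) x m1 m2 (sx.four _) with
        ⟨a1, a2⟩ | ⟨a1, -⟩
      · exact ⟨fx _ (sx.mem_of_fix h2 a1), fx _ (sx.mem_of_fix h2 a2)⟩
      · obtain ⟨b, b1, b2⟩ := rot h2 (D.on.qe c) (D.on.qf c) (D.on.ef c c) x m1 a1
        obtain ⟨d, d1, d2⟩ := rot h2 (D.on.qe c) (D.on.qf c) (D.on.ef c c) y m3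
          (sy.sq _ (sx.mem_of_neg h2 a1))
        simp only [O_mul_apply, b1, b2, d1, d2, map_smul]
        constructor <;> module
  refine absurd (O_ext fun u => ?_) hxy
  refine LinearMap.eqOn_span (f := ((x * y).1 : V →ₗ[F] V)) (g := ((y * x).1 : V →ₗ[F] V))
    (s := Set.range D.e ∪ Set.range D.f ∪ Set.range D.v) ?_ (D.top ▸ Submodule.mem_top)
  rintro _ ((⟨c, rfl⟩ | ⟨c, rfl⟩) | ⟨j, rfl⟩)
  · exact (pc c).1
  · exact (pc c).2
  · refine fx _ (sx.mem_of_fix h2 ?_)
    rcases D.fix x hx.1 j with e1 | e1 <;> simp [e1]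

omit [FiniteDimensional F V] in
theorem backward (hQ : (polarBilin Q).Nondegenerate) {a b : Fin D.k} (hab : a ≠ b)
    (hP : Equiv.swap a b ∈ (D.P : Subgroup (Equiv.Perm (Fin D.k)))) :
    QSup Q (S ⊓ commutator (O Q)) (pl (D.e a) (D.f a) ⊔ pl (D.e b) (D.f b)) := by
  obtain ⟨t, tS, tΩ, t2, tI, tf, tv⟩ := D.lift _ hP (Equiv.swap_mul_self a b)
  have tt : ∀ u, t.1 (t.1 u) = u := fun u => by rw [← O_mul_apply, t2, O_one_apply]
  have ti : t⁻¹ = t := inv_eq_of_mul_eq_one_right t2
  have ta : ∀ u ∈ pl (F := F) (D.e a) (D.f a), t.1 u ∈ pl (F := F) (D.e b) (D.f b) :=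
    fun u hu => by simpa using (tI a u).1 hu
  have tb : ∀ u ∈ pl (F := F) (D.e b) (D.f b), t.1 u ∈ pl (F := F) (D.e a) (D.f a) :=
    fun u hu => by simpa using (tI b u).1 hu
  have qe := D.on.qe a
  have qf := D.on.qf a
  have ef := D.on.ef a a
  set e := D.e a
  set f := D.f a
  have qd : Q (e - f) ≠ 0 := by rw [Q_sub, qe, qf, ef, sub_zero, one_add_one_eq_two]; exact h2
  have r1 : (refl Q (e - f)).1 e = f := refl_sub_apply (qe.trans qf.symm) qd
  have r2 : (refl Q (e - f)).1 f = e := (congrArg _ r1.symm).trans (refl_refl Q _ e)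
  have r3 : (refl Q e).1 e = -e := refl_apply_self (qe ▸ one_ne_zero)
  have r4 : (refl Q e).1 f = f := refl_apply_of_orth (by rw [polar_comm, ef])
  have r5 : (refl Q f).1 e = e := refl_apply_of_orth ef
  have r6 : (refl Q f).1 f = -f := refl_apply_self (qf ▸ one_ne_zero)
  have r7 : ∀ w, (∀ u ∈ pl (F := F) e f, polar Q w u = 0) → (refl Q e).1 w = w ∧
      (refl Q f).1 w = w ∧ (refl Q (e - f)).1 w = w := fun w hw =>
    ⟨refl_apply_of_orth (hw _ (left_mem _ _)), refl_apply_of_orth (hw _ (right_mem _ _)),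
      refl_apply_of_orth (hw _ (sub_mem (left_mem _ _) (right_mem _ _)))⟩
  obtain ⟨s1, s2, s3⟩ := r7 (t.1 e) fun u hu => orth_pl D.on hab.symm (ta _ (left_mem _ _)) hu
  obtain ⟨s4, s5, s6⟩ := r7 (t.1 f) fun u hu => orth_pl D.on hab.symm (ta _ (right_mem _ _)) hu
  refine ⟨finrank_two D.on h2 hab, nondeg_two D.on h2 hab,
    refl Q (e - f) * refl Q e * t * (refl Q (e - f) * refl Q e)⁻¹ * t⁻¹, ⟨?_, ?_⟩,
    t * (refl Q e * refl Q f), ⟨mul_mem tS (mul_mem (D.re a) (D.rf a)), mul_mem tΩ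
      (refl_mul_refl_mem_commutator hQ (qe ▸ one_ne_zero) (qe.trans qf.symm))⟩, fun h => ?_,
    fun w hw => ?_, fun w hw => ?_⟩
  · have := mul_mem (D.ref a) (D.re a)
    exact S.mul_mem (S.mul_mem (S.mul_mem this tS) (S.inv_mem this)) (S.inv_mem tS)
  · exact commutator_mem_commutator (mem_top _) (mem_top _)
  · have := congrArg (fun g : O Q => g.1 e) h
    simp only [mul_inv_rev, refl_inv, ti, O_mul_apply, map_neg, neg_neg, tt, r1, r3, r4, r5,
      r6, s1, s3, s4, s6] at this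
    have h3 := O_apply_eq_zero.1 (two_cancel h2 this)
    rw [h3, map_zero] at qf
    exact zero_ne_one qf
  · obtain ⟨u, hu, u', hu', rfl⟩ := Submodule.mem_sup.1 hw
    obtain ⟨α, β, rfl⟩ := mem_pl.1 hu
    obtain ⟨γ, δ, e1⟩ := mem_pl.1 (tb u' hu')
    rw [← tt u', ← e1]
    simp only [mul_inv_rev, refl_inv, ti, O_mul_apply, map_neg, map_add, map_smul, tt,
      r1, r2, r3, r4, r5, r6, s1, s2, s3, s4, s5, s6]
    constructor <;> module
  · have hw' := mem_perp'.1 hw
    obtain ⟨u1, u2, u3⟩ := r7 w fun u hu => hw' u (Submodule.mem_sup_left hu)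
    have o : ∀ c, ∀ u ∈ pl (F := F) (D.e c) (D.f c), (c ≠ a → c ≠ b → t.1 u = u) →
        polar Q (t.1 w) u = polar Q w u := fun c u hu h => by
      rw [O_polar_inv, ti]
      by_cases c1 : c = a
      · subst c1
        rw [hw' _ (Submodule.mem_sup_left hu), hw' _ (Submodule.mem_sup_right (ta u hu))]
      by_cases c2 : c = b
      · subst c2
        rw [hw' _ (Submodule.mem_sup_right hu), hw' _ (Submodule.mem_sup_left (tb u hu))]
      · rw [h c1 c2]
    have u4 : t.1 w = w := eq_of_polar hQ fun z => by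
      refine LinearMap.eqOn_span (f := polarBilin Q (t.1 w)) (g := polarBilin Q w)
        (s := Set.range D.e ∪ Set.range D.f ∪ Set.range D.v) ?_ (D.top ▸ Submodule.mem_top)
      rintro _ ((⟨c, rfl⟩ | ⟨c, rfl⟩) | ⟨j, rfl⟩)
      · exact o c _ (left_mem _ _) fun c1 c2 => (tf c (Equiv.swap_apply_of_ne_of_ne c1 c2)).1
      · exact o c _ (right_mem _ _) fun c1 c2 => (tf c (Equiv.swap_apply_of_ne_of_ne c1 c2)).2
      · change polar Q (t.1 w) (D.v j) = polar Q w (D.v j)
        rw [O_polar_inv, ti, tv]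
    simp only [mul_inv_rev, refl_inv, ti, O_mul_apply, u1, u2, u3, u4, and_self]

omit [FiniteDimensional F V] h2 in
/-- **O6** -/
theorem o6 : O6Stmt := fun _ _ _ _ _ _ _ _ h2 hQ _ D _ _ =>
  ⟨forward h2 D, fun ⟨_, _, hab, hP, e⟩ => e ▸ backward h2 D hQ hab hP⟩

end Cfsg.Agent.H66.FkO6
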