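import Cfsg.Agent.H66.FkSpoQ

/-!
# S5161, piece SPO: `O^{2'}` of the fusion system of `PSp_{2m}(q)`, `q ≡ ±3 (mod 8)`
-/

set_option autoImplicit false

namespace Cfsg.Agent.H66.FkSpo

open Cfsg Cfsg.Agent.H37.FK Cfsg.Agent.H67.FkSpf Subgroup

theorem norm_closure {K : Type*} [Group K] {A : Set K} {g : K}
    (h : ∀ x ∈ A, g * x * g⁻¹ ∈ closure A) : ∀ x ∈ closure A, g * x * g⁻¹ ∈ closure A :=
  (closure_le ((closure A).comap (MulAut.conj g).toMonoidHom)).2 h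

theorem fix_of_comm {K : Type*} [Group K] {g x : K} (h : g * x = x * g) : g * x * g⁻¹ = x :=
  mul_inv_eq_iff_eq_mul.2 h

variable {K : Type} [Group K] {F : Type} [Field F] {m : ℕ} (D : SpD K F m)

theorem norm_Φ {U : Subgroup K} {g : K} (a : Fin m → SL2 F)
    (h : ∀ i, g * D.φ i (a i) * g⁻¹ ∈ U) : g * Φ D a * g⁻¹ ∈ U :=
  Φ_mem D a (U := U.comap (MulAut.conj g).toMonoidHom) h

theorem exists_Φ {x : K} (h : ∀ k, x * D.φ k (-1) * x⁻¹ = D.φ k (-1)) : ∃ c, x = Φ D c := by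
  obtain ⟨c, hc⟩ := D.stab x fun k => mul_inv_eq_iff_eq_mul.1 (h k)
  exact ⟨c, hc.trans (Φ_eq D c)⟩

theorem pm_mem {U : Subgroup K} (hU : ∀ k, D.φ k (-1) ∈ U) {c : Fin m → SL2 F}
    (h : ∀ k, c k = 1 ∨ c k = -1) : Φ D c ∈ U := Φ_mem D c fun k => by
  rcases h k with e | e <;> rw [e]
  exacts [(map_one (D.φ k)).symm ▸ one_mem U, hU k]

theorem pair_inj (hm : 3 ≤ m) (h2 : (2 : F) ≠ 0) {i j : Fin m} (hij : i ≠ j) {a b c d : SL2 F}
    (h : D.φ i a * D.φ j b = D.φ i c * D.φ j d) : a = c ∧ b = d := by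
  have e : Φ D (Pi.mulSingle i (c⁻¹ * a) * Pi.mulSingle j (b * d⁻¹)) = 1 := by
    rw [map_mul, Φ_single, Φ_single, map_mul, map_mul, map_inv, map_inv, mul_assoc,
      ← mul_assoc (D.φ i a), h]
    group
  rw [← Φ_eq, D.ker] at e
  obtain ⟨k, hi, hj⟩ : ∃ k : Fin m, k ≠ i ∧ k ≠ j := by
    by_contra hk
    have : (Finset.univ : Finset (Fin m)) ⊆ {i, j} := fun k _ => by
      by_contra h'
      simp only [Finset.mem_insert, Finset.mem_singleton, not_or] at h'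
      exact hk ⟨k, h'⟩
    have h3 := (Finset.card_le_card this).trans Finset.card_le_two
    simp at h3
    omega
  rcases e with e | e
  · have e1 := e i
    have e2 := e j
    simp only [Pi.mul_apply, Pi.mulSingle_eq_same, Pi.mulSingle_eq_of_ne hij,
      Pi.mulSingle_eq_of_ne hij.symm, mul_one, one_mul] at e1 e2
    exact ⟨(inv_mul_eq_one.1 e1).symm, mul_inv_eq_one.1 e2⟩
  · have := e k
    simp only [Pi.mul_apply, Pi.mulSingle_eq_of_ne hi, Pi.mulSingle_eq_of_ne hj, mul_one] at this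
    exact absurd this.symm (neg_one_ne h2)

variable (Q : Subgroup (SL2 F))

/-- the product of the quaternion groups -/
def Qs : Subgroup K := (Subgroup.pi Set.univ fun _ : Fin m => Q).map (Φ D)

variable {Q}

theorem φ_mem (i : Fin m) {b : SL2 F} (hb : b ∈ Q) : D.φ i b ∈ Qs D Q :=
  ⟨Pi.mulSingle i b, fun k _ => by
    by_cases h : k = i
    · subst h; simpa using hb
    · simp [Pi.mulSingle_eq_of_ne h], Φ_single D i b⟩

theorem norm_Qs {g : K} (h : ∀ i, ∀ b ∈ Q, g * D.φ i b * g⁻¹ ∈ Qs D Q) :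
    ∀ x ∈ Qs D Q, g * x * g⁻¹ ∈ Qs D Q := by
  rintro _ ⟨a, ha, rfl⟩
  exact norm_Φ D a fun i => h i _ (ha i trivial)

theorem Φ_norm {a : Fin m → SL2 F} (ha : ∀ i, ∀ x ∈ Q, a i * x * (a i)⁻¹ ∈ Q) :
    ∀ x ∈ Qs D Q, Φ D a * x * (Φ D a)⁻¹ ∈ Qs D Q :=
  norm_Qs D fun i b hb => Φ_conj D a i b ▸ φ_mem D i (ha i b hb)

theorem φ_norm (i : Fin m) {b : SL2 F} (hb : ∀ x ∈ Q, b * x * b⁻¹ ∈ Q) :
    ∀ x ∈ Qs D Q, D.φ i b * x * (D.φ i b)⁻¹ ∈ Qs D Q :=
  Φ_single D i b ▸ Φ_norm D fun k => by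
    by_cases h : k = i
    · subst h; simpa using hb
    · simp [Pi.mulSingle_eq_of_ne h]

theorem w_norm (π : Equiv.Perm (Fin m)) : ∀ x ∈ Qs D Q, D.w π * x * (D.w π)⁻¹ ∈ Qs D Q :=
  norm_Qs D fun i b hb => D.conj π i b ▸ φ_mem D _ hb

variable {γ : SL2 F} {u v : D2 F} (q : QD Q γ u v)
include q

theorem Qs_cent (x : K) (h : ∀ y ∈ Qs D Q, x * y * x⁻¹ = y) : x ∈ Qs D Q := by
  obtain ⟨c, rfl⟩ := exists_Φ D fun k => h _ (φ_mem D k q.neg)
  exact pm_mem D (fun k => φ_mem D k q.neg) fun k => q.cent _ fun b hb =>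
    D.inj k (by rw [← Φ_conj, h _ (φ_mem D k hb)])

variable {S : Subgroup K} {N : Subgroup K → Subgroup K} (hN : H98.GoodFam 2 ⊤ S N)
  (hS : Qs D Q ≤ S)
include hN hS

omit q in
theorem stepA [Finite K] (i k : Fin m) {b : SL2 F}
    (hb : ∀ x ∈ Q, b * x * b⁻¹ ∈ Q) : D.φ i b * (D.φ k b)⁻¹ ∈ N (Qs D Q) := by
  have h1 : D.w (Equiv.swap i k) ∈ N (Qs D Q) := hN.pElt _ hS _ trivial (w_norm D _)
    (Two.of_sq (by rw [← map_mul, Equiv.swap_mul_self, map_one]))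
  have h2 := hN.conj _ _ hS hS (D.φ i b) trivial
    (mem_normalizer_iff.1 (mem_normalizer_fintype (φ_norm D i hb))) _ h1
  have e := D.conj (Equiv.swap i k) i b
  rw [Equiv.swap_apply_left] at e
  have := mul_mem h2 (inv_mem h1)
  rw [← e]
  simpa only [mul_assoc, _root_.mul_inv_rev, inv_inv] using this

theorem stepB (hm : 3 ≤ m) (h2 : (2 : F) ≠ 0) (hQ : IsPGroup 2 Q) {i j : Fin m} (hij : i ≠ j)
    (hw : D.w (Equiv.swap i j) ∈ S) : D.φ i γ * D.φ j γ ∈ N (Qs D Q) := by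
  obtain ⟨s, s1, s2, s3, s4⟩ := D.had i j hij
  let A : Set K := {x | (∃ k, k ≠ i ∧ k ≠ j ∧ ∃ b ∈ Q, x = D.φ k b) ∨
    (∃ b ∈ Q, x = D.φ i b * D.φ j b) ∨ x = D.φ i (-1)}
  have a1 : ∀ k, k ≠ i → k ≠ j → ∀ b ∈ Q, D.φ k b ∈ closure A := fun k hi hj b hb =>
    subset_closure (Or.inl ⟨k, hi, hj, b, hb, rfl⟩)
  have a2 : ∀ b ∈ Q, D.φ i b * D.φ j b ∈ closure A := fun b hb =>
    subset_closure (Or.inr (Or.inl ⟨b, hb, rfl⟩))
  have a3 : D.φ i (-1) ∈ closure A := subset_closure (Or.inr (Or.inr rfl))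
  have a4 : ∀ k, D.φ k (-1) ∈ closure A := fun k => by
    by_cases hi : k = i
    · exact hi ▸ a3
    by_cases hj : k = j
    · exact hj ▸ (mul_mem_cancel_left a3).1 (a2 _ q.neg)
    · exact a1 k hi hj _ q.neg
  have l0 : closure A ≤ Qs D Q := (closure_le _).2 (by
    rintro _ (⟨k, -, -, b, hb, rfl⟩ | ⟨b, hb, rfl⟩ | rfl)
    exacts [φ_mem D k hb, mul_mem (φ_mem D i hb) (φ_mem D j hb), φ_mem D i q.neg])
  have l1 : closure A ≤ closure (insert (D.w (Equiv.swap i j)) A) :=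
    closure_mono (Set.subset_insert _ _)
  have l2 : closure (insert (D.w (Equiv.swap i j)) A) ≤ S := (closure_le _).2 (by
    rintro x (rfl | hx)
    exacts [hw, hS (l0 (subset_closure hx))])
  have hs : ∀ a, Hu Q a → s a ∈ N (closure (insert (D.w (Equiv.swap i j)) A)) := by
    rintro a ⟨n1, c, hc, n2⟩
    refine hN.pElt _ l2 _ trivial (norm_closure ?_) ?_
    · rintro _ (rfl | ⟨k, hi, hj, b, hb, rfl⟩ | ⟨b, hb, rfl⟩ | rfl)
      · exact (s2 a).2 ▸ l1 (a4 j)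
      · exact (fix_of_comm (s1 a k hi hj b)).symm ▸ l1 (a1 k hi hj b hb)
      · obtain ⟨d, hd, e⟩ := n1 b hb
        exact (s3 a b d e).symm ▸ l1 (a2 d hd)
      · rw [(s2 a).1]
        exact mul_mem (mul_mem (subset_closure (Set.mem_insert _ _)) (l1 a3)) (l1 (a4 j))
    · obtain ⟨n, hn⟩ := (((Two.of_mem hQ hc).map (D.φ i)).mul_of_commute
        ((Two.of_mem hQ hc).map (D.φ j)) (D.comm i j hij c c))
      exact ⟨n + 1, by rw [pow_succ', pow_mul, sq, s4 a a c n2, hn]⟩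
  have e : D.φ i γ * D.φ j γ = Φ D (Pi.mulSingle i γ * Pi.mulSingle j γ) := by
    rw [map_mul, Φ_single, Φ_single]
  have h3 := mul_mem (hs u q.hu) (hs v q.hv)
  rw [s4 u v γ q.uv] at h3
  have h4 : D.φ i γ * D.φ j γ ∈ N (closure A) := hN.res _ _ l1 _ h3 (norm_closure (by
    rintro _ (⟨k, hi, hj, b, hb, rfl⟩ | ⟨b, hb, rfl⟩ | rfl)
    · rw [e, Φ_conj]
      simpa [Pi.mulSingle_eq_of_ne hi, Pi.mulSingle_eq_of_ne hj] using a1 k hi hj b hb
    · rw [← conj_mul, e, Φ_conj, Φ_conj]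
      simpa [Pi.mulSingle_eq_of_ne hij, Pi.mulSingle_eq_of_ne hij.symm] using a2 _ (q.nγ b hb)
    · rw [e, Φ_conj]
      simpa using a3))
  refine hN.extend _ _ l0 hS (fun x _ hx _ => ?_) _ h4 fun x hx => ?_
  · obtain ⟨c, rfl⟩ := exists_Φ D fun k => hx _ (a4 k)
    have p : ∀ b ∈ Q, c i * b * (c i)⁻¹ = b ∧ c j * b * (c j)⁻¹ = b := fun b hb =>
      pair_inj D hm h2 hij (by rw [← Φ_conj, ← Φ_conj, conj_mul, hx _ (a2 b hb)])
    refine pm_mem D a4 fun k => q.cent _ fun b hb => ?_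
    by_cases hi : k = i
    · exact hi ▸ (p b hb).1
    by_cases hj : k = j
    · exact hj ▸ (p b hb).2
    · exact D.inj k (by rw [← Φ_conj, hx _ (a1 k hi hj b hb)])
  · have := φ_norm D i q.nγ _ (φ_norm D j q.nγ x hx)
    simpa only [mul_assoc, _root_.mul_inv_rev] using this

theorem stepC [Finite K] (hm : 3 ≤ m) (h2 : (2 : F) ≠ 0) (hQ : IsPGroup 2 Q) {i j : Fin m}
    (hij : i ≠ j) (hw : D.w (Equiv.swap i j) ∈ S) (k : Fin m) {b : SL2 F}
    (hb : ∀ x ∈ Q, b * x * b⁻¹ ∈ Q) : D.φ k b ∈ N (Qs D Q) := by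
  have h1 : D.φ i b ∈ N (Qs D Q) := by
    refine q.gen ((N (Qs D Q)).comap (D.φ i)) ?_ (fun c hc h => ?_) b hb
    · have := mul_mem (stepA D hN hS i j q.nγ) (stepB D q hN hS hm h2 hQ hij hw)
      rwa [D.comm i j hij, mul_assoc, inv_mul_cancel_left, ← map_mul] at this
    · exact hN.pElt _ hS _ trivial (φ_norm D i hc) (h.map (D.φ i))
  exact inv_mem_iff.1 ((mul_mem_cancel_left h1).1 (stepA D hN hS i k hb))

omit hN hS q in
theorem main [Finite K] [Fintype F] (hm : 3 ≤ m) (h2 : (2 : F) ≠ 0) {Q : Sylow 2 (SL2 F)}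
    (q : QD Q γ u v) (P : Sylow 2 (Equiv.Perm (Fin m))) (S : Sylow 2 K) (h : SpS D P S) :
    OFP K := by
  have hQ : IsPGroup 2 (Qs D Q) := isPGroup_of_two (by
    rintro _ ⟨a, ha, rfl⟩
    obtain ⟨n, hn⟩ := IsPGroup.iff_card.1 Q.isPGroup'
    refine Two.map ⟨n, funext fun i => ?_⟩ _
    have := pow_card_eq_one' (x := (⟨a i, ha i trivial⟩ : (Q : Subgroup (SL2 F))))
    rw [hn] at this
    exact congrArg Subtype.val this)
  have hP : IsPGroup 2 ↥(Qs D Q ⊔ (P : Subgroup (Equiv.Perm (Fin m))).map D.w) :=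
    hQ.to_sup_of_normal_left' (P.isPGroup'.map _) (by
      rintro _ ⟨π, -, rfl⟩
      exact mem_normalizer_fintype (w_norm D π))
  have eJ : ⨆ i, (D.φ i).range = (Φ D).range := le_antisymm
    (iSup_le fun i => by
      rintro _ ⟨b, rfl⟩
      exact ⟨_, Φ_single D i b⟩) (by
      rintro _ ⟨a, rfl⟩
      exact Φ_mem D a fun i => mem_iSup_of_mem i ⟨_, rfl⟩)
  have hL : Qs D Q ⊔ (P : Subgroup (Equiv.Perm (Fin m))).map D.w ≤
      (⨆ i, (D.φ i).range) ⊔ (P : Subgroup (Equiv.Perm (Fin m))).map D.w :=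
    sup_le_sup_right (eJ ▸ map_le_range _ _) _
  obtain ⟨⟨l, hl⟩, hc⟩ := exists_conj_sylow (S.subtype h.1) (hP.comap_subtype)
  obtain ⟨R, hR⟩ := exists_sylow_equiv (MulAut.conj l) S
  have hle : Qs D Q ⊔ (P : Subgroup (Equiv.Perm (Fin m))).map D.w ≤ R := fun x hx =>
    (hR x).2 (hc ⟨x, hL hx⟩ hx)
  have nJ : l ∈ normalizer ((Φ D).range : Set K) := by
    refine (sup_le (eJ ▸ le_normalizer) ?_ : _ ≤ normalizer ((Φ D).range : Set K)) hl
    rintro _ ⟨π, -, rfl⟩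
    refine mem_normalizer_fintype ?_
    rintro _ ⟨a, rfl⟩
    exact norm_Φ D a fun i => D.conj π i (a i) ▸ ⟨_, Φ_single D _ _⟩
  obtain ⟨i, j, hij, hw⟩ : ∃ i j : Fin m, i ≠ j ∧
      Equiv.swap i j ∈ (P : Subgroup (Equiv.Perm (Fin m))) := by
    obtain ⟨π, hπ⟩ := exists_conj_sylow P (Two.of_sq
      (Equiv.swap_mul_self (⟨0, by omega⟩ : Fin m) ⟨1, by omega⟩)).zpowers
    refine ⟨π ⟨0, by omega⟩, π ⟨1, by omega⟩, fun e => by simpa using π.injective e, ?_⟩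
    rw [Equiv.swap_apply_apply]
    exact hπ _ (mem_zpowers _)
  refine ⟨R, fun N hN g hg ho => ?_⟩
  have hJ : l * g * l⁻¹ ∈ (Φ D).range := by
    have := mem_of_ind D h2 (P := ⊥) (π := 1) (one_mem _) (h.2 (l * g * l⁻¹) (fun x hx => by
      have := (hR _).1 (hg (l⁻¹ * x * l) ((hR _).2 (by simpa [mul_assoc] using hx)))
      simpa [mul_assoc] using this) (by
      rwa [← MulAut.conj_apply, (MulAut.conj l).orderOf_eq]))
    rwa [Subgroup.map_bot, sup_bot_eq, eJ] at this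
  obtain ⟨a, rfl⟩ := (mem_normalizer_iff.1 nJ g).2 hJ
  have hS : Qs D Q ≤ R := le_sup_left.trans hle
  have ha : ∀ k, ∀ x ∈ (Q : Subgroup (SL2 F)), a k * x * (a k)⁻¹ ∈ (Q : Subgroup (SL2 F)) :=
    fun k x hx => by
      rw [← Q.is_maximal' (R.isPGroup'.comap_of_injective (D.φ k) (D.inj k))
        fun b hb => hS (φ_mem D k hb), mem_comap, ← Φ_conj]
      exact hg _ (hS (φ_mem D k hx))
  exact hN.extend _ _ hS le_rfl (fun x _ hx _ => Qs_cent D q x hx) _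
    (Φ_mem D a fun k => stepC D q hN hS hm h2 Q.isPGroup' hij
      (hle (mem_sup_right ⟨_, hw, rfl⟩)) k (ha k)) hg

omit hN hS q in
/-- **SPO** -/
theorem spo : SpoStmt := by
  intro F _ _ hF h16 m hm D P S h
  obtain ⟨Q, γ, u, v, q⟩ := exists_qd hF h16
  exact main D hm (two_ne hF) q P S h

end Cfsg.Agent.H66.FkSpo
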