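import Cfsg.Agent.H67.FkSpf
import Cfsg.Agent.H29.Cover

/-!
# The quaternion Sylow subgroup of `SL₂(q)`, `q ≡ ±3 (mod 8)`
-/

set_option autoImplicit false

namespace Cfsg.Agent.H66.FkSpo

open Cfsg.Agent.H37.FK Subgroup Matrix

/-- quaternion units -/
structure Quat {G : Type*} [Group G] [HasDistribNeg G] (I J K : G) : Prop where
  ii : I * I = -1
  jj : J * J = -1
  ij : I * J = K
  ji : J * I = -K
  ne : (-1 : G) ≠ 1

namespace Quat

variable {G : Type*} [Group G] [HasDistribNeg G] {I J K : G} (h : Quat I J K)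
include h

theorem ik : I * K = -J := by rw [← h.ij, ← mul_assoc, h.ii, neg_one_mul]

theorem kj : K * J = -I := by rw [← h.ij, mul_assoc, h.jj, mul_neg_one]

theorem ki : K * I = J := by rw [← h.ij, mul_assoc, h.ji, mul_neg, h.ik, neg_neg]

theorem jk : J * K = I := by rw [← h.ij, ← mul_assoc, h.ji, neg_mul, h.kj, neg_neg]

theorem kk : K * K = -1 := by
  nth_rewrite 1 [← h.ij]
  rw [mul_assoc, h.jk, h.ii]

theorem neg_ne (x : G) : -x ≠ x := fun e => h.ne (by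
  have := congrArg (· * x⁻¹) e
  simpa using this)

/-- the quaternion group -/
def grp : Subgroup G where
  carrier := {x | x = 1 ∨ x = -1 ∨ x = I ∨ x = -I ∨ x = J ∨ x = -J ∨ x = K ∨ x = -K}
  one_mem' := Or.inl rfl
  mul_mem' := by
    rintro x y (rfl | rfl | rfl | rfl | rfl | rfl | rfl | rfl)
      (rfl | rfl | rfl | rfl | rfl | rfl | rfl | rfl) <;>
    simp [h.ii, h.jj, h.kk, h.ij, h.ji, h.ik, h.ki, h.jk, h.kj]
  inv_mem' := by
    have a : I⁻¹ = -I := inv_eq_of_mul_eq_one_right (by simp [h.ii])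
    have b : J⁻¹ = -J := inv_eq_of_mul_eq_one_right (by simp [h.jj])
    have c : K⁻¹ = -K := inv_eq_of_mul_eq_one_right (by simp [h.kk])
    rintro x (rfl | rfl | rfl | rfl | rfl | rfl | rfl | rfl) <;> simp [inv_neg, a, b, c]

theorem mem_grp {x : G} : x ∈ h.grp ↔
    x = 1 ∨ x = -1 ∨ x = I ∨ x = -I ∨ x = J ∨ x = -J ∨ x = K ∨ x = -K := Iff.rfl

theorem pgrp : IsPGroup 2 h.grp := isPGroup_of_two fun x hx => ⟨2, by
  rw [show x ^ 2 ^ 2 = x * x * (x * x) by norm_num [pow_succ, mul_assoc]]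
  rcases hx with rfl | rfl | rfl | rfl | rfl | rfl | rfl | rfl <;> simp [h.ii, h.jj, h.kk]⟩

theorem card_ge [Finite G] : 8 ≤ Nat.card h.grp := by
  have h4 : orderOf I = 2 ^ 2 := orderOf_eq_prime_pow (by simpa [sq, h.ii] using h.ne)
    (by rw [show I ^ 2 ^ (1 + 1) = I * I * (I * I) by norm_num [pow_succ, mul_assoc]]
        simp [h.ii])
  have hle : zpowers I ≤ h.grp := zpowers_le.2 (by simp [mem_grp])
  have hne : zpowers I ≠ h.grp := fun e => by
    have : J ∈ zpowers I := e ▸ (by simp [mem_grp])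
    obtain ⟨k, hk⟩ := this
    have c : I * J = J * I := hk ▸ (Commute.refl I).zpow_right k
    exact h.neg_ne K (by rw [← h.ji, ← c, h.ij])
  obtain ⟨n, hn⟩ := IsPGroup.iff_card.1 h.pgrp
  have h1 := card_dvd_of_le hle
  have h2 : Nat.card (zpowers I) ≠ Nat.card h.grp := fun e =>
    hne (eq_of_le_of_card_ge hle e.ge)
  rw [Nat.card_zpowers, h4, hn] at h1 h2
  have h3 := (Nat.pow_dvd_pow_iff_le_right one_lt_two).1 h1
  have h5 : n ≠ 2 := fun e => h2 (by rw [e])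
  rw [hn]
  exact Nat.pow_le_pow_right two_pos (show 3 ≤ n by omega)

/-- an automorphism fixing `± I` has order dividing 4 on the quaternion group -/
theorem aut4 (f : G ≃* G) (hf : ∀ x, f (-x) = -f x) (hI : f I = I ∨ f I = -I)
    (hJ : f J ∈ h.grp) : f (f (f (f I))) = I ∧ f (f (f (f J))) = J := by
  have hK : f K = f I * f J := by rw [← map_mul, h.ij]
  have n1 : f J * f J ≠ 1 := by
    rw [← map_mul, h.jj, hf, map_one]; exact h.ne
  have n2 : f I * f J ≠ f J * f I := by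
    rw [← map_mul, ← map_mul, h.ij, h.ji, hf]; exact (h.neg_ne _).symm
  rcases hI with hI | hI <;> rcases hJ with e | e | e | e | e | e | e | e <;>
    simp [hI, e] at n1 n2 <;> simp [hI, e, hf, hK, h.ik]

/-- the normaliser of the quaternion group is generated by an element of order 3 and 2-elements -/
theorem gen (hc : ∀ c : G, c * I = I * c → c * J = J * c → c = 1 ∨ c = -1) {γ : G}
    (g1 : γ * I * γ⁻¹ = J) (g2 : γ * J * γ⁻¹ = K) (g3 : γ * K * γ⁻¹ = I) (M : Subgroup G)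
    (hγ : γ * γ ∈ M) (hM : ∀ b, (∀ x ∈ h.grp, b * x * b⁻¹ ∈ h.grp) → Two b → b ∈ M) (b : G)
    (hb : ∀ x ∈ h.grp, b * x * b⁻¹ ∈ h.grp) : b ∈ M := by
  have key : ∀ c, (∀ x ∈ h.grp, c * x * c⁻¹ ∈ h.grp) → c * I * c⁻¹ = I ∨ c * I * c⁻¹ = -I →
      c ∈ M := fun c h1 h2 => by
    obtain ⟨a1, a2⟩ := h.aut4 (MulAut.conj c) (fun x => by simp) h2 (h1 J (by simp [mem_grp]))
    simp only [MulAut.conj_apply] at a1 a2
    refine hM c h1 ⟨3, ?_⟩
    rw [show c ^ 2 ^ 3 = c * c * c * c * (c * c * c * c) by norm_num [pow_succ, mul_assoc]]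
    rcases hc (c * c * c * c) (mul_inv_eq_iff_eq_mul.1 (Eq.trans (by group) a1))
      (mul_inv_eq_iff_eq_mul.1 (Eq.trans (by group) a2)) with e | e <;> simp [e]
  have nγ : ∀ x ∈ h.grp, γ * x * γ⁻¹ ∈ h.grp := by
    rintro x (rfl | rfl | rfl | rfl | rfl | rfl | rfl | rfl) <;> simp [mem_grp, g1, g2, g3]
  have mul : ∀ c d : G, (∀ x ∈ h.grp, c * x * c⁻¹ ∈ h.grp) → (∀ x ∈ h.grp, d * x * d⁻¹ ∈ h.grp) →
      ∀ x ∈ h.grp, c * d * x * (c * d)⁻¹ ∈ h.grp := fun c d h1 h2 x hx => by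
    have := h1 _ (h2 x hx)
    simpa only [mul_assoc, _root_.mul_inv_rev] using this
  have cj : ∀ c d x : G, c * d * x * (c * d)⁻¹ = c * (d * x * d⁻¹) * c⁻¹ := fun c d x => by group
  have mγ : γ ∈ M := by
    have := key (γ * (γ * γ)) (mul _ _ nγ (mul _ _ nγ nγ)) (Or.inl (by rw [cj, cj, g1, g2, g3]))
    exact (mul_mem_cancel_right hγ).1 this
  have n1 : b * I * b⁻¹ * (b * I * b⁻¹) ≠ 1 := by
    rw [conj_mul, h.ii]; simpa using h.ne
  rcases hb I (by simp [mem_grp]) with e | e | e | e | e | e | e | e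
  · simp [e] at n1
  · simp [e] at n1
  · exact key b hb (Or.inl e)
  · exact key b hb (Or.inr e)
  · exact (mul_mem_cancel_left hγ).1 (key _ (mul _ _ (mul _ _ nγ nγ) hb)
      (Or.inl (by rw [cj, cj, e, g2, g3])))
  · exact (mul_mem_cancel_left hγ).1 (key _ (mul _ _ (mul _ _ nγ nγ) hb)
      (Or.inr (by rw [cj, cj, e, mul_neg, neg_mul, g2, mul_neg, neg_mul, g3])))
  · exact (mul_mem_cancel_left mγ).1 (key _ (mul _ _ nγ hb) (Or.inl (by rw [cj, e, g3])))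
  · exact (mul_mem_cancel_left mγ).1 (key _ (mul _ _ nγ hb)
      (Or.inr (by rw [cj, e, mul_neg, neg_mul, g3])))

end Quat

section SL

variable {F : Type} [Field F]

/-- matrices of determinant 2 -/
abbrev D2 (F : Type) [Field F] : Type := {a : Matrix (Fin 2) (Fin 2) F // a.det = 2}

/-- a matrix of determinant 2 normalising `Q` with square in `2 Q` -/
def Hu (Q : Subgroup (SL2 F)) (u : D2 F) : Prop :=
  (∀ b ∈ Q, ∃ c ∈ Q, u.1 * b.1 = c.1 * u.1) ∧ ∃ c ∈ Q, u.1 * u.1 = (2 : F) • c.1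

/-- what is needed of the Sylow subgroup -/
structure QD (Q : Subgroup (SL2 F)) (γ : SL2 F) (u v : D2 F) : Prop where
  neg : -1 ∈ Q
  cent : ∀ c : SL2 F, (∀ b ∈ Q, c * b * c⁻¹ = b) → c = 1 ∨ c = -1
  hu : Hu Q u
  hv : Hu Q v
  uv : u.1 * v.1 = (2 : F) • γ.1
  nγ : ∀ b ∈ Q, γ * b * γ⁻¹ ∈ Q
  gen : ∀ M : Subgroup (SL2 F), γ * γ ∈ M →
    (∀ b, (∀ x ∈ Q, b * x * b⁻¹ ∈ Q) → Two b → b ∈ M) → ∀ b, (∀ x ∈ Q, b * x * b⁻¹ ∈ Q) → b ∈ M

/-- `i` -/
def qI : SL2 F := ⟨!![0, -1; 1, 0], by simp [det_fin_two]⟩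

variable {a b : F} (hab : a ^ 2 + b ^ 2 = -1)

/-- `j` -/
def qJ : SL2 F := ⟨!![a, b; b, -a], by simp [det_fin_two]; linear_combination -hab⟩

/-- `k` -/
def qK : SL2 F := ⟨!![-b, a; a, b], by simp [det_fin_two]; linear_combination -hab⟩

theorem vI : (qI : SL2 F).1 = !![0, -1; 1, 0] := rfl

theorem vJ : (qJ hab).1 = !![a, b; b, -a] := rfl

theorem vK : (qK hab).1 = !![-b, a; a, b] := rfl

theorem vmul (x y : SL2 F) : (x * y).1 = x.1 * y.1 := rfl

theorem vneg (x : SL2 F) : (-x).1 = -x.1 := rfl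

theorem vone : (1 : SL2 F).1 = 1 := rfl

theorem quat (h2 : (2 : F) ≠ 0) : Quat qI (qJ hab) (qK hab) := by
  refine ⟨?_, ?_, ?_, ?_, H67.FkSpf.neg_one_ne h2⟩ <;> refine Subtype.ext ?_ <;>
    simp only [vmul, vneg, vone, vI, vJ, vK] <;> ext i j <;> fin_cases i <;> fin_cases j <;>
    simp <;> first | ring1 | linear_combination hab

theorem cent_pm (h2 : (2 : F) ≠ 0) (c : SL2 F) (hI : c * qI = qI * c)
    (hJ : c * qJ hab = qJ hab * c) : c = 1 ∨ c = -1 := by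
  have d := c.2
  rw [det_fin_two] at d
  have e1 := congrArg (fun x : SL2 F => x.1 0 0) hI
  have e2 := congrArg (fun x : SL2 F => x.1 0 1) hI
  have e3 := congrArg (fun x : SL2 F => x.1 0 0) hJ
  have e4 := congrArg (fun x : SL2 F => x.1 0 1) hJ
  simp only [vmul, vI, vJ] at e1 e2 e3 e4
  simp [Matrix.mul_apply, Fin.sum_univ_two, -mul_eq_mul_right_iff, -mul_eq_mul_left_iff]
    at e1 e2 e3 e4
  have b0 : c.1 1 0 = 0 := mul_left_cancel₀ h2 (by
    linear_combination (2 * c.1 1 0) * hab + b * e3 - a * e4 - (2 * a ^ 2 + b ^ 2) * e1 +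
      a * b * e2)
  refine H67.FkSpf.sq_eq_one h2 (Subtype.ext ?_)
  rw [b0] at e1 d
  rw [vmul, vone]
  ext i j; fin_cases i <;> fin_cases j <;> simp [Matrix.mul_apply, Fin.sum_univ_two, b0, e1] <;>
    grind

theorem exists_qd [Fintype F] (hF : Odd (Fintype.card F)) (h16 : ¬ 16 ∣ Fintype.card F ^ 2 - 1) :
    ∃ (Q : Sylow 2 (SL2 F)) (γ : SL2 F) (u v : D2 F), QD Q γ u v := by
  have h2 := H67.FkSpf.two_ne hF
  obtain ⟨a, b, hab⟩ : ∃ a b : F, a ^ 2 + b ^ 2 = -1 := by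
    obtain ⟨p, hp⟩ := CharP.exists F
    have := CharP.char_is_prime F p
    have : NeZero p := ⟨this.ne_zero⟩
    obtain ⟨a, b, h⟩ := CharP.sq_add_sq F p (-1)
    exact ⟨a, b, by simpa using h⟩
  have h := quat hab h2
  set I : SL2 F := qI
  set J := qJ hab
  set K := qK hab
  obtain ⟨Q, hQ⟩ := h.pgrp.exists_le_sylow
  have eQ : (Q : Subgroup (SL2 F)) = h.grp := by
    refine (eq_of_le_of_card_ge hQ (le_trans ?_ h.card_ge)).symm
    obtain ⟨n, hn⟩ := IsPGroup.iff_card.1 Q.isPGroup'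
    have h1 := card_subgroup_dvd_card (Q : Subgroup (SL2 F))
    rw [hn, H29.card_SL2, Nat.card_eq_fintype_card, mul_left_comm, ← Nat.sq_sub_sq, one_pow] at h1
    have h3 := (Nat.Coprime.pow_left n (Nat.coprime_two_left.2 hF)).dvd_of_dvd_mul_left h1
    rw [hn]
    exact Nat.pow_le_pow_right two_pos (show n ≤ 3 by
      by_contra h4
      exact h16 ((pow_dvd_pow 2 (show 4 ≤ n by omega)).trans h3))
  have v : ∀ {x y z : SL2 F}, x * y = z → x.1 * y.1 = z.1 := fun e => e ▸ rfl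
  have ii := v h.ii
  have jj := v h.jj
  have ij := v h.ij
  have ji := v h.ji
  have ik := v h.ik
  have ki := v h.ki
  have jk := v h.jk
  have kj := v h.kj
  simp only [vneg, vone] at ii jj ji ik kj
  let u : D2 F := ⟨1 + I.1, by simp [I, vI, det_fin_two]; norm_num⟩
  let w : D2 F := ⟨1 + J.1, by simp [J, vJ, det_fin_two]; linear_combination -hab⟩
  let γ : SL2 F := ⟨(2 : F)⁻¹ • (u.1 * w.1), by
    rw [det_smul, det_mul, u.2, w.2, Fintype.card_fin]; field_simp⟩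
  have uv : u.1 * w.1 = (2 : F) • γ.1 := by
    simp only [γ, smul_smul, mul_inv_cancel₀ h2, one_smul]
  have uI : u.1 * I.1 = I.1 * u.1 := by simp only [u, add_mul, mul_add, one_mul, mul_one]
  have uJ : u.1 * J.1 = K.1 * u.1 := by
    simp only [u, add_mul, mul_add, one_mul, mul_one, ij, ki, add_comm]
  have uK : u.1 * K.1 = -J.1 * u.1 := by
    simp only [u, add_mul, mul_add, one_mul, mul_one, ik, neg_mul, ji, neg_neg, add_comm]
  have wJ : w.1 * J.1 = J.1 * w.1 := by simp only [w, add_mul, mul_add, one_mul, mul_one]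
  have wI : w.1 * I.1 = -K.1 * w.1 := by
    simp only [w, add_mul, mul_add, one_mul, mul_one, ji, neg_mul, kj, neg_neg, add_comm]
  have wK : w.1 * K.1 = I.1 * w.1 := by
    simp only [w, add_mul, mul_add, one_mul, mul_one, jk, ij, add_comm]
  have cγ : ∀ x y : SL2 F, u.1 * w.1 * x.1 = y.1 * (u.1 * w.1) → γ * x * γ⁻¹ = y := fun x y e =>
    mul_inv_eq_iff_eq_mul.2 (Subtype.ext (by
      rw [vmul, vmul]
      simp only [γ, Matrix.smul_mul, Matrix.mul_smul, e]))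
  have g1 : γ * I * γ⁻¹ = J := cγ _ _ (by
    rw [mul_assoc, wI, ← mul_assoc, mul_neg, uK, neg_mul J.1, neg_neg, mul_assoc])
  have g2 : γ * J * γ⁻¹ = K := cγ _ _ (by rw [mul_assoc, wJ, ← mul_assoc, uJ, mul_assoc])
  have g3 : γ * K * γ⁻¹ = I := cγ _ _ (by rw [mul_assoc, wK, ← mul_assoc, uI, mul_assoc])
  have hu : ∀ u : D2 F, (∀ x, x = I ∨ x = J ∨ x = K → ∃ c ∈ h.grp, u.1 * x.1 = c.1 * u.1) →
      ∀ x ∈ h.grp, ∃ c ∈ h.grp, u.1 * x.1 = c.1 * u.1 := fun u hu x hx => by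
    have n : ∀ x : SL2 F, (∃ c ∈ h.grp, u.1 * x.1 = c.1 * u.1) →
        ∃ c ∈ h.grp, u.1 * (-x).1 = c.1 * u.1 := fun x ⟨c, h1, h3⟩ =>
      ⟨-c, neg_one_mul c ▸ mul_mem (by simp [h.mem_grp]) h1, by
        rw [vneg, vneg, mul_neg, neg_mul, h3]⟩
    have o : ∃ c ∈ h.grp, u.1 * (1 : SL2 F).1 = c.1 * u.1 := ⟨1, one_mem _, by simp⟩
    rcases hx with rfl | rfl | rfl | rfl | rfl | rfl | rfl | rfl
    exacts [o, n _ o, hu _ (by simp), n _ (hu _ (by simp)), hu _ (by simp), n _ (hu _ (by simp)),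
      hu _ (by simp), n _ (hu _ (by simp))]
  have hc : ∀ c, c * I = I * c → c * J = J * c → c = 1 ∨ c = -1 := cent_pm hab h2
  refine ⟨Q, γ, u, w, eQ ▸ ⟨by simp [h.mem_grp], fun c e => hc c
    (mul_inv_eq_iff_eq_mul.1 (e _ (by simp [h.mem_grp])))
    (mul_inv_eq_iff_eq_mul.1 (e _ (by simp [h.mem_grp]))), ⟨hu u ?_, I, by simp [h.mem_grp], ?_⟩,
    ⟨hu w ?_, J, by simp [h.mem_grp], ?_⟩, uv, ?_, h.gen hc g1 g2 g3⟩⟩
  · rintro x (rfl | rfl | rfl)
    exacts [⟨I, by simp [h.mem_grp], uI⟩, ⟨K, by simp [h.mem_grp], uJ⟩,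
      ⟨-J, by simp [h.mem_grp], uK⟩]
  · simp only [u, add_mul, mul_add, one_mul, mul_one, ii, two_smul]; abel
  · rintro x (rfl | rfl | rfl)
    exacts [⟨-K, by simp [h.mem_grp], wI⟩, ⟨J, by simp [h.mem_grp], wJ⟩,
      ⟨I, by simp [h.mem_grp], wK⟩]
  · simp only [w, add_mul, mul_add, one_mul, mul_one, jj, two_smul]; abel
  · rintro x (rfl | rfl | rfl | rfl | rfl | rfl | rfl | rfl) <;> simp [h.mem_grp, g1, g2, g3]

end SL

end Cfsg.Agent.H66.FkSpo
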