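import Cfsg.Agent.H66.FrA
import Cfsg.Agent.H53.FMDefs
import Cfsg.Agent.H91.FrobPack
import Cfsg.Agent.S0042
import Cfsg.Agent.H5.Frobenius

/-!
# The rows S4119, S4121, S4122, S4123 from the solvability theorem `NilStmt`
-/

set_option autoImplicit false
set_option linter.unusedSectionVars false
set_option linter.unusedVariables false
set_option linter.style.haveILetI false

namespace Cfsg.Agent.H66.FR

open Subgroup Cfsg.Agent.H4.Ext Cfsg.Agent.H92 Cfsg.Agent.H53.FM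

universe u v

theorem setup {A : Type*} [Group A] [Finite A] {F H : Subgroup A} [F.Normal]
    (hH : IsFrobeniusComplement H) (hker : frobeniusKernel H = (F : Set A)) :
    Group.IsNilpotent F ∧ SRPair F H ∧ F.IsComplement' H := by
  obtain ⟨N, hN, -, hNnil⟩ := S0042.result H hH
  have hNF : N = F := SetLike.coe_injective (hN.trans hker)
  subst hNF
  refine ⟨hNnil, ⟨fun h _ f hf => Normal.conj_mem inferInstance f hf h, fun h hh f hf e => ?_⟩,
    H91.frob_isComplement' hH hker⟩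
  by_contra hne
  push Not at hne
  have hc : Commute f h := by
    rw [mul_inv_eq_iff_eq_mul] at e
    exact e.symm
  exact hne.2 (H5.eq_one_of_mem_of_mem_frobeniusKernel (H5.frob_mem_of_commute hH hh hne.1 hc)
    (hN ▸ hf))

theorem solv (hN : NilStmt.{u}) {A : Type v} {K : Type u} [Group A] [Finite A] [Group K] [Finite K]
    (φ : A →* MulAut K) {F : Subgroup A} (hF : Group.IsNilpotent F) (h : fixB φ F = ⊥) :
    Group.IsSolvable K :=
  hN K (F.map φ) (H3.isNilpotent_map hF φ) fun g hg => by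
    rw [← mem_bot, ← h]
    exact fun f hf => hg ⟨φ f, mem_map_of_mem φ hf⟩

variable (hN : NilStmt.{u}) {G : Type u} {A : Type v} [Group G] [Finite G] [Group A] [Finite A]
  [MulDistribMulAction A G] (Fk Hc : Subgroup A) [Fk.Normal] (hHc : IsFrobeniusComplement Hc)
  (hker : frobeniusKernel Hc = (Fk : Set A))
include hN hHc hker

theorem s4121 (N : Subgroup G) [N.Normal] (hNA : ∀ (a : A) (n : G), n ∈ N → a • n ∈ N)
    (hCNF : ∀ n ∈ N, (∀ f ∈ Fk, f • n = n) → n = 1) (g : G) (hg : ∀ h ∈ Hc, g⁻¹ * h • g ∈ N) :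
    ∃ c : G, (∀ h ∈ Hc, h • c = c) ∧ c⁻¹ * g ∈ N := by
  obtain ⟨h1, h2, -⟩ := setup hHc hker
  have hI : Inv (MulDistribMulAction.toMulAut A G) N := hNA
  have h3 : N ⊓ fixB (MulDistribMulAction.toMulAut A G) Fk = ⊥ :=
    eq_bot_iff.2 fun n hn => hCNF n hn.1 hn.2
  exact cover' h1 h2 hI (solv hN (resAut _ N hI) h1 (eq_bot_iff.2 (fpf_resAut hI h3))) h3 hg

variable (hCF : ∀ g : G, (∀ f ∈ Fk, f • g = g) → g = 1)
include hCF

theorem s4123 (p : ℕ) [Fact p.Prime] :
    ∃! P : Sylow p G, ∀ (a : A) (x : G), x ∈ (P : Subgroup G) → a • x ∈ (P : Subgroup G) := by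
  obtain ⟨h1, -, -⟩ := setup hHc hker
  have h3 : fixB (MulDistribMulAction.toMulAut A G) Fk = ⊥ := eq_bot_iff.2 hCF
  obtain ⟨P, hP, h⟩ := sylow h1 (solv hN _ h1 h3) h3 p
  exact ⟨P, hP, fun Q hQ => h Q fun f _ => (inv_sylow_iff (MulDistribMulAction.toMulAut A G)).1 hQ f⟩

theorem s4122 :
    closure {x : G | ∃ f ∈ Fk, ∃ c : G, (∀ h ∈ Hc, h • c = c) ∧ x = f • c} = ⊤ := by
  obtain ⟨h1, h2, -⟩ := setup hHc hker
  have h3 : fixB (MulDistribMulAction.toMulAut A G) Fk = ⊥ := eq_bot_iff.2 hCF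
  exact gen h1 h2 (solv hN _ h1 h3) h3 fun f hf c hc => subset_closure ⟨f, hf, c, hc, rfl⟩

theorem s4119 : Nat.card G = Nat.card {g : G | ∀ h ∈ Hc, h • g = g} ^ Nat.card Hc := by
  obtain ⟨h1, h2, h4⟩ := setup hHc hker
  have h3 : fixB (MulDistribMulAction.toMulAut A G) Fk = ⊥ := eq_bot_iff.2 hCF
  rw [card_eq h1 h4 h2 (solv hN _ h1 h3) h3]
  congr 1

end Cfsg.Agent.H66.FR
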