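import Cfsg.Agent.H46.SHe
import Cfsg.Agent.H43.Aut
import Cfsg.Agent.H59.KO
import Cfsg.Agent.H85.Basic

/-! Project S95: an outer involution of the Held group and the Sylow subgroup it normalises. -/

set_option autoImplicit false
set_option maxRecDepth 200000
set_option linter.style.longLine false

namespace Cfsg.Agent.H66.HeO

open Subgroup Cfsg.Agent.H44 Cfsg.Agent.H44.Ki Cfsg.Agent.H44.KiHe Cfsg.Agent.H59
open Cfsg.Agent.H46.S95 Cfsg.Agent.H46.S95.He Cfsg.Agent.H85
open Cfsg.Agent.H43 hiding allL allL_iff anyL anyL_iff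

/-- an outer involution normalising the Sylow subgroup -/
noncomputable def tN : Net := (Net.cons (nat_lit 1) (nat_lit 0x14401510000444415151050155104004004551504005451541500515411151451000500500005151145100405151454014045000000045015144414105041041104144405115015140500114514501150000055411451014141010041045415410454040440555110041104450500050110115514014410440454001555005015455114004150105404004554104141144411151050544111054141114405445154151410414105544445144005444144150014001501450050541041444505051511544040011544514150545551110410404114141050010054010101014411511005010100505100500005110004150115505145514404055404450455510004) (Net.cons (nat_lit 2) (nat_lit 0x3310303203322310130201313313011033203321330110212020311112203301110220000213331023100231101203331120101223103133213332012212011023131020102331003230222332201322012233232113201310322012232032022211321033311001020013321210312301210013311113312201130201222013003011303010323110223130121012130122203010201210110233322101120222312021202131220303002233013110301130103230111201023201022302321002202010332122221130320223333320111330123111100301331002012013230223022131112123121302131320133202331301013122332012011112120231)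 (Net.cons (nat_lit 4) (nat_lit 0x60606010803070b0e0b020904070f0e0b0b0a030301000a040e0b0c0d0d040c040f0a01040104020e0902050c0a010b010c080c030000020b01070105080004040100010c0a030c060c09060c0e03060a050b0f0308000f0f09060a09020904050809090500070b02080c09020c060c080609070c0f0c020d0c0109000f03000e0801010006050d070506040009020d0d0902030e08010b0e0a020e080a0301010604000d0407060c020305030902020c0d0d07040107090a0d0f0a0007070501090107040c0a040d080a0d000c010302050e08030801090c0f03070d040a020c0a0304080003060e02010a0c0c090e01000808080a0e09030c03000300060103) (Net.cons (nat_lit 8) (nat_lit 0x10070005c002e004800e200660036000900360040006d002b0009004300e8001f00a8009200ab00710037005a00eb009a00ed00860022008c00fb00aa00fc008600950086004a00e60087006300400007001500000089004600af005f008c00b300f900dd005c0081006e002f0021004100b500490005007500e000a000cb008d00f0006200dc004b001b00c60036009c0066005e00e300e300bc007d00ba001c00ce0055002e00c300e900120050004200e500cc00fe0087004b002000fd00ef006900d80048003e00be00d7001900190049001400190093000700c600a6005300a600bb00230090007e00490008004b00cc00aa006000440092008100940050)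 (Net.cons (nat_lit 16) (nat_lit 0xe87f00000e720000f6560000b308000031a20000218a000062c40000aaef0000a4800000478f000025de00000b5d0000bbe40000178d0000bfa100005db20000af5800003632000050ec0000bfb900005384000064e50000c96500009b1c000022770000891c0000e47c000076b1000060270000d2160000bc340000bb900000516e00005ee60000dd7400009fa00000b7280000421d000015350000c30f00007d6b0000c8000000ec630000bd1f000013a30000eaf9000040ee000000640000e38d0000f2b90000ed50000074150000c4e90000583800004cfb000072470000b04a000066b10000875a0000eae2000002d6000006e9000040570000001a) (Net.cons (nat_lit 32) (nat_lit 0xb07c3cc000000000904291e8000000008961003c00000000b7b55f0000000000867badcf000000002563ff92000000004d5207a900000000c47fc28200000000034cdef8000000007e1b31eb00000000762a47940000000000a6a4df000000005d63d45100000000cda22d520000000077e39cad0000000081a11cda0000000075a6307400000000f95167a5000000004cc654b600000000bd38b90a00000000958392bc00000000aa25a0a300000000dd7d1e4f000000002055227000000000e4659c8f00000000088a044a00000000140fc0c70000000024f99544000000002f4be3c30000000000a0880a000000007297971d00000000000000e4)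 (Net.cons (nat_lit 64) (nat_lit 0x6369b1f3c83291440000000000000000ea3e5de40f9062da0000000000000000328425f4d04b509400000000000000002a82845152336fac000000000000000033a197815b26fab80000000000000000833a482c2907ee790000000000000000bdb303924500c0b900000000000000003e95c9ab60b210ca0000000000000000637f3c774ccb1777000000000000000078e8c15a7e922fc3000000000000000043f16225eb2461bf0000000000000000bb0b8caea86650440000000000000000fa8963994b43050a00000000000000002514223502e2991b0000000000000000211f13425240189800000000000000000000000000000144) (Net.cons (nat_lit 128) (nat_lit 0x3842499423a8aa67f02cb6ab01ea1f75000000000000000000000000000000000e2c400da85055dfd863e0952d05cd6c00000000000000000000000000000000f470dc6e14b6f03d40366fc8b962d7ea00000000000000000000000000000000c025aa3dda4b1f2cd1a21d991ee6c80200000000000000000000000000000000d093abb8aab7c49166b09554692a03db000000000000000000000000000000008a0270700658a0e401b24953d2c6a1cb00000000000000000000000000000000e2cc06ac4b2555828011b29d12ca581e00000000000000000000000000000000000000000000000000000000000000c6)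 (Net.cons (nat_lit 256) (nat_lit 0x2f10ab11120b80838871f187589515b808c621ca05222230440c6e0b4c0c21000000000000000000000000000000000000000000000000000000000000000006251024e43ce08800a065a21bd0824bb1a2a834b36ac82311f7b8e99daeb0792000000000000000000000000000000000000000000000000000000000000000010402b190812e4b350a008990d51e6906a461083500110a22007e0504e6000bb00000000000000000000000000000000000000000000000000000000000000000000000000000000000000000000000000000000000000000000000000000353) (Net.cons (nat_lit 512) (nat_lit 0x60018608692c40a0413029056040968a08040b40706f2f1341be94156b91908980db4600c200ab24960d8829602040255a45501410701510281a70a347459630000000000000000000000000000000000000000000000000000000000000000000000000000000000000000000000000000000000000000000000000000000000000000000000000000000000000000000000000000000000000000000000000000000000000000000000000000000000000000000000000000000000000215) (Net.cons (nat_lit 1024) (nat_lit 0xc0aaff26ac2094b813a2162dad9d47318f81eb67250c2e3bef690dfb9b5d733f3172cc4f31b8714b2a15e2a488635680c45b1d20e65653f5aa9eeb5b24f5e1d71fff62c12af369c31f5118dffae82e596601b5d8e24ad4c25912e09664a46e60e91f38acdd069bfdd5671d2a57c1c32b39aec05b97a96406705314a11a031d7e)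 (Net.cons (nat_lit 2048) (nat_lit 1023) (Net.cons (nat_lit 1024) (nat_lit 734) (Net.cons (nat_lit 512) (nat_lit 0x23d4847d5fefd5a6f3627bc163b8e03b68537ab5bd297868daf42ad6b1c50fd792233ae66691a51d83fa423effe586df411338fdb7c3779f6bdb622d2c8c83e400000000000000000000000000000000000000000000000000000000000000000000000000000000000000000000000000000000000000000000000000000000def967ff13d0d96ac9b36d5f54167de606e10ed0806e36c9e100fdd7e04da7391b461a2c2d7aa55d2e37a2af6da9953de5a7c20ffab170384a1c5d3ba525b0e7) (Net.cons (nat_lit 256) (nat_lit 0x8d972aef6702c1ba8b9599822c9561c71d41756ca700264c8936967f9b560d20000000000000000000000000000000000000000000000000000000000000000083c9d943800e9ec0bd4721c33bf3918e71044b7886186bb4339ef28365a3f026000000000000000000000000000000000000000000000000000000000000000077423745204b4528bc24f0361f3cbeb9eb4f795c59d66c2761321cf6c3f56d3800000000000000000000000000000000000000000000000000000000000000001a7ae147b7e71afdc92ff1dd2d5aa4528b80c5f639563c2fdd8dc6fba50d9825)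 (Net.cons (nat_lit 128) (nat_lit 0x94d651b38e86d00bb7ae81270cba096900000000000000000000000000000000adac4f7bbbd22cc5c28e77e3e477cfda00000000000000000000000000000000179f1e7f8ddb95676abbf49b5146df080000000000000000000000000000000074cc20fda8c73128f50899d38661a742000000000000000000000000000000006b13748e8f6056eed775b34f0b47507e0000000000000000000000000000000091f6d60145f24ee8cfb02a894a04989c0000000000000000000000000000000022217e9109ac055425f327c58bb044cc0000000000000000000000000000000035ff9c72c30c740bede8365f9f0f5d3a) (Net.cons (nat_lit 64) (nat_lit 0x8271162ed603919400000000000000001dee64f9887ee12d0000000000000000e7510b155863501d0000000000000000a1df5598ba812a8b0000000000000000cc096150d341f8a100000000000000007c735f8bd697d51a00000000000000007875590c1a25020300000000000000001f7490d0ed7111d60000000000000000c772d9c596913c210000000000000000112aae8a7c6b308f00000000000000007d8a7cf71a40dd50000000000000000050a4a021fa3b25fa000000000000000071064a7499549a2b0000000000000000c5bcd3968fa9b2420000000000000000f8fc04a5c1d661de0000000000000000b0f17c3ae253d6d0)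 (Net.cons (nat_lit 32) (nat_lit 0x84bd42d0000000006cd48b9600000000cef82d89000000006bdce2d200000000fdc9b7cc00000000e70d1f3400000000e80b67cb000000005e23b86c00000000649221ae000000006309972d00000000956e1f7700000000cafc28ee00000000c67edb0900000000207c00be00000000e7a3421300000000296fa45000000000bbf97dca000000000e3208e4000000000f3ff163000000007cb38bd60000000065b379bc0000000089b60e71000000008743885f0000000007595f0f000000003644568300000000a1f54c5d000000009322dfd9000000004308d5720000000012cd4fbf0000000038dca1030000000098ffa148000000001b95310d) (Net.cons (nat_lit 16) (nat_lit 0xee0000a52c000043a70000c801000090570000f695000081540000f02d0000762f00009363000076f50000948300004cdf00005d5d0000f4c2000072e300008cd800000a1d0000307e00003288000056e40000ffdc0000878d0000aa1d0000fa11000090b50000eb4e000064bd0000796e000027c100003aab00001bd00000bfdc0000cbcf000003ae0000cbb90000b3020000522a000061d30000e10c0000db9d0000a34400004ea400000ea20000f3070000b6120000321600006a690000f50c00007616000085e700002a28000022790000c4920000b4470000f47a0000d267000085a30000eaa00000aeda0000bdd70000864900001d260000d5ec)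 (Net.cons (nat_lit 8) (nat_lit 0xac001d000e0095003d00170043003d00e3007200c0006700ec00c800bb003200c90059001e00d50032000900b100a1009d00b50092005b0030005500a30065001f002f00be00a000b8003d0098007a00b2007d00fb00a400cc000300e5009f00e6004e00d20004000600a60066007200cf001500830092005a007600b5006f000200c700330067009f00e6008e00530015009300ea00cc000d008700b400d50085008e0003007e004b004e00340075008d00d20059005a009a00c3001a00300006008c000100c3001b00ac006d007e00a800e200130055000e00bc00cb00ba000200fc006b00560078003100ec0041009c008c00660027002d00d600e60049) (Net.cons (nat_lit 4) (nat_lit 0xa0a0b060b080f040e0500090a0d0b030a0a00080c010d0e0d07050d0c0d0b040d020c020a0808090f07000d07020104090401030f090a04010b0803010e05040702010609020b0a0a05080c080404040809080e09000409010c0b030c0007040b0703030b01000a04050e0c0c07090e02050005070f0e0e0f0f0f040d0e0e020e0c030b0b01090100020b020b030200010d04090c0d0c0202060f07040807090e07020a04000e070106080a0a0e0a06050b0f0306090a020e0e02050e0c010e0a0809020a080e040a060d060d090801040a0a000700010c070800070f09030a0f0c0a050a0803090b040e03010b0b0e000e040a060f060c0002020608000d0202)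 (Net.cons (nat_lit 2) (nat_lit 0x1131303113313100230132220321020030213231330220033031312202303300213112000121233211031032232101023022303012232203130030031111120310002030201322203031312330120331020033132233132320301020111100003100332031233100303003102120101302110022203103110102100133110122001222110122003011010002011311323231103022122102323032232110222130123011112032330213210113301230302210001312222002033122032013300101122321131212132231320113323231330131233132321320332101211132102310303233100203301320222302210021302002131031231230120223211132) (Net.cons (nat_lit 1) (nat_lit 0x1154045555111100404505400451551551004051550104014055040144404104555055055550404410455150504101541510555455510540411141450514514451411150440540415055441041054405555500144104541414545514510140145101515115000445514451105055505445440041541145115101554000550540100441551405450151551001451414411144404505011444501414441150110401404145141450011110411550111411405541554054105505014514111050504044011515544011041405000004445145151441414505545501545454541144044550545455050455055550445551405440050410041151500151105100045551)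 Net.nil)))))))))))))))))))))))

theorem tN_ok : Net.ok 2058 tN = true := by decide +kernel

theorem tN_nrm : Net.toPerm 2058 tN ∈ normalizer (grp 2058 HeM.E : Set (Equiv.Perm (Fin 2058))) :=
  mem_normalizer_grp fun o ho => HeM.lb_le (conj_mem_of_normB HeZ.hn HeZ.hk HeM.lb_E_ok HeM.E_ok tN_ok
    (ws := [nat_lit 0x252721211f1b1a1a0f111d0d2712, nat_lit 0x2b25211f1903152119, nat_lit 0x25221f1e192b101a140d12, nat_lit 0x2b252b1f1522131f03171b, nat_lit 0x272121151a101b032207, nat_lit 0x1d22191910200f032b05, nat_lit 0x2527221e162203112005]) (by decide +kernel) o ho)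

/-- the outer involution -/
noncomputable def ι : MulAut Γ := normalizerMonoidHom _ ⟨_, tN_nrm⟩

theorem ι_val (g : Γ) : (ι g).1 = Net.toPerm 2058 tN * g.1 * (Net.toPerm 2058 tN)⁻¹ := rfl

/-- the test for a value of `ι` -/
noncomputable def actB (l r : List ℕ) : Bool :=
  Nat.beq (tN.app (FK 2058 12) (evL (FK 2058 12) EG code l (lab 2058 12)))
    (evL (FK 2058 12) EG code r (tN.app (FK 2058 12) (lab 2058 12)))

theorem act {l r : List ℕ} (h : actB l r = true) : ι (ev ν l) = ev ν r := by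
  have hF := rep_FK HeZ.hn.1 12
  have := (det_lab HeZ.hk ⊤).eq trivial trivial
    ((mov_evL hF EG_ok code l _).trans (Net.mov_app hF tN_ok _))
    ((Net.mov_app hF tN_ok _).trans (mov_evL hF EG_ok code r _)) h
  apply Subtype.ext
  rw [ι_val, mul_inv_eq_iff_eq_mul]
  exact (congrArg _ (ok.map_ev l)).trans (this.trans (congrArg (· * _) (ok.map_ev r).symm))

theorem ι_sq : ι * ι = 1 := by
  have hF := rep_FK HeZ.hn.1 12
  have h : Net.toPerm 2058 tN * Net.toPerm 2058 tN = 1 := (det_lab HeZ.hk ⊤).eq trivial trivial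
    ((Net.mov_app hF tN_ok _).trans (Net.mov_app hF tN_ok _)) (Mov.refl _ _ _) (by decide +kernel)
  rw [ι, ← map_mul]
  exact (congrArg _ (Subtype.ext h)).trans (map_one _)

/-- its values on the letters of the Sylow subgroup -/
def Wι : List (List ℕ) :=
  [[], [1], [5, 3, 1], [6, 1], [7], [6, 2], [3, 1], [4], [8, 5, 3, 2, 1], [10, 8, 6, 4, 3, 2], [9, 8,
   7, 6, 5, 2, 1]]

/-- the image of a word -/
noncomputable def io (w : List ℕ) : List ℕ := w.flatMap (nth [] Wι)

theorem ι_chk : allL (fun x => lettersIn 10 (nth [] Wι x) && actB [x] (nth [] Wι x))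
    (List.range' 1 10) = true := by decide +kernel

theorem ι_ν {x : ℕ} (h1 : 1 ≤ x) (h2 : x ≤ 10) :
    lettersIn 10 (nth [] Wι x) = true ∧ ι (ν x) = ev ν (nth [] Wι x) := by
  obtain ⟨a, b⟩ := Bool.and_eq_true_iff.1 (allL_iff.1 ι_chk x (List.mem_range'_1.2 ⟨h1, by omega⟩))
  exact ⟨a, ev_single ν x ▸ act b⟩

theorem ι_ev {w : List ℕ} (h : lettersIn 10 w = true) : ι (ev ν w) = ev ν (io w) := by
  rw [io, ev_flatMap]
  exact (map_ev ι.toMonoidHom ν w).trans (ev_congr fun x hx =>
    (ι_ν (lettersIn_iff.1 h x hx).1 (lettersIn_iff.1 h x hx).2).2)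

theorem ι_T {t : Γ} (h : t ∈ gen ν 10) : ι t ∈ gen ν 10 :=
  (gen_le (K := (gen ν 10).comap ι.toMonoidHom)).2 (fun x h1 h2 =>
    show ι (ν x) ∈ gen ν 10 from (ι_ν h1 h2).2.symm ▸ ev_gen ν (ι_ν h1 h2).1) h

section
variable {G : Type*} [Group G] {g : ℕ → G}

theorem wgen_comm {S : List (List ℕ)} (h : ∀ s ∈ S, ∀ r ∈ S, ev g s * ev g r = ev g r * ev g s) :
    ∀ x ∈ wgen g S, ∀ y ∈ wgen g S, x * y = y * x := fun x hx _ hy =>
  (wgen_le (K := centralizer (wgen g S : Set G))).2 (fun s hs _ hz =>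
    mem_centralizer_singleton_iff.1 ((wgen_le (K := centralizer {ev g s})).2
      (fun r hr => mem_centralizer_singleton_iff.2 (h r hr s hs)) hz)) hy x hx

theorem wgen_sq {S : List (List ℕ)} (h : ∀ s ∈ S, ∀ r ∈ S, ev g s * ev g r = ev g r * ev g s)
    (h2 : ∀ s ∈ S, ev g s * ev g s = 1) : ∀ x ∈ wgen g S, x * x = 1 := fun x hx => by
  induction hx using closure_induction with
  | mem x hx => obtain ⟨s, hs, rfl⟩ := hx; exact h2 s hs
  | one => exact mul_one 1
  | mul x y hx hy a b =>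
    rw [mul_assoc, ← mul_assoc y, wgen_comm h y hy x hx, mul_assoc, b, mul_one, a]
  | inv x _ a => rw [← mul_inv_rev, a, inv_one]

theorem ev_idx (S : List (List ℕ)) (x : List ℕ) : ev g (x.flatMap (nth [] S)) ∈ wgen g S := by
  rw [ev_flatMap]
  exact ev_mem fun i _ => (nth_mem [] S i).elim (fun e => by rw [e]; exact one_mem _) (mem_wgen g _)

/-- the normal forms of a polycyclic series -/
noncomputable def allW (k : ℕ) : List (List ℕ) :=
  Nat.rec (motive := fun _ => List (List ℕ)) [[]] (fun j l => l ++ l.map (Nat.succ j :: ·)) k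

theorem allW_cov {k : ℕ} (h : Pc g k) : ∀ j ≤ k, ∀ y ∈ gen g j,
    ∃ w ∈ allW j, lettersIn j w = true ∧ y = ev g w := fun j hj => by
  induction j with
  | zero => exact fun y hy => ⟨[], List.mem_singleton_self _, rfl, by rwa [gen_zero, mem_bot] at hy⟩
  | succ j ih =>
    intro y hy
    have m : ∀ {w}, lettersIn j w = true → lettersIn (j + 1) w = true := fun hw =>
      lettersIn_iff.2 fun x hx => let h := lettersIn_iff.1 hw x hx; ⟨h.1, h.2.trans j.le_succ⟩
    rcases h.two j hj y hy with e | e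
    · obtain ⟨w, hw, a, b⟩ := ih (by omega) y e
      exact ⟨w, List.mem_append_left _ hw, m a, b⟩
    · obtain ⟨w, hw, a, b⟩ := ih (by omega) _ e
      refine ⟨_, List.mem_append_right _ (List.mem_map_of_mem hw), lettersIn_iff.2 ?_, ?_⟩
      · exact List.forall_mem_cons.2 ⟨⟨by omega, le_rfl⟩, lettersIn_iff.1 (m a)⟩
      · rw [ev_cons, ← b, mul_inv_cancel_left]

theorem allP_zip {β : Type} {p : List ℕ → β → Bool} {l : List (List ℕ)} {l' : List β}
    (h : allP p l l' = true) {a : List ℕ} (ha : l.contains a = true) :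
    ∃ b, p a b = true := allP_spec h a (List.contains_iff_mem.1 ha)

end

/-- the words of a list commute -/
noncomputable def comB (S : List (List ℕ)) : Bool :=
  allL (fun s => allL (fun r => D.eqW (s ++ r) (r ++ s)) S) S

theorem com_of {S : List (List ℕ)} (h : comB S = true) :
    ∀ s ∈ S, ∀ r ∈ S, ev ν s * ev ν r = ev ν r * ev ν s := fun s hs r hr => by
  rw [← ev_append, ← ev_append, ok.eq (allL_iff.1 (allL_iff.1 h s hs) r hr)]

/-- solutions of an equation in the Sylow subgroup -/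
theorem sol_of {f f' : List ℕ → List ℕ} {W : List (List ℕ)}
    (h : allL (fun w => bO (W.contains w) (D.neW (f w) (f' w))) (allW 10) = true) {t : Γ}
    (ht : t ∈ gen ν 10) (e : ∀ w, lettersIn 10 w = true → t = ev ν w → ev ν (f w) = ev ν (f' w)) :
    ∃ w, W.contains w = true ∧ lettersIn 10 w = true ∧ t = ev ν w := by
  obtain ⟨w, hw, a, b⟩ := allW_cov pc 10 le_rfl t ht
  exact ⟨w, (bO_iff.1 (allL_iff.1 h w hw)).resolve_right fun k => ok.ne k (e w a b), a, b⟩

/-- the action of the centraliser on `⟨ν 1, …, ν 4⟩` -/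
def WV : List (List (List ℕ)) :=
  [[[1], [4, 3, 2, 1], [4, 2], [2, 1]], [[1], [2, 1], [3], [4, 3]], [[1], [2, 1], [3], [4]], [[1], [2,
   1], [3, 2, 1], [4, 1]], [[1], [2, 1], [3, 2, 1], [4, 1]], [[1], [2], [3, 1], [4]], [[1], [2], [3,
   2], [4]]]

theorem simple : IsSimpleGroup Γ :=
  haveI := HeM.simple
  ((MonoidHom.ofInjective HeM.inj).trans (MulEquiv.subgroupCongr HeM.range_eq)).symm.isSimpleGroup

theorem ne72 : ν 7 * ν 2 ≠ ν 2 * ν 7 := by
  simpa [ev_cons, ev_nil] using ok.ne (l := [7, 2]) (r := [2, 7]) (by decide +kernel)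

theorem conj_inj : Function.Injective (MulAut.conj : Γ →* MulAut Γ) := by
  have := simple
  rcases (MonoidHom.normal_ker (MulAut.conj : Γ →* MulAut Γ)).eq_bot_or_eq_top with h | h
  · exact (MonoidHom.ker_eq_bot_iff _).1 h
  · exact absurd (mul_inv_eq_iff_eq_mul.1
      (congrArg (· (ν 2)) (h.ge (mem_top (ν 7)) : MulAut.conj _ = 1))) ne72

theorem ι_out : ¬ H46.S95.Inn ι := by
  rintro ⟨c, e⟩
  have h1 : c ∈ centralizer {ν 1} := by
    have := (ι_ν (x := 1) le_rfl (by decide)).2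
    rw [e] at this
    exact mem_centralizer_singleton_iff.2 (mul_inv_eq_iff_eq_mul.1 (this.trans (ev_single ν 1)))
  have h2 := (mem_normalizer_iff.1 (le_norm (orc ok) (S := [1, 2, 3, 4]) (W := WV)
    (by decide +kernel) (cz_c h1)) (ν 4)).1 (ev_single ν 4 ▸ mem_wgen ν [4] (by decide))
  have h3 : c * ν 4 * c⁻¹ = ν 7 := by
    have := (ι_ν (x := 4) (by decide) (by decide)).2
    rw [e] at this
    exact this.trans (ev_single ν 7)
  exact ne72 (wgen_comm (com_of (by decide +kernel)) _ (h3 ▸ h2) _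
    (ev_single ν 2 ▸ mem_wgen ν [2] (by decide)))

/-- the inverted elements -/
def WO : List (List ℕ) :=
  [[], [1], [6, 3], [7, 4], [8, 2], [5, 3, 2], [6, 3, 1], [6, 5, 2], [7, 4, 1], [8, 2, 1], [8, 5, 3],
   [8, 6, 5], [8, 7, 4], [10, 9, 7], [5, 3, 2, 1], [6, 5, 2, 1], [7, 6, 4, 3], [8, 5, 3, 1], [8, 6,
   3, 2], [8, 6, 5, 1], [8, 7, 4, 1], [10, 9, 4, 3], [10, 9, 7, 1], [7, 5, 4, 3, 2], [7, 6, 4, 3,
   1], [7, 6, 5, 4, 2], [8, 6, 3, 2, 1], [8, 7, 6, 4, 3], [10, 9, 4, 3, 1], [10, 9, 5, 4, 2], [10,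
   9, 6, 4, 2], [10, 9, 7, 6, 5], [10, 9, 8, 4, 3], [10, 9, 8, 7, 2], [7, 5, 4, 3, 2, 1], [7, 6, 5,
   4, 2, 1], [8, 7, 5, 4, 3, 2], [8, 7, 6, 4, 3, 1], [8, 7, 6, 5, 4, 2], [10, 9, 5, 4, 2, 1], [10,
   9, 6, 4, 2, 1], [10, 9, 6, 5, 4, 3], [10, 9, 7, 5, 3, 2], [10, 9, 7, 6, 3, 2], [10, 9, 7, 6, 5,
   1], [10, 9, 8, 4, 3, 1], [10, 9, 8, 5, 4, 2], [10, 9, 8, 6, 4, 2], [10, 9, 8, 7, 2, 1], [10, 9,
   8, 7, 5, 3], [10, 9, 8, 7, 6, 3], [8, 7, 5, 4, 3, 2, 1], [8, 7, 6, 5, 4, 2, 1], [10, 9, 6, 5, 4,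
   3, 1], [10, 9, 7, 5, 3, 2, 1], [10, 9, 7, 6, 3, 2, 1], [10, 9, 8, 5, 4, 2, 1], [10, 9, 8, 6, 4,
   2, 1], [10, 9, 8, 6, 5, 4, 3], [10, 9, 8, 7, 5, 3, 1], [10, 9, 8, 7, 6, 3, 1], [10, 9, 8, 7, 6,
   5, 2], [10, 9, 8, 6, 5, 4, 3, 1], [10, 9, 8, 7, 6, 5, 2, 1]]

/-- their trivialisations -/
def SS : List (List ℕ) :=
  [[], [6, 3], [3], [4], [10, 9, 5, 4], [6, 5], [6], [6, 2], [6, 4, 3], [10, 9, 7, 3], [10, 9, 6, 4],
   [10, 9, 7, 2], [10, 9, 6, 2], [9, 7], [2], [5], [4, 3], [10, 9, 4, 3], [10, 9, 4, 2], [10, 9, 4],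
   [10, 9, 5], [9, 5], [9, 6, 4], [6, 5, 4], [6, 4], [6, 4, 2], [10, 9, 7], [10, 9, 6, 5], [9, 6],
   [9, 3], [9, 2], [9, 4], [10, 6, 4], [10, 6], [4, 2], [5, 4], [10, 9, 3], [10, 9, 2], [10, 9], [9,
   6, 2], [9, 6, 3], [9], [9, 4, 3], [9, 4, 2], [9, 7, 6], [10, 5, 4], [10, 7], [10, 7, 5], [10, 5],
   [10, 6, 2], [10, 6, 3], [10, 9, 6], [10, 9, 6, 3], [9, 6, 5], [9, 6, 4, 2], [9, 6, 4, 3], [10, 4,
   3], [10, 4, 2], [10, 7, 3], [10, 3], [10, 2], [10, 6, 5], [10, 4], [10]]

theorem k1 {t : Γ} (ht : t ∈ gen ν 10) (e : t * ι t = 1) : ∃ s ∈ gen ν 10, s * t = ι s := by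
  obtain ⟨w, hw, -, rfl⟩ := sol_of (f := fun w => w ++ io w) (f' := fun _ => []) (W := WO)
    (by decide +kernel) ht fun w a b => by rw [ev_append, ← ι_ev a, ← b, e, ev_nil]
  obtain ⟨s, k⟩ := allP_zip (by decide +kernel :
    allP (fun w s => lettersIn 10 s && D.eqW (s ++ w) (io s)) WO SS = true) hw
  obtain ⟨a, b⟩ := Bool.and_eq_true_iff.1 k
  exact ⟨_, ev_gen ν a, by rw [ι_ev a, ← ev_append, ok.eq b]⟩

/-- the fixed elements -/
def WF : List (List ℕ) :=
  [[], [1], [7, 4], [8, 2], [5, 3, 2], [7, 4, 1], [8, 2, 1], [8, 5, 3], [5, 3, 2, 1], [8, 5, 3, 1],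
   [8, 7, 4, 2], [7, 5, 4, 3, 2], [8, 7, 4, 2, 1], [8, 7, 5, 4, 3], [7, 5, 4, 3, 2, 1], [8, 7, 5, 4,
   3, 1]]

theorem k2 {t : Γ} (ht : t ∈ gen ν 10) (e : ι t = t) : t ∈ WF.map (ev ν) := by
  obtain ⟨w, hw, -, rfl⟩ := sol_of (f := io) (f' := fun w => w) (W := WF)
    (by decide +kernel) ht fun w a b => by rw [← ι_ev a, ← b, e]
  exact List.mem_map_of_mem (List.contains_iff_mem.1 hw)

/-- generators of the first elementary subgroup of order `64` -/
def SU0 : List (List ℕ) :=
  [[1], [2], [3], [5], [8], [9]]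

/-- generators of the second elementary subgroup of order `64` -/
def SU1 : List (List ℕ) :=
  [[1], [2], [6], [8], [5, 3], [10, 4, 3]]

/-- the elements of the first subgroup -/
def W0 : List (List ℕ) :=
  [[], [1], [2], [3], [5], [8], [9], [2, 1], [3, 1], [3, 2], [5, 1], [5, 2], [5, 3], [8, 1], [8, 2],
   [8, 3], [8, 5], [9, 1], [9, 2], [9, 3], [9, 5], [9, 8], [3, 2, 1], [5, 2, 1], [5, 3, 1], [5, 3,
   2], [8, 2, 1], [8, 3, 1], [8, 3, 2], [8, 5, 1], [8, 5, 2], [8, 5, 3], [9, 2, 1], [9, 3, 1], [9,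
   3, 2], [9, 5, 1], [9, 5, 2], [9, 5, 3], [9, 8, 1], [9, 8, 2], [9, 8, 3], [9, 8, 5], [5, 3, 2, 1],
   [8, 3, 2, 1], [8, 5, 2, 1], [8, 5, 3, 1], [8, 5, 3, 2], [9, 3, 2, 1], [9, 5, 2, 1], [9, 5, 3, 1],
   [9, 5, 3, 2], [9, 8, 2, 1], [9, 8, 3, 1], [9, 8, 3, 2], [9, 8, 5, 1], [9, 8, 5, 2], [9, 8, 5, 3],
   [8, 5, 3, 2, 1], [9, 5, 3, 2, 1], [9, 8, 3, 2, 1], [9, 8, 5, 2, 1], [9, 8, 5, 3, 1], [9, 8, 5, 3,
   2], [9, 8, 5, 3, 2, 1]]

/-- the same in its generators -/
def X0 : List (List ℕ) :=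
  [[], [0], [1], [2], [3], [4], [5], [0, 1], [0, 2], [1, 2], [0, 3], [1, 3], [2, 3], [0, 4], [1, 4],
   [2, 4], [3, 4], [0, 5], [1, 5], [2, 5], [3, 5], [4, 5], [0, 1, 2], [0, 1, 3], [0, 2, 3], [1, 2,
   3], [0, 1, 4], [0, 2, 4], [1, 2, 4], [0, 3, 4], [1, 3, 4], [2, 3, 4], [0, 1, 5], [0, 2, 5], [1,
   2, 5], [0, 3, 5], [1, 3, 5], [2, 3, 5], [0, 4, 5], [1, 4, 5], [2, 4, 5], [3, 4, 5], [0, 1, 2, 3],
   [0, 1, 2, 4], [0, 1, 3, 4], [0, 2, 3, 4], [1, 2, 3, 4], [0, 1, 2, 5], [0, 1, 3, 5], [0, 2, 3, 5],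
   [1, 2, 3, 5], [0, 1, 4, 5], [0, 2, 4, 5], [1, 2, 4, 5], [0, 3, 4, 5], [1, 3, 4, 5], [2, 3, 4, 5],
   [0, 1, 2, 3, 4], [0, 1, 2, 3, 5], [0, 1, 2, 4, 5], [0, 1, 3, 4, 5], [0, 2, 3, 4, 5], [1, 2, 3, 4,
   5], [0, 1, 2, 3, 4, 5]]

/-- the other elements of the second subgroup -/
def W1 : List (List ℕ) :=
  [[6], [6, 1], [6, 2], [8, 6], [6, 2, 1], [6, 5, 3], [8, 6, 1], [8, 6, 2], [10, 4, 3], [10, 5, 4],
   [6, 5, 3, 1], [6, 5, 3, 2], [8, 6, 2, 1], [8, 6, 5, 3], [10, 4, 3, 1], [10, 4, 3, 2], [10, 5, 4,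
   1], [10, 5, 4, 2], [10, 6, 4, 3], [10, 6, 5, 4], [10, 8, 4, 3], [10, 8, 5, 4], [6, 5, 3, 2, 1],
   [8, 6, 5, 3, 1], [8, 6, 5, 3, 2], [10, 4, 3, 2, 1], [10, 5, 4, 2, 1], [10, 6, 4, 3, 1], [10, 6,
   4, 3, 2], [10, 6, 5, 4, 1], [10, 6, 5, 4, 2], [10, 8, 4, 3, 1], [10, 8, 4, 3, 2], [10, 8, 5, 4,
   1], [10, 8, 5, 4, 2], [10, 8, 6, 4, 3], [10, 8, 6, 5, 4], [8, 6, 5, 3, 2, 1], [10, 6, 4, 3, 2,
   1], [10, 6, 5, 4, 2, 1], [10, 8, 4, 3, 2, 1], [10, 8, 5, 4, 2, 1], [10, 8, 6, 4, 3, 1], [10, 8,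
   6, 4, 3, 2], [10, 8, 6, 5, 4, 1], [10, 8, 6, 5, 4, 2], [10, 8, 6, 4, 3, 2, 1], [10, 8, 6, 5, 4,
   2, 1]]

/-- the same in its generators -/
def X1 : List (List ℕ) :=
  [[2], [0, 2], [1, 2], [2, 3], [0, 1, 2], [2, 4], [0, 2, 3], [1, 2, 3], [5], [0, 4, 5], [0, 2, 4],
   [1, 2, 4], [0, 1, 2, 3], [2, 3, 4], [0, 5], [1, 5], [4, 5], [0, 1, 4, 5], [2, 5], [0, 2, 4, 5],
   [0, 1, 3, 5], [1, 3, 4, 5], [0, 1, 2, 4], [0, 2, 3, 4], [1, 2, 3, 4], [0, 1, 5], [1, 4, 5], [0,
   2, 5], [1, 2, 5], [2, 4, 5], [0, 1, 2, 4, 5], [1, 3, 5], [0, 3, 5], [0, 1, 3, 4, 5], [3, 4, 5],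
   [0, 1, 2, 3, 5], [1, 2, 3, 4, 5], [0, 1, 2, 3, 4], [0, 1, 2, 5], [1, 2, 4, 5], [3, 5], [0, 3, 4,
   5], [1, 2, 3, 5], [0, 2, 3, 5], [0, 1, 2, 3, 4, 5], [2, 3, 4, 5], [2, 3, 5], [0, 2, 3, 4, 5]]

/-- the remaining involutions -/
def W2 : List (List ℕ) :=
  [[4], [7], [10], [4, 1], [4, 2], [4, 3], [7, 1], [7, 4], [7, 6], [9, 7], [10, 1], [10, 2], [10, 6],
   [4, 2, 1], [4, 3, 1], [4, 3, 2], [6, 4, 3], [7, 3, 2], [7, 4, 1], [7, 5, 2], [7, 5, 3], [7, 5,
   4], [7, 6, 1], [7, 6, 3], [7, 6, 5], [9, 7, 1], [10, 2, 1], [10, 6, 1], [10, 6, 2], [10, 8, 5],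
   [4, 3, 2, 1], [6, 4, 3, 1], [6, 4, 3, 2], [6, 5, 4, 3], [7, 3, 2, 1], [7, 4, 3, 2], [7, 5, 2, 1],
   [7, 5, 3, 1], [7, 5, 4, 1], [7, 6, 3, 1], [7, 6, 4, 2], [7, 6, 5, 1], [7, 6, 5, 3], [7, 6, 5, 4],
   [9, 7, 3, 2], [9, 7, 5, 2], [9, 7, 5, 3], [10, 6, 2, 1], [10, 8, 5, 1], [10, 8, 5, 2], [10, 8, 6,
   3], [6, 4, 3, 2, 1], [6, 5, 4, 3, 1], [6, 5, 4, 3, 2], [7, 4, 3, 2, 1], [7, 5, 4, 3, 2], [7, 6,
   4, 2, 1], [7, 6, 4, 3, 2], [7, 6, 5, 3, 1], [7, 6, 5, 4, 1], [7, 6, 5, 4, 3], [9, 7, 3, 2, 1],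
   [9, 7, 5, 2, 1], [9, 7, 5, 3, 1], [9, 8, 7, 6, 2], [10, 8, 5, 2, 1], [10, 8, 6, 3, 1], [10, 8, 6,
   3, 2], [6, 5, 4, 3, 2, 1], [7, 5, 4, 3, 2, 1], [7, 6, 4, 3, 2, 1], [7, 6, 5, 4, 3, 1], [9, 8, 7,
   6, 2, 1], [9, 8, 7, 6, 3, 2], [9, 8, 7, 6, 5, 2], [10, 8, 6, 3, 2, 1], [9, 8, 7, 6, 3, 2, 1], [9,
   8, 7, 6, 5, 2, 1], [9, 8, 7, 6, 5, 3, 2], [9, 8, 7, 6, 5, 3, 2, 1]]

/-- their classes -/
def X2 : List (List ℕ × List ℕ) :=
  [([], [4]), ([], [7]), ([], [10]), ([5], [4]), ([10], [4]), ([9, 8, 5], [4]), ([2], [7]), ([], [7,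
   4]), ([10], [7]), ([], [9, 7]), ([5, 3], [10]), ([3], [10]), ([7], [10]), ([8], [4]), ([9, 8],
   [4]), ([9], [4]), ([], [6, 4, 3]), ([], [7, 3, 2]), ([2], [7, 4]), ([8, 2], [7, 3, 2]), ([8, 2],
   [7]), ([9, 8], [7, 4]), ([10, 2], [7]), ([10], [7, 3, 2]), ([10, 8], [7, 3, 2]), ([2], [9, 7]),
   ([5], [10]), ([7, 5, 3], [10]), ([7, 5], [10]), ([9, 5], [10]), ([9, 5], [4]), ([3], [6, 4, 3]),
   ([8, 3], [6, 4, 3]), ([9, 8, 3], [6, 4, 3]), ([2], [7, 3, 2]), ([9], [7, 4]), ([8], [7, 3, 2]),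
   ([8], [7]), ([9, 8, 2], [7, 4]), ([10, 2], [7, 3, 2]), ([10], [7, 4]), ([10, 8, 2], [7, 3, 2]),
   ([10, 8], [7]), ([10, 9, 8, 2], [7, 4]), ([4], [9, 7]), ([6, 4, 2], [9, 7]), ([6], [9, 7]), ([7,
   3], [10]), ([9, 3], [10]), ([9, 5, 3], [10]), ([9, 7, 5], [10]), ([8], [6, 4, 3]), ([9, 8], [6,
   4, 3]), ([9], [6, 4, 3]), ([9, 2], [7, 4]), ([8], [7, 4]), ([10, 2], [7, 4]), ([10, 9], [7, 4]),
   ([10, 8, 2], [7]), ([10, 9, 8], [7, 4]), ([10, 8, 2], [7, 4]), ([4, 2], [9, 7]), ([6, 4], [9,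
   7]), ([8], [9, 7]), ([10, 6, 4], [9, 7]), ([9], [10]), ([9, 7, 3], [10]), ([9, 7], [10]), ([9,
   3], [6, 4, 3]), ([8, 2], [7, 4]), ([10, 9, 2], [7, 4]), ([10, 8], [7, 4]), ([10, 6, 4, 2], [9,
   7]), ([10, 8], [9, 7]), ([10], [9, 7]), ([10, 9, 7], [10]), ([10, 6], [9, 7]), ([10, 2], [9, 7]),
   ([10, 4], [9, 7]), ([10, 4, 2], [9, 7])]

/-- representatives -/
def RR : List (List ℕ) :=
  [[4], [7], [10], [7, 4], [9, 7], [6, 4, 3], [7, 3, 2]]

theorem k3 {t : Γ} (ht : t ∈ gen ν 10) (e : t * t = 1) :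
    ∃ w, (W0 ++ (W1 ++ W2)).contains w = true ∧ t = ev ν w := by
  obtain ⟨w, hw, -, rfl⟩ := sol_of (f := fun w => w ++ w) (f' := fun _ => []) (W := W0 ++ (W1 ++ W2))
    (by decide +kernel) ht fun w a b => by rw [ev_append, ← b, e, ev_nil]
  exact ⟨w, hw, rfl⟩

theorem k4 : allL (fun r => Nat.blt ((W0 ++ (W1 ++ W2)).filter
    fun w => bN (D.neW (w ++ r) (r ++ w))).length 64) RR = true := by decide +kernel

/-- An elementary subgroup of order `64` of the Sylow subgroup lies in the union of the two. -/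
theorem k5 {F : Subgroup Γ} (h1 : F ≤ gen ν 10) (h2 : ∀ x ∈ F, x * x = 1) (h3 : 64 ≤ Nat.card F)
    {y : Γ} (hy : y ∈ F) : y ∈ wgen ν SU0 ∨ y ∈ wgen ν SU1 := by
  obtain ⟨w, hw, rfl⟩ := k3 (h1 hy) (h2 y hy)
  rw [List.contains_append, List.contains_append, Bool.or_eq_true, Bool.or_eq_true] at hw
  rcases hw with hw | hw | hw
  · obtain ⟨x, k⟩ := allP_zip (by decide +kernel :
      allP (fun w x => D.eqW w (x.flatMap (nth [] SU0))) W0 X0 = true) hw
    exact .inl (ok.eq k ▸ ev_idx _ _)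
  · obtain ⟨x, k⟩ := allP_zip (by decide +kernel :
      allP (fun w x => D.eqW w (x.flatMap (nth [] SU1))) W1 X1 = true) hw
    exact .inr (ok.eq k ▸ ev_idx _ _)
  obtain ⟨⟨c, r⟩, k⟩ := allP_zip (by decide +kernel :
    allP (fun w (x : List ℕ × List ℕ) => lettersIn 10 x.1 && RR.contains x.2 &&
      D.eqW (x.1 ++ x.2) (w ++ x.1)) W2 X2 = true) hw
  simp only [Bool.and_eq_true] at k
  obtain ⟨⟨a, b⟩, k⟩ := k
  have k := ok.eq k
  rw [ev_append, ev_append] at k
  have h4 := allL_iff.1 k4 r (List.contains_iff_mem.1 b)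
  rw [Nat.blt_eq, ← List.length_map (ev ν)] at h4
  refine absurd (h3.trans ((card_cj (ev ν c)⁻¹ F).ge.trans (ncard_le_len fun x hx => ?_))) h4.not_ge
  have h5 := mem_cj.1 hx
  rw [inv_inv] at h5
  have hc := ev_gen ν a
  obtain ⟨u, hu, rfl⟩ := k3 (t := x)
    (by simpa [mul_assoc] using mul_mem (mul_mem (inv_mem hc) (h1 h5)) hc)
    (by simpa [conj_mul] using h2 _ h5)
  refine List.mem_map_of_mem (List.mem_filter.2 ⟨List.contains_iff_mem.1 hu, bN_iff.2 ?_ ⟩)
  refine Bool.eq_false_iff.2 fun k7 => ok.ne k7 ?_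
  have h6 := h2 _ (mul_mem h5 hy)
  rw [mul_eq_one_iff_eq_inv, mul_inv_rev, inv_eq_of_mul_eq_one_right (h2 _ hy),
    inv_eq_of_mul_eq_one_right (h2 _ h5)] at h6
  rw [ev_append, ev_append, eq_inv_mul_iff_mul_eq.2 k]
  calc _ = (ev ν c)⁻¹ * (ev ν c * ev ν u * (ev ν c)⁻¹ * ev ν w) * ev ν c := by group
    _ = _ := by rw [h6]; group

theorem U0_comm : ∀ x ∈ wgen ν SU0, ∀ y ∈ wgen ν SU0, x * y = y * x :=
  wgen_comm (com_of (by decide +kernel))

theorem U1_comm : ∀ x ∈ wgen ν SU1, ∀ y ∈ wgen ν SU1, x * y = y * x :=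
  wgen_comm (com_of (by decide +kernel))

/-- index words -/
def XA1 : List (List ℕ) :=
  [[0, 1, 2], [0, 2], [1, 2], [0], [2], [], [0, 1], [1]]

/-- index words -/
def XA2 : List (List ℕ) :=
  [[1, 2], [0, 2], [0, 1, 2], [0], [2], [], [0, 1], [1]]

/-- an elementary subgroup of order at least `8` fixed by `ι` -/
theorem el8 {S X : List (List ℕ)} (h1 : comB S = true)
    (h2 : allL (fun s => lettersIn 10 s && D.eqW (s ++ s) [] && D.eqW (io s) s) S = true)
    (h3 : incB D.key (X.map (·.flatMap (nth [] S))) 0 = true) (h4 : X.length = 8) :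
    (∀ x ∈ wgen ν S, x ∈ gen ν 10 ∧ ι x = x ∧ x * x = 1) ∧ 8 ≤ Nat.card (wgen ν S) := by
  have k := fun s hs => Bool.and_eq_true_iff.1 (allL_iff.1 h2 s hs)
  have k' := fun s hs => Bool.and_eq_true_iff.1 (k s hs).1
  refine ⟨fun x hx => ⟨wgen_le.2 (fun s hs => ev_gen ν (k' s hs).1) hx,
    (wgen_le (K := ι.toMonoidHom.eqLocus (MonoidHom.id Γ))).2 (fun s hs =>
      (ι_ev (k' s hs).1).trans (ok.eq (k s hs).2)) hx,
    wgen_sq (com_of h1) (fun s hs => by rw [← ev_append, ok.eq (k' s hs).2, ev_nil]) x hx⟩, ?_⟩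
  have := length_le_card (K := wgen ν S) (ok.nodup h3) fun x hx => by
    obtain ⟨_, hw, rfl⟩ := List.mem_map.1 hx
    obtain ⟨w, -, rfl⟩ := List.mem_map.1 hw
    exact ev_idx _ _
  rwa [List.length_map, List.length_map, h4] at this

theorem A1 : (∀ x ∈ wgen ν [[7, 4], [1], [5, 3, 2]], x ∈ gen ν 10 ∧ ι x = x ∧ x * x = 1) ∧
    8 ≤ Nat.card (wgen ν [[7, 4], [1], [5, 3, 2]]) :=
  el8 (X := XA1) (by decide +kernel) (by decide +kernel) (by decide +kernel) rfl

theorem A2 : (∀ x ∈ wgen ν [[8, 2], [1], [5, 3, 2]], x ∈ gen ν 10 ∧ ι x = x ∧ x * x = 1) ∧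
    8 ≤ Nat.card (wgen ν [[8, 2], [1], [5, 3, 2]]) :=
  el8 (X := XA2) (by decide +kernel) (by decide +kernel) (by decide +kernel) rfl

theorem ab : ev ν [7, 4] * ev ν [8, 2] = ev ν [5, 3, 2] * ev ν [8, 2] * ev ν [7, 4] := by
  rw [← ev_append, ← ev_append, ← ev_append]
  exact ok.eq (by decide +kernel)

theorem c_ne : ev ν [5, 3, 2] ≠ 1 := ok.ne (r := []) (by decide +kernel)

theorem eqns_HeO1 : True := by
  have := @tN.eq_1
  have := @ι.eq_1
  have := @actB.eq_1
  have := @Wι.eq_1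
  have := @io.eq_1
  have := @allW.eq_1
  have := @comB.eq_1
  have := @WV.eq_1
  have := @WO.eq_1
  have := @SS.eq_1
  have := @WF.eq_1
  have := @SU0.eq_1
  have := @SU1.eq_1
  have := @W0.eq_1
  have := @X0.eq_1
  have := @W1.eq_1
  have := @X1.eq_1
  have := @W2.eq_1
  have := @X2.eq_1
  have := @RR.eq_1
  have := @XA1.eq_1
  have := @XA2.eq_1
  trivial

end Cfsg.Agent.H66.HeO
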