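import Cfsg.Agent.H66.HeO1

/-! Project S95: the outer involutions of the Held group. -/

set_option autoImplicit false

namespace Cfsg.Agent.H66.HeO

open Subgroup Cfsg.Agent.H44 Cfsg.Agent.H44.Ki Cfsg.Agent.H44.KiHe Cfsg.Agent.H59
open Cfsg.Agent.H46.S95 Cfsg.Agent.H46.S95.He Cfsg.Agent.H85
open scoped commutatorElement

section
variable {G : Type*} [Group G]

theorem aut_conj (α : MulAut G) (x : G) : α * MulAut.conj x * α⁻¹ = MulAut.conj (α x) :=
  MulEquiv.ext fun y => by simp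

theorem p_zp {α : G} (h : α * α = 1) : IsPGroup 2 (zpowers α) :=
  IsPGroup.of_card_dvd_pow (n := 1) (by
    rw [Nat.card_zpowers, pow_one]; exact orderOf_dvd_of_pow_eq_one (by rw [sq, h]))

theorem rel_card (H K : Subgroup G) : H.relIndex K * Nat.card ↥(H ⊓ K) = Nat.card K := by
  rw [relIndex, ← inf_subgroupOf_right, ← Nat.card_congr (subgroupOfEquivOfLe inf_le_right).toEquiv,
    index_mul_card]

/-- Two abelian subgroups do not cover two noncommuting pairs and their products. -/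
theorem two_cover {M N : Subgroup G} (cM : ∀ x ∈ M, ∀ y ∈ M, x * y = y * x)
    (cN : ∀ x ∈ N, ∀ y ∈ N, x * y = y * x) {a b c d : G} (ha : a ∈ M ∨ a ∈ N) (hb : b ∈ M ∨ b ∈ N)
    (hc : c ∈ M ∨ c ∈ N) (hd : d ∈ M ∨ d ∈ N) (hac : a * c ∈ M ∨ a * c ∈ N)
    (had : a * d ∈ M ∨ a * d ∈ N) (h1 : a * b ≠ b * a) (h2 : c * d ≠ d * c) : False := by
  have k : ∀ {M N : Subgroup G} {x : G}, (∀ x ∈ N, ∀ y ∈ N, x * y = y * x) → a ∈ M → b ∈ N →
      x ∈ N → a * x ∈ M ∨ a * x ∈ N → x ∈ M := fun cN aM bN xN h =>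
    h.elim (mul_mem_cancel_left aM).1 fun e => (h1 (cN _ ((mul_mem_cancel_right xN).1 e) _ bN)).elim
  rcases ha with ha | ha
  · have bN := hb.resolve_left fun e => h1 (cM _ ha _ e)
    exact h2 (cM _ (hc.elim id fun e => k cN ha bN e hac) _ (hd.elim id fun e => k cN ha bN e had))
  · have bM := hb.resolve_right fun e => h1 (cN _ ha _ e)
    exact h2 (cN _ (hc.elim (fun e => k cM ha bM e hac.symm) id) _
      (hd.elim (fun e => k cM ha bM e had.symm) id))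

end

theorem p_T : IsPGroup 2 (gen ν 10) := .of_card (pc.card 10 le_rfl)

theorem syl_T : IsSyl 2 (gen ν 10) ⊤ := ⟨le_top, p_T, fun Q hQ h _ => by
  obtain ⟨k, hk⟩ := IsPGroup.iff_card.1 hQ
  refine (eq_of_le_of_card_ge h (Nat.le_of_dvd Nat.card_pos ?_)).symm
  have := card_subgroup_dvd_card Q
  rw [HeM.card_grp, show 4030387200 = 2 ^ 10 * 3935925 by norm_num, hk] at this
  rw [hk, pc.card 10 le_rfl]
  exact (Nat.Coprime.pow_left k (by norm_num)).dvd_of_dvd_mul_right this⟩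

theorem ι_inv : ι⁻¹ = ι := inv_eq_of_mul_eq_one_right ι_sq

theorem aut_cases (ho : Out2) (α : MulAut Γ) :
    ∃ g, α = MulAut.conj g ∨ α = MulAut.conj g * ι := by
  rcases ho α ι with ⟨g, e⟩ | h | ⟨g, e⟩
  exacts [⟨g, .inl e⟩, absurd h ι_out, ⟨g, .inr (by rw [← e, mul_assoc, ι_sq, mul_one])⟩]

/-- a `2`-group of automorphisms is conjugate into `T ⟨ι⟩` -/
theorem norm (ho : Out2) {R : Subgroup (MulAut Γ)} (hR : IsPGroup 2 R) :
    ∃ g : Γ, ∀ β ∈ R, ∃ t ∈ gen ν 10,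
    MulAut.conj g * β * (MulAut.conj g)⁻¹ = MulAut.conj t ∨
      MulAut.conj g * β * (MulAut.conj g)⁻¹ = MulAut.conj t * ι := by
  obtain ⟨P, hP, h⟩ := exists_isSyl_ge (((p_T.map MulAut.conj).to_sup_of_normal_left' (p_zp ι_sq))
    (zpowers_le_of_mem (mem_normalizer_fintype (by
      rintro _ ⟨t, ht, rfl⟩
      exact ⟨_, ι_T ht, (aut_conj ..).symm⟩)))) le_top
  have hι : ι ∈ P := h (mem_sup_right (mem_zpowers ι))
  have h1 : ∀ t, MulAut.conj t ∈ P → t ∈ gen ν 10 := fun t ht =>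
    (syl_T.eq_of_le (hP.isPGroup.comap_of_injective _ conj_inj)
      (map_le_iff_le_comap.1 (le_sup_left.trans h)) le_top).le ht
  obtain ⟨γ, -, h2⟩ := hP.exists_le_cj hR le_top
  obtain ⟨g, hg⟩ := aut_cases ho γ
  refine ⟨g⁻¹, fun β hβ => ?_⟩
  have h3 : MulAut.conj g⁻¹ * β * (MulAut.conj g⁻¹)⁻¹ ∈ P := by
    have := mem_cj.1 (h2 hβ)
    rw [map_inv, inv_inv]
    rcases hg with rfl | rfl
    · exact this
    · simpa [mul_assoc] using mul_mem (mul_mem hι this) (inv_mem hι)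
  obtain ⟨t, e | e⟩ := aut_cases ho (MulAut.conj g⁻¹ * β * (MulAut.conj g⁻¹)⁻¹)
  · exact ⟨t, h1 t (e ▸ h3), .inl e⟩
  · exact ⟨t, h1 t ((mul_mem_cancel_right hι).1 (e ▸ h3)), .inr e⟩

/-- every outer involution is conjugate to `ι` -/
theorem key (ho : Out2) {α : MulAut Γ} (h1 : α * α = 1) (h2 : ¬ H46.S95.Inn α) {P : Subgroup Γ}
    (hP : IsPGroup 2 P) (h3 : ∀ x ∈ P, α x = x) :
    ∃ g, (∀ x, α (g⁻¹ * x * g) = g⁻¹ * ι x * g) ∧ ∀ x ∈ P, g * x * g⁻¹ ∈ WF.map (ev ν) := by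
  obtain ⟨g, hg⟩ := norm ho (((hP.map MulAut.conj).to_sup_of_normal_left' (p_zp h1))
    (zpowers_le_of_mem (mem_normalizer_fintype (by
      rintro _ ⟨t, ht, rfl⟩
      exact ⟨_, ht, by rw [aut_conj, h3 t ht]⟩))))
  obtain ⟨t, ht, e | e⟩ := hg α (mem_sup_right (mem_zpowers α))
  · exact absurd (Inn.of_mul_left (.conj g) (Inn.of_mul_right (Inn.conj g).inv ⟨t, e⟩)) h2
  obtain ⟨s, hs, k⟩ := k1 ht (conj_inj (by
    rw [map_mul, ← aut_conj, ι_inv, ← mul_assoc, ← mul_assoc,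
      mul_assoc _ _ ι, ← e, conj_mul, h1]
    simp))
  have h4 : ∀ x, α ((s * g)⁻¹ * x * (s * g)) = (s * g)⁻¹ * ι x * (s * g) := fun x => by
    have := congrArg (· (s⁻¹ * x * s)) e
    simp only [MulAut.mul_apply, MulAut.conj_apply, MulAut.conj_inv_apply, map_mul ι, map_inv,
      ← k] at this
    calc _ = g⁻¹ * (g * α (g⁻¹ * (s⁻¹ * x * s) * g) * g⁻¹) * g := by group
      _ = _ := by rw [this]; group
  refine ⟨s * g, h4, fun x hx => k2 ?_ ?_⟩
  · obtain ⟨u, hu, e | e⟩ := hg _ (mem_sup_left (mem_map_of_mem _ hx))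
    · rw [← map_inv, ← map_mul, ← map_mul] at e
      rw [← conj_inj e] at hu
      simpa [mul_assoc] using mul_mem (mul_mem hs hu) (inv_mem hs)
    · exact absurd (Inn.of_mul_left (.conj u) (e ▸ (Inn.conj x).cj _)) ι_out
  · have := h4 (s * g * x * (s * g)⁻¹)
    rw [show (s * g)⁻¹ * (s * g * x * (s * g)⁻¹) * (s * g) = x by group, h3 x hx] at this
    generalize ι (s * g * x * (s * g)⁻¹) = u at this ⊢
    rw [this]; group

theorem fix16 (ho : Out2) {α : MulAut Γ} (h1 : α * α = 1) (h2 : ¬ H46.S95.Inn α) {P : Subgroup Γ}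
    (hP : IsPGroup 2 P) (h3 : ∀ x ∈ P, α x = x) : Nat.card P ≤ 16 := by
  obtain ⟨g, -, h⟩ := key ho h1 h2 hP h3
  rw [← card_cj g P]
  exact ncard_le_len (O := (cj g P : Set Γ)) (l := WF.map (ev ν)) fun x hx => by
    simpa [mul_assoc] using h _ (mem_cj.1 hx)

theorem fix_cj {α : MulAut Γ} {g : Γ} (h : ∀ x, α (g⁻¹ * x * g) = g⁻¹ * ι x * g) {P : Subgroup Γ}
    (hP : ∀ x ∈ P, ι x = x) : ∀ x ∈ cj g⁻¹ P, α x = x := fun x hx => by
  have := h (g * x * g⁻¹)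
  rw [hP _ (by simpa using mem_cj.1 hx)] at this
  simpa [mul_assoc] using this

theorem a_mem : ev ν [7, 4] ∈ wgen ν [[7, 4], [1], [5, 3, 2]] := mem_wgen ν _ (by decide)
theorem b_mem : ev ν [8, 2] ∈ wgen ν [[8, 2], [1], [5, 3, 2]] := mem_wgen ν _ (by decide)
theorem c_mem : ev ν [5, 3, 2] ∈ wgen ν [[7, 4], [1], [5, 3, 2]] := mem_wgen ν _ (by decide)

theorem outF (ho : Out2) : OutF Γ := fun α h1 h2 => by
  obtain ⟨g, h, -⟩ := key ho h1 h2 IsPGroup.of_bot (by simp)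
  refine ⟨zpowers (g⁻¹ * ev ν [5, 3, 2] * g), fun e he => ?_, .inr ⟨by
      simpa [mul_assoc, inv_mul_eq_one] using c_ne,
    α.toMonoidHom.eqLocus (MonoidHom.id Γ), fun _ hx => hx, zpowers_le_of_mem ?_⟩⟩
  · have he' : e ∈ cj g⁻¹ (wgen ν [[7, 4], [1], [5, 3, 2]]) :=
      zpowers_le_of_mem (mem_cj.2 (by simpa [mul_assoc] using c_mem)) he
    obtain ⟨v, hv, rfl⟩ : ∃ v ∈ wgen ν [[7, 4], [1], [5, 3, 2]], e = g⁻¹ * v * g :=
      ⟨g * e * g⁻¹, by simpa using mem_cj.1 he', by group⟩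
    obtain ⟨a, b, c⟩ := A1.1 v hv
    refine ⟨(by group : _ = g⁻¹ * (v * v) * g).trans (by simp [c]), by rw [h, b], ?_⟩
    obtain ⟨s, -, k⟩ := k1 a (by rw [b, c])
    refine ⟨g⁻¹ * ι s * g, ?_⟩
    rw [h, ← MulAut.mul_apply, ι_sq, MulAut.one_apply, ← k]; group
  · have k : ∀ x, ι x = x → g⁻¹ * x * g ∈ α.toMonoidHom.eqLocus (MonoidHom.id Γ) := fun x hx =>
      (h _).trans (by rw [hx]; rfl)
    convert commutator_mem_commutator (k _ (A1.1 _ a_mem).2.1) (k _ (A2.1 _ b_mem).2.1) using 1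
    rw [← mul_inv_eq_iff_eq_mul.2 (mul_inv_eq_iff_eq_mul.2 ab), commutatorElement_def]; group

theorem outM (ho : Out2) : OutM Γ 8 := fun α h1 h2 => by
  obtain ⟨g, h, -⟩ := key ho h1 h2 IsPGroup.of_bot (by simp)
  exact ⟨_, fix_cj h fun x hx => (A1.1 x hx).2.1,
    isPGroup_cj _ (p_T.to_le fun x hx => (A1.1 x hx).1), A1.2.trans (card_cj _ _).ge⟩

theorem index_two (ho : Out2) : (MulAut.conj : Γ →* MulAut Γ).range.index = 2 :=
  index_eq_two_iff.2 ⟨ι, fun β => by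
    obtain ⟨g, rfl | rfl⟩ := aut_cases ho β
    · exact .inr ⟨⟨g, rfl⟩, fun ⟨c, e⟩ => ι_out (Inn.of_mul_left (Inn.conj g) ⟨c, e.symm⟩)⟩
    · exact .inl ⟨⟨g, by rw [mul_assoc, ι_sq, mul_one]⟩,
        fun ⟨c, e⟩ => ι_out (Inn.of_mul_left (Inn.conj g) ⟨c, e.symm⟩)⟩⟩

/-- An elementary group of automorphisms of order `64` is inner. -/
theorem inner64 (ho : Out2) {E : Subgroup (MulAut Γ)} (s1 : ∀ γ ∈ E, γ * γ = 1)
    (c1 : 64 ≤ Nat.card E) : E ≤ MulAut.conj.range := by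
  by_contra h
  have s2 : ∀ x ∈ E.comap MulAut.conj, x * x = 1 := fun x hx =>
    conj_inj (by rw [map_mul, s1 _ hx, map_one])
  have c2 : Nat.card ↥(MulAut.conj.range ⊓ E) = Nat.card (E.comap MulAut.conj) := by
    rw [← map_comap_eq, card_map_of_injective conj_inj]
  have c3 := rel_card MulAut.conj.range E
  obtain ⟨γ, h1, h2⟩ := SetLike.not_le_iff_exists.1 h
  have c4 := fix16 ho (s1 γ h1) (fun ⟨g, e⟩ => h2 ⟨g, e.symm⟩) (P := E.comap MulAut.conj)
    (fun x => ⟨1, Subtype.ext (by simpa [sq] using s2 x x.2)⟩) fun x hx => conj_inj (by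
      rw [← aut_conj, inv_eq_of_mul_eq_one_right (s1 γ h1), mul_assoc,
        ← inv_eq_of_mul_eq_one_right (s1 _ (mul_mem hx h1)), mul_inv_rev, mul_inv_cancel_left,
        inv_eq_of_mul_eq_one_right (s1 _ hx)])
  have : (MulAut.conj : Γ →* MulAut Γ).range.Normal := normal_of_index_eq_two (index_two ho)
  have c5 : (MulAut.conj : Γ →* MulAut Γ).range.relIndex E ≤ 2 :=
    Nat.le_of_dvd two_pos (index_two ho ▸ relIndex_dvd_index_of_normal _ _)
  nlinarith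

/-- the subgroup `D₈ × 2` -/
noncomputable def P0 : Subgroup Γ :=
  wgen ν [[7, 4], [1], [5, 3, 2]] ⊔ wgen ν [[8, 2], [1], [5, 3, 2]]

theorem P0_le : P0 ≤ gen ν 10 := sup_le (fun x hx => (A1.1 x hx).1) fun x hx => (A2.1 x hx).1

theorem P0_fix : ∀ x ∈ P0, ι x = x := fun _ hx =>
  sup_le (c := ι.toMonoidHom.eqLocus (MonoidHom.id Γ)) (fun x hx => (A1.1 x hx).2.1)
    (fun x hx => (A2.1 x hx).2.1) hx

theorem no_inj (ho : Out2) (f : P0 × P0 →* MulAut Γ) (hf : Function.Injective f) : False := by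
  have hp : IsPGroup 2 P0 := p_T.to_le P0_le
  have hq : IsPGroup 2 (P0 × P0) := by
    obtain ⟨k, hk⟩ := IsPGroup.iff_card.1 hp
    exact .of_card (n := k + k) (by rw [Nat.card_prod, hk, pow_add])
  obtain ⟨g, -, hg⟩ := syl_T.exists_cj_le (Q := f.range.comap MulAut.conj)
    ((hq.of_equiv (MonoidHom.ofInjective hf)).comap_of_injective _ conj_inj) le_top
  have k : ∀ {A B : Subgroup Γ}, A ≤ P0 → B ≤ P0 → (∀ x ∈ A, x * x = 1) → (∀ x ∈ B, x * x = 1) →
      8 ≤ Nat.card A → 8 ≤ Nat.card B → ∀ x y : P0, x.1 ∈ A → y.1 ∈ B →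
      f (x, y) ∈ (cj g⁻¹ (wgen ν SU0)).map MulAut.conj ∨
        f (x, y) ∈ (cj g⁻¹ (wgen ν SU1)).map MulAut.conj := by
    intro A B a1 b1 a2 b2 a3 b3 x y hx hy
    set E := ((A.subgroupOf P0).prod (B.subgroupOf P0)).map f with hE
    have s1 : ∀ γ ∈ E, γ * γ = 1 := by
      rintro _ ⟨x, hx, rfl⟩
      rw [← map_mul, show x * x = 1 from Prod.ext (Subtype.ext (a2 _ hx.1)) (Subtype.ext (b2 _ hx.2)),
        map_one]
    have c1 : 64 ≤ Nat.card E := by
      rw [hE, card_map_of_injective hf, Nat.card_congr (prodEquiv _ _).toEquiv, Nat.card_prod,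
        Nat.card_congr (subgroupOfEquivOfLe a1).toEquiv,
        Nat.card_congr (subgroupOfEquivOfLe b1).toEquiv]
      exact Nat.mul_le_mul a3 b3
    have i := inner64 ho s1 c1
    have m : f (x, y) ∈ E := mem_map_of_mem _ ⟨hx, hy⟩
    obtain ⟨c, hc⟩ := i m
    have c2 : Nat.card (E.comap MulAut.conj) = Nat.card E := by
      rw [← card_map_of_injective conj_inj, map_comap_eq_self i]
    have := k5 (F := cj g (E.comap MulAut.conj))
      ((cj_mono g (comap_mono (map_le_range _ _))).trans hg) (fun x hx => by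
        have h0 : MulAut.conj (g⁻¹ * x * g) ∈ E := mem_cj.1 hx
        have := conj_inj ((map_mul _ _ _).trans ((s1 _ h0).trans (map_one _).symm))
        exact (by group : _ = g * (g⁻¹ * x * g * (g⁻¹ * x * g)) * g⁻¹).trans (by simp [this]))
      (by rwa [card_cj, c2])
      (conj_mem_cj (x := c) (show MulAut.conj c ∈ E from hc ▸ m))
    exact this.imp (fun e => ⟨c, mem_cj.2 (by simpa using e), hc⟩)
      fun e => ⟨c, mem_cj.2 (by simpa using e), hc⟩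
  have cm : ∀ {U : Subgroup Γ}, (∀ x ∈ U, ∀ y ∈ U, x * y = y * x) →
      ∀ x ∈ (cj g⁻¹ U).map MulAut.conj, ∀ y ∈ (cj g⁻¹ U).map MulAut.conj, x * y = y * x := by
    rintro U h _ ⟨x, hx, rfl⟩ _ ⟨y, hy, rfl⟩
    have := h _ (mem_cj.1 hx) _ (mem_cj.1 hy)
    rw [← map_mul, ← map_mul]
    congr 1
    simpa [← mul_assoc] using (show x * (y * g⁻¹) = y * (x * g⁻¹) by simpa [mul_assoc] using this)
  have s1 := fun x hx => (A1.1 x hx).2.2
  have s2 := fun x hx => (A2.1 x hx).2.2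
  let a : P0 := ⟨_, mem_sup_left a_mem⟩
  let b : P0 := ⟨_, mem_sup_right b_mem⟩
  have ne : a * b ≠ b * a := fun e => c_ne (by
    have := congrArg Subtype.val e
    exact mul_right_cancel (mul_right_cancel (ab.symm.trans (this.trans (by rw [one_mul]; rfl)))))
  have k11 := k le_sup_left le_sup_left s1 s1 A1.2 A1.2
  have k12 := k le_sup_left le_sup_right s1 s2 A1.2 A2.2
  have k21 := k le_sup_right le_sup_left s2 s1 A2.2 A1.2
  refine two_cover (cm U0_comm) (cm U1_comm) (k11 a 1 a_mem (one_mem _)) (k21 b 1 b_mem (one_mem _))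
    (k11 1 a (one_mem _) a_mem) (k12 1 b (one_mem _) b_mem) ?_ ?_ (fun e => ne ?_) fun e => ne ?_
  · simpa [← map_mul] using k11 a a a_mem a_mem
  · simpa [← map_mul] using k12 a b a_mem b_mem
  · rw [← map_mul, ← map_mul] at e
    exact congrArg Prod.fst (hf e)
  · rw [← map_mul, ← map_mul] at e
    exact congrArg Prod.snd (hf e)

theorem ooF (ho : Out2) : OoF Γ := fun α β a1 a2 b1 b2 => by
  obtain ⟨g, h, -⟩ := key ho a1 a2 IsPGroup.of_bot (by simp)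
  obtain ⟨g', h', -⟩ := key ho b1 b2 IsPGroup.of_bot (by simp)
  have hp : IsPGroup 2 P0 := p_T.to_le P0_le
  refine ⟨_, _, fix_cj h P0_fix, fix_cj h' P0_fix, isPGroup_cj _ hp, isPGroup_cj _ hp, fun f hf => ?_⟩
  let e : P0 × P0 ≃* cj g⁻¹ P0 × cj g'⁻¹ P0 :=
    (P0.equivMapOfInjective (MulAut.conj g⁻¹).toMonoidHom (MulAut.conj g⁻¹).injective).prodCongr
    (P0.equivMapOfInjective (MulAut.conj g'⁻¹).toMonoidHom (MulAut.conj g'⁻¹).injective)
  exact no_inj ho (f.comp e.toMonoidHom) (hf.comp e.injective)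

theorem out (ho : Out2) : OutS :=
  ⟨outF ho, outM ho, ⟨ι, ι_sq, ι_out, fun _ a b => fix16 ho ι_sq ι_out b a⟩, ooF ho⟩

theorem eqns_HeOut : True := by
  have := @P0.eq_1
  trivial

end Cfsg.Agent.H66.HeO
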