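import Cfsg.Agent.H89.OlDefs

/-!
# Groups of order 32 with cyclic commutator subgroup of order 4; the extraspecial case
-/

set_option autoImplicit false

namespace Cfsg.Agent.H66.OlGc0

open Subgroup Cfsg.Agent.H89.Ol Cfsg.Agent.H18 Cfsg.Agent.H17 Cfsg.Agent.H26.K64
open scoped commutatorElement

universe u

variable {G : Type u} [Group G]

theorem fin {x a d : G} (e : x * a * (x * a) = d * (x * x) * (a * a)) (c1 : Commute d (x * x))
    (c2 : Commute d (a * a)) (c3 : Commute (x * x) (a * a)) (hx : x ^ 4 = 1) (ha : a ^ 4 = 1)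
    (h : (x * a) ^ 4 = 1) : d * d = 1 := by
  have k : ∀ y : G, y ^ 4 = (y * y) ^ 2 := fun y => by rw [← sq, ← pow_mul]
  rw [k] at hx ha h
  rwa [e, (c2.mul_left c3).mul_pow, c1.mul_pow, hx, ha, mul_one, mul_one, sq] at h

theorem caseA {a x c : G} (e : a * x = c * x * a) (ca : Commute c a) (cx : Commute c x)
    (c4 : c ^ 4 = 1) (hx : x ^ 4 = 1) (ha : a ^ 4 = 1) (h : (x * a) ^ 4 = 1) : c * c = 1 := by
  have e1 : a * (x * x) = c * c * (x * x) * a := by
    rw [← mul_assoc, e, mul_assoc _ a, e]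
    simp only [mul_assoc, cx.left_comm]
  refine fin (by
    rw [mul_assoc, ← mul_assoc a, e]
    simp only [mul_assoc, cx.left_comm]) (cx.mul_right cx) (ca.mul_right ca) ?_ hx ha h
  have e2 : c * c * (c * c) = 1 := by rw [← c4]; simp only [pow_succ, pow_zero, one_mul, mul_assoc]
  calc x * x * (a * a) = c * c * (c * c) * (x * x) * a * a := by rw [e2, one_mul, mul_assoc _ a]
    _ = c * c * (a * (x * x)) * a := by rw [e1]; simp only [mul_assoc]
    _ = a * (c * c * (x * x) * a) := by simp only [mul_assoc, ca.left_comm]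
    _ = _ := by rw [← e1, mul_assoc]

theorem caseB {a x c : G} (e : a * x = c * x * a) (ca : Commute c a) (cx : x * c = c⁻¹ * x)
    (hx : x ^ 4 = 1) (ha : a ^ 4 = 1) (h : (x * a) ^ 4 = 1) : c * c = 1 := by
  have cx' : x * c⁻¹ = c * x := by
    rw [mul_inv_eq_iff_eq_mul, mul_assoc, cx, mul_inv_cancel_left]
  have e1 : Commute (x * x) a := by
    change x * x * a = a * (x * x)
    rw [← mul_assoc, e, mul_assoc _ a, e, ← mul_assoc, ← mul_assoc, mul_assoc c x c, cx,
      mul_inv_cancel_left]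
  have e2 : Commute c⁻¹ (x * x) := by
    change c⁻¹ * (x * x) = x * x * c⁻¹
    rw [mul_assoc, cx', ← mul_assoc x, cx, mul_assoc]
  have := fin (d := c⁻¹) (by
    rw [mul_assoc, ← mul_assoc a, e, ← mul_assoc, ← mul_assoc, ← mul_assoc, cx]
    simp only [mul_assoc]) e2 (ca.mul_right ca).inv_left (e1.mul_right e1) hx ha h
  rwa [← mul_inv_rev, inv_eq_one] at this

variable [Finite G]

theorem mem_four {r c : G} (h4 : orderOf r = 4) (hc : c ∈ zpowers r) :
    c = 1 ∨ c = r ∨ c = r * r ∨ c = r⁻¹ := by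
  classical
  have r4 : r ^ 4 = 1 := h4 ▸ pow_orderOf_eq_one r
  obtain ⟨k, hk, rfl⟩ := Finset.mem_image.1 (mem_zpowers_iff_mem_range_orderOf.1 hc)
  rw [h4, Finset.mem_range] at hk
  interval_cases k
  · exact Or.inl (pow_zero r)
  · exact Or.inr (Or.inl (pow_one r))
  · exact Or.inr (Or.inr (Or.inl (pow_two r)))
  · exact Or.inr (Or.inr (Or.inr (eq_inv_of_mul_eq_one_left (by rw [← pow_succ, r4]))))

omit [Finite G] in
theorem comm_le (P : Subgroup G) : ⁅P, P⁆ ≤ P := commutator_le.2 fun _ hg _ hk =>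
  mul_mem (mul_mem (mul_mem hg hk) (inv_mem hg)) (inv_mem hk)

omit [Finite G] in
theorem cj_comm {P : Subgroup G} {g c : G} (hg : g ∈ P) (hc : c ∈ ⁅P, P⁆) :
    g * c * g⁻¹ ∈ ⁅P, P⁆ := by
  have := mul_mem (commutator_mem_commutator hg (comm_le P hc)) hc
  rwa [commutatorElement_def, inv_mul_cancel_right] at this

theorem gc0 : GC0Stmt.{u} := by
  intro G _ _ P r hP hr h4
  have r4 : r ^ 4 = 1 := h4 ▸ pow_orderOf_eq_one r
  have r2 : r * r ≠ 1 := fun e => by
    have := orderOf_dvd_of_pow_eq_one ((pow_two r).trans e)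
    rw [h4] at this
    omega
  have rr : r * r * (r * r) = 1 := by
    rw [← r4]; simp only [pow_succ, pow_zero, one_mul, mul_assoc]
  have gen : ∀ c ∈ ⁅P, P⁆, c * c ≠ 1 → c = r ∨ c = r⁻¹ := fun c hc h => by
    rcases mem_four h4 (hr ▸ hc) with e | e | e | e
    exacts [absurd (by simp [e]) h, Or.inl e, absurd (e ▸ rr) h, Or.inr e]
  have ex : ∃ x ∈ P, x ^ 4 ≠ 1 := by
    by_contra! h
    have key : ∀ g ∈ P, ∀ k ∈ P, ⁅g, k⁆ * ⁅g, k⁆ = 1 := fun g hg k hk => by
      by_contra hc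
      have mc := commutator_mem_commutator hg hk
      have act : ∀ y ∈ P, Commute ⁅g, k⁆ y ∨ y * ⁅g, k⁆ = ⁅g, k⁆⁻¹ * y := fun y hy => by
        have := gen _ (cj_comm hy mc) (by
          rw [conj_mul]; exact fun e => hc (conj_eq_one_iff.1 e))
        rcases gen _ mc hc with e | e <;> rcases this with e1 | e1
        · exact Or.inl (mul_inv_eq_iff_eq_mul.1 (e1.trans e.symm)).symm
        · exact Or.inr (mul_inv_eq_iff_eq_mul.1 (e1.trans (congrArg (·⁻¹) e.symm)))
        · exact Or.inr (mul_inv_eq_iff_eq_mul.1 (e1.trans (inv_eq_iff_eq_inv.2 e).symm))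
        · exact Or.inl (mul_inv_eq_iff_eq_mul.1 (e1.trans e.symm)).symm
      have e : g * k = ⁅g, k⁆ * k * g := by rw [commutatorElement_def]; group
      have c4 := h _ (comm_le P mc)
      generalize ⁅g, k⁆ = c at *
      rcases act g hg with c1 | c1 <;> rcases act k hk with c2 | c2
      · exact hc (caseA e c1 c2 c4 (h k hk) (h g hg) (h _ (mul_mem hk hg)))
      · exact hc (caseB e c1 c2 (h k hk) (h g hg) (h _ (mul_mem hk hg)))
      · have := caseB (a := k) (x := g) (c := c⁻¹) (by rw [mul_assoc, e]; group) c2.inv_left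
          (by rw [mul_inv_eq_iff_eq_mul, inv_inv, mul_assoc, c1, mul_inv_cancel_left])
          (h g hg) (h k hk) (h _ (mul_mem hg hk))
        exact hc (by rwa [← mul_inv_rev, inv_eq_one] at this)
      · refine hc (caseB (a := g * k) (x := k) (by nth_rewrite 1 [e]; simp only [mul_assoc]) ?_ c2
          (h k hk) (h _ (mul_mem hg hk)) (h _ (mul_mem hk (mul_mem hg hk))))
        change c * (g * k) = g * k * c
        rw [mul_assoc, c2, ← mul_assoc g, ← mul_assoc c, eq_comm, mul_left_inj,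
          mul_inv_eq_iff_eq_mul, mul_assoc, c1, mul_inv_cancel_left]
    have le : ⁅P, P⁆ ≤ zpowers (r * r) := commutator_le.2 fun g hg k hk => by
      rcases mem_four h4 (hr ▸ commutator_mem_commutator hg hk) with e | e | e | e
      · exact e ▸ one_mem _
      · exact absurd (e ▸ key g hg k hk) r2
      · exact e ▸ mem_zpowers _
      · have := key g hg k hk
        rw [e, ← mul_inv_rev, inv_eq_one] at this
        exact absurd this r2
    obtain ⟨n, hn⟩ := le (hr ▸ mem_zpowers r)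
    refine r2 ?_
    rw [← hn, ← (Commute.refl (r * r)).mul_zpow, rr, one_zpow]
  obtain ⟨x, hx, x4⟩ := ex
  have d : orderOf x ∣ 2 ^ 5 := (show Nat.card P = 2 ^ 5 from hP) ▸ P.orderOf_dvd_natCard hx
  obtain ⟨k, k5, hk⟩ := (Nat.dvd_prime_pow Nat.prime_two).1 d
  have k3 : 3 ≤ k := by
    by_contra h
    exact x4 (orderOf_dvd_iff_pow_eq_one.1 (hk ▸ pow_dvd_pow 2 (show k ≤ 2 by omega)))
  refine ⟨x ^ 2 ^ (k - 3), pow_mem hx _, ?_⟩
  rw [orderOf_pow, hk]
  interval_cases k <;> rfl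

omit [Finite G] in
theorem mem_two {H : Subgroup G} (h : Nat.card H = 2) :
    ∃ z, z ≠ 1 ∧ ∀ c, c ∈ H ↔ c = 1 ∨ c = z := by
  obtain ⟨z, z1, hz⟩ := (Nat.card_eq_two_iff' (1 : H)).1 h
  refine ⟨z, fun e => z1 (Subtype.ext e), fun c => ⟨fun hc => ?_, ?_⟩⟩
  · by_cases e : c = 1
    · exact Or.inl e
    · exact Or.inr (congrArg Subtype.val (hz ⟨c, hc⟩ fun e1 => e (congrArg Subtype.val e1)))
  · rintro (rfl | rfl)
    exacts [one_mem _, z.2]

omit [Finite G] in
theorem mem_cz {u g : G} : g ∈ Cz (zpowers u) ↔ u * g = g * u :=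
  ⟨fun h => h u (mem_zpowers u), fun h _ ⟨n, hn⟩ => hn ▸ (Commute.zpow_left h n).eq⟩

theorem gb1 : GB1Stmt.{u} := by
  intro G _ _ P _ h32 h2 hZ
  obtain ⟨z, z1, hz⟩ := mem_two h2
  have sq : ∀ {H : Subgroup G}, Nat.card H = 2 → ∀ c ∈ H, c * c = 1 := fun {H} h c hc =>
    (pow_two c).symm.trans (orderOf_dvd_iff_pow_eq_one.1 (h ▸ H.orderOf_dvd_natCard hc))
  have zc : ∀ g ∈ P, ∀ c ∈ ⁅P, P⁆, g * c = c * g := fun g hg c hc => by
    rcases (hz c).1 hc with rfl | rfl
    · simp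
    · exact mul_inv_eq_iff_eq_mul.1 (((hz _).1 (cj_comm hg hc)).resolve_left
        fun e => z1 (conj_eq_one_iff.1 e))
  have e : ∀ g k : G, g * k = ⁅g, k⁆ * k * g := fun g k => by rw [commutatorElement_def]; group
  have cp : ∀ v ∈ P, orderOf v = 4 → CP P v * 2 = Nat.card P := fun v hv o => by
    obtain ⟨a, ha, na⟩ : ∃ a ∈ P, a * v ≠ v * a := by
      by_contra! h
      have := orderOf_dvd_of_pow_eq_one ((pow_two v).trans (sq hZ v ⟨hv, h⟩))
      rw [o] at this
      omega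
    have k : ∀ b ∈ P, v * b ≠ b * v → b * v = z * v * b := fun b hb nb => by
      rw [e b v, ((hz _).1 (commutator_mem_commutator hb hv)).resolve_left fun e1 =>
        nb (commutatorElement_eq_one_iff_mul_comm.1 e1).symm]
    have i : (Cz (zpowers v)).relIndex P = 2 := index_eq_two_iff.2 ⟨⟨a, ha⟩, fun b => by
      change Xor ((b : G) * a ∈ Cz (zpowers v)) ((b : G) ∈ Cz (zpowers v))
      rw [mem_cz, mem_cz]
      by_cases hb : v * b = b * v
      · refine Or.inr ⟨hb, fun e1 => na ?_⟩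
        rw [← mul_assoc, hb, mul_assoc, mul_assoc] at e1
        exact (mul_left_cancel e1).symm
      · refine Or.inl ⟨?_, hb⟩
        have zz := sq h2 z ((hz z).2 (Or.inr rfl))
        rw [mul_assoc, k a ha na.symm, ← mul_assoc (b : G), ← mul_assoc (b : G),
          zc b b.2 z ((hz z).2 (Or.inr rfl)), mul_assoc z, k b b.2 hb, ← mul_assoc z,
          ← mul_assoc z, zz, one_mul, mul_assoc]⟩
    rw [← i, ← inf_relIndex_left, relIndex, CP,
      ← Nat.card_congr (subgroupOfEquivOfLe (inf_le_left : P ⊓ Cz (zpowers v) ≤ P)).toEquiv,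
      card_mul_index]
  obtain ⟨u, hu, u1⟩ : ∃ u ∈ P, u * u ≠ 1 := by
    by_contra! h
    have : ⁅P, P⁆ ≤ ⊥ := commutator_le.2 fun g hg k hk => by
      rw [mem_bot, commutatorElement_def, inv_eq_of_mul_eq_one_right (h g hg),
        inv_eq_of_mul_eq_one_right (h k hk), mul_assoc]
      exact h _ (mul_mem hg hk)
    exact z1 (this ((hz z).2 (Or.inr rfl)))
  have o : orderOf u = 2 ^ 2 := orderOf_eq_prime_pow (by simpa [pow_two] using u1) (by
    have := sq hZ (u * u) ⟨mul_mem hu hu, fun g hg => by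
      have mc := commutator_mem_commutator hg hu
      rw [← mul_assoc, e g u, mul_assoc _ g, e g u, ← mul_assoc, ← mul_assoc,
        mul_assoc ⁅g, u⁆ u, zc u hu _ mc, ← mul_assoc, sq h2 _ mc, one_mul]⟩
    rw [← this]
    norm_num [pow_succ, mul_assoc])
  have c := cp u hu o
  refine ⟨{x | orderOf x = 4}, u, hu, o, fun v hv o' => ?_, by omega, by rw [h2, c],
    fun Q N h => ?_⟩
  · have := cp v hv o'
    omega
  · obtain ⟨n, -, x, -, h1, h3⟩ := h.bad
    exact h3 (((MulAut.conj n).orderOf_eq x).trans h1)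

end Cfsg.Agent.H66.OlGc0
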