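import Cfsg.Agent.H1.SpD
import Cfsg.Agent.H97.KNorm

/-!
# Realizability from the quotient by a normal subgroup of the centre of `S`
-/

set_option autoImplicit false

namespace Cfsg.Agent.H66.SpTw

open Subgroup Cfsg.Agent.H83 Cfsg.Agent.H97 Cfsg.Agent.H1.SP

universe u

variable {S G : Type u} [Group S] [Group G]

/-- The centralizer system of a subgroup of the centre. -/
theorem exists_c [Finite S] {p : ℕ} [Fact p.Prime] (hS : IsPGroup p S)
    {F : FusionSystem (⊤ : Subgroup S)} (hF : F.IsSaturated p) {N : Subgroup S} (hN : N ≤ center S) :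
    ∃ E : FusionSystem (⊤ : Subgroup S), E.IsSaturated p ∧ ∀ P f, Mor E P f ↔
      ∃ g, Mor F (P ⊔ N) g ∧ (∀ x ∈ P, g x = f x) ∧ ∀ x ∈ N, g x = x := by
  have e : FusionSystem.centralizerIn ⊤ N = ⊤ :=
    eq_top_iff.2 fun x _ => ⟨mem_top x, fun a ha => (mem_center_iff.1 (hN ha) x).symm⟩
  have key : ∀ T : Subgroup S, T = FusionSystem.centralizerIn ⊤ N → ∃ E : FusionSystem T,
      E.IsSaturated p ∧ ∀ P f, Mor E P f ↔
        ∃ g, Mor F (P ⊔ N) g ∧ (∀ x ∈ P, g x = f x) ∧ ∀ x ∈ N, g x = x := by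
    rintro _ rfl
    obtain ⟨E, hE⟩ := exists_centralizerSystem F (le_top : N ≤ ⊤)
    refine ⟨E, centralizerSystem_saturated (hS.to_subgroup ⊤) hF ⟨le_top, fun Q _ => ?_⟩ hE,
      fun P f => (mor_centralizerSystem_iff hE).trans (and_iff_right (le_top.trans e.ge))⟩
    rw [e]
    exact card_le_of_le le_top
  exact key ⊤ e.symm

/-- The automorphism induced by an element normalizing the image. -/
theorem exists_aut {j : S →* G} (hj : Function.Injective j) {n : G}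
    (hn : n ∈ normalizer (j.range : Set G)) : ∃ β : MulAut S, ∀ x, j (β x) = n * j x * n⁻¹ := by
  let e := MonoidHom.ofInjective hj
  refine ⟨(e.trans (j.range.normalizerMonoidHom ⟨n, hn⟩)).trans e.symm, fun x => ?_⟩
  exact MonoidHom.apply_ofInjective_symm hj _

theorem exists_aut' [Finite S] {F : FusionSystem (⊤ : Subgroup S)} {f : S → S} (h : Mor F ⊤ f) :
    ∃ β : MulAut S, ∀ x, β x = f x :=
  ⟨MulEquiv.ofBijective (MonoidHom.mk' f fun a b => h.map_mul (mem_top a) (mem_top b))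
    (Finite.injective_iff_bijective.1 fun a b e => h.inj (mem_top a) (mem_top b) e), fun _ => rfl⟩

theorem mor_inv {F : FusionSystem (⊤ : Subgroup S)} {β : MulAut S} (h : Mor F ⊤ β) :
    Mor F ⊤ ⇑β⁻¹ := by
  obtain ⟨g, a, b, -⟩ := h.inv' (Q := ⊤) (eq_top_iff.2 fun y _ => h.mem_img.2 ⟨β⁻¹ y, mem_top _, by simp⟩)
  refine a.congr fun y _ => ?_
  rw [← b (β⁻¹ y) (mem_top _)]
  simp

section core

variable {L : Type u} [Group L] [Finite S] {F : FusionSystem (⊤ : Subgroup S)} {θ : S →* L}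
  {ρ : L →* MulAut θ.ker} {π : G →* L} {j : S →* G} (hj : Function.Injective j)
  (hπ : ∀ s, π (j s) = θ s) (hρ : ∀ (g : G) (a : θ.ker), g * j a * g⁻¹ = j (ρ (π g) a))
  (h0 : ∀ P (f : S → S), (∃ g, Mor F (P ⊔ θ.ker) g ∧ (∀ x ∈ P, g x = f x) ∧ ∀ x ∈ θ.ker, g x = x) ↔
    ∃ g ∈ (ρ.comp π).ker, ∀ x ∈ P, j (f x) = g * j x * g⁻¹)
include h0

omit [Finite S] in
theorem of_fix {P : Subgroup S} {f : S → S} (hP : θ.ker ≤ P) (h : Mor F P f) (e : ∀ a ∈ θ.ker, f a = a) :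
    ∃ g ∈ (ρ.comp π).ker, ∀ x ∈ P, j (f x) = g * j x * g⁻¹ :=
  (h0 P f).1 ⟨f, by rwa [sup_of_le_left hP], fun _ _ => rfl, e⟩

omit [Finite S] in
theorem mor_of {P : Subgroup S} {f : S → S} {g : G} (hg : g ∈ (ρ.comp π).ker)
    (h : ∀ x ∈ P, j (f x) = g * j x * g⁻¹) : Mor F P f := by
  obtain ⟨k, a, b, -⟩ := (h0 P f).2 ⟨g, hg, h⟩
  exact (a.mono le_sup_left).congr b

include hj hπ hρ

theorem norm_mor
    (h2 : ∀ g : L, (∀ x, g * θ x * g⁻¹ ∈ θ.range) →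
      ∃ f, Mor F ⊤ f ∧ (∀ x, θ (f x) = g * θ x * g⁻¹) ∧ ∀ a : θ.ker, f a = ρ g a)
    (h3 : ∀ γ : MulAut S, (∀ x, θ (γ x) = θ x) → (∀ a ∈ θ.ker, γ a = a) →
      (∀ P f, θ.ker ≤ P → Mor F P f → (∀ a ∈ θ.ker, f a = a) → Mor F P fun x => γ (f (γ⁻¹ x))) →
      Mor F ⊤ γ) {n : G} {β' : MulAut S} (hβ : ∀ x, j (β' x) = n * j x * n⁻¹) : Mor F ⊤ β' := by
  have t : ∀ x, θ (β' x) = π n * θ x * (π n)⁻¹ := fun x => by
    rw [← hπ, hβ, map_mul, map_mul, map_inv, hπ]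
  obtain ⟨f, a, b, c⟩ := h2 (π n) fun x => ⟨β' x, t x⟩
  obtain ⟨β, e⟩ := exists_aut' a
  obtain rfl : ⇑β = f := funext e
  have k : ∀ x, θ ((β' * β⁻¹) x) = θ x := fun x => by
    rw [MulAut.mul_apply, t, ← b]; simp
  have m : ∀ x, β x ∈ θ.ker ↔ x ∈ θ.ker := fun x => by
    rw [MonoidHom.mem_ker, MonoidHom.mem_ker, b, conj_eq_one_iff]
  have : Mor F ⊤ ⇑(β' * β⁻¹) := by
    refine h3 _ k (fun x hx => ?_) fun P f hP hf e' => ?_
    · have h1 : β⁻¹ x ∈ θ.ker := (m _).1 (by simpa using hx)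
      refine hj ?_
      rw [MulAut.mul_apply, hβ, hρ n ⟨_, h1⟩, ← c]; simp
    · have h1 : Mor F (P.comap β.toMonoidHom) fun y => β⁻¹ (f (β y)) :=
        ((a.mono le_top).comp hf fun _ hx => hx).comp (mor_inv a) fun _ _ => mem_top _
      have h7 : θ.ker ≤ P.comap β.toMonoidHom := fun x hx => hP ((m x).2 hx)
      obtain ⟨g, hg, h4⟩ := of_fix h0 h7 h1 fun x hx => by
        rw [e' _ ((m x).2 hx)]; simp
      refine mor_of h0 ((MonoidHom.normal_ker _).conj_mem g hg n) fun x hx => ?_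
      have h5 : β (β'⁻¹ x) ∈ P := by
        have : x⁻¹ * β (β'⁻¹ x) ∈ θ.ker := by
          rw [MonoidHom.mem_ker, map_mul, map_inv, ← k (β (β'⁻¹ x))]; simp
        simpa using mul_mem hx (hP this)
      have h6 := hβ (β'⁻¹ x)
      rw [MulAut.apply_inv_self] at h6
      rw [MulAut.mul_apply, hβ, mul_inv_rev, inv_inv, MulAut.mul_apply, h4 _ h5, h6]
      group
  exact ((a.comp this fun _ _ => mem_top _).congr fun x _ => by simp)

end core

theorem tw (tx : TxStmt.{u}) (uq : UqStmt.{u}) : TwStmt.{u} := by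
  intro S L _ _ _ _ p _ hS F hF θ hz hN hi ρ hρ h1 h2 h3
  obtain ⟨G, _, _, π, ι, a1, a2, a3, a4, a5⟩ := tx S L p hS θ hz hi ρ hρ fun g => by
    obtain ⟨f, a, b, c⟩ := h2 (θ.range.comap ((MulAut.conj g).toMonoidHom.comp θ)) g
      (fun x hx => by simp [MonoidHom.mem_ker.1 hx]) fun _ hx => hx
    exact ⟨f, c, fun s hs => ⟨b s hs, fun t ht => a.map_mul hs ht⟩⟩
  obtain ⟨E, e1, e2⟩ := exists_c hS hF hz
  have hr : ι.range = θ.range.comap π := by
    refine le_antisymm (by rintro _ ⟨s, rfl⟩; exact ⟨s, (a3 s).symm⟩) ?_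
    rintro g ⟨s, hs⟩
    have : (ι s)⁻¹ * g ∈ π.ker := by rw [MonoidHom.mem_ker, map_mul, map_inv, a3, hs, inv_mul_cancel]
    obtain ⟨a, -, ha⟩ := a4 ▸ this
    exact ⟨s * a, by rw [map_mul, ha, mul_inv_cancel_left]⟩
  have hd : ¬ p ∣ ι.range.index := by rwa [hr, index_comap_of_surjective _ a1]
  have m0 : ∀ s, ι s ∈ (ρ.comp π).ker := fun s => by
    rw [MonoidHom.mem_ker, MonoidHom.comp_apply, a3, hρ]
  have hle : ι.range ≤ (ρ.comp π).ker := by rintro _ ⟨s, rfl⟩; exact m0 s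
  have hp : IsPGroup p ι.range := hS.of_surjective _ ι.rangeRestrict_surjective
  let ι0 := ι.codRestrict _ m0
  have r0 : ι0.range = ι.range.subgroupOf (ρ.comp π).ker := by
    ext g
    exact ⟨fun ⟨s, hs⟩ => ⟨s, congrArg Subtype.val hs⟩, fun ⟨s, hs⟩ => ⟨s, Subtype.ext hs⟩⟩
  have k0 : ∀ g : (ρ.comp π).ker, π g = 1 → g ∈ θ.ker.map ι0 := fun g hg => by
    obtain ⟨a, ha, e⟩ := a4 ▸ MonoidHom.mem_ker.2 hg
    exact ⟨a, ha, Subtype.ext e⟩
  obtain ⟨γ, g1, g2, g3⟩ := uq S (ρ.comp π).ker p E e1 θ.ker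
    (isCentral_iff.2 ⟨le_top, fun P f hf => by
      obtain ⟨g, a, b, c⟩ := (e2 P f).1 hf
      exact ⟨g, (e2 _ g).2 ⟨g, by rwa [sup_assoc, sup_idem], fun _ _ => rfl, c⟩, b, c⟩⟩)
    ι0 (fun a b e => a2 (congrArg Subtype.val e))
    (r0 ▸ isSylowIn_top ((hp.comap_subtype (K := (ρ.comp π).ker)).toSylow fun d =>
      hd (d.trans (relIndex_dvd_index_of_le hle))))
    (by
      rintro _ ⟨a, ha, rfl⟩
      refine mem_center_iff.2 fun g => Subtype.ext (mul_inv_eq_iff_eq_mul.1 ?_)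
      have := a5 g ⟨a, ha⟩
      rwa [show ρ (π g) = 1 from g.2] at this)
    (fun P f hP hf => by
      obtain ⟨k, a, b, c⟩ := (e2 P f).1 hf
      obtain ⟨l, d, e⟩ := h1 P f hP ((a.mono le_sup_left).congr b)
      obtain ⟨g, rfl⟩ := a1 l
      refine ⟨⟨g, MulEquiv.ext fun x => Subtype.ext ((e x).symm.trans
        ((b x (hP x.2)).symm.trans (c x x.2)))⟩, fun x hx => k0 _ ?_⟩
      change π (ι (f x) * (g * ι x * g⁻¹)⁻¹) = 1
      simp [a3, d x hx])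
    (fun P g hP hg => by
      obtain ⟨f, a, b, c⟩ := h2 P (π g) hP fun x hx => by
        obtain ⟨s, hs⟩ := hg x hx
        have := congrArg (fun y : (ρ.comp π).ker => π y) hs
        exact ⟨s, by simpa [ι0, a3] using this⟩
      refine ⟨f, (e2 P f).2 ⟨f, by rwa [sup_of_le_left hP], fun _ _ => rfl, fun x hx => ?_⟩,
        fun x hx => k0 _ ?_⟩
      · rw [c ⟨x, hx⟩, show ρ (π g) = 1 from g.2]; rfl
      · change π (ι (f x) * (g * ι x * g⁻¹)⁻¹) = 1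
        simp [a3, b x hx])
  let j : S →* G := ι.comp γ.toMonoidHom
  have j1 : Function.Injective j := a2.comp γ.injective
  have j2 : ∀ s, π (j s) = θ s := fun s => by
    have := MonoidHom.mem_ker.1 (g1 s)
    rw [map_mul, map_inv, inv_mul_eq_one] at this
    exact (a3 _).trans this.symm
  have j3 : ∀ (g : G) (a : θ.ker), g * j a * g⁻¹ = j (ρ (π g) a) := fun g a => by
    change g * ι (γ a) * g⁻¹ = ι (γ _)
    rw [g2 _ a.2, g2 _ (ρ (π g) a).2, a5]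
  have j4 : j.range = ι.range := by
    ext g
    exact ⟨fun ⟨s, hs⟩ => ⟨γ s, hs⟩, fun ⟨s, hs⟩ => ⟨γ⁻¹ s, by simpa [j] using hs⟩⟩
  have j5 : ∀ P (f : S → S), (∃ g, Mor F (P ⊔ θ.ker) g ∧ (∀ x ∈ P, g x = f x) ∧ ∀ x ∈ θ.ker, g x = x) ↔
      ∃ g ∈ (ρ.comp π).ker, ∀ x ∈ P, j (f x) = g * j x * g⁻¹ := fun P f =>
    (e2 P f).symm.trans ((g3 P f).trans ⟨fun ⟨g, hg⟩ => ⟨g, g.2, fun x hx => congrArg Subtype.val (hg x hx)⟩,
      fun ⟨g, m, hg⟩ => ⟨⟨g, m⟩, fun x hx => Subtype.ext (hg x hx)⟩⟩)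
  have fr : ∀ g : G, ∃ n, ∃ k ∈ (ρ.comp π).ker, ∃ β : MulAut S, Mor F ⊤ β ∧
      (∀ x, j (β x) = n * j x * n⁻¹) ∧ n * k = g := fun g => by
    have := (Sylow.normalizer_sup_eq_top' (hp.toSylow hd) hle).ge (mem_top g)
    obtain ⟨n, hn, k, hk, e⟩ := mem_sup_of_normal_right.1 this
    obtain ⟨β, hβ⟩ := exists_aut j1 (n := n) (j4 ▸ hn)
    exact ⟨n, k, hk, β, norm_mor j1 j2 j3 j5 (fun g hg =>
      (h2 ⊤ g le_top fun x _ => hg x).imp fun _ h => ⟨h.1, fun x => h.2.1 x (mem_top x), h.2.2⟩) h3 hβ,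
      hβ, e⟩
  have inv : ∀ {β : MulAut S} {n : G}, (∀ x, j (β x) = n * j x * n⁻¹) → ∀ x, j (β⁻¹ x) = n⁻¹ * j x * n :=
    fun {β n} h x => by
      have := h (β⁻¹ x)
      rw [MulAut.apply_inv_self] at this
      rw [this]; group
  have main : ∀ P f, Mor F P f ↔ ∃ g, ∀ x ∈ P, j (f x) = g * j x * g⁻¹ := fun P f => by
    refine ⟨fun hf => ?_, fun ⟨g, hg⟩ => ?_⟩
    · obtain ⟨f', a, b, -⟩ := (isNormal_iff.1 hN).2 P f hf
      obtain ⟨l, -, e⟩ := h1 _ f' le_sup_right a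
      obtain ⟨g, rfl⟩ := a1 l
      obtain ⟨n, k, hk, β, c, d, rfl⟩ := fr g
      obtain ⟨g, -, hg⟩ := of_fix j5 le_sup_right (a.comp (mor_inv c) fun _ _ => mem_top _) fun x hx => by
        refine j1 ?_
        rw [inv d, e ⟨x, hx⟩, map_mul, map_mul, show ρ (π k) = 1 from hk, mul_one, ← j3]
        group
      refine ⟨n * g, fun x hx => ?_⟩
      have := hg x (mem_sup_left hx)
      rw [inv d, b x hx] at this
      rw [mul_inv_rev, mul_assoc n g, mul_assoc n, ← mul_assoc (g * j x), ← this]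
      group
    · obtain ⟨n, k, hk, β, c, d, rfl⟩ := fr g
      have : Mor F P fun x => β⁻¹ (f x) := mor_of j5 hk fun x hx => by
        rw [inv d, hg x hx]; group
      exact (this.comp c fun _ _ => mem_top _).congr fun x _ => by simp
  refine ⟨G, inferInstance, inferInstance, j.comp (⊤ : Subgroup S).subtype,
    ⟨j1.comp Subtype.val_injective, fun P _ φ _ => ?_⟩, hp.toSylow hd, ?_⟩
  · rw [mem_hom_iff, main]
    exact exists_congr fun g => ⟨fun h x => by simpa using h x x.2, fun h x hx => by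
      simpa [fn_apply φ hx] using h ⟨x, hx⟩⟩
  · rw [MonoidHom.range_comp, range_subtype, ← MonoidHom.range_eq_map, j4]; rfl

end Cfsg.Agent.H66.SpTw
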