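import Cfsg.Agent.H29.SpKit
import Cfsg.Agent.H37.KitS
import Cfsg.Agent.H37.KitE
import Cfsg.Agent.H73.Descent
import Cfsg.Agent.H66.T6Defs2

/-!
# Standard subgroups of type `Sp₂ₖ(2ⁿ)`: bounds inside `C(t)`
-/

set_option autoImplicit false

namespace Cfsg.Agent.H66.T6.H65.SpBnd

open Cfsg Cfsg.Agent.H63 Cfsg.Agent.H63.SL Cfsg.Agent.H26 Cfsg.Agent.H68.Sp
open Cfsg.Agent.H78 hiding tv
open Cfsg.Agent.H29.SpK Subgroup Module
open scoped commutatorElement Pointwise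

universe u v

section Gen

variable {G : Type u} [Group G]

theorem card_le_two {A K : Subgroup G}
    (h : ∀ x ∈ A, ∀ y ∈ A, x ∉ K → y ∉ K → x * y ∈ K) :
    Nat.card A ≤ 2 * Nat.card (A ⊓ K : Subgroup G) := by
  have h1 : K.relIndex A ∣ 2 := by
    rw [relIndex_dvd_two_iff]
    by_cases h0 : A ≤ K
    · exact ⟨1, one_mem _, fun b hb => .inr (h0 hb)⟩
    · obtain ⟨a, ha, hk⟩ := SetLike.not_le_iff_exists.1 h0
      exact ⟨a, ha, fun b hb => by
        by_cases hb' : b ∈ K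
        exacts [.inr hb', .inl (h b hb a ha hb' hk)]⟩
  have h2 := (K.subgroupOf A).card_mul_index
  have h3 : Nat.card (K.subgroupOf A) = Nat.card (A ⊓ K : Subgroup G) := by
    rw [← inf_subgroupOf_left]
    exact Nat.card_congr (subgroupOfEquivOfLe inf_le_left).toEquiv
  rw [← h2, h3, mul_comm]
  exact Nat.mul_le_mul_right _ (Nat.le_of_dvd two_pos h1)

theorem card_le_ker {A N M : Subgroup G} {X : Type v} [Group X] (χ : N →* X) (hA : A ≤ N)
    (hχ : ∀ g, χ g = 1 ↔ (g : G) ∈ M) :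
    Nat.card A = Nat.card (χ.comp (inclusion hA)).range * Nat.card (A ⊓ M : Subgroup G) := by
  have h2 := (χ.comp (inclusion hA)).ker.card_mul_index
  have h3 : (χ.comp (inclusion hA)).ker = (A ⊓ M).subgroupOf A := by
    ext x
    rw [MonoidHom.mem_ker, MonoidHom.comp_apply, hχ, mem_subgroupOf, mem_inf]
    exact ⟨fun h => ⟨x.2, h⟩, fun h => h.2⟩
  rw [index_ker, h3, Nat.card_congr (subgroupOfEquivOfLe inf_le_left).toEquiv] at h2
  rw [← h2, mul_comm]

end Gen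

variable {F V : Type v} [Field F] [Finite F] [AddCommGroup V] [Module F V] {G : Type u} [Group G]
  [Finite G] {P : PForm F V} {φ : P.E →* G} {L : Subgroup G} {k : ℕ} {t : G}
  (c : Ctx P φ L k t)
include c

omit [Finite F] [Finite G] in
theorem cen {z : G} (h1 : z ∈ L) (h2 : z ∈ C[L]) : z = 1 := by
  obtain ⟨e, rfl⟩ := exists_φ c.toSG h1
  rw [φ_eq_one c.toSG]
  intro v
  by_cases hv : v = 0
  · rw [hv, map_zero]
  · exact c.nf.ct e v 1 hv one_ne_zero ((mem_centralizer_iff.1 h2 _ (ET_mem c.toSG _ _ _)).symm)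

omit [Finite F] [Finite G] in
theorem key (r : R2 L t) {g : G} (h1 : g ∈ C1[t]) (h2 : g ∈ L ⊔ C[L]) {n : ℕ}
    (h3 : g ^ 2 ^ n = 1) : g ∈ L ∨ g * t⁻¹ ∈ L := by
  have hn : (L : Set G) * (C[L] : Set G) = (L ⊔ C[L] : Subgroup G) :=
    (coe_mul_of_right_le_normalizer_left L C[L] (centralizer_le_normalizer _)).symm
  have h2' : g ∈ (L : Set G) * (C[L] : Set G) := by rw [hn]; exact h2
  obtain ⟨l, hl, κ, hκ, rfl⟩ := h2'
  have hc : Commute l κ := mem_centralizer_iff.1 hκ l hl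
  have hlt : Commute l t := mem_centralizer_iff.1 c.tc.tc l hl
  have hgt : Commute (l * κ) t := mem_centralizer_singleton_iff.1 h1
  have hκt : Commute κ t := by
    have := hlt.inv_left.mul_left hgt
    rwa [inv_mul_cancel_left] at this
  have h4 : κ ^ 2 ^ n = 1 := by
    change (l * κ) ^ 2 ^ n = 1 at h3
    rw [hc.mul_pow] at h3
    refine cen c ?_ (pow_mem hκ _)
    rw [eq_inv_of_mul_eq_one_right h3]
    exact inv_mem (pow_mem hl _)
  rcases r κ hκ hκt ⟨n, h4⟩ with rfl | rfl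
  · exact .inl (by simpa using hl)
  · exact .inr (by simpa using hl)

omit [Finite F] in
theorem half (r : R2 L t) {R : Subgroup G} (hR : IsPGroup 2 R) (h1 : R ≤ C1[t]) :
    Nat.card (R ⊓ (L ⊔ C[L]) : Subgroup G) ≤ 2 * Nat.card (R ⊓ L : Subgroup G) := by
  have h2 : R ⊓ (L ⊔ C[L]) ⊓ L = R ⊓ L := by
    rw [inf_assoc, inf_eq_right.2 (le_sup_left : L ≤ L ⊔ C[L])]
  rw [← h2]
  refine card_le_two fun x hx y hy hx' hy' => ?_
  have f : ∀ x ∈ R ⊓ (L ⊔ C[L]), x ∉ L → x * t⁻¹ ∈ L := fun x hx hx' => by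
    obtain ⟨n, hn⟩ := hR ⟨x, hx.1⟩
    exact (key c r (h1 hx.1) hx.2 (congrArg Subtype.val hn)).resolve_left hx'
  have h3 := mul_mem (f x hx hx') (f y hy hy')
  have h4 : Commute y t := mem_centralizer_singleton_iff.1 (h1 hy.1)
  have h5 : t * t = 1 := by rw [← pow_two, ← c.tc.t2, pow_orderOf_eq_one]
  have h6 : x * t⁻¹ * (y * t⁻¹) = x * y := by
    rw [mul_assoc, ← mul_assoc t⁻¹, ← h4.inv_right.eq, mul_assoc y, ← mul_inv_rev, h5, inv_one,
      mul_one]
  rwa [h6] at h3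

theorem sb (r : R2 L t) (n : ℕ) (hn : Nat.card F = 2 ^ n) : SB n k t := by
  intro R hR h1
  obtain ⟨χ, -, hχ⟩ := c.nf.out
  have := Fintype.ofFinite F
  have : Fact (Nat.Prime 2) := ⟨Nat.prime_two⟩
  have hA : Nat.card (F ≃+* F) = n :=
    H73.card_ringAut (F := F) (p := 2) (by rw [← hn, Nat.card_eq_fintype_card])
  have : Finite (F ≃+* F) := Finite.of_injective (fun σ : F ≃+* F => (σ : F → F))
    DFunLike.coe_injective
  obtain ⟨Fr, -⟩ := c.g3.inv 1 (one_mem _) (one_mul 1)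
  have h2 := (c.g4.syl Fr).card_le (hR.to_inf_left (K := L)) inf_le_right
  rw [c.g4.card, hn] at h2
  have h3 := half c r hR h1
  have h4 : Nat.card (χ.comp (inclusion (h1.trans c.tc.cN))).range ≤ n :=
    hA ▸ Subgroup.card_le_card_group _
  rw [card_le_ker χ (h1.trans c.tc.cN) hχ]
  calc _ ≤ n * (2 * (2 ^ n) ^ (k * k)) := Nat.mul_le_mul h4 (h3.trans (by omega))
    _ = _ := by ring

theorem pf : PF L := by
  have s : Group.IsSolvable C[L] := by
    obtain ⟨P⟩ : Nonempty (Sylow 2 C[L]) := inferInstance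
    have := c.cyc _ (map_subtype_le P.1) (P.2.map _)
    exact H37.Kit.solv_of_cyc P (isCyclic_of_surjective _
      (P.1.equivMapOfInjective _ C[L].subtype_injective).symm.surjective)
  obtain ⟨χ, -, hχ⟩ := c.nf.out
  have : IsCyclic (F ≃+* F) := H73.isCyclic_ringAut
  refine ⟨s, fun Y h1 h2 => H37.Kit.perf_le h2 s le_rfl
    (h2.ge.trans (commutator_le.2 fun a ha b hb => ?_))⟩
  refine (hχ ⁅(⟨a, h1 ha⟩ : N[L]), ⟨b, h1 hb⟩⁆).1 ?_
  rw [map_commutatorElement, commutatorElement_eq_one_iff_mul_comm]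
  exact IsCyclic.commGroup.mul_comm _ _

omit [Finite F] [Finite G] in
theorem move {l0 : F} {y : V → V → G} (hy : Y1 P φ L t l0 y) (Fr : Frame P k) {j : G}
    (hj : j ∈ AW P φ Fr) (ha : Alt P φ j) : ∃ p ∈ C[AW P φ Fr], p * t * p⁻¹ = t * j := by
  have h := c.toSG
  have iso : ∀ x ∈ Set.range fun i => Fr.e (i, false), ∀ y ∈ Set.range fun i => Fr.e (i, false),
      P.f x y = 0 := by
    rintro _ ⟨i, rfl⟩ _ ⟨l, rfl⟩
    exact Fr.orth _ _ (by simp [ng])
  obtain ⟨e1, e2, e3, -, -⟩ := c.g2.el _ iso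
  have key : j ∈ AW P φ Fr ∧ ∃ p ∈ C[AW P φ Fr], p * t * p⁻¹ = t * j := by
    refine closure_induction (p := fun j _ => j ∈ AW P φ Fr ∧
      ∃ p ∈ C[AW P φ Fr], p * t * p⁻¹ = t * j) ?_ ?_ ?_ ?_ (c.g3.altm Fr j hj ha)
    · rintro _ ⟨i, l, a, hil, rfl⟩
      have hf : P.f (Fr.e (i, false)) (a • Fr.e (l, false)) = 0 := by
        rw [fr h, iso _ ⟨i, rfl⟩ _ ⟨l, rfl⟩, mul_zero]
      refine ⟨?_, ?_⟩
      · have h1 := tv_add_vec h (iso _ ⟨i, rfl⟩ _ ⟨l, rfl⟩) a
        have h2 : Es P φ (Fr.e (i, false)) (a • Fr.e (l, false)) =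
            (tv P φ (Fr.e (i, false)) a * tv P φ (Fr.e (l, false)) a)⁻¹ *
              tv P φ (Fr.e (i, false) + Fr.e (l, false)) a := by
          rw [h1, inv_mul_cancel_left]
        have hi : ∀ i, Fr.e (i, false) ∈ Submodule.span F (Set.range fun i => Fr.e (i, false)) :=
          fun i => Submodule.subset_span ⟨i, rfl⟩
        rw [h2]
        exact mul_mem (inv_mem (mul_mem (tv_mem_S2 (hi i) a) (tv_mem_S2 (hi l) a)))
          (tv_mem_S2 (add_mem (hi i) (hi l)) a)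
      by_cases ha : a = 0
      · exact ⟨1, one_mem _, by rw [ha, zero_smul, Es_zero]; simp⟩
      have hI : I2 P (Fr.e (i, false)) (a • Fr.e (l, false)) := by
        refine ⟨hf, LinearIndependent.pair_iff.2 fun s r hsr => ?_⟩
        have h1 := (c.g1.li Fr).comp ![(i, false), (l, false)] (by
          intro x y hxy
          fin_cases x <;> fin_cases y <;> simp_all [eq_comm])
        have h2 : (Fr.e ∘ ![(i, false), (l, false)]) = ![Fr.e (i, false), Fr.e (l, false)] := by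
          ext x; fin_cases x <;> rfl
        rw [h2, LinearIndependent.pair_iff] at h1
        have h3 := h1 s (r * a) (by rw [← smul_smul]; exact hsr)
        exact ⟨h3.1, (mul_eq_zero.1 h3.2).resolve_right ha⟩
      refine ⟨y _ _, centralizer_le (fun g hg => ?_) (hy.cent _ _ hI), ?_⟩
      · obtain ⟨e, he, rfl⟩ := mem_YW.1 (e3 (e2 hg))
        refine mem_YW.2 ⟨e, ?_, rfl⟩
        rintro _ (rfl | rfl)
        · exact he _ ⟨i, rfl⟩
        · rw [map_smul, he _ ⟨l, rfl⟩]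
      · have h1 := hy.tact _ _ hI
        have h2 := hy.sq _ _ hI
        have h3 : Commute (Es P φ (Fr.e (i, false)) (a • Fr.e (l, false))) t :=
          mem_centralizer_iff.1 c.tc.tc _ (ET_mem h _ _ _)
        have h4 := inv_eq_of_mul_eq_one_left h2
        rw [mul_inv_eq_iff_eq_mul] at h1
        rw [h4, mul_assoc, h1, ← mul_assoc, ← mul_assoc, h2, one_mul, h3.eq]
    · exact ⟨one_mem _, 1, one_mem _, by simp⟩
    · rintro x z - - ⟨hx, p, hp, h1⟩ ⟨hz, q, hq, h2⟩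
      refine ⟨mul_mem hx hz, p * q, mul_mem hp hq, ?_⟩
      have h3 : Commute z p := mem_centralizer_iff.1 hp z hz
      calc _ = p * (q * t * q⁻¹) * p⁻¹ := by group
        _ = p * t * p⁻¹ * z := by rw [h2, mul_assoc _ p⁻¹, ← h3.inv_right.eq]; group
        _ = _ := by rw [h1, mul_assoc]
    · rintro x - ⟨hx, hp⟩
      rw [inv_eq_of_mul_eq_one_left (e1 x hx)]
      exact ⟨hx, hp⟩
  exact key.2

theorem ab (r : R2 L t) {l0 : F} {y : V → V → G} (hy : Y1 P φ L t l0 y) (hn : NoL P φ t) :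
    AB (Nat.card F) k t := by
  intro E h1 h2
  have h := c.toSG
  have t2 : t * t = 1 := by rw [← pow_two, ← c.tc.t2, pow_orderOf_eq_one]
  have sq : ∀ e ∈ E, e * e = 1 := fun e he => by
    obtain ⟨g, hg⟩ := h2 e he
    have h3 : Commute e t := mem_centralizer_singleton_iff.1 (h1 he)
    have h4 : t * e * (t * e) = 1 := by
      rw [hg]
      calc _ = g * (t * t) * g⁻¹ := by group
        _ = 1 := by rw [t2]; simp
    rwa [mul_assoc, ← mul_assoc e, h3.eq, mul_assoc, ← mul_assoc, t2, one_mul] at h4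
  have hE : IsPGroup 2 E := fun e => ⟨1, Subtype.ext (by
    rw [pow_one, pow_two]; exact sq e e.2)⟩
  obtain ⟨χ, -, hχ⟩ := c.nf.out
  have : IsCyclic (F ≃+* F) := H73.isCyclic_ringAut
  have h3 := half c r hE h1
  have h4 : Nat.card (χ.comp (inclusion (h1.trans c.tc.cN))).range ≤ 2 := by
    refine Nat.le_of_dvd two_pos ?_
    rw [← IsCyclic.exponent_eq_card, Monoid.exponent_dvd_iff_forall_pow_eq_one]
    rintro ⟨_, e, rfl⟩
    refine Subtype.ext ?_
    change (χ.comp _ e) ^ 2 = 1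
    rw [← map_pow, show e ^ 2 = 1 from Subtype.ext (by rw [pow_two]; exact sq e e.2), map_one]
  have h5 := c.jf.jf2 (E ⊓ L) fun e he => by
    obtain ⟨Fr, -, hA⟩ := c.g3.inv e he.2 (sq e he.1)
    obtain ⟨v, hv, ha⟩ := c.g3.dia Fr e hA
    have hv' : tv P φ v 1 ∈ AW P φ Fr := tv_mem_S2 hv 1
    obtain ⟨p, hp, h6⟩ := move c hy Fr (mul_mem hv' hA) ha
    by_cases h0 : v = 0
    · rwa [h0, tv, ET_zero_left h, one_mul] at ha
    refine (hn v 1 h0 one_ne_zero ?_).elim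
    obtain ⟨g, hg⟩ := h2 e he.1
    have h7 : Commute (tv P φ v 1) p := mem_centralizer_iff.1 hp _ hv'
    have h8 : Commute e p := mem_centralizer_iff.1 hp _ hA
    -- `p t p⁻¹ = t τ e`, so `p (t e) p⁻¹ = t τ`
    refine ⟨p * g, ?_⟩
    calc _ = p * t * p⁻¹ * e := by rw [h6, mul_assoc, mul_assoc, sq e he.1, mul_one]
      _ = p * (t * e) * p⁻¹ := by rw [mul_assoc _ p⁻¹, ← h8.inv_right.eq]; group
      _ = _ := by rw [hg]; group
  rw [card_le_ker χ (h1.trans c.tc.cN) hχ]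
  calc _ ≤ 2 * (2 * Nat.card F ^ (k * (k - 1) / 2)) := Nat.mul_le_mul h4 (h3.trans (by omega))
    _ = _ := by ring

omit c in
theorem bnd : BndStmt.{u, v} := by
  intro F V _ _ _ _ _ G _ _ P φ L k t c r
  exact ⟨sb c r, pf c, fun _ _ hy hn => ab c r hy hn⟩

end Cfsg.Agent.H66.T6.H65.SpBnd
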