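import Mathlib
import Cfsg.Agent.H29.SpKit
import Cfsg.Agent.H60.SpG2a
import Cfsg.Agent.H66.T6Defs2
import Cfsg.Agent.H14.SpSw2

/-!
# Standard subgroups of symplectic type: the exchange of two conjugates (piece SP-SW)
-/

set_option autoImplicit false

namespace Cfsg.Agent.H66.T6.H14.SpSw

open Cfsg Cfsg.Agent.H63 Cfsg.Agent.H63.SL Cfsg.Agent.H26 Cfsg.Agent.H68.Sp Cfsg.Agent.H29.SpK
open Cfsg.Agent.H78 hiding tv tv_zero
open Subgroup Module
open Cfsg.Agent.H8 (IsSylowIn)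
open scoped commutatorElement Pointwise

universe u v

section Grp

variable {G : Type u} [Group G]

theorem mem_C1 {g x : G} : g ∈ C1[x] ↔ Commute g x := mem_centralizer_singleton_iff

theorem cC {H : Subgroup G} {g x : G} (hg : g ∈ C[H]) (hx : x ∈ H) : Commute g x := (hg x hx).symm

theorem comm_iff {g x : G} : Commute g x ↔ g * x * g⁻¹ = x := mul_inv_eq_iff_eq_mul.symm

theorem comm_conj {g x y : G} : Commute (g⁻¹ * x * g) y ↔ Commute x (g * y * g⁻¹) := by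
  simp only [Commute, SemiconjBy]
  constructor <;> intro h
  · calc x * (g * y * g⁻¹) = g * (g⁻¹ * x * g * y) * g⁻¹ := by group
      _ = _ := by rw [h]; group
  · calc g⁻¹ * x * g * y = g⁻¹ * (x * (g * y * g⁻¹)) * g := by group
      _ = _ := by rw [h]; group

theorem relIndex_eq {L C D : Subgroup G} (hL : L ≤ C) (h : ∀ x ∈ C, ∃ l ∈ L, l⁻¹ * x ∈ D) :
    D.relIndex L = D.relIndex C := by
  refine Nat.card_congr (Equiv.ofBijective (quotientSubgroupOfEmbeddingOfLE D hL)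
    ⟨Function.Embedding.injective _, fun q => ?_⟩)
  obtain ⟨⟨x, hx⟩, rfl⟩ := QuotientGroup.mk_surjective q
  obtain ⟨l, hl, e⟩ := h x hx
  exact ⟨QuotientGroup.mk ⟨l, hl⟩, QuotientGroup.eq.2 e⟩

/-- The order of the common centralizer. -/
noncomputable def cc (t z : G) : ℕ := Nat.card (C1[t] ⊓ C1[z] : Subgroup G)

theorem cc_conj (g t z : G) : cc (g * t * g⁻¹) (g * z * g⁻¹) = cc t z := by
  rw [cc, cc, ← H8.card_conj_smul (C1[t] ⊓ C1[z]) g]
  congr 2
  ext x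
  simp only [H8.mem_conj_smul, mem_inf, mem_C1, comm_conj]

theorem cc_mul (t z : G) : cc t (t * z) = cc t z := by
  rw [cc, cc]
  congr 2
  ext x
  simp only [mem_inf, mem_C1]
  exact and_congr_right fun h => ⟨fun h' => by simpa using h.inv_right.mul_right h', h.mul_right⟩

theorem cc_symm (t z : G) : cc t z = cc z t := by rw [cc, cc, inf_comm]

theorem cc_lt [Finite G] {t z z' y : G} (h : ∀ x, Commute x t → Commute x z → Commute x z')
    (h1 : Commute y t) (h2 : Commute y z') (h3 : ¬ Commute y z) : cc t z < cc t z' := by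
  have hle : C1[t] ⊓ C1[z] ≤ C1[t] ⊓ C1[z'] := fun x hx =>
    ⟨hx.1, mem_C1.2 (h x (mem_C1.1 hx.1) (mem_C1.1 hx.2))⟩
  refine (card_le_of_le hle).lt_of_ne fun e => h3 ?_
  have := eq_of_le_of_card_ge hle e.ge
  exact mem_C1.1 (this.ge ⟨mem_C1.2 h1, mem_C1.2 h2⟩).2

/-- `g` maps `t` to `t z` and `t z'` to `t`. -/
def Rel (t z z' g : G) : Prop := g * t * g⁻¹ = t * z ∧ g⁻¹ * t * g = t * z'

theorem Rel.symm {t z z' g : G} (h : Rel t z z' g) : Rel t z' z g⁻¹ :=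
  ⟨by rw [inv_inv, h.2], by rw [inv_inv, h.1]⟩

theorem Rel.back {t z z' g : G} (h : Rel t z z' g) : g * (t * z') * g⁻¹ = t := by
  rw [← h.2]; group

theorem Rel.cc_eq {t z z' g : G} (h : Rel t z z' g) : cc t z = cc t z' := by
  rw [← cc_mul t z', ← cc_conj g t (t * z'), h.back, h.1, cc_symm (t * z), cc_mul]

theorem Rel.conj {t z z' g : G} (h : Rel t z z' g) (ht : t * t = 1) (hz : z * z = 1)
    (hc : Commute z t) : g * z' * g⁻¹ = z := by
  have h1 : g * z' * g⁻¹ = (g * t * g⁻¹)⁻¹ * (g * (t * z') * g⁻¹) := by group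
  rw [h1, h.1, h.back, mul_inv_rev, inv_mul_cancel_right, inv_eq_of_mul_eq_one_right hz]

theorem syl [Finite G] {L U : Subgroup G} {t z g0 : G} (hL : L ≤ C1[t]) (hU : IsSylowIn 2 U L)
    (hz : U ≤ C1[z]) (h : ∀ x ∈ C1[t], ∃ l ∈ L, l * z * l⁻¹ = x * z * x⁻¹)
    (hg : g0 * t * g0⁻¹ = t * z) : ∃ g, g * t * g⁻¹ = t * z ∧ U ≤ C1[g⁻¹ * t * g] := by
  have h1 : (C1[t] ⊓ C1[z]).relIndex L = (C1[t] ⊓ C1[z]).relIndex C1[t] :=
    relIndex_eq hL fun x hx => by
      obtain ⟨l, hl, e⟩ := h x hx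
      refine ⟨l, hl, C1[t].mul_mem (C1[t].inv_mem (hL hl)) hx, mem_C1.2 (comm_iff.2 ?_)⟩
      calc l⁻¹ * x * z * (l⁻¹ * x)⁻¹ = l⁻¹ * (x * z * x⁻¹) * l := by group
        _ = z := by rw [← e]; group
  have hUD : U ≤ C1[t] ⊓ C1[z] := le_inf (hU.le.trans hL) hz
  obtain ⟨S, hS, hUS⟩ := H8.exists_isSylowIn_ge hU.isPGroup hUD
  have hS' : IsSylowIn 2 S C1[t] := hS.trans_of_not_dvd inf_le_left fun hd =>
    hU.not_dvd (hd.trans (h1 ▸ relIndex_dvd_of_le_left L hUD))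
  have h2 : MulAut.conj g0⁻¹ • S ≤ C1[t] := fun x hx => by
    have h3 := hS.le (H8.mem_conj_smul.1 hx)
    have h4 := (mem_C1.1 h3.1).mul_right (mem_C1.1 h3.2)
    rw [comm_conj, ← hg] at h4
    exact mem_C1.2 (by simpa [mul_assoc] using h4)
  obtain ⟨m, hm, h3⟩ := hS'.exists_conj_le (H8.isPGroup_conj_smul hS.isPGroup _) h2
  have h4 := eq_of_le_of_card_ge h3 (by rw [H8.card_conj_smul, H8.card_conj_smul])
  rw [H8.conj_smul_conj_smul] at h4
  refine ⟨g0 * m⁻¹, ?_, fun x hx => ?_⟩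
  · rw [← hg]
    calc g0 * m⁻¹ * t * (g0 * m⁻¹)⁻¹ = g0 * (m⁻¹ * t * m⁻¹⁻¹) * g0⁻¹ := by group
      _ = _ := by rw [comm_iff.1 (mem_C1.1 (inv_mem hm))]
  · have h5 := mem_C1.1 (hS'.le (H8.mem_conj_smul.1 (h4.ge (hUS hx))))
    rw [comm_conj] at h5
    exact mem_C1.2 (by simpa [mul_assoc] using h5)

/-- The involution of a non-trivial cyclic `2`-group. -/
theorem exists_inv {x : G} (h : Is2 x) (h1 : x ≠ 1) : ∃ m : ℕ, x ^ m ≠ 1 ∧ x ^ m * x ^ m = 1 := by
  classical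
  have h0 : Nat.find h ≠ 0 := fun e => h1 (by simpa [e] using Nat.find_spec h)
  obtain ⟨n, hn⟩ := Nat.exists_eq_succ_of_ne_zero h0
  refine ⟨2 ^ n, Nat.find_min h (by omega), ?_⟩
  rw [← pow_add, ← two_mul, ← pow_succ', ← Nat.succ_eq_add_one, ← hn]
  exact Nat.find_spec h

end Grp

variable {F V : Type v} [Field F] [AddCommGroup V] [Module F V] {G : Type u} [Group G]
  {P : PForm F V} {φ : P.E →* G} {L : Subgroup G} {k : ℕ} {t : G}

theorem i2_smul (h : SG P φ L k) {u v : V} (huv : I2 P u v) {a b : F} (ha : a ≠ 0) (hb : b ≠ 0) :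
    I2 P (a • u) (b • v) :=
  ⟨by rw [P.f_smul_left, fr h, huv.1, mul_zero, mul_zero], LinearIndependent.pair_iff.2 fun s r e => by
    rw [smul_smul, smul_smul] at e
    obtain ⟨e1, e2⟩ := LinearIndependent.pair_iff.1 huv.2 _ _ e
    exact ⟨(mul_eq_zero.1 e1).resolve_right ha, (mul_eq_zero.1 e2).resolve_right hb⟩⟩

theorem i2_smul' (h : SG P φ L k) {u v : V} (huv : I2 P u v) {b : F} (hb : b ≠ 0) :
    I2 P u (b • v) := by simpa using i2_smul h huv one_ne_zero hb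

theorem i2_ne {u v : V} (huv : I2 P u v) : u ≠ 0 := huv.2.ne_zero 0

theorem i2_semi {T : V ≃+ V} {ψ : F ≃+* F} (hT : Semi P T ψ) {u v : V} (huv : I2 P u v) :
    I2 P (T u) (T v) :=
  ⟨by rw [hT.form, huv.1, map_zero], LinearIndependent.pair_iff.2 fun s r e => by
    obtain ⟨s, rfl⟩ := ψ.surjective s
    obtain ⟨r, rfl⟩ := ψ.surjective r
    rw [← hT.smul, ← hT.smul, ← map_add, map_eq_zero_iff _ T.injective] at e
    obtain ⟨rfl, rfl⟩ := LinearIndependent.pair_iff.1 huv.2 _ _ e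
    exact ⟨map_zero _, map_zero _⟩⟩

theorem witt2 (h : SG P φ L k) (g1 : G1 P k) {u v u' v' : V} (huv : I2 P u v) (huv' : I2 P u' v') :
    ∃ e : P.E, e.1 u = u' ∧ e.1 v = v' := by
  obtain ⟨e, he⟩ := g1.witt ![u, v] ![u', v'] huv.2 huv'.2 (fun i j => by
    fin_cases i <;> fin_cases j <;>
      simp [fs h, huv.1, huv'.1, (fc h v u).trans huv.1, (fc h v' u').trans huv'.1])
  exact ⟨e, he 0, he 1⟩

theorem exists_sqrt [Finite F] (h : SG P φ L k) (a : F) : ∃ s, s * s = a :=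
  Finite.surjective_of_injective (f := fun s : F => s * s) (fun x y e => by
    have e' : x * x = y * y := e
    have : (x - y) * (x - y) = 0 := by linear_combination e' + (y * y - x * y) * h.two
    exact sub_eq_zero.1 (mul_self_eq_zero.1 this)) a

/-- Elements of the same type are conjugate. -/
theorem same [Finite F] (h : SG P φ L k) (g1 : G1 P k) {u v u' v' : V} (huv : I2 P u v)
    (huv' : I2 P u' v') {a b a' b' : F} (ha : a = 0 ↔ a' = 0) (hb : b = 0 ↔ b' = 0) :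
    ∃ l ∈ L, l * ET P φ u (b • v) a * l⁻¹ = ET P φ u' (b' • v') a' := by
  obtain ⟨α, h0, h1⟩ : ∃ α : F, α ≠ 0 ∧ α * α * a = a' := by
    by_cases e : a = 0
    · exact ⟨1, one_ne_zero, by rw [e, ha.1 e, mul_zero]⟩
    · obtain ⟨s, hs⟩ := exists_sqrt h (a' / a)
      refine ⟨s, ?_, by rw [hs, div_mul_cancel₀ _ e]⟩
      rintro rfl
      exact div_ne_zero (mt ha.2 e) e (by rw [← hs, mul_zero])
  obtain ⟨β, h2, h3⟩ : ∃ β : F, β ≠ 0 ∧ α * (b * β) = b' := by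
    by_cases e : b = 0
    · exact ⟨1, one_ne_zero, by rw [e, hb.1 e, zero_mul, mul_zero]⟩
    · exact ⟨b' / (α * b), div_ne_zero (mt hb.2 e) (mul_ne_zero h0 e), by field_simp⟩
  obtain ⟨e, e1, e2⟩ := witt2 h g1 huv (i2_smul h huv' h0 h2)
  refine ⟨φ e, φ_mem h e, ?_⟩
  rw [conj_ET h, map_smul, e1, e2, ET_smul h, smul_smul, smul_smul, h1, mul_assoc, h3]

theorem diag0 (h : SG P φ L k) {u v u' v' : V} (huv : P.f u v = 0) (huv' : P.f u' v' = 0) {a a' : F}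
    (e : ET P φ u v a = ET P φ u' v' a') : tv P φ u a = tv P φ u' a' := by
  have h1 : ∀ {u v : V} (a : F), P.f u v = 0 → ∀ x,
      P.f x ((eE P u v a).1 x) = a * (P.f x u * P.f x u) := fun {u v} a huv x => by
    rw [eE_apply h huv, P.f_add_right, P.f_add_right, fs h, fr h, fr h]
    linear_combination (P.f x u * P.f x v) * h.two
  have h2 : ∀ x, a * (P.f x u * P.f x u) = a' * (P.f x u' * P.f x u') := fun x => by
    rw [← h1 a huv, ← h1 a' huv', (φ_inj h (e := eE P u v a) (e' := eE P u' v' a')).1 e x]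
  refine (φ_inj h (e := eE P u 0 a) (e' := eE P u' 0 a')).2 fun x => ?_
  rw [tv_apply h, tv_apply h]
  refine congrArg _ (PForm.eq_of_f_right (P := P) fun w => ?_)
  rw [fr h, fr h, ← sub_eq_zero, ← mul_self_eq_zero]
  linear_combination (a * (P.f w u * P.f w u)) * h2 x + (a' * (P.f x u' * P.f x u')) * h2 w +
    (a' * P.f x u' * P.f w u' * (a' * P.f x u' * P.f w u') -
      a * P.f x u * P.f w u * (a' * P.f x u' * P.f w u')) * h.two

theorem diag (h : SM P φ L k) {x : G} (hx : x ∈ N[L]) {u v : V} (huv : P.f u v = 0) {a : F}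
    (hc : Commute x (ET P φ u v a)) : Commute x (tv P φ u a) ∧ Commute x (Es P φ u v) := by
  obtain ⟨T, ψ, hI⟩ := h.aut x hx
  have h1 := comm_iff.1 hc
  rw [ind_ET h.toSG hI] at h1
  have h2 : Commute x (tv P φ u a) := comm_iff.2 (by
    rw [ind_tv h.toSG hI]
    exact diag0 h.toSG (by rw [hI.form, huv, map_zero]) huv h1)
  rw [ET_split h.toSG huv] at hc
  exact ⟨h2, by simpa using h2.inv_right.mul_right hc⟩

variable [FiniteDimensional F V] [Finite G]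

theorem nQ (h : SM P φ L k) {x : G} (hx : x ∈ N[L]) {u v : V} (huv : I2 P u v)
    (hc : Commute x (Es P φ u v)) : x ∈ N[QW P φ {u, v}] := by
  obtain ⟨T, ψ, hI⟩ := h.aut x hx
  obtain ⟨e', h1, h2⟩ := hI.conj (eE P u v 0)
  obtain rfl : eE P u v 0 = e' := h.inj ((comm_iff.1 hc).symm.trans h2)
  have h3 : ∀ y, y ∈ P.perp (Submodule.span F {u, v}) ↔ (eE P u v 0).1 y = y := fun y => by
    rw [PForm.mem_perp_span, Es_apply h.toSG huv.1, add_assoc, add_eq_left, add_comm]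
    refine ⟨fun H => by rw [H u (by simp), H v (by simp), zero_smul, zero_smul, add_zero],
      fun H => ?_⟩
    obtain ⟨e1, e2⟩ := LinearIndependent.pair_iff.1 huv.2 _ _ H
    rintro _ (rfl | rfl)
    exacts [e2, e1]
  have h4 : ∀ y, T y ∈ P.perp (Submodule.span F {u, v}) ↔ y ∈ P.perp (Submodule.span F {u, v}) :=
    fun y => by rw [h3, h3, h1, T.apply_eq_iff_eq]
  refine mem_normalizer_fintype fun y hy => ?_
  refine (closure_le ((QW P φ {u, v}).comap (MulAut.conj x).toMonoidHom)).2 ?_ hy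
  rintro _ ⟨e, he, y, hy, c, rfl⟩
  refine subset_closure ⟨T e, PForm.mem_of_forall_perp (P := P) fun w hw => ?_, T y, (h4 y).2 hy, ψ c,
    ind_ET h.toSG hI e y c⟩
  obtain ⟨w, rfl⟩ := T.surjective w
  rw [hI.form, PForm.f_of_mem_perp' ((h4 w).1 hw) he, map_zero]

variable (c : Ctx P φ L k t)
include c

omit [FiniteDimensional F V] [Finite G] in
theorem L_le : L ≤ C1[t] := fun _ hx => mem_C1.2 (cC c.tc.tc hx).symm

omit [FiniteDimensional F V] [Finite G] in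
theorem t_sq : t * t = 1 := by rw [← sq, ← c.tc.t2, pow_orderOf_eq_one]

theorem ltB {u v : V} (huv : I2 P u v) (a : F) : cc t (ET P φ u v a) < cc t (tv P φ u a) := by
  have h := c.toSG
  obtain ⟨y, hy, e⟩ := P.exists_perp_f_right (W := F ∙ u) (x := v) (fun H => by
    obtain ⟨r, rfl⟩ := Submodule.mem_span_singleton.1 H
    exact one_ne_zero (LinearIndependent.pair_iff.1 huv.2 (-r) 1 (by simp)).2) 1
  have hy' := PForm.mem_perp_span_singleton.1 hy
  refine cc_lt (y := tv P φ y 1) (fun x hx hc => (diag c.toSM (c.tc.cN (mem_C1.2 hx)) huv.1 hc).1)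
    (mem_C1.1 (L_le c (ET_mem h _ _ _))) (comm_tv_tv h hy' _ _) fun H => ?_
  obtain ⟨a', b', c', d', -, -, e2⟩ := (c.nf.cs (eE P y 0 1) u v huv).1
    (diag c.toSM (le_normalizer (ET_mem h _ _ _)) huv.1 H).2
  have e3 := congrArg (P.f v) e2
  rw [tv_apply h, P.f_add_right, P.f_add_right, fr h, fr h, fr h, fs h, e, fc h v u, huv.1] at e3
  simp at e3

omit [FiniteDimensional F V] in
theorem ltA {u v : V} (huv : I2 P u v) {a : F} (ha : a ≠ 0) :
    cc t (ET P φ u v a) < cc t (Es P φ u v) := by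
  have h := c.toSG
  obtain ⟨e, e1, e2⟩ := witt2 h c.g1 huv (u' := v) (v' := u)
    ⟨(fc h v u).trans huv.1, LinearIndependent.pair_symm_iff.1 huv.2⟩
  refine cc_lt (y := φ e) (fun x hx hc => (diag c.toSM (c.tc.cN (mem_C1.2 hx)) huv.1 hc).2)
    (mem_C1.1 (L_le c (φ_mem h _))) (comm_iff.2 (by rw [conj_Es h, e1, e2, Es_symm h])) fun H => ?_
  have e3 := c.nf.ct e u a (i2_ne huv) ha (diag c.toSM (le_normalizer (φ_mem h _)) huv.1 H).1
  exact one_ne_zero (LinearIndependent.pair_iff.1 huv.2 (-1) 1 (by rw [← e1, e3]; simp)).2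

theorem ty [Finite F] {u v : V} (huv : I2 P u v) {a b a' b' : F} {g : G} (h0 : a ≠ 0 ∨ b ≠ 0)
    (r : Rel t (ET P φ u (b • v) a) (ET P φ u (b' • v) a') g) :
    (a = 0 → a' = 0) ∧ (b = 0 → b' = 0) := by
  have h := c.toSG
  have key : ∀ {a b a' b' : F}, (a = 0 ↔ a' = 0) → (b = 0 ↔ b' = 0) →
      cc t (ET P φ u (b • v) a) = cc t (ET P φ u (b' • v) a') := fun ha hb => by
    obtain ⟨l, hl, e⟩ := same h c.g1 huv huv ha hb
    rw [← e, ← cc_conj l, comm_iff.1 (mem_C1.1 (L_le c hl))]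
  constructor
  · rintro rfl
    have hb := h0.resolve_left (not_not.2 rfl)
    by_contra ha'
    by_cases hb' : b' = 0
    · rw [hb', zero_smul] at r
      exact Cfsg.Agent.H14.SpSw2.notBA h c.k3 c.aut c.g1 c.tc huv ha' hb r.symm
    · exact (ltA c (i2_smul' h huv hb') ha').ne
        (r.cc_eq.symm.trans (key Iff.rfl (iff_of_false hb hb')))
  · rintro rfl
    have ha := h0.resolve_right (not_not.2 rfl)
    by_contra hb'
    by_cases ha' : a' = 0
    · rw [ha', zero_smul] at r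
      exact Cfsg.Agent.H14.SpSw2.notBA h c.k3 c.aut c.g1 c.tc huv ha hb' r
    · refine (ltB c (i2_smul' h huv hb') a').ne (r.cc_eq.symm.trans ?_)
      simpa using key (b := 0) (b' := 0) (iff_of_false ha ha') Iff.rfl

omit [Finite G] in
/-- The centralizer of `AW` in `N(L)`. -/
theorem cA (Fr : Frame P k) {x : G} (hx : x ∈ N[L]) (hc : x ∈ C[AW P φ Fr]) :
    ∃ s ∈ AW P φ Fr, ∃ κ ∈ C[L], x = s * κ ∧ s * s = 1 ∧ s ∈ L := by
  have hiso : ∀ x ∈ Set.range fun i => Fr.e (i, false), ∀ y ∈ Set.range fun i => Fr.e (i, false),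
      P.f x y = 0 := by
    rintro _ ⟨i, rfl⟩ _ ⟨j, rfl⟩
    exact Fr.orth _ _ (by simp [ng])
  have h1 : finrank F (Submodule.span F (Set.range fun i => Fr.e (i, false))) = k := by
    exact (finrank_span_eq_card ((c.g1.li Fr).comp (fun i => (i, false)) fun i j e =>
      congrArg Prod.fst e)).trans (Fintype.card_fin k)
  have h2 := PForm.finrank_perp (P := P) (Submodule.span F (Set.range fun i => Fr.e (i, false)))
  rw [c.dim, h1] at h2
  have h3 := Submodule.eq_of_le_of_finrank_le (H60.SpG2a.span_iso hiso) (by omega)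
  have h4 : YW P φ (Set.range fun i => Fr.e (i, false)) ≤ AW P φ Fr := by
    rw [c.g2.gen, ← h3]
    exact H60.SpG2a.S2_mono (Submodule.span_eq _).le
  obtain ⟨s, hs, κ, hκ, e⟩ := c.nf.cY _ (fun e => by
    rw [e, finrank_bot] at h2
    have := c.k3
    omega) x ⟨hx, centralizer_le h4 hc⟩
  exact ⟨s, hs, κ, hκ, e, (c.g2.el _ hiso).1 s hs, c.rng.le (H60.SpG2a.S2_le_range _ hs)⟩

theorem r2 (hT : TR P φ k t) (Fr : Frame P k) {z : G} (hz : z ∈ AW P φ Fr) (h1 : z ≠ 1)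
    (hd : t * z ∈ Dt t) : R2 L t := by
  intro κ hκ hc h2
  obtain ⟨n, hn, e⟩ := hT Fr _ hd (mul_mem (mem_sup_right (mem_zpowers t)) (mem_sup_left hz))
  have hAL : AW P φ Fr ≤ L := (H60.SpG2a.S2_le_range _).trans c.rng.le
  have h3 : AW P φ Fr ⊔ zpowers t ≤ C1[κ] := sup_le (fun x hx => mem_C1.2 (cC hκ (hAL hx)).symm)
    (zpowers_le.2 (mem_C1.2 hc.symm))
  have h4 : ∀ x ∈ AW P φ Fr ⊔ zpowers t, Commute (n⁻¹ * κ * n) x := fun x hx =>
    comm_conj.2 (mem_C1.1 (h3 ((hn x).1 hx))).symm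
  have h5 := h4 t (mem_sup_right (mem_zpowers t))
  obtain ⟨s, -, κ', hκ', e1, e2, e3⟩ := cA c Fr (c.tc.cN (mem_C1.2 h5))
    fun x hx => (h4 x (mem_sup_left hx)).symm
  have h6 : n⁻¹ * (κ * κ) * n = κ' * κ' := by
    calc n⁻¹ * (κ * κ) * n = (n⁻¹ * κ * n) * (n⁻¹ * κ * n) := by group
      _ = s * (κ' * s) * κ' := by rw [e1]; group
      _ = κ' * κ' := by rw [(cC hκ' e3).eq, ← mul_assoc, e2, one_mul]
  refine c.tc.one κ hκ hc (by_contra fun h7 => ?_)
  obtain ⟨m, m1, m2⟩ := exists_inv (x := κ * κ) (h2.imp fun j hj => by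
    rw [(Commute.refl κ).mul_pow, hj, one_mul]) h7
  have h8 := (c.tc.one _ (pow_mem (mul_mem hκ hκ) m) ((hc.mul_left hc).pow_left m) m2).resolve_left m1
  have h9 : n⁻¹ * t * n = (κ' * κ') ^ m := by
    rw [← h6, ← h8]
    simpa using (conj_pow (i := m) (a := n⁻¹) (b := κ * κ)).symm
  have h10 : Commute (n⁻¹ * t * n) t := comm_conj.2 (by
    rw [e]; exact (Commute.refl t).mul_right (cC c.tc.tc (hAL hz)))
  rcases c.tc.one _ (h9 ▸ pow_mem (mul_mem hκ' hκ') m) h10 (by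
    calc n⁻¹ * t * n * (n⁻¹ * t * n) = n⁻¹ * (t * t) * n := by group
      _ = 1 := by rw [t_sq c]; group) with h11 | h11
  · exact m1 (h8.trans (by
      calc t = n * (n⁻¹ * t * n) * n⁻¹ := by group
        _ = 1 := by rw [h11]; group))
  · refine h1 (mul_left_cancel (a := t) ?_)
    rw [← e, mul_one]
    calc n * t * n⁻¹ = n * (n⁻¹ * t * n) * n⁻¹ := by rw [h11]
      _ = t := by group

omit c [FiniteDimensional F V] [Finite G] in
theorem sw : SWStmt.{u, v} := by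
  intro F V _ _ _ _ _ G _ _ P φ L k t c hT hN u v huv a b h0 hd
  have h := c.toSG
  have k3 := c.k3
  obtain ⟨Fr, -, hF⟩ := c.g1.fr ![u, v] ![(⟨k - 1, by omega⟩, false), (⟨k - 2, by omega⟩, false)]
    (fun i j e => by
      fin_cases i <;> fin_cases j <;> simp at e ⊢ <;> omega) huv.2 (fun i j => by
      fin_cases i <;> fin_cases j <;> simp [ng, fs h, huv.1, (fc h v u).trans huv.1])
  have hu : Fr.e (⟨k - 1, by omega⟩, false) = u := hF 0
  have hv : Fr.e (⟨k - 2, by omega⟩, false) = v := hF 1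
  have hZ := c.g4.zU Fr (⟨k - 1, by omega⟩, false) (⟨k - 2, by omega⟩, false)
    (by simp [ht]; omega) (by simp [ht]; omega)
  rw [hu, hv] at hZ
  have hb : ∀ b : F, P.f u (b • v) = 0 := fun b => by rw [fr h, huv.1, mul_zero]
  have hne : ∀ {a b : F}, ET P φ u (b • v) a = 1 ↔ a = 0 ∧ b = 0 := fun {a b} =>
    ⟨fun e => by
      obtain ⟨rfl, -⟩ := ET_eq_one h (i2_ne huv) (hb b) e
      exact ⟨rfl, (Es_eq_one h huv).1 e⟩, by rintro ⟨rfl, rfl⟩; rw [zero_smul, ET_zero]⟩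
  have hzA : ET P φ u (b • v) a ∈ AW P φ Fr := H60.SpG2a.S2_mono
    (Submodule.span_mono (by rintro _ (rfl | rfl); exacts [⟨_, hu⟩, ⟨_, hv⟩]))
    ((c.g2.crd2 u v huv.1 _).2 ⟨a, 0, b, by rw [tv_zero, mul_one, ET_split h (hb b)]⟩)
  refine ⟨r2 c hT Fr hzA (fun e => by have := hne.1 e; tauto) hd, ?_⟩
  obtain ⟨g0, hg0⟩ := hd
  obtain ⟨g, g1, g2⟩ := syl (L_le c) (c.g4.syl Fr)
    (fun x hx => mem_C1.2 (cC ((hZ _).2 ⟨a, b, rfl⟩).2 hx).symm) (fun x hx => by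
      obtain ⟨T, ψ, hI⟩ := c.aut x (c.tc.cN hx)
      rw [ind_ET h hI, hI.smul]
      exact same h c.g1 huv (i2_semi hI.toSemi huv) (map_eq_zero_iff _ ψ.injective).symm
        (map_eq_zero_iff _ ψ.injective).symm) hg0.symm
  have hzt := mem_C1.1 (L_le c (ET_mem h u (b • v) a))
  have h1 : Commute (g⁻¹ * t * g) t := comm_conj.2 (by
    rw [g1]; exact (Commute.refl t).mul_right hzt.symm)
  obtain ⟨s, hs, κ, hκ, e1, e2, e3⟩ := cA c Fr (c.tc.cN (mem_C1.2 h1))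
    fun x hx => mem_C1.1 (g2 ((c.g4.AU Fr).1 hx))
  have e4 : κ = s * (g⁻¹ * t * g) := by rw [e1, ← mul_assoc, e2, one_mul]
  have e5 : s = g⁻¹ * t * g * κ⁻¹ := by rw [e1, mul_inv_cancel_right]
  obtain ⟨a', b', rfl⟩ := (hZ s).1 ⟨(c.g4.AU Fr).1 hs, fun x hx => by
    rw [e5]
    exact (mem_C1.1 (g2 hx)).mul_right (cC hκ ((c.g4.syl Fr).le hx)).symm.inv_right⟩
  have h2 : κ * κ = 1 := by
    have h3 : g⁻¹ * t * g * (g⁻¹ * t * g) = 1 := by
      calc g⁻¹ * t * g * (g⁻¹ * t * g) = g⁻¹ * (t * t) * g := by group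
        _ = 1 := by rw [t_sq c]; group
    rw [e1, mul_assoc, ← mul_assoc κ, (cC hκ e3).eq, mul_assoc, ← mul_assoc, e2, one_mul] at h3
    exact h3
  rcases c.tc.one κ hκ (e4 ▸ (mem_C1.1 (L_le c e3)).mul_left h1) h2 with rfl | rfl
  · exact (hN.nd1 u _ a' ((fc h _ _).trans (hb b')) ⟨g⁻¹, by rw [inv_inv, e1, mul_one]⟩).elim
  have r : Rel κ (ET P φ u (b • v) a) (ET P φ u (b' • v) a') g := ⟨g1, e1.trans (cC hκ e3).eq.symm⟩
  have hc := r.conj (t_sq c) (ET_sq h _ _ _) hzt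
  have h0' : a' ≠ 0 ∨ b' ≠ 0 := by
    by_contra! H
    rw [hne.2 H, mul_one, mul_inv_cancel, eq_comm, hne] at hc
    tauto
  obtain ⟨t1, t2⟩ := ty c huv h0 r
  obtain ⟨t3, t4⟩ := ty c huv h0' r.symm
  obtain ⟨l, hl, e⟩ := same h c.g1 huv huv ⟨t1, t3⟩ ⟨t2, t4⟩
  refine ⟨g * l, ?_, comm_iff.2 ?_⟩
  · rw [← g1]
    calc g * l * κ * (g * l)⁻¹ = g * (l * κ * l⁻¹) * g⁻¹ := by group
      _ = _ := by rw [comm_iff.1 (mem_C1.1 (L_le c hl))]
  · calc g * l * ET P φ u (b • v) a * (g * l)⁻¹ = g * (l * ET P φ u (b • v) a * l⁻¹) * g⁻¹ := by group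
      _ = _ := by rw [e, hc]

end Cfsg.Agent.H66.T6.H14.SpSw
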