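import Mathlib
import Cfsg.Agent.H66.T6SpSw

/-!
# Standard subgroups of symplectic type: the commuting family of movers (piece SP-C3B)
-/

set_option autoImplicit false

namespace Cfsg.Agent.H66.T6.H14.SpC3b

open Cfsg Cfsg.Agent.H63 Cfsg.Agent.H63.SL Cfsg.Agent.H26 Cfsg.Agent.H68.Sp Cfsg.Agent.H29.SpK
open Cfsg.Agent.H78 hiding tv tv_zero
open Subgroup Module
open Cfsg.Agent.H66.T6.H14.SpSw (mem_C1 cC exists_sqrt L_le t_sq i2_ne)
open scoped commutatorElement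

universe u v

section Grp

variable {G : Type u} [Group G]

/-- Conjugation. -/
def J (g x : G) : G := g * x * g⁻¹

theorem J_mul (g x y : G) : J g (x * y) = J g x * J g y := by simp only [J]; group

theorem mul_J (g h x : G) : J (g * h) x = J g (J h x) := by simp only [J]; group

theorem J_eq {g x : G} : J g x = x ↔ Commute g x := mul_inv_eq_iff_eq_mul

theorem J_of {g x : G} (h : Commute g x) : J g x = x := J_eq.2 h

theorem comm_of_J {y y' x : G} (h : J y x = J y' x) : Commute (y'⁻¹ * y) x :=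
  J_eq.1 (by rw [mul_J, h]; simp only [J]; group)

theorem J_J (x p y : G) : J (J x p) (J x y) = J x (J p y) := by simp only [J]; group

theorem J_J_self {x : G} (h : x * x = 1) (y : G) : J x (J x y) = y := by
  rw [← mul_J, h]; simp [J]

theorem dec [Finite G] {L : Subgroup G} {t κ : G} (hR : R2 L t) (tc : Tc L t) (hκ : κ ∈ C[L])
    (hc : Commute κ t) :
    ∃ o ∈ C[L], Commute o t ∧ Odd (orderOf o) ∧ (κ = o ∨ κ = t * o) := by
  obtain ⟨a, m, hm, e⟩ := Nat.exists_eq_two_pow_mul_odd (orderOf_pos κ).ne'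
  have ht : t * t = 1 := by rw [← sq, ← tc.t2, pow_orderOf_eq_one]
  rcases hR (κ ^ m) (pow_mem hκ m) (hc.pow_left m)
    ⟨a, by rw [← pow_mul, mul_comm, ← e, pow_orderOf_eq_one]⟩ with h | h
  · exact ⟨κ, hκ, hc, hm.of_dvd_nat (orderOf_dvd_of_pow_eq_one h), .inl rfl⟩
  · refine ⟨t * κ, mul_mem tc.tc hκ, (Commute.refl t).mul_left hc,
      hm.of_dvd_nat (orderOf_dvd_of_pow_eq_one ?_), .inr (by rw [← mul_assoc, ht, one_mul])⟩
    obtain ⟨j, rfl⟩ := hm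
    rw [hc.symm.mul_pow, h, pow_succ, pow_mul, sq, ht, one_pow, one_mul, ht]

theorem eq_one_of_odd {o : G} (h : Odd (orderOf o)) (h4 : o * o * (o * o) = 1) : o = 1 := by
  have h1 : orderOf o ∣ 2 ^ 2 := orderOf_dvd_of_pow_eq_one (by rw [← h4, sq, pow_mul, sq, sq])
  exact orderOf_eq_one_iff.1 (Nat.Coprime.eq_one_of_dvd
    (Nat.Coprime.pow_right 2 (Nat.coprime_two_right.2 h)) h1)

theorem third {k : ℕ} (hk : 3 ≤ k) (a b : BI k) : ∃ g : BI k, g.1 ≠ a.1 ∧ g.1 ≠ b.1 := by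
  by_contra! H
  have h0 := H (⟨0, by omega⟩, false)
  have h1 := H (⟨1, by omega⟩, false)
  have h2 := H (⟨2, by omega⟩, false)
  simp only [ne_eq, Fin.ext_iff] at h0 h1 h2
  omega

theorem ne_ng {k : ℕ} {a b : BI k} (h : a.1 ≠ b.1) : a ≠ ng b := fun e => h (by rw [e]; rfl)

theorem ng_ne_ng {k : ℕ} {a b : BI k} (h : a ≠ b) : ng a ≠ ng b := fun e =>
  h (by simpa using congrArg ng e)

theorem self_ne_ng {k : ℕ} (a : BI k) : a ≠ ng a := fun e => by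
  simpa [ng] using congrArg Prod.snd e

theorem fst_ne {k : ℕ} {a b : BI k} (h : a ≠ b) (h' : a ≠ ng b) : a.1 ≠ b.1 := fun e => by
  obtain ⟨i, x⟩ := a
  obtain ⟨j, y⟩ := b
  obtain rfl : i = j := e
  cases x <;> cases y <;> simp [ng] at h h'

end Grp

variable {F V : Type v} [Field F] [AddCommGroup V] [Module F V] {G : Type u} [Group G]
  {P : PForm F V} {φ : P.E →* G} {L : Subgroup G} {k : ℕ} {t : G} {Fr : Frame P k}

variable (P φ Fr) in
/-- The elements of `S2` of two vectors of the frame. -/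
noncomputable def S (b c : BI k) (α β ζ : F) : G :=
  tv P φ (Fr.e b) (α * α) * tv P φ (Fr.e c) (β * β) * Es P φ (Fr.e b) (ζ • Fr.e c)

variable (P φ Fr) in
/-- The root element mapping `e d` to `e d + r e b`. -/
noncomputable abbrev X (d b : BI k) (r : F) : G := Es P φ (Fr.e (ng d)) (r • Fr.e b)

variable (P φ Fr L t) in
/-- Involutions among the movers. -/
structure Inv (b : BI k) (s : F) (p : G) : Prop extends MB P φ Fr t 1 b s p where
  sq : p * p = 1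
  co : CO L t p

section SG

variable (h : SG P φ L k)
include h

theorem f0 {a c : BI k} (hc : c ≠ ng a) (r : F) : P.f (Fr.e a) (r • Fr.e c) = 0 := by
  rw [fr h, Fr.orth a c hc, mul_zero]

theorem f1 (hN : Fr.Norm) (a : BI k) : P.f (Fr.e a) (Fr.e (ng a)) = 1 := by
  obtain ⟨i, _ | _⟩ := a
  exacts [hN i, (fc h _ _).trans (hN i)]

theorem Es_sw (b c : BI k) (ζ : F) :
    Es P φ (Fr.e b) (ζ • Fr.e c) = Es P φ (Fr.e c) (ζ • Fr.e b) := by rw [Es_symm h, Es_smul h]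

theorem S_mem (b c : BI k) (α β ζ : F) : S P φ Fr b c α β ζ ∈ L :=
  mul_mem (mul_mem (ET_mem h _ _ _) (ET_mem h _ _ _)) (ET_mem h _ _ _)

omit h in
theorem S_a (b c : BI k) (α : F) : S P φ Fr b c α 0 0 = tv P φ (Fr.e b) (α * α) := by
  rw [S, mul_zero, zero_smul, tv_zero, mul_one, Es_zero, mul_one]

omit h in
theorem S_b (b c : BI k) (β : F) : S P φ Fr b c 0 β 0 = tv P φ (Fr.e c) (β * β) := by
  rw [S, mul_zero, zero_smul, tv_zero, one_mul, Es_zero, mul_one]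

omit h in
theorem S_c (b c : BI k) (ζ : F) : S P φ Fr b c 0 0 ζ = Es P φ (Fr.e b) (ζ • Fr.e c) := by
  rw [S, mul_zero, tv_zero, tv_zero, one_mul, one_mul]

omit h in
theorem S_zero (b c : BI k) : S P φ Fr b c 0 0 0 = 1 := by rw [S_a, mul_zero, tv_zero]

variable {b c : BI k} (hbc : b.1 ≠ c.1)
include hbc

theorem S_symm (α β ζ : F) : S P φ Fr b c α β ζ = S P φ Fr c b β α ζ := by
  rw [S, S, Es_sw h, (comm_tv_tv h (Fr.orth _ _ (ne_ng hbc.symm)) _ _).eq]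

theorem S_mul (α β ζ α' β' ζ' : F) : S P φ Fr b c α β ζ * S P φ Fr b c α' β' ζ' =
    S P φ Fr b c (α + α') (β + β') (ζ + ζ') := by
  have e : ∀ x y : F, (x + y) * (x + y) = x * x + y * y := fun x y => by
    linear_combination x * y * h.two
  have h0 := Fr.orth _ _ (ne_ng hbc)
  have h1 := comm_tv_tv h h0 (β * β) (α' * α')
  have h2 := comm_same h (Fr.e b) (ζ • Fr.e c) 0 0 (α' * α')
  have h3 := (comm_tv_ET h h0 (f0 h (self_ne_ng c) ζ) (β' * β') 0).symm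
  simp only [S, e, tv_add h, Es_adds h (Fr.orth _ _ (ne_ng hbc.symm)), mul_assoc]
  rw [h2.left_comm, h1.left_comm, h3.left_comm]

theorem S_sq (α β ζ : F) : S P φ Fr b c α β ζ * S P φ Fr b c α β ζ = 1 := by
  rw [S_mul h hbc, fadd_self h, fadd_self h, fadd_self h, S_zero]

variable {s : F} {p : G}

omit hbc in
theorem Inv.Q (i : Inv P φ L t Fr b s p) {y : V} (hy : P.f (Fr.e b) y = 0) (a : F) :
    J p (ET P φ (Fr.e b) y a) = ET P φ (Fr.e b) y a :=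
  J_of (cC i.cent (ET_mem_QW (S := {Fr.e b}) (Submodule.mem_span_singleton_self _)
    (fun _ e => by rw [e, fc h, hy]) a))

omit hbc in
theorem Inv.Qt (i : Inv P φ L t Fr b s p) (a : F) :
    J p (tv P φ (Fr.e b) a) = tv P φ (Fr.e b) a := i.Q h (P.f_zero_right _) a

omit hbc in
theorem Inv.Qe (i : Inv P φ L t Fr b s p) {y : V} (hy : P.f (Fr.e b) y = 0) :
    J p (Es P φ (Fr.e b) y) = Es P φ (Fr.e b) y := i.Q h hy 0

omit hbc in
theorem J_tv (u y v : V) (a : F) : J (Es P φ u y) (tv P φ v a) = tv P φ ((eE P u y 0).1 v) a :=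
  conj_tv h (eE P u y 0) v a

omit hbc in
theorem J_Es (u y v w : V) :
    J (Es P φ u y) (Es P φ v w) = Es P φ ((eE P u y 0).1 v) ((eE P u y 0).1 w) :=
  conj_Es h (eE P u y 0) v w

omit h hbc in
theorem Inv.T (i : Inv P φ L t Fr b s p) {g : BI k} (hg : g ≠ ng b) (r : F) :
    J p (tv P φ (Fr.e g) (r * r)) = Es P φ (Fr.e b) ((s * r) • Fr.e g) * tv P φ (Fr.e g) (r * r) := by
  have := i.comT g hg r
  rw [one_mul, commutatorElement_def, mul_inv_eq_iff_eq_mul] at this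
  exact this

omit hbc in
/-- The action on the short root elements, including the trivial ones. -/
theorem Inv.E (i : Inv P φ L t Fr b s p) {g e : BI k} (hg : g ≠ ng b) (he : e ≠ ng b)
    (hge : g ≠ ng e) (r : F) :
    J p (Es P φ (Fr.e g) (r • Fr.e e)) = Es P φ (Fr.e g) (r • Fr.e e) := by
  by_cases e1 : g = e
  · rw [e1, Es_self h]; exact J_of (Commute.one_right p)
  · exact J_of (i.comS g e (fst_ne e1 hge) hg he r)

theorem Inv.S1 (i : Inv P φ L t Fr b s p) (α β ζ : F) :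
    J p (S P φ Fr b c α β ζ) = S P φ Fr b c α β (ζ + s * β) := by
  rw [S, J_mul, J_mul, i.Qt h, i.T (ne_ng hbc.symm),
    i.Qe h (f0 h (ne_ng hbc.symm) _), ← S_a b c, ← S_b b c, ← S_c, ← S_c, S_mul h hbc, S_mul h hbc,
    S_mul h hbc]
  congr 1 <;> ring

theorem Inv.S2 (i : Inv P φ L t Fr c s p) (α β ζ : F) :
    J p (S P φ Fr b c α β ζ) = S P φ Fr b c α β (ζ + s * α) := by
  rw [S_symm h hbc, i.S1 h hbc.symm, S_symm h hbc]

omit hbc in
theorem Inv.mul_tv (i : Inv P φ L t Fr b s p) (tc : Tc L t) (a : F) :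
    Inv P φ L t Fr b s (p * tv P φ (Fr.e b) a) := by
  have h1 := J_eq.1 (i.Qt h a)
  have h2 : p * tv P φ (Fr.e b) a * (p * tv P φ (Fr.e b) a) = 1 := by
    rw [h1.symm.mul_mul_mul_comm, i.sq, tv_sq h, one_mul]
  refine ⟨⟨mul_mem i.cent ?_, ⟨1, by rw [pow_one, pow_two, h2]⟩, ?_, fun g e h3 h4 h5 r => ?_,
    fun g hg r => ?_⟩, h2, fun κ hκ h3 h4 => (i.co κ hκ h3 h4).mul_right (cC hκ (ET_mem h _ _ _))⟩
  · refine (closure_le (C1[tv P φ (Fr.e b) a])).2 ?_ |> fun H x hx => mem_C1.1 (H hx)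
    rintro _ ⟨e, he, y, -, ν, rfl⟩
    obtain ⟨r, rfl⟩ := Submodule.mem_span_singleton.1 he
    rw [ET_smul h]
    exact mem_C1.2 (comm_same h _ _ _ _ _)
  · exact (mul_J _ _ _).trans (by rw [J_of (cC tc.tc (ET_mem h _ _ _)).symm]; exact i.mv)
  · exact (i.comS g e h3 h4 h5 r).mul_left (comm_tv_ET h (Fr.orth _ _ h4) (f0 h h5 _) _ _)
  · rw [← i.comT g hg r, commutatorElement_def, commutatorElement_def]
    congr 1
    exact (mul_J _ _ _).trans (by rw [J_of (comm_tv_tv h (Fr.orth _ _ hg) _ _)]; rfl)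

omit hbc in
theorem inv_one (b : BI k) : Inv P φ L t Fr b 0 1 :=
  ⟨⟨one_mem _, ⟨0, by simp⟩, by simp [tv_zero], fun _ _ _ _ _ _ => Commute.one_left _,
    fun _ _ _ => by simp [Es_zero]⟩, one_mul _, fun _ _ _ _ => Commute.one_right _⟩

/-- The action of a product of two movers on the transvections. -/
theorem J2 {s' : F} {p' : G} (i : Inv P φ L t Fr b s p) (i' : Inv P φ L t Fr c s' p') {g : BI k}
    (hb : g ≠ ng b) (hc : g ≠ ng c) (r : F) : J (p * p') (tv P φ (Fr.e g) (r * r)) =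
      Es P φ (Fr.e g) (r • (s • Fr.e b + s' • Fr.e c)) * tv P φ (Fr.e g) (r * r) := by
  have h1 : ∀ {b : BI k}, g ≠ ng b → b ≠ ng g := fun e e' => e (by rw [e', ng_ng])
  rw [mul_J, i'.T hc, J_mul, i.T hb, i.E h (ne_ng hbc.symm) hb (h1 hc), ← mul_assoc, Es_sw h c,
    Es_sw h b, ← Es_add0 h (f0 h (h1 hc) _) (f0 h (h1 hb) _)
      (by rw [P.f_smul_left, f0 h (ne_ng hbc), mul_zero])]
  congr 2
  module

theorem J2t (tc : Tc L t) {s' : F} {p' : G} (i : Inv P φ L t Fr b s p)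
    (i' : Inv P φ L t Fr c s' p') : J (p * p') t = t * S P φ Fr b c s s' (s * s') := by
  rw [mul_J, show J p' t = _ from i'.mv, J_mul, show J p t = _ from i.mv, ← S_a b c, ← S_b b c,
    i.S1 h hbc, mul_assoc, S_mul h hbc]
  simp

omit hbc in
theorem X_src (hN : Fr.Norm) {d b : BI k} (hdb : d.1 ≠ b.1) (r : F) :
    (eE P (Fr.e (ng d)) (r • Fr.e b) 0).1 (Fr.e d) = Fr.e d + r • Fr.e b := by
  rw [Es_apply h (f0 h (ne_ng (b := ng d) hdb.symm) r), f1 h hN, f0 h (ne_ng hdb.symm), one_smul,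
    zero_smul, add_zero]

omit hbc in
theorem X_fix {d b g : BI k} (hd : g ≠ d) (hb : b ≠ ng g) (r : F) :
    (eE P (Fr.e (ng d)) (r • Fr.e b) 0).1 (Fr.e g) = Fr.e g :=
  eE_fix h (Fr.orth _ _ (ng_ne_ng hd.symm)) (f0 h hb r) 0

theorem X_S (hN : Fr.Norm) (r α β ζ : F) :
    J (X P φ Fr b c r) (S P φ Fr b c α β ζ) = S P φ Fr b c α (β + r * α) (ζ + r * (α * α)) := by
  have hne : c ≠ b := fun e => hbc (by rw [e])
  rw [S, J_mul, J_mul, J_tv h, J_tv h, J_Es h, map_smul, X_src h hN hbc, X_fix h hne (self_ne_ng c),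
    tv_add_vec h (f0 h (ne_ng hbc.symm) r), tv_smul h, smul_smul, ← Es_smul h ζ,
    smul_add, smul_smul ζ, Es_shear' h, Es_smul h, show r * r * (α * α) = (r * α) * (r * α) by ring,
    ← S, ← S_b b c, ← S_c, S_mul h hbc, S_mul h hbc]
  congr 1 <;> ring

end SG

variable [Finite F] [FiniteDimensional F V] [Finite G] (c : Ctx P φ L k t)
include c

omit [Finite F] [FiniteDimensional F V] [Finite G] in
theorem i2 {a b : BI k} (hab : a.1 ≠ b.1) : I2 P (Fr.e a) (Fr.e b) := by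
  refine ⟨Fr.orth _ _ (ne_ng hab.symm), ?_⟩
  convert (c.g1.li Fr).comp ![a, b] (fun i j e => by
    fin_cases i <;> fin_cases j <;> simp_all) using 1
  ext i
  fin_cases i <;> rfl

omit [Finite F] [FiniteDimensional F V] [Finite G] in
theorem S_eq_one {a b : BI k} (hab : a.1 ≠ b.1) {α β ζ : F} (e : S P φ Fr a b α β ζ = 1) :
    α = 0 ∧ β = 0 ∧ ζ = 0 := by
  obtain ⟨h1, h2, h3⟩ := c.g2.uni2 _ _ (i2 c hab) _ _ _ e
  exact ⟨mul_self_eq_zero.1 h1, mul_self_eq_zero.1 h2, h3⟩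

omit [FiniteDimensional F V] [Finite G] in
theorem ker {y y' : G} (A : Set (BI k)) {g0 : BI k} (h0 : ∀ a ∈ A, g0 ≠ ng a) (ht : J y t = J y' t)
    (hT : ∀ g, (∀ a ∈ A, g ≠ ng a) → ∀ r,
      J y (tv P φ (Fr.e g) (r * r)) = J y' (tv P φ (Fr.e g) (r * r))) :
    ∃ σ ∈ S2 P φ (Fr.e '' A), ∃ κ ∈ C[L], Commute κ t ∧ y = y' * (σ * κ) := by
  have h := c.toSG
  have h1 := comm_of_J ht
  have h2 : ∀ g, (∀ a ∈ A, g ≠ ng a) → ∀ a, Commute (y'⁻¹ * y) (tv P φ (Fr.e g) a) := fun g hg a => by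
    obtain ⟨r, rfl⟩ := exists_sqrt h a
    exact comm_of_J (hT g hg r)
  obtain ⟨e, κ, hκ, -, e1⟩ := c.nf.cT _ (c.tc.cN (mem_C1.2 h1)) _ (Fr.e_ne_zero g0) (h2 g0 h0)
  have e2 : φ e = y'⁻¹ * y * κ⁻¹ := by rw [e1, mul_inv_cancel_right]
  have e3 : κ = (φ e)⁻¹ * (y'⁻¹ * y) := by rw [e1, inv_mul_cancel_left]
  refine ⟨φ e, (c.g2.memS _ e).2 fun x hx => ?_, κ, hκ,
    e3 ▸ (mem_C1.1 (L_le c (φ_mem h e))).inv_left.mul_left h1, by rw [← e1, mul_inv_cancel_left]⟩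
  have h3 := Fr.sub_sum_mem x
  rw [c.g1.v0, Submodule.mem_bot, sub_eq_zero] at h3
  rw [h3, map_sum]
  refine Finset.sum_congr rfl fun g _ => ?_
  rw [map_smul]
  by_cases hg : ∀ a ∈ A, g ≠ ng a
  · rw [c.nf.ct e _ 1 (Fr.e_ne_zero g) one_ne_zero
      (e2 ▸ (h2 g hg 1).mul_left (cC hκ (ET_mem h _ _ _)).inv_left)]
  · push Not at hg
    obtain ⟨a, ha, rfl⟩ := hg
    rw [ng_ng, PForm.mem_perp_span.1 hx _ ⟨a, ha, rfl⟩, zero_div, zero_smul, zero_smul]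

omit [FiniteDimensional F V] [Finite G] in
theorem ker2 {y y' : G} {a b : BI k} (hab : a.1 ≠ b.1) (ht : J y t = J y' t)
    (hT : ∀ g, g ≠ ng a → g ≠ ng b → ∀ r,
      J y (tv P φ (Fr.e g) (r * r)) = J y' (tv P φ (Fr.e g) (r * r))) :
    ∃ α β ζ : F, ∃ κ ∈ C[L], Commute κ t ∧ y = y' * (S P φ Fr a b α β ζ * κ) := by
  obtain ⟨σ, hσ, H⟩ := ker c {a, b} (g0 := a) (by
    rintro _ (rfl | rfl)
    exacts [self_ne_ng _, ne_ng hab]) ht fun g hg => hT g (hg a (by simp)) (hg b (by simp))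
  rw [Set.image_pair] at hσ
  obtain ⟨α, β, ζ, rfl⟩ := (c.g2.crd2 _ _ (Fr.orth _ _ (ne_ng hab.symm)) σ).1 hσ
  obtain ⟨α, rfl⟩ := exists_sqrt c.toSG α
  obtain ⟨β, rfl⟩ := exists_sqrt c.toSG β
  exact ⟨α, β, ζ, H⟩

variable (hR : R2 L t)
include hR

omit [Finite F] [FiniteDimensional F V] in
theorem kap {κ : G} (hκ : κ ∈ C[L]) (hc : Commute κ t) : ∃ η : F,
    (∀ b s p, Inv P φ L t Fr b s p → J p κ = tv P φ (Fr.e b) ((η * s) * (η * s)) * κ) ∧
    ∀ w, w * w = 1 → κ * κ = w → w = 1 ∧ (η = 0 → κ = 1) := by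
  obtain ⟨o, h1, h2, h3, rfl | rfl⟩ := dec hR c.tc hκ hc
  · refine ⟨0, fun b s p i => ?_, fun w e1 e2 => ?_⟩
    · rw [J_of (i.co κ h1 h2 h3).symm, zero_mul, zero_mul, tv_zero, one_mul]
    · obtain rfl := eq_one_of_odd h3 (by rw [e2, e1])
      exact ⟨by rw [← e2, one_mul], fun _ => rfl⟩
  · refine ⟨1, fun b s p i => ?_, fun w e1 e2 => ?_⟩
    · rw [J_mul, J_of (i.co o h1 h2 h3).symm, show J p t = _ from i.mv, one_mul,
        (cC c.tc.tc (ET_mem c.toSG _ _ _)).eq, mul_assoc]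
    · rw [h2.mul_mul_mul_comm, t_sq c, one_mul] at e2
      obtain rfl := eq_one_of_odd h3 (by rw [e2, e1])
      exact ⟨by rw [← e2, one_mul], fun e => (one_ne_zero e).elim⟩

omit [FiniteDimensional F V] in
theorem uniq {a b : BI k} (hab : a.1 ≠ b.1) {s s' : F} {y p p' : G} (i : Inv P φ L t Fr a s p)
    (i' : Inv P φ L t Fr b s' p') (hs : s' ≠ 0) (h1 : Commute p' p) (h2 : Commute p' y)
    (ht : J y t = J p t) (hT : ∀ g, g ≠ ng a → ∀ r,
      J y (tv P φ (Fr.e g) (r * r)) = J p (tv P φ (Fr.e g) (r * r))) :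
    ∃ κ, y = p * κ ∧ (∀ d s q, Inv P φ L t Fr d s q → Commute q κ) ∧
      (κ * κ * (κ * κ) = 1 → κ = 1) := by
  have h := c.toSG
  obtain ⟨σ, hσ, κ, hκ, hc, e⟩ := ker c {a} (g0 := a) (by rintro _ rfl; exact self_ne_ng _) ht
    fun g hg => hT g (hg a rfl)
  rw [Set.image_singleton] at hσ
  obtain ⟨α, rfl⟩ := (c.g2.crd1 _ σ).1 hσ
  obtain ⟨α, rfl⟩ := exists_sqrt h α
  obtain ⟨η, k1, k2⟩ := kap (Fr := Fr) c hR hκ hc
  have h3 := J_of h2
  rw [e, J_mul, J_of h1, mul_right_inj, J_mul, k1 _ _ _ i', ← mul_assoc, mul_left_inj, ← S_a a b,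
    ← S_b a b, i'.S2 h hab, S_mul h hab, ← mul_inv_eq_one,
    inv_eq_of_mul_eq_one_right (S_sq h hab _ _ _), S_mul h hab] at h3
  obtain ⟨-, e2, e3⟩ := S_eq_one c hab h3
  obtain rfl : η = 0 := by simpa [hs] using e2
  obtain rfl : α = 0 := by simpa [hs] using e3
  refine ⟨κ, by rw [e, mul_zero, tv_zero, one_mul], fun d s q j => J_eq.1 ?_,
    fun H => (k2 _ H rfl).2 rfl⟩
  rw [k1 _ _ _ j, zero_mul, zero_mul, tv_zero, one_mul]

omit [FiniteDimensional F V] in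
theorem uniq1 {a b : BI k} (hab : a.1 ≠ b.1) {s s' : F} {q p p' : G} (j : Inv P φ L t Fr a s q)
    (i : Inv P φ L t Fr a s p) (i' : Inv P φ L t Fr b s' p') (hs : s' ≠ 0) (h1 : Commute p' p)
    (h2 : Commute p' q) : q = p := by
  obtain ⟨κ, rfl, k1, k2⟩ := uniq c hR hab i i' hs h1 h2 (j.mv.trans i.mv.symm)
    fun g hg r => (j.T hg r).trans (i.T hg r).symm
  have h3 := j.sq
  rw [(k1 _ _ _ i).symm.mul_mul_mul_comm, i.sq, one_mul] at h3
  rw [k2 (by rw [h3, one_mul]), mul_one]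

omit [FiniteDimensional F V] in
theorem com1 {a b : BI k} (hab : a.1 ≠ b.1) {s s' : F} {p p' : G} (i : Inv P φ L t Fr a s p)
    (i' : Inv P φ L t Fr b s' p') (hs : s ≠ 0) (hs' : s' ≠ 0) :
    ∃ ζ : F, p * p' = p' * p * S P φ Fr a b 0 0 ζ := by
  have h := c.toSG
  obtain ⟨α, β, ζ, κ, hκ, hc, e⟩ := ker2 c hab (y := p * p') (y' := p' * p)
    (by rw [J2t h hab c.tc i i', J2t h hab.symm c.tc i' i, S_symm h hab, mul_comm s])
    fun g h1 h2 r => by rw [J2 h hab i i' h1 h2, J2 h hab.symm i' i h2 h1, add_comm]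
  obtain ⟨η, k1, k2⟩ := kap (Fr := Fr) c hR hκ hc
  have hp := inv_eq_of_mul_eq_one_right i.sq
  have hp' := inv_eq_of_mul_eq_one_right i'.sq
  have e1 : S P φ Fr a b α β ζ * κ = p * p' * (p * p') := by
    rw [← inv_mul_eq_iff_eq_mul, mul_inv_rev, hp, hp'] at e
    exact e.symm
  have key : ∀ q α' β' ζ', J q (S P φ Fr a b α β ζ * κ) * (S P φ Fr a b α β ζ * κ) = 1 →
      J q (S P φ Fr a b α β ζ * κ) = S P φ Fr a b α' β' ζ' * κ →
      S P φ Fr a b (α' + α) (β' + β) (ζ' + ζ) = 1 ∧ (η = 0 → κ = 1) := fun q α' β' ζ' e2 e3 => by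
    rw [e3, (cC hκ (S_mem h _ _ _ _ _)).mul_mul_mul_comm, S_mul h hab, mul_eq_one_iff_inv_eq,
      inv_eq_of_mul_eq_one_right (S_sq h hab _ _ _)] at e2
    exact k2 _ (S_sq h hab _ _ _) e2.symm
  obtain ⟨a1, a2⟩ := key p _ _ _ (by
      rw [e1, J, hp]
      calc _ = (p * p) * p' * p * p' * (p * p) * p' * p * p' := by group
        _ = p' * p * (p' * p') * p * p' := by rw [i.sq]; group
        _ = p' * (p * p) * p' := by rw [i'.sq]; group
        _ = 1 := by rw [i.sq, mul_one, i'.sq])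
    (by rw [J_mul, k1 _ _ _ i, i.S1 h hab, ← S_a a b, ← mul_assoc, S_mul h hab])
  obtain ⟨a3, -⟩ := key p' _ _ _ (by
      rw [e1, J, hp']
      calc _ = p' * p * p' * p * (p' * p') * p * p' * p * p' := by group
        _ = p' * p * p' * (p * p) * p' * p * p' := by rw [i'.sq]; group
        _ = p' * p * (p' * p') * p * p' := by rw [i.sq]; group
        _ = p' * (p * p) * p' := by rw [i'.sq]; group
        _ = 1 := by rw [i.sq, mul_one, i'.sq])
    (by rw [J_mul, k1 _ _ _ i', i'.S2 h hab, ← S_b a b, ← mul_assoc, S_mul h hab])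
  obtain ⟨b1, -, b2⟩ := S_eq_one c hab a1
  obtain ⟨-, -, b3⟩ := S_eq_one c hab a3
  obtain rfl : η = 0 := (mul_eq_zero.1 (show η * s = 0 by
    linear_combination b1 - α * h.two)).resolve_right hs
  obtain rfl : β = 0 := (mul_eq_zero.1 (show s * β = 0 by
    linear_combination b2 - ζ * h.two)).resolve_left hs
  obtain rfl : α = 0 := (mul_eq_zero.1 (show s' * α = 0 by
    linear_combination b3 - ζ * h.two)).resolve_left hs'
  exact ⟨ζ, by rw [e, a2 rfl, mul_one]⟩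

omit [FiniteDimensional F V] in
theorem ex1 (H : ∀ b (s : F), ∃ p, Inv P φ L t Fr b s p) {a b : BI k} (hab : a.1 ≠ b.1) {s' : F}
    {p' : G} (i' : Inv P φ L t Fr b s' p') (hs' : s' ≠ 0) (s : F) :
    ∃ p, Inv P φ L t Fr a s p ∧ Commute p' p := by
  have h := c.toSG
  by_cases hs : s = 0
  · exact ⟨1, hs ▸ inv_one h a, Commute.one_right _⟩
  obtain ⟨p, i⟩ := H a s
  obtain ⟨ζ, e⟩ := com1 c hR hab i i' hs hs'
  refine ⟨_, i.mul_tv h c.tc (ζ / s' * (ζ / s')), J_eq.1 ?_⟩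
  have e1 : J p' p = p * S P φ Fr a b 0 0 ζ := by
    have e2 : p' * p = p * p' * S P φ Fr a b 0 0 ζ := by
      rw [e, mul_assoc, S_sq h hab, mul_one]
    have e3 := J_eq.1 ((i'.S2 h hab 0 0 ζ).trans (by rw [mul_zero, add_zero]))
    rw [J, e2, mul_assoc p, e3.eq, ← mul_assoc, mul_assoc _ p', mul_inv_cancel, mul_one]
  rw [J_mul, e1, ← S_a a b, i'.S2 h hab, mul_assoc, S_mul h hab, mul_div_cancel₀ _ hs']
  simp only [zero_add, fadd_self h]

omit [FiniteDimensional F V] in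
theorem act0 (hN : Fr.Norm) {d b : BI k} (hdb : d.1 ≠ b.1) {r s : F} {p q : G}
    (i : Inv P φ L t Fr d s p) (j : Inv P φ L t Fr b (r * s) q) (hs : s ≠ 0) (hc : Commute p q) :
    ∃ ζ : F, J (X P φ Fr d b r) p = p * q * S P φ Fr d b 0 0 ζ := by
  have h := c.toSG
  by_cases hr : r = 0
  · subst hr
    rw [zero_mul] at j
    rw [uniq1 c hR hdb.symm j (inv_one h b) i hs (Commute.one_right _) hc]
    exact ⟨0, by simp [S_zero, X, Es_zero, J]⟩
  have hx := Es_sq h (Fr.e (ng d)) (r • Fr.e b)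
  have hxt : J (X P φ Fr d b r) t = t := J_of (mem_C1.1 (L_le c (ET_mem h _ _ _)))
  have hne : b ≠ d := fun e => hdb (by rw [e])
  obtain ⟨α, β, ζ, κ, hκ, hκt, e⟩ := ker2 c hdb (y := J (X P φ Fr d b r) p) (y' := p * q)
    (by
      rw [J2t h hdb c.tc i j]
      nth_rw 1 [← hxt]
      rw [J_J, show J p t = _ from i.mv, J_mul, hxt, ← S_a d b, X_S h hdb hN]
      congr 2 <;> ring)
    fun g h1 h2 ρ => by
      have h3 : ∀ {b : BI k}, g ≠ ng b → b ≠ ng g := fun e e' => e (by rw [e', ng_ng])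
      rw [J2 h hdb i j h1 h2, ← J_J_self hx (tv P φ (Fr.e g) (ρ * ρ)), J_J, J_J_self hx]
      by_cases hg : g = d
      · subst hg
        rw [← S_a g b, X_S h hdb hN, i.S1 h hdb, X_S h hdb hN, smul_add, smul_smul, smul_smul,
          add_comm (_ • Fr.e g), Es_shear h, ← S_c, S_mul h hdb]
        congr 1
        · ring
        · linear_combination (r * ρ) * h.two
        · linear_combination (r * (ρ * ρ)) * h.two
      · have h4 := X_fix h (Fr := Fr) hg (h3 h2) r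
        have h5 : J (X P φ Fr d b r) (tv P φ (Fr.e g) (ρ * ρ)) = tv P φ (Fr.e g) (ρ * ρ) :=
          by rw [J_tv h, h4]
        rw [h5, i.T h1, J_mul, h5, Es_sw h d]
        congr 1
        rw [J_Es h, h4, map_smul, X_src h hN hdb]
        congr 1
        module
  obtain ⟨η, k1, k2⟩ := kap (Fr := Fr) c hR hκ hκt
  have hpq : p * q * (p * q) = 1 := by rw [hc.symm.mul_mul_mul_comm, i.sq, j.sq, one_mul]
  have e1 : J (p * q) (S P φ Fr d b α β ζ * κ) * (S P φ Fr d b α β ζ * κ) = 1 := by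
    have e2 : J (X P φ Fr d b r) p * J (X P φ Fr d b r) p = 1 := by
      rw [← J_mul, i.sq]; simp [J]
    rw [e] at e2
    rw [J, inv_eq_of_mul_eq_one_right hpq, ← e2]
    group
  rw [mul_J, J_mul, k1 _ _ _ j, j.S2 h hdb, ← S_b d b, ← mul_assoc (S P φ Fr d b α β _), S_mul h hdb, J_mul,
    k1 _ _ _ i, i.S1 h hdb, ← S_a d b, ← mul_assoc (S P φ Fr d b (α + 0) _ _), S_mul h hdb,
    (cC hκ (S_mem h _ _ _ _ _)).mul_mul_mul_comm, S_mul h hdb, mul_eq_one_iff_inv_eq,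
    inv_eq_of_mul_eq_one_right (S_sq h hdb _ _ _)] at e1
  obtain ⟨a1, a2⟩ := k2 _ (S_sq h hdb _ _ _) e1.symm
  obtain ⟨b1, -, b2⟩ := S_eq_one c hdb a1
  obtain rfl : η = 0 := (mul_eq_zero.1 (show η * s = 0 by
    linear_combination b1 - α * h.two)).resolve_right hs
  rw [a2 rfl, mul_one] at e
  have hq : J (X P φ Fr d b r) q = q := J_of (J_eq.1 (by
    rw [X, Es_sw h]; exact j.Qe h (f0 h (ng_ne_ng hne.symm) r))).symm
  have e3 := J_J_self hx p
  rw [e, J_mul, J_mul, e, hq, X_S h hdb hN, mul_assoc p, mul_assoc p, mul_assoc p, mul_eq_left] at e3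
  have e4 : J q (S P φ Fr d b α β ζ) = q * S P φ Fr d b α β ζ * q := by
    rw [J, inv_eq_of_mul_eq_one_right j.sq]
  rw [← e4, j.S2 h hdb, S_mul h hdb] at e3
  obtain ⟨-, b3, -⟩ := S_eq_one c hdb e3
  obtain rfl : α = 0 := (mul_eq_zero.1 (show r * α = 0 by
    linear_combination b3 - β * h.two)).resolve_left hr
  obtain rfl : β = 0 := (mul_eq_zero.1 (show s * β = 0 by
    linear_combination b2 - ζ * h.two)).resolve_left hs
  exact ⟨ζ, e⟩

omit [FiniteDimensional F V] in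
theorem trans (hN : Fr.Norm) (H : ∀ b (s : F), ∃ p, Inv P φ L t Fr b s p) {g d b : BI k}
    (hgd : g.1 ≠ d.1) (hgb : g.1 ≠ b.1) (hdb : d.1 ≠ b.1) {s0 s s' : F} {p0 p q : G}
    (i0 : Inv P φ L t Fr g s0 p0) (i : Inv P φ L t Fr d s p) (j : Inv P φ L t Fr b s' q)
    (h0 : s0 ≠ 0) (h1 : Commute p0 p) (h2 : Commute p0 q) : Commute p q := by
  have h := c.toSG
  by_cases hs : s = 0
  · subst hs
    rw [uniq1 c hR hgd.symm i (inv_one h d) i0 h0 (Commute.one_right _) h1]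
    exact Commute.one_left _
  obtain ⟨q', j', h3⟩ := ex1 c hR H hdb.symm i hs s'
  obtain ⟨ζ, e⟩ := act0 c hR hN hdb (r := s' / s) i (by rwa [div_mul_cancel₀ _ hs]) hs h3
  have h4 := i0.comS (ng d) b hdb (ne_ng (a := ng d) hgd.symm) (ne_ng hgb.symm) (s' / s)
  have h5 : Commute p0 (J (X P φ Fr d b (s' / s)) p) := (h4.mul_right h1).mul_right h4.inv_right
  have h6 := i0.comS d b hdb (ne_ng hgd.symm) (ne_ng hgb.symm) ζ
  rw [e, S_c] at h5
  have h7 : Commute p0 q' := by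
    simpa [mul_assoc] using (h1.inv_right.mul_right h5).mul_right h6.inv_right
  rwa [uniq1 c hR hgb.symm j j' i0 h0 h7 h2]

omit [FiniteDimensional F V] in
theorem fam (hN : Fr.Norm) (H : ∀ b (s : F), ∃ p, Inv P φ L t Fr b s p) :
    ∃ p : BI k → F → G, (∀ b s, Inv P φ L t Fr b s (p b s)) ∧
      ∀ b d, b.1 ≠ d.1 → ∀ s r, Commute (p b s) (p d r) := by
  have k3 := c.k3
  let b0 : BI k := (⟨0, by omega⟩, false)
  let b1 : BI k := (⟨1, by omega⟩, false)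
  have h01 : b1.1 ≠ b0.1 := by simp [b0, b1]
  obtain ⟨p0, i0⟩ := H b0 1
  obtain ⟨p1, i1, c1⟩ := ex1 c hR H h01 i0 one_ne_zero 1
  have : ∀ b s, ∃ p, Inv P φ L t Fr b s p ∧ (b.1 ≠ b0.1 → Commute p0 p) ∧
      (b.1 ≠ b1.1 → Commute p1 p) := fun b s => by
    by_cases e : b.1 = b0.1
    · obtain ⟨p, i, hc⟩ := ex1 c hR H (a := b) (e ▸ h01.symm) i1 one_ne_zero s
      exact ⟨p, i, fun e' => (e' e).elim, fun _ => hc⟩
    · obtain ⟨p, i, hc⟩ := ex1 c hR H e i0 one_ne_zero s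
      exact ⟨p, i, fun _ => hc, fun e' =>
        trans c hR hN H h01.symm (Ne.symm e) (Ne.symm e') i0 i1 i one_ne_zero c1 hc⟩
  choose p hp q0 q1 using this
  have key : ∀ b d, b.1 ≠ d.1 → (b.1 ≠ b0.1 ∧ d.1 ≠ b0.1) ∨ (b.1 ≠ b1.1 ∧ d.1 ≠ b1.1) →
      ∀ s r, Commute (p b s) (p d r) := by
    rintro b d hbd (⟨e1, e2⟩ | ⟨e1, e2⟩) s r
    · exact trans c hR hN H e1.symm e2.symm hbd i0 (hp b s) (hp d r) one_ne_zero (q0 b s e1) (q0 d r e2)
    · exact trans c hR hN H e1.symm e2.symm hbd i1 (hp b s) (hp d r) one_ne_zero (q1 b s e1) (q1 d r e2)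
  refine ⟨p, hp, fun b d hbd s r => ?_⟩
  obtain ⟨g, g0, g1⟩ := third k3 b0 b1
  have h2 : ∀ b : BI k, g.1 ≠ b.1 → ∀ s, Commute (p g 1) (p b s) := fun b e s =>
    key g b e ((ne_or_eq b.1 b0.1).imp (⟨g0, ·⟩) fun e' => ⟨g1, e'.trans_ne h01.symm⟩) 1 s
  by_cases e1 : g.1 = b.1
  · exact key b d hbd ((ne_or_eq d.1 b0.1).imp (⟨e1 ▸ g0, ·⟩) fun e' =>
      ⟨e1 ▸ g1, e'.trans_ne h01.symm⟩) s r
  by_cases e2 : g.1 = d.1
  · exact key b d hbd ((ne_or_eq b.1 b0.1).imp (⟨·, e2 ▸ g0⟩) fun e' =>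
      ⟨e'.trans_ne h01.symm, e2 ▸ g1⟩) s r
  exact trans c hR hN H e1 e2 hbd (hp g 1) (hp b s) (hp d r) one_ne_zero (h2 b e1 s) (h2 d e2 r)

omit hR [Finite F] [FiniteDimensional F V] [Finite G] in
theorem tri (hN : Fr.Norm) {d g b : BI k} (hdg : d.1 ≠ g.1) (hdb : d.1 ≠ b.1) (hgb : g.1 ≠ b.1)
    {r1 r2 s s2 s3 ζ1 ζ2 ζ3 : F} {A B C : G} (iA : Inv P φ L t Fr d s A)
    (iC : Inv P φ L t Fr b s3 C) (_ : Inv P φ L t Fr g s2 B)
    (e1 : J (X P φ Fr d g r1) A = A * B * S P φ Fr d g 0 0 ζ1)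
    (e2 : J (X P φ Fr g b r2) B = B * C * S P φ Fr g b 0 0 ζ2)
    (e3 : J (X P φ Fr d b (r1 * r2)) A = A * C * S P φ Fr d b 0 0 ζ3) :
    ζ3 = r2 * ζ1 ∧ ζ2 = r1 * ζ3 := by
  have h := c.toSG
  have n1 : ∀ {a b : BI k}, a.1 ≠ b.1 → a ≠ b := fun e e' => e (by rw [e'])
  have o : ∀ {a b : BI k}, a.1 ≠ b.1 → ∀ x y : F, P.f (x • Fr.e a) (y • Fr.e b) = 0 :=
    fun e x y => by rw [P.f_smul_left, f0 h (ne_ng e.symm), mul_zero]
  rw [S_c] at e1 e2 e3
  have y1 : ∀ (a : BI k) (ζ : F), a.1 = d.1 → J (X P φ Fr g b r2) (Es P φ (Fr.e a) (ζ • Fr.e g)) =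
      Es P φ (Fr.e a) (ζ • Fr.e g) * Es P φ (Fr.e a) ((ζ * r2) • Fr.e b) := fun a ζ ha => by
    rw [J_Es h, map_smul, X_src h hN hgb, X_fix h (n1 (ha ▸ hdg)) (ne_ng (ha ▸ hdb.symm)), smul_add,
      smul_smul, Es_add0 h (f0 h (ne_ng (ha ▸ hdg.symm)) _) (f0 h (ne_ng (ha ▸ hdb.symm)) _)
        (o hgb _ _)]
  have y2 : J (X P φ Fr g b r2) A = A :=
    J_of (iA.comS (ng g) b hgb (ne_ng (a := ng g) hdg.symm) (ne_ng hdb.symm) r2).symm
  have x1 : J (X P φ Fr d g r1) C = C :=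
    J_of (iC.comS (ng d) g hdg (ne_ng (a := ng d) hdb) (ne_ng hgb) r1).symm
  have x2 : J (X P φ Fr d g r1) (Es P φ (Fr.e b) (ζ3 • Fr.e d)) =
      Es P φ (Fr.e b) (ζ3 • Fr.e d + (ζ3 * r1) • Fr.e g) := by
    rw [J_Es h, map_smul, X_src h hN hdg, X_fix h (n1 hdb.symm) (ne_ng hgb), smul_add, smul_smul]
  have e4 := J_J (X P φ Fr g b r2) (X P φ Fr d g r1) A
  rw [y2, y1 (ng d) r1 rfl, mul_J, e3, J_mul, J_mul, e1, x1, J_mul, J_mul, y2, e2, y1 d ζ1 rfl,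
    Es_sw h d b, x2, Es_sw h d b, Es_sw h g b] at e4
  have c1 := iC.comS d g hdg (ne_ng hdb) (ne_ng hgb) ζ1
  have c2 : Commute (Es P φ (Fr.e b) (ζ2 • Fr.e g)) (Es P φ (Fr.e d) (ζ1 • Fr.e g)) :=
    comm_orth h (Fr.orth _ _ (ne_ng hdb)) (f0 h (ne_ng hgb) _)
      (by rw [P.f_smul_left, Fr.orth _ _ (ne_ng hdg), mul_zero])
      (by rw [P.f_smul_left, f0 h (self_ne_ng g), mul_zero]) 0 0
  simp only [mul_assoc] at e4
  rw [mul_right_inj, mul_right_inj, c2.left_comm, c1.left_comm, mul_right_inj, mul_right_inj,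
    ← Es_add0 h (f0 h (ne_ng hgb) _) (f0 h (ne_ng hdb) _) (o hdg.symm _ _)] at e4
  have e5 := Es_sq h (Fr.e b) (ζ2 • Fr.e g + (ζ1 * r2) • Fr.e d)
  have z : ∀ x y : F, P.f (Fr.e b) (x • Fr.e d) = 0 ∧ P.f (Fr.e b) (y • Fr.e g) = 0 := fun x y =>
    ⟨f0 h (ne_ng hdb) x, f0 h (ne_ng hgb) y⟩
  nth_rw 1 [← e4] at e5
  rw [Es_mul h (by rw [P.f_add_right, (z _ 0).1, (z 0 _).2, add_zero])
    (by rw [P.f_add_right, (z _ 0).1, (z 0 _).2, add_zero])] at e5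
  obtain ⟨-, ρ, e6⟩ := ET_eq_one h (Fr.e_ne_zero b) (by
    simp only [P.f_add_right, (z _ 0).1, (z 0 _).2, add_zero]) e5
  have e7 := congrArg (P.f · (Fr.e (ng d))) e6
  have e8 := congrArg (P.f · (Fr.e (ng g))) e6
  simp only [P.f_add_left, P.f_smul_left, f1 h hN, Fr.orth _ _ (ng_ne_ng (n1 hdg)),
    Fr.orth _ _ (ng_ne_ng (n1 hdg.symm)), Fr.orth _ _ (ng_ne_ng (n1 hdb)),
    Fr.orth _ _ (ng_ne_ng (n1 hgb))] at e7 e8
  exact ⟨by linear_combination e7 - ζ1 * r2 * h.two, by linear_combination e8 - ζ3 * r1 * h.two⟩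

omit c hR [Finite F] [FiniteDimensional F V] [Finite G] in
theorem c3b : C3bStmt.{u, v} := by
  intro F V _ _ _ _ _ G _ _ P φ L k t c hR Fr hN H0
  have h := c.toSG
  have H : ∀ b (s : F), ∃ p, Inv P φ L t Fr b s p := fun b s =>
    (H0 b s).imp fun p hp => ⟨hp.1, hp.2.1, hp.2.2.1⟩
  obtain ⟨p, hp, hc⟩ := fam c hR hN H
  have h0 : ∀ b, p b 0 = 1 := fun b => by
    obtain ⟨g, hg, -⟩ := third c.k3 b b
    exact uniq1 c hR hg.symm (hp b 0) (inv_one h b) (hp g 1) one_ne_zero (Commute.one_right _)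
      (hc g b hg 1 0)
  have hadd : ∀ b s s', p b (s + s') = p b s * p b s' := fun b s s' => by
    obtain ⟨g, hg, -⟩ := third c.k3 b b
    obtain ⟨κ, e, k1, k2⟩ := uniq c hR hg.symm (y := p b s * p b s') (hp b (s + s')) (hp g 1)
      one_ne_zero (hc g b hg _ _) ((hc g b hg _ _).mul_right (hc g b hg _ _))
      (by
        rw [mul_J, show J (p b s') t = _ from (hp b s').mv, J_mul, (hp b s).Qt h,
          show J (p b s) t = _ from (hp b s).mv, show J (p b (s + s')) t = _ from (hp b _).mv,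
          mul_assoc, ← tv_add h]
        congr 2
        linear_combination (-s * s') * h.two)
      fun a ha r => by
        rw [mul_J, (hp b s').T ha, J_mul, (hp b s).Qe h (f0 h ha _), (hp b s).T ha, (hp b _).T ha,
          ← mul_assoc, ← Es_adds h (Fr.orth _ _ ha), add_mul, add_comm]
    have e1 : p b s * p b s' * (p b s * p b s') = κ * κ := by
      rw [e, (k1 _ _ _ (hp b _)).symm.mul_mul_mul_comm, (hp b _).sq, one_mul]
    have e2 := J_of ((k1 _ _ _ (hp b s)).mul_right (k1 _ _ _ (hp b s)))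
    rw [e, k2 ?_, mul_one]
    nth_rw 1 [← e2]
    rw [← e1, J, inv_eq_of_mul_eq_one_right (hp b s).sq]
    calc _ = (p b s * p b s) * p b s' * p b s * p b s' * (p b s * p b s) * p b s' * p b s *
          p b s' := by group
      _ = p b s' * p b s * (p b s' * p b s') * p b s * p b s' := by rw [(hp b s).sq]; group
      _ = p b s' * (p b s * p b s) * p b s' := by rw [(hp b s').sq]; group
      _ = 1 := by rw [(hp b s).sq, mul_one, (hp b s').sq]
  have : ∀ d b (r s : F), ∃ ζ : F, d.1 ≠ b.1 →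
      J (X P φ Fr d b r) (p d s) = p d s * p b (r * s) * S P φ Fr d b 0 0 ζ := fun d b r s => by
    by_cases hdb : d.1 = b.1
    · exact ⟨0, fun e => (e hdb).elim⟩
    by_cases hs : s = 0
    · exact ⟨0, fun _ => by simp [hs, h0, S_zero, J]⟩
    exact (act0 c hR hN hdb (hp d s) (hp b _) hs (hc d b hdb _ _)).imp fun _ e _ => e
  choose z hz using this
  have T : ∀ d g b : BI k, d.1 ≠ g.1 → d.1 ≠ b.1 → g.1 ≠ b.1 → ∀ r1 r2 s : F,
      z d b (r1 * r2) s = r2 * z d g r1 s ∧ z g b r2 (r1 * s) = r1 * z d b (r1 * r2) s :=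
    fun d g b h1 h2 h3 r1 r2 s => tri c hN h1 h2 h3 (hp d s) (hp b (r1 * r2 * s)) (hp g (r1 * s))
      (hz d g r1 s h1) (by rw [hz g b r2 _ h3, mul_left_comm r2, mul_assoc r1]) (hz d b _ s h2)
  have T1 : ∀ d g b : BI k, d.1 ≠ g.1 → d.1 ≠ b.1 → z d b 1 1 = z d g 1 1 := fun d g b h1 h2 => by
    have key : ∀ g b : BI k, d.1 ≠ g.1 → d.1 ≠ b.1 → g.1 ≠ b.1 → z d b 1 1 = z d g 1 1 :=
      fun g b h1 h2 h3 => by simpa using (T d g b h1 h2 h3 1 1 1).1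
    by_cases e : g.1 = b.1
    · obtain ⟨a, a1, a2⟩ := third c.k3 d b
      exact (key a b a1.symm h2 a2).trans (key g a h1 a1.symm (e ▸ a2.symm))
    · exact key g b h1 h2 e
  have T2 : ∀ d b d' b' : BI k, d.1 ≠ b.1 → d'.1 ≠ b'.1 → z d b 1 1 = z d' b' 1 1 := by
    have key : ∀ d b d' b' : BI k, d.1 ≠ b.1 → d'.1 ≠ b'.1 → d.1 ≠ d'.1 →
        z d b 1 1 = z d' b' 1 1 := fun d b d' b' h1 h2 h3 => by
      obtain ⟨a, a1, a2⟩ := third c.k3 d d'
      rw [T1 d a b a1.symm h1, T1 d' a b' a2.symm h2]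
      simpa using (T d' d a h3.symm a2.symm a1.symm 1 1 1).2
    intro d b d' b' h1 h2
    obtain ⟨a, a1, a2⟩ := third c.k3 d d'
    exact (key d b a d h1 a1 a1.symm).trans (key a d d' b' a1 h2 a2)
  obtain ⟨d0, b0, h00⟩ : ∃ d b : BI k, d.1 ≠ b.1 := by
    obtain ⟨g, hg, -⟩ := third c.k3 (⟨0, by have := c.k3; omega⟩, false) (⟨0, by have := c.k3; omega⟩, false)
    exact ⟨_, _, hg⟩
  refine ⟨z d0 b0 1 1, p, fun b s => (hp b s).toMB, hadd, fun b d hd s r => ?_,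
    fun a b hab r s => ?_, fun b x => ⟨?_, ?_⟩, fun b s => (hp b s).co⟩
  · by_cases e : d = b
    · rw [e, Commute, SemiconjBy, ← hadd, ← hadd, add_comm]
    · exact hc b d (fst_ne e hd).symm s r
  · have e := hz (ng a) b r s hab
    obtain ⟨g, g1, g2⟩ := third c.k3 (ng a) b
    have e1 := (T g (ng a) b g1 g2 hab s r 1).2
    have e2 := (T g (ng a) b g1 g2 hab 1 (s * r) 1).1
    rw [one_mul, T2 g (ng a) d0 b0 g1 h00] at e2
    rw [mul_one, e2] at e1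
    rw [X, ng_ng, S_c, e1, show s * (s * r * z d0 b0 1 1) = z d0 b0 1 1 * (s * s) * r by ring] at e
    exact e
  · rintro ⟨x1, x2, a, x3, x4⟩
    obtain ⟨s, rfl⟩ := exists_sqrt h a
    by_cases hs : s = 0
    · exact ⟨0, x, x4 (by rw [hs, mul_zero]), by rw [h0, one_mul]⟩
    have h1 := comm_of_J (show J x t = J (p b s) t from x3.trans (hp b s).mv.symm)
    obtain ⟨q, hq, κ, hκ, e⟩ := c.nf.cQ1 _ (Fr.e_ne_zero b) _
      ⟨c.tc.cN (mem_C1.2 h1), Subgroup.mul_mem _ (Subgroup.inv_mem _ (hp b s).cent) x1⟩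
    obtain ⟨y, ν, hy, rfl⟩ := (c.g2.crdQ _ q).1 hq
    have e1 : κ = (ET P φ (Fr.e b) y ν)⁻¹ * ((p b s)⁻¹ * x) := by rw [e, inv_mul_cancel_left]
    obtain ⟨η, k1, k2⟩ := kap (Fr := Fr) c hR hκ
      (e1 ▸ (mem_C1.1 (L_le c (ET_mem h _ _ _))).inv_left.mul_left h1)
    rw [inv_mul_eq_iff_eq_mul] at e
    have e2 : J (p b s) (ET P φ (Fr.e b) y ν * κ) * (ET P φ (Fr.e b) y ν * κ) = 1 := by
      rw [J, inv_eq_of_mul_eq_one_right (hp b s).sq, ← x2, e]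
      group
    rw [J_mul, (hp b s).Q h ((fc h _ _).trans hy), k1 _ _ _ (hp b s), (comm_same h _ _ _ _ _).left_comm,
      mul_assoc, (cC hκ (ET_mem h _ _ _)).mul_mul_mul_comm, ET_sq h, one_mul, mul_eq_one_iff_inv_eq,
      tv_inv h] at e2
    obtain ⟨a1, a2⟩ := k2 _ (tv_sq h _ _) e2.symm
    rw [tv_eq_one h (Fr.e_ne_zero b), mul_self_eq_zero] at a1
    exact ⟨s, _, hq, by rw [e, a2 ((mul_eq_zero.1 a1).resolve_right hs), mul_one]⟩
  · rintro ⟨s, q, hq, rfl⟩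
    obtain ⟨y, ν, hy, rfl⟩ := (c.g2.crdQ _ q).1 hq
    refine ⟨mul_mem (hp b s).cent fun x hx => ?_, ?_, s * s, ?_, fun e => ?_⟩
    · obtain ⟨y', ν', -, rfl⟩ := (c.g2.crdQ _ x).1 hx
      exact comm_same h _ _ _ _ _
    · rw [(cC (hp b s).cent hq).symm.mul_mul_mul_comm, (hp b s).sq, ET_sq h, one_mul]
    · exact (mul_J _ _ _).trans (by
        rw [J_of (mem_C1.1 (L_le c (ET_mem h _ _ _)))]; exact (hp b s).mv)
    · rwa [mul_self_eq_zero.1 e, h0, one_mul]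

end Cfsg.Agent.H66.T6.H14.SpC3b
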