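import Cfsg.Agent.H29.SpKit
import Cfsg.Agent.H66.T6SpNF

/-!
# Standard subgroups of type `Sp₂ₖ(2ⁿ)`: a swap for a transvection normalizes `Y_v` and `Q_v`
-/

set_option autoImplicit false

namespace Cfsg.Agent.H66.T6.H34.SpSB

open Cfsg Cfsg.Agent.H63 Cfsg.Agent.H63.SL Cfsg.Agent.H26 Cfsg.Agent.H68.Sp
open Cfsg.Agent.H78 hiding tv
open Cfsg.Agent.H29.SpK
open Subgroup Module
open scoped commutatorElement

universe u v

section Gen

variable {G : Type u} [Group G]

/-- In a finite group one inclusion suffices to normalize. -/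
theorem mem_N_of [Finite G] {H : Subgroup G} {g : G} (h : ∀ y ∈ H, g * y * g⁻¹ ∈ H) :
    g ∈ N[H] := by
  apply Subgroup.mem_normalizer_fintype (S := (H : Set G))
  exact h

theorem conj_mem {H : Subgroup G} {g y : G} (hg : g ∈ N[H]) (hy : y ∈ H) : g * y * g⁻¹ ∈ H :=
  (Subgroup.mem_set_normalizer_iff.1 hg y).1 hy

theorem conj_mem' {H : Subgroup G} {g y : G} (hg : g ∈ N[H]) (hy : y ∈ H) : g⁻¹ * y * g ∈ H := by
  have := conj_mem (inv_mem hg) hy
  rwa [inv_inv] at this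

theorem mem_cj' {H : Subgroup G} {g y : G} : y ∈ cj g H ↔ g⁻¹ * y * g ∈ H := by
  constructor
  · rintro ⟨x, hx, rfl⟩
    have : g⁻¹ * (MulAut.conj g).toMonoidHom x * g = x := by
      simp [mul_assoc]
    rwa [this]
  · intro h
    exact ⟨_, h, by simp [mul_assoc]⟩

end Gen

variable {F V : Type v} [Field F] [Finite F] [AddCommGroup V] [Module F V]
  [FiniteDimensional F V] {G : Type u} [Group G] [Finite G]
  {P : PForm F V} {φ : P.E →* G} {L : Subgroup G} {k : ℕ} {t : G}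

omit [Finite F] [FiniteDimensional F V] [Finite G] in
theorem YW_le (h : SG P φ L k) (S : Set V) : YW P φ S ≤ L := by
  intro y hy
  obtain ⟨e, -, rfl⟩ := mem_YW.1 hy
  exact φ_mem h e

omit [Finite F] [FiniteDimensional F V] [Finite G] in
theorem iso1 (h : SG P φ L k) (v : V) :
    ∀ x ∈ ({v} : Set V), ∀ y ∈ ({v} : Set V), P.f x y = 0 := by
  rintro x rfl y rfl
  exact fs h _

omit [Finite F] [FiniteDimensional F V] [Finite G] in
theorem mem_YW1 {v : V} {g : G} : g ∈ YW P φ {v} ↔ ∃ e : P.E, e.1 v = v ∧ φ e = g := by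
  rw [mem_YW]
  simp

omit [Finite F] [FiniteDimensional F V] [Finite G] in
theorem ET_mem_Q1 {v y : V} (hy : P.f y v = 0) (c : F) : ET P φ v y c ∈ QW P φ {v} :=
  ET_mem_QW (Submodule.mem_span_singleton_self v) (by rintro s rfl; exact hy) c

omit [Finite F] [FiniteDimensional F V] in
/-- `Y_v` normalizes `Q_v`. -/
theorem Y_le_N (h : SG P φ L k) (g2 : G2 P φ) (v : V) : YW P φ {v} ≤ N[QW P φ {v}] := by
  intro y hy
  obtain ⟨e, he, rfl⟩ := mem_YW1.1 hy
  refine mem_N_of fun q hq => ?_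
  obtain ⟨y, c, hy, rfl⟩ := (g2.crdQ v q).1 hq
  rw [conj_ET h, he]
  refine ET_mem_Q1 ?_ c
  conv_lhs => rw [← he]
  rw [ef, hy]

omit [Finite F] [FiniteDimensional F V] [Finite G] in
/-- A perfect pointwise stabilizer commuting with `g t g⁻¹` lies in `g L g⁻¹`. -/
theorem YW_le_cj (hC : Ctx P φ L k t) (S : Set V) (hp : ⁅YW P φ S, YW P φ S⁆ = YW P φ S) (g : G)
    (hc : YW P φ S ≤ C1[g * t * g⁻¹]) : YW P φ S ≤ cj g L := by
  have h := hC.toSG
  have key : ∀ x ∈ YW P φ S, x * x = 1 → x ∈ cj g L := by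
    intro x hx hx2
    refine (hC.cnj g).oc _ hc x (mem_sup_right ?_) ⟨1, by simpa [pow_two] using hx2⟩
    rw [hp, hp]; exact hx
  have e := hC.g2.gen S
  intro x hx
  rw [e] at hx
  refine (closure_le (K := cj g L)).2 ?_ hx
  rintro _ ⟨w, hw, c, rfl⟩
  refine key _ ?_ (tv_sq h _ _)
  rw [e]
  exact tv_mem_S2 hw c

end Cfsg.Agent.H66.T6.H34.SpSB
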