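import Cfsg.Agent.H66.T6SpH2a

/-!
Project SP, piece H2: an equivariant choice of canonical movers.
-/

set_option autoImplicit false

namespace Cfsg.Agent.H66.T6.H92.SpH2

open Cfsg Cfsg.Agent.H63 Cfsg.Agent.H63.SL Cfsg.Agent.H26 Cfsg.Agent.H68.Sp Cfsg.Agent.H29.SpK
open Subgroup Module

universe u v

variable {F V : Type v} [Field F] [AddCommGroup V] [Module F V] {G : Type u} [Group G]
  {P : PForm F V} {φ : P.E →* G} {L : Subgroup G} {k : ℕ} {t : G}

theorem el_id {A : Subgroup G} (h : ∀ g ∈ A, g * g = 1) {x a b c d e f : G} (hx : x ∈ A)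
    (ha : a ∈ A) (hb : b ∈ A) (hc : c ∈ A) (hd : d ∈ A) (he : e ∈ A) (hf : f ∈ A) :
    x * (a * (b * c * d) * (e * f)) * (a * b * e) = c * f * (x * d) := by
  letI : CommGroup A := { (inferInstance : Group A) with
    mul_comm := fun y z => Subtype.ext (H16.SpG.comm_of_el h y.2 z.2) }
  have key : ∀ x a b c d e f : A, x * (a * (b * c * d) * (e * f)) * (a * b * e) =
      c * f * (x * d) := fun x a b c d e f => by
    have h1 : ∀ y : A, y * y = 1 := fun y => Subtype.ext (h y y.2)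
    calc _ = a * a * (b * b) * (e * e) * (c * f * (x * d)) := by ac_rfl
      _ = _ := by rw [h1 a, h1 b, h1 e, one_mul, one_mul, one_mul]
  exact congrArg Subtype.val (key ⟨x, hx⟩ ⟨a, ha⟩ ⟨b, hb⟩ ⟨c, hc⟩ ⟨d, hd⟩ ⟨e, he⟩ ⟨f, hf⟩)

theorem Es_mem (h : SG P φ L k) {S : Set V} {a r : V} (ha : a ∈ Submodule.span F S)
    (hr : r ∈ Submodule.span F S) (har : P.f a r = 0) (c : F) : Es P φ a (c • r) ∈ S2 P φ S := by
  have := tv_mem_S2 (φ := φ) (add_mem ha hr) c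
  rw [tv_add_vec h har] at this
  exact (mul_mem_cancel_left (mul_mem (tv_mem_S2 ha c) (tv_mem_S2 hr c))).1 this

variable (P φ) in
/-- One half of `Can`. -/
def C2 (t : G) (u v : V) (p : G) : Prop :=
  ∀ w (e : P.E), I3 P u v w → e.1 u = u → e.1 v = v + w → φ e * p * (φ e)⁻¹ * p ∈ BS P φ t u w

theorem can_iff {u v : V} {p : G} : Can P φ t u v p ↔ C2 P φ t u v p ∧ C2 P φ t v u p :=
  ⟨fun H => ⟨fun w e h3 => (H w e h3).1, fun w e h3 => (H w e (i3_swap h3)).2⟩,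
    fun H w e h3 => ⟨H.1 w e h3, H.2 w e (i3_swap h3)⟩⟩

theorem c2_smul (h : SG P φ L k) {u v : V} {p : G} (H : C2 P φ t u v p) {c : F} (hc : c ≠ 0) :
    C2 P φ t (c • u) v p := fun w e h3 h1 h2 => by
  have h4 := i3_smul h3 (inv_ne_zero hc)
  rw [inv_smul_smul₀ hc] at h4
  rw [map_smul] at h1
  exact bs_smul h hc (H w e h4 (smul_right_injective V hc h1) h2)

theorem c2_smul' (h : SG P φ L k) {u v : V} {p : G} (H : C2 P φ t u v p) {c : F} (hc : c ≠ 0) :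
    C2 P φ t u (c • v) p := fun w e h3 h1 h2 => by
  have h4 := i3_smul3 (i3_smul2 h3 (inv_ne_zero hc)) (inv_ne_zero hc)
  rw [inv_smul_smul₀ hc] at h4
  have := bs_smul' h hc (H _ e h4 h1 (smul_right_injective V hc (by
    simp only [smul_add, smul_inv_smul₀ hc]
    rw [← h2, map_smul])))
  rwa [smul_inv_smul₀ hc] at this

theorem c2_conj (h : SG P φ L k) (tc : Tc L t) {u v : V} {p : G} (H : C2 P φ t u v p) (g : P.E) :
    C2 P φ t (g.1 u) (g.1 v) (φ g * p * (φ g)⁻¹) := fun w e h3 h1 h2 => by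
  have h4 := i3_map h3 g⁻¹
  rw [einv_apply, einv_apply] at h4
  obtain ⟨b, hb⟩ := H _ (g⁻¹ * e * g) h4 (by rw [emul, emul, h1, einv_apply])
    (by rw [emul, emul, h2, map_add, einv_apply])
  have := mv_conj h tc hb g
  rw [eapply_inv, map_mul, map_mul, map_inv] at this
  refine ⟨b, ?_⟩
  convert this using 1
  group

theorem can_smul (h : SG P φ L k) {u v : V} {p : G} (H : Can P φ t u v p) {c : F} (hc : c ≠ 0) :
    Can P φ t (c • u) v p :=
  can_iff.2 ⟨c2_smul h (can_iff.1 H).1 hc, c2_smul' h (can_iff.1 H).2 hc⟩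

theorem can_smul' (h : SG P φ L k) {u v : V} {p : G} (H : Can P φ t u v p) {c : F} (hc : c ≠ 0) :
    Can P φ t u (c • v) p :=
  can_iff.2 ⟨c2_smul' h (can_iff.1 H).1 hc, c2_smul h (can_iff.1 H).2 hc⟩

theorem can_conj (h : SG P φ L k) (tc : Tc L t) {u v : V} {p : G} (H : Can P φ t u v p)
    (g : P.E) : Can P φ t (g.1 u) (g.1 v) (φ g * p * (φ g)⁻¹) :=
  can_iff.2 ⟨c2_conj h tc (can_iff.1 H).1 g, c2_conj h tc (can_iff.1 H).2 g⟩

theorem key (h : SG P φ L k) (g2 : G2 P φ) {u v w : V} (h3 : I3 P u v w) {e : P.E}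
    (h1 : e.1 u = u) (h2 : e.1 v = v + w) {b s : F} {p p' : G} (H : Mv P φ t 0 u v b p)
    (hp : φ e * p * (φ e)⁻¹ = p' * Es P φ v (s • w) * p) (a a' c : F) :
    φ e * (p * (tv P φ u a * tv P φ v a' * Es P φ u (c • v))) * (φ e)⁻¹ *
      (p * (tv P φ u a * tv P φ v a' * Es P φ u (c • v))) =
    p' * (tv P φ w a' * Es P φ u (c • w)) * Es P φ v ((s + a') • w) := by
  obtain ⟨e1, e2, e3, -⟩ := g2.el {u, v, w} (by
    rintro x (rfl | rfl | rfl) y (rfl | rfl | rfl)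
    exacts [fs h _, h3.1, h3.2.1, PForm.f_symm_zero h3.1, fs h _, h3.2.2.1,
      PForm.f_symm_zero h3.2.1, PForm.f_symm_zero h3.2.2.1, fs h _])
  have hu : u ∈ Submodule.span F ({u, v, w} : Set V) := Submodule.subset_span (by simp)
  have hv : v ∈ Submodule.span F ({u, v, w} : Set V) := Submodule.subset_span (by simp)
  have hw : w ∈ Submodule.span F ({u, v, w} : Set V) := Submodule.subset_span (by simp)
  have c1 : φ e * (tv P φ u a * tv P φ v a' * Es P φ u (c • v)) * (φ e)⁻¹ =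
      tv P φ u a * (tv P φ v a' * tv P φ w a' * Es P φ v (a' • w)) *
        (Es P φ u (c • v) * Es P φ u (c • w)) := by
    rw [← conj_mul, ← conj_mul, conj_tv h, conj_tv h, conj_Es h, map_smul, h1, h2,
      tv_add_vec h h3.2.2.1, smul_add, Es_add0 h (by rw [fr h, h3.1, mul_zero])
        (by rw [fr h, h3.2.1, mul_zero]) (by rw [fr h, P.f_smul_left, h3.2.2.1]; ring)]
  have m1 := tv_mem_S2 (φ := φ) hu a
  have m2 := tv_mem_S2 (φ := φ) hv a'
  have m3 := tv_mem_S2 (φ := φ) hw a'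
  have m4 := Es_mem h hv hw h3.2.2.1 a'
  have m5 := Es_mem h hu hv h3.1 c
  have m6 := Es_mem h hu hw h3.2.1 c
  have m7 := Es_mem h hv hw h3.2.2.1 s
  have c2 := mem_centralizer_iff.1 H.cent _ (show _ ∈ YW P φ {u, v} from by
    obtain ⟨x, x1, x2⟩ := mem_YW.1
      (e3 (e2 (mul_mem (mul_mem m1 (mul_mem (mul_mem m2 m3) m4)) (mul_mem m5 m6))))
    exact mem_YW2.2 ⟨x, x1 u (by simp), x1 v (by simp), x2⟩)
  have c3 := el_id e1 m7 m1 m2 m3 m4 m5 m6
  rw [← conj_mul, hp, c1, Es_adds h h3.2.2.1]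
  generalize tv P φ u a * (tv P φ v a' * tv P φ w a' * Es P φ v (a' • w)) *
    (Es P φ u (c • v) * Es P φ u (c • w)) = x at c2 c3
  generalize tv P φ u a * tv P φ v a' * Es P φ u (c • v) = z at c3
  calc p' * Es P φ v (s • w) * p * x * (p * z)
      = p' * Es P φ v (s • w) * p * (x * p) * z := by simp only [mul_assoc]
    _ = p' * (Es P φ v (s • w) * (p * p) * x * z) := by rw [c2]; simp only [mul_assoc]
    _ = _ := by rw [mv_sq H, mul_one, c3]; simp only [mul_assoc]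

variable (h : SG P φ L k) (tc : Tc L t) (g2 : G2 P φ) (hb : HB P φ L t)
include h tc g2 hb

theorem mv_mul_S2 {u v : V} (huv : I2 P u v) {b : F} {p s : G} (H : Mv P φ t 0 u v b p)
    (hs : s ∈ S2 P φ {u, v}) : Mv P φ t 0 u v b (p * s) := by
  have := hb.mul u v huv b 0 p s H (mv_S2 h tc g2 huv.1 hs)
  rwa [add_zero] at this

omit tc in
theorem mv_coset {u v : V} (huv : I2 P u v) {b : F} {p p' : G} (H : Mv P φ t 0 u v b p)
    (H' : Mv P φ t 0 u v b p') :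
    ∃ a a' c : F, p' = p * (tv P φ u a * tv P φ v a' * Es P φ u (c • v)) := by
  obtain ⟨a, a', c, e⟩ := (g2.crd2 u v huv.1 _).1
    ((hb.mul u v huv b b p p' H H').zero (fadd_self h b))
  exact ⟨a, a', c, by rw [← e, ← mul_assoc, mv_sq H, one_mul]⟩

theorem bs_Es {u v w : V} (h3 : I3 P u v w) {b s : F} {p : G} (H : Mv P φ t 0 u w b p)
    (H' : p * Es P φ v (s • w) ∈ BS P φ t u w) : s = 0 := by
  obtain ⟨b', H'⟩ := H'
  have e1 := H'.mv
  rw [mul_assoc p, t_comm h tc (ET_mem h _ _ _), mul_inv_rev, ← mul_assoc, ← mul_assoc,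
    mul_inv_cancel_right, H.mv] at e1
  obtain rfl := Es_inj h (i3_13 h3) (mul_left_cancel e1)
  obtain ⟨a, a', c, e⟩ := mv_coset h g2 hb (i3_13 h3) H H'
  refine (g2.uni3 u v w h3 a 0 a' 0 c s ?_).2.2.2.2.2
  rw [tv_zero, zero_smul, Es_zero, mul_one, mul_one, ← mul_left_cancel e, Es_sq h]

/-- The defect of a mover. -/
theorem defect {u v : V} (huv : I2 P u v) {b : F} {p : G} (H : Mv P φ t 0 u v b p) :
    ∃ s : F, ∀ (a a' c : F) (q : G), q = p * (tv P φ u a * tv P φ v a' * Es P φ u (c • v)) →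
      ∀ w (e : P.E), I3 P u v w → e.1 u = u → e.1 v = v + w →
        (φ e * q * (φ e)⁻¹ * q ∈ BS P φ t u w ↔ a' = s) := by
  obtain ⟨s, hs⟩ := hb.br0 u v huv b p H
  refine ⟨s, fun a a' c q hq w e h3 h1 h2 => ?_⟩
  obtain ⟨p', H', hp⟩ := hs w e h3 h1 h2
  have hu : u ∈ Submodule.span F ({u, w} : Set V) := Submodule.subset_span (by simp)
  have hw : w ∈ Submodule.span F ({u, w} : Set V) := Submodule.subset_span (by simp)
  have H'' := mv_mul_S2 h tc g2 hb (i3_13 h3) H'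
    (mul_mem (tv_mem_S2 hw a') (Es_mem h hu hw h3.2.1 c))
  rw [hq, key h g2 h3 h1 h2 H hp]
  constructor
  · intro H3
    have := bs_Es h tc g2 hb h3 H'' H3
    linear_combination this - fadd_self h s
  · rintro rfl
    rw [fadd_self h, zero_smul, Es_zero, mul_one]
    exact ⟨b, H''⟩

omit tc g2 hb in
theorem swap_form {u v : V} (huv : P.f u v = 0) (a a' c : F) :
    tv P φ u a * tv P φ v a' * Es P φ u (c • v) = tv P φ v a' * tv P φ u a * Es P φ v (c • u) := by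
  rw [(comm_tv_tv h huv a a').eq, ← Es_smul h, Es_symm h]

theorem exists_can {u v : V} (huv : I2 P u v) (b : F) :
    ∃ p, Mv P φ t 0 u v b p ∧ Can P φ t u v p := by
  obtain ⟨p, H⟩ := hb.ex u v huv b
  obtain ⟨s, hs⟩ := defect h tc g2 hb huv H
  obtain ⟨s', hs'⟩ := defect h tc g2 hb (i2_symm huv) (mv_symm h H)
  refine ⟨p * (tv P φ u s' * tv P φ v s * Es P φ u ((0 : F) • v)),
    mv_mul_S2 h tc g2 hb huv H ((g2.crd2 u v huv.1 _).2 ⟨_, _, _, rfl⟩),
    can_iff.2 ⟨fun w e h3 h1 h2 => (hs _ _ _ _ rfl w e h3 h1 h2).2 rfl,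
      fun w e h3 h1 h2 => (hs' s s' 0 _ (by rw [swap_form h huv.1]) w e h3 h1 h2).2 rfl⟩⟩

theorem uq2 {u v : V} (huv : I2 P u v) {b : F} {p p' : G} (H : Mv P φ t 0 u v b p)
    (hc : C2 P φ t u v p) {a a' c : F}
    (e0 : p' = p * (tv P φ u a * tv P φ v a' * Es P φ u (c • v))) {w : V} {e : P.E}
    (h3 : I3 P u v w) (h1 : e.1 u = u) (h2 : e.1 v = v + w)
    (hm : φ e * p' * (φ e)⁻¹ * p' ∈ BS P φ t u w) : a' = 0 := by
  obtain ⟨s, hs⟩ := defect h tc g2 hb huv H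
  rw [(hs a a' c p' e0 w e h3 h1 h2).1 hm]
  exact ((hs 0 0 0 p (by rw [tv_zero, tv_zero, zero_smul, Es_zero, mul_one, mul_one, mul_one])
    w e h3 h1 h2).1 (hc w e h3 h1 h2)).symm

theorem uq [FiniteDimensional F V] (g1 : G1 P k) (k3 : 3 ≤ k) {u v : V} (huv : I2 P u v) {b : F}
    {p p' : G} (H : Mv P φ t 0 u v b p) (hc : Can P φ t u v p) (H' : Mv P φ t 0 u v b p')
    (hc' : Can P φ t u v p') : ∃ c : F, p' = p * Es P φ u (c • v) := by
  obtain ⟨a, a', c, e0⟩ := mv_coset h g2 hb huv H H'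
  obtain ⟨w, h3⟩ := exists_i3 h k3 huv
  obtain ⟨e, h1, h2⟩ := witt2 h g1 huv (i3_add h3)
  obtain ⟨e', h1', h2'⟩ := witt2 h g1 (i2_symm huv) (i3_add (i3_swap h3))
  obtain rfl := uq2 h tc g2 hb huv H (can_iff.1 hc).1 e0 h3 h1 h2 ((hc' w e h3).1 h1 h2)
  obtain rfl := uq2 h tc g2 hb (i2_symm huv) (mv_symm h H) (can_iff.1 hc).2
    (e0.trans (by rw [swap_form h huv.1])) (i3_swap h3) h1' h2' ((hc' w e' h3).2 h1' h2')
  exact ⟨c, by rw [e0, tv_zero, tv_zero, one_mul, one_mul]⟩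

omit h tc g2 hb in
theorem h2 : H2Stmt.{u, v} := by
  intro F V _ _ _ _ _ G _ _ P φ L k t c hb
  classical
  have h : SG P φ L k := c.toSG
  have tc := c.tc
  have g1 := c.g1
  have g2 := c.g2
  by_cases hex : ∃ u v, I2 P u v
  swap
  · have hn : ∀ u v, ¬ I2 P u v := fun u v H => hex ⟨u, v, H⟩
    exact ⟨fun _ _ => 1, fun u v H => (hn u v H).elim, fun _ => rfl, fun u v H => (hn u v H).elim,
      fun u v H => (hn u v H).elim, fun u v H => (hn u v H).elim, fun u v H => (hn u v H).elim,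
      fun u v H => (hn u v H).elim⟩
  obtain ⟨u0, v0, h0⟩ := hex
  obtain ⟨p0, M0, C0⟩ := exists_can h tc g2 hb h0 1
  obtain ⟨y, hy, hz⟩ : ∃ y : V → V → G, (∀ e : P.E, y (e.1 u0) (e.1 v0) = φ e * p0 * (φ e)⁻¹) ∧
      ∀ u, y u 0 = 1 := by
    refine ⟨fun u v => if H : ∃ e : P.E, e.1 u0 = u ∧ e.1 v0 = v then
      φ H.choose * p0 * (φ H.choose)⁻¹ else 1, fun e => ?_, fun u => dif_neg ?_⟩
    · have H : ∃ e' : P.E, e'.1 u0 = e.1 u0 ∧ e'.1 v0 = e.1 v0 := ⟨e, rfl, rfl⟩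
      simp only [dif_pos H]
      obtain ⟨x1, x2⟩ := H.choose_spec
      generalize H.choose = x at x1 x2
      have := mem_centralizer_iff.1 M0.cent (φ (e⁻¹ * x)) (mem_YW2.2 ⟨_,
        by rw [emul, x1, einv_apply], by rw [emul, x2, einv_apply], rfl⟩)
      rw [map_mul, map_inv] at this
      calc φ x * p0 * (φ x)⁻¹ = φ e * ((φ e)⁻¹ * φ x * p0) * (φ x)⁻¹ := by group
        _ = _ := by rw [this]; group
    · rintro ⟨e, -, he⟩
      exact i2_ne h0 (e.1.injective (he.trans (map_zero _).symm))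
  have ycj : ∀ u v, I2 P u v → ∀ e : P.E, φ e * y u v * (φ e)⁻¹ = y (e.1 u) (e.1 v) := by
    intro u v huv e
    obtain ⟨g, rfl, rfl⟩ := witt2 h g1 h0 huv
    rw [← emul, ← emul, hy, hy, map_mul]
    group
  have ymv : ∀ u v, I2 P u v → Mv P φ t 0 u v 1 (y u v) := by
    intro u v huv
    obtain ⟨g, rfl, rfl⟩ := witt2 h g1 h0 huv
    rw [hy]
    exact mv_conj h tc M0 g
  have ycan : ∀ u v, I2 P u v → Can P φ t u v (y u v) := by
    intro u v huv
    obtain ⟨g, rfl, rfl⟩ := witt2 h g1 h0 huv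
    rw [hy]
    exact can_conj h tc C0 g
  have yb : ∀ u v, I2 P u v → ∀ b : F,
      Mv P φ t 0 u v b (y u (b • v)) ∧ Can P φ t u v (y u (b • v)) := by
    intro u v huv b
    by_cases hb0 : b = 0
    · subst hb0
      rw [zero_smul, hz]
      refine ⟨mv_S2 h tc g2 huv.1 (one_mem _), fun w e h3 => ?_⟩
      rw [mul_one, mul_one, mul_inv_cancel]
      exact ⟨fun _ _ => ⟨0, mv_S2 h tc g2 h3.2.1 (one_mem _)⟩,
        fun _ _ => ⟨0, mv_S2 h tc g2 h3.2.2.1 (one_mem _)⟩⟩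
    · have h1 := (mv_smul' h hb0).1 (ymv _ _ (i2_smul' huv hb0))
      have h2 := can_smul' h (ycan _ _ (i2_smul' huv hb0)) (inv_ne_zero hb0)
      rw [mul_one] at h1
      rw [inv_smul_smul₀ hb0] at h2
      exact ⟨h1, h2⟩
  have ysq : ∀ u v, I2 P u v → ∀ d : F, d ≠ 0 → y ((d * d) • u) ((d * d)⁻¹ • v) = y u v := by
    intro u v huv d hd
    have hi := i2_smul' (i2_smul huv hd) (inv_ne_zero hd)
    obtain ⟨g, g1', g2'⟩ := witt2 h g1 huv hi
    have m1 := (mv_smul h hd).1 ((mv_smul' h (inv_ne_zero hd)).1 (ymv _ _ hi))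
    rw [mul_one, mul_inv_cancel₀ hd] at m1
    have m2 := can_smul' h (can_smul h (ycan _ _ hi) (inv_ne_zero hd)) hd
    rw [inv_smul_smul₀ hd, smul_inv_smul₀ hd] at m2
    obtain ⟨l, hl⟩ := uq h tc g2 hb g1 c.k3 huv (ymv u v huv) (ycan u v huv) m1 m2
    have e1 := ycj _ _ hi g
    rw [map_smul, map_smul, g1', g2', ← mul_smul, ← mul_smul, ← mul_inv, hl, ← conj_mul,
      ycj u v huv, g1', g2', hl, conj_Es h, map_smul, g1', g2', Es_smul h, smul_comm l,
      smul_inv_smul₀ hd, mul_assoc, Es_sq h, mul_one] at e1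
    exact e1.symm
  refine ⟨y, ycj, hz, ymv, ycan, fun u v huv a ha => ?_, fun u v huv b p H hc => ?_,
    fun u v huv b p H ⟨w, e, h3, h1, h2, hm⟩ => ?_⟩
  · obtain ⟨d, rfl⟩ : ∃ d : F, d * d = a := by
      refine Finite.surjective_of_injective (f := fun d : F => d * d) (fun x z hxz => ?_) a
      have : (x - z) * (x - z) = 0 := by
        have hxz' : x * x = z * z := hxz
        linear_combination hxz' + fadd_self h (z * z) - fadd_self h (x * z)
      exact sub_eq_zero.1 (mul_self_eq_zero.1 this)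
    rw [← ysq u _ (i2_smul' huv ha) d (left_ne_zero_of_mul ha), inv_smul_smul₀ ha]
  · exact uq h tc g2 hb g1 c.k3 huv (yb u v huv b).1 (yb u v huv b).2 H hc
  · obtain ⟨a, a', c', e0⟩ := mv_coset h g2 hb huv (yb u v huv b).1 H
    obtain rfl := uq2 h tc g2 hb huv (yb u v huv b).1 (can_iff.1 (yb u v huv b).2).1 e0 h3 h1 h2 hm
    exact ⟨a, c', by rw [e0, tv_zero, mul_one, mul_assoc]⟩

end Cfsg.Agent.H66.T6.H92.SpH2
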