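import Cfsg.Agent.H29.SpG2
import Cfsg.Agent.H66.T6Defs2

/-!
# Project SP, piece H3b: the canonical movers of orthogonal planes commute
-/

set_option autoImplicit false

namespace Cfsg.Agent.H66.T6.H80.SpH3b

open Cfsg Cfsg.Agent.H63 Cfsg.Agent.H63.SL Cfsg.Agent.H26 Cfsg.Agent.H68.Sp Cfsg.Agent.H29.SpK
open Cfsg.Agent.H78 hiding tv
open Subgroup Module
open scoped commutatorElement

universe u v

variable {F V : Type v} [Field F] [AddCommGroup V] [Module F V] {G : Type u} [Group G]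
  {P : PForm F V} {φ : P.E →* G} {L : Subgroup G} {k : ℕ} {t : G}

/-- Four independent vectors. -/
def Li4 (F : Type v) [Field F] [Module F V] (u v u' v' : V) : Prop :=
  ∀ a b c d : F, a • u + b • v + c • u' + d • v' = 0 → a = 0 ∧ b = 0 ∧ c = 0 ∧ d = 0

theorem li2 {u v : V} (H : I2 P u v) {a b : F} (h0 : a • u + b • v = 0) : a = 0 ∧ b = 0 :=
  LinearIndependent.pair_iff.1 H.2 a b h0

theorem li3_of {u v w : V}
    (H : ∀ a b c : F, a • u + b • v + c • w = 0 → a = 0 ∧ b = 0 ∧ c = 0) :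
    LinearIndependent F ![u, v, w] := by
  rw [Fintype.linearIndependent_iff]
  intro g hg i
  rw [Fin.sum_univ_three] at hg
  obtain ⟨h0, h1, h2⟩ := H _ _ _ hg
  fin_cases i
  exacts [h0, h1, h2]

theorem Li4.swap {u v u' v' : V} (H : Li4 F u v u' v') : Li4 F v u u' v' := fun a b c d h0 => by
  obtain ⟨h1, h2, h3⟩ := H b a c d (by rw [← h0]; abel)
  exact ⟨h2, h1, h3⟩

theorem Li4.symm {u v u' v' : V} (H : Li4 F u v u' v') : Li4 F u' v' u v := fun a b c d h0 => by
  obtain ⟨h1, h2, h3, h4⟩ := H c d a b (by rw [← h0]; abel)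
  exact ⟨h3, h4, h1, h2⟩

theorem I2.swap {u v : V} (H : I2 P u v) : I2 P v u :=
  ⟨PForm.f_symm_zero H.1, LinearIndependent.pair_symm_iff.1 H.2⟩

theorem I2.ne {u v : V} (H : I2 P u v) : u ≠ 0 := fun h0 =>
  one_ne_zero (li2 H (a := 1) (b := 0) (by simp [h0])).1

theorem fix_span {S : Set V} {e : P.E} (he : ∀ v ∈ S, e.1 v = v) {x : V}
    (hx : x ∈ Submodule.span F S) : e.1 x = x := by
  induction hx using Submodule.span_induction with
  | mem x hx => exact he x hx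
  | zero => exact map_zero _
  | add x y _ _ hx hy => rw [map_add, hx, hy]
  | smul c x _ hx => rw [map_smul, hx]

theorem YW_anti {S S' : Set V} (H : S ⊆ Submodule.span F S') : YW P φ S' ≤ YW P φ S := by
  rintro _ ⟨e, he, rfl⟩
  exact ⟨e, fun v hv => fix_span he (H hv), rfl⟩

theorem YW_congr {S S' : Set V} (H : Submodule.span F S = Submodule.span F S') :
    YW P φ S = YW P φ S' :=
  le_antisymm (YW_anti (H ▸ Submodule.subset_span)) (YW_anti (H ▸ Submodule.subset_span))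

theorem mv_sq {u v : V} {b : F} {p : G} (hp : Mv P φ t 0 u v b p) : p * p = 1 := by
  rw [hp.sq, zero_mul, zero_smul, Es_zero]

/-- Movers only depend on the plane and the root element. -/
theorem mv_congr {u v x w : V} {b β : F} {p : G}
    (hs : Submodule.span F {x, w} = Submodule.span F ({u, v} : Set V))
    (hE : Es P φ x (β • w) = Es P φ u (b • v)) (hβ : β ≠ 0) (hp : Mv P φ t 0 u v b p) :
    Mv P φ t 0 x w β p :=
  ⟨YW_congr (φ := φ) hs ▸ hp.cent, hE ▸ hp.mv, by rw [mv_sq hp, zero_mul, zero_smul, Es_zero],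
    fun h0 => absurd h0 hβ⟩

theorem span_left {u v : V} {a b : F} (ha : a ≠ 0) :
    Submodule.span F {a • u + b • v, v} = Submodule.span F ({u, v} : Set V) := by
  apply le_antisymm <;> rw [Submodule.span_le] <;> rintro x (rfl | rfl)
  · exact Submodule.mem_span_pair.2 ⟨a, b, rfl⟩
  · exact Submodule.subset_span (by simp)
  · refine Submodule.mem_span_pair.2 ⟨a⁻¹, -(a⁻¹ * b), ?_⟩
    rw [smul_add, smul_smul, inv_mul_cancel₀ ha, one_smul, smul_smul, neg_smul]
    abel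
  · exact Submodule.subset_span (by simp)

theorem comm_YW {S : Set V} {p g : G} (hp : p ∈ C[YW P φ S]) (hg : g ∈ YW P φ S) : Commute g p :=
  mem_centralizer_iff.1 hp g hg

section SG

variable (h : SG P φ L k)
include h

theorem ET_mem_YW {S : Set V} {a b : V} (ha : ∀ s ∈ S, P.f s a = 0) (hb : ∀ s ∈ S, P.f s b = 0)
    (c : F) : ET P φ a b c ∈ YW P φ S :=
  ⟨eE P a b c, fun s hs => eE_fix h (ha s hs) (hb s hs) c, rfl⟩

theorem mv_left {u v : V} (H : I2 P u v) {a b : F} (ha : a ≠ 0) {p : G}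
    (hp : Mv P φ t 0 u v 1 p) : I2 P (a • u + b • v) v ∧ Mv P φ t 0 (a • u + b • v) v a⁻¹ p := by
  refine ⟨⟨?_, LinearIndependent.pair_iff.2 fun r s h0 => ?_⟩,
    mv_congr (span_left ha) ?_ (inv_ne_zero ha) hp⟩
  · rw [P.f_add_left, P.f_smul_left, P.f_smul_left, H.1, fs h]; simp
  · have := li2 H (a := r * a) (b := r * b + s) (by
      rw [← h0, smul_add, smul_smul, smul_smul, add_smul, add_assoc])
    have hr : r = 0 := (mul_eq_zero.1 this.1).resolve_right ha
    exact ⟨hr, by simpa [hr] using this.2⟩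
  · have e : b • v = (b * a) • a⁻¹ • v := by rw [smul_smul, mul_assoc, mul_inv_cancel₀ ha, mul_one]
    rw [e, Es_shear' h, Es_smul h, smul_smul, mul_inv_cancel₀ ha]

theorem mv_swap {u v : V} {p : G} (hp : Mv P φ t 0 u v 1 p) : Mv P φ t 0 v u 1 p :=
  mv_congr (by rw [Set.pair_comm]) (by rw [one_smul, one_smul, Es_symm h]) one_ne_zero hp

theorem exists_mv {u v : V} (H : I2 P u v) {a b : F} (hab : ¬ (a = 0 ∧ b = 0)) {p : G}
    (hp : Mv P φ t 0 u v 1 p) : ∃ w β, (w = u ∨ w = v) ∧ β ≠ 0 ∧ I2 P (a • u + b • v) w ∧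
      Mv P φ t 0 (a • u + b • v) w β p := by
  by_cases ha : a = 0
  · have hb : b ≠ 0 := fun hb => hab ⟨ha, hb⟩
    obtain ⟨h1, h2⟩ := mv_left h (I2.swap H) (b := a) hb (mv_swap h hp)
    rw [add_comm] at h1 h2
    exact ⟨u, _, Or.inl rfl, inv_ne_zero hb, h1, h2⟩
  · obtain ⟨h1, h2⟩ := mv_left h H (b := b) ha hp
    exact ⟨v, _, Or.inr rfl, inv_ne_zero ha, h1, h2⟩

/-- Movers of orthogonal planes that meet commute. -/
theorem meet (hb : HB P φ L t) {u v u' v' : V} (H : I2 P u v) (H' : I2 P u' v')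
    (h1 : P.f u u' = 0) (h2 : P.f u v' = 0) (h3 : P.f v u' = 0) (h4 : P.f v v' = 0)
    (hn : ¬ Li4 F u v u' v') {p p' : G} (hp : Mv P φ t 0 u v 1 p) (hp' : Mv P φ t 0 u' v' 1 p') :
    Commute p p' := by
  simp only [Li4, not_forall] at hn
  obtain ⟨a, b, c, d, h0, hne⟩ := hn
  have hx : a • u + b • v = c • u' + d • v' := by
    rw [add_assoc, add_eq_zero_iff_eq_neg, vneg h] at h0
    exact h0
  have hab : ¬ (a = 0 ∧ b = 0) := fun ⟨ha, hb⟩ =>
    hne ⟨ha, hb, li2 H' (by rw [← hx, ha, hb]; simp)⟩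
  have hcd : ¬ (c = 0 ∧ d = 0) := fun ⟨hc, hd⟩ => hab (li2 H (by rw [hx, hc, hd]; simp))
  obtain ⟨w, β, hw, hβ, i1, m1⟩ := exists_mv h H hab hp
  obtain ⟨w', β', hw', hβ', i2, m2⟩ := exists_mv h H' hcd hp'
  rw [← hx] at i2 m2
  generalize a • u + b • v = x at i1 m1 i2 m2
  have hww : P.f w w' = 0 := by rcases hw with rfl | rfl <;> rcases hw' with rfl | rfl <;> assumption
  by_cases h3 : LinearIndependent F ![x, w, w']
  · exact hb.com3 x w w' ⟨i1.1, i2.1, hww, h3⟩ _ _ _ _ m1 m2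
  have h5 := mt li3_of h3
  simp only [not_forall] at h5
  obtain ⟨r, s, q, e0, hne⟩ := h5
  have hq : q ≠ 0 := fun hq => by
    have := li2 i1 (a := r) (b := s) (by rw [← e0, hq]; simp)
    exact hne ⟨this.1, this.2, hq⟩
  have hs : s ≠ 0 := fun hs => hq (li2 i2 (a := r) (b := q) (by rw [← e0, hs]; simp)).2
  have ew : w' = (q⁻¹ * s) • w + (q⁻¹ * r) • x := by
    rw [add_eq_zero_iff_eq_neg, vneg h] at e0
    rw [← smul_smul, ← smul_smul, ← smul_add, add_comm, e0, smul_smul, inv_mul_cancel₀ hq, one_smul]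
  have hqs : q⁻¹ * s ≠ 0 := mul_ne_zero (inv_ne_zero hq) hs
  have m3 : Mv P φ t 0 x w (β' * (q⁻¹ * s)) p' := by
    refine mv_congr ?_ ?_ (mul_ne_zero hβ' hqs) m2
    · rw [ew, Set.pair_comm x, Set.pair_comm x, span_left hqs]
    · rw [ew, smul_add, smul_smul, smul_smul, Es_shear h]
  have m4 := mv_sq (hb.mul x w i1 _ _ _ _ m1 m3)
  have s1 := mv_sq hp
  have s2 := mv_sq hp'
  calc p * p' = (p * p')⁻¹ := eq_inv_of_mul_eq_one_left m4
    _ = p' * p := by
      rw [mul_inv_rev, inv_eq_of_mul_eq_one_left s1, inv_eq_of_mul_eq_one_left s2]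

/-- An isometry commuting with `E x w` and fixing `w` moves `x` along `w`. -/
theorem along {g : P.E} {x w : V} (hw : w ≠ 0) (hxw : P.f x w = 0) (hg : g.1 w = w)
    (hc : Commute (φ g) (Es P φ x w)) : ∃ r : F, g.1 x - x = r • w := by
  have e : Es P φ (g.1 x) w = Es P φ x w := by
    have := conj_Es h g x w
    rw [hg, hc.eq, mul_inv_cancel_right] at this
    exact this.symm
  have hgx : P.f (g.1 x) w = 0 := by rw [← hg, ef, hxw]
  obtain ⟨z, hz⟩ := P.exists_f_left_eq hw 1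
  have e2 : (eE P (g.1 x) w 0).1 z = (eE P x w 0).1 z := (φ_inj h).1 e z
  rw [Es_apply h hgx, Es_apply h hxw, hz, one_smul, one_smul] at e2
  refine ⟨P.f z x - P.f z (g.1 x), ?_⟩
  rw [sub_smul]
  linear_combination (norm := module) e2

end SG

/-- Killing the factor in `C(L)`. -/
theorem kill [Finite G] (r2 : R2 L t) (t2 : t * t = 1) {κ p z : G} (hκ : κ ∈ C[L])
    (hc : Commute κ t) (ho : CO L t p) (hm : p * t * p⁻¹ = t * z) (hz : z ≠ 1)
    (e : κ * (p * κ * p⁻¹) = 1) : κ = 1 := by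
  obtain ⟨a, m, hm2, hn⟩ := Nat.exists_eq_two_pow_mul_odd (orderOf_pos κ).ne'
  have hodd : Odd (orderOf (κ ^ 2 ^ a)) := by
    refine Odd.of_dvd_nat hm2 (orderOf_dvd_of_pow_eq_one ?_)
    rw [← pow_mul, ← hn, pow_orderOf_eq_one]
  have c1 := ho _ (pow_mem hκ (2 ^ a)) (hc.pow_left _) hodd
  have e1 : p * κ * p⁻¹ = κ⁻¹ := eq_inv_of_mul_eq_one_right e
  have e2 : (κ ^ 2 ^ a) ^ 2 = 1 := by
    have : p * κ ^ 2 ^ a * p⁻¹ = (κ ^ 2 ^ a)⁻¹ := by rw [← conj_pow, e1, inv_pow]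
    rw [← c1.eq, mul_inv_cancel_right] at this
    rw [pow_two]
    exact mul_eq_one_iff_eq_inv.2 this
  have e3 : κ ^ 2 ^ a = 1 := by
    rw [← orderOf_eq_one_iff]
    exact Nat.Coprime.eq_one_of_dvd (Nat.coprime_two_right.2 hodd) (orderOf_dvd_of_pow_eq_one e2)
  rcases r2 κ hκ hc ⟨a, e3⟩ with h1 | h1
  · exact h1
  · rw [h1, hm, ← mul_assoc, t2, one_mul] at e
    exact absurd e hz

section Main

variable [Finite G] [FiniteDimensional F V] (c : Ctx P φ L k t) (hb : HB P φ L t)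
  {y : V → V → G} (hy : Y0 P φ t y)
include c

omit [Finite G] [FiniteDimensional F V] in
theorem t_sq : t * t = 1 := by rw [← pow_two, ← c.tc.t2, pow_orderOf_eq_one]

omit [Finite G] [FiniteDimensional F V] in
theorem t_comm {g : G} (hg : g ∈ L) : Commute g t := mem_centralizer_iff.1 c.tc.tc g hg

omit [Finite G] [FiniteDimensional F V] in
theorem S2_le_L (S : Set V) : S2 P φ S ≤ L := by
  rw [S2, closure_le]
  rintro _ ⟨v, -, a, rfl⟩
  exact ET_mem c.toSG _ _ _

include hb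

omit [FiniteDimensional F V] in
/-- The commutator of two movers of orthogonal planes lies in `S2`. -/
theorem ker (r2 : R2 L t) {u v u' v' : V} (H : I2 P u v) (H' : I2 P u' v')
    (h1 : P.f u u' = 0) (h2 : P.f u v' = 0) (h3 : P.f v u' = 0) (h4 : P.f v v' = 0)
    {p p' : G} (hp : Mv P φ t 0 u v 1 p) (hp' : Mv P φ t 0 u' v' 1 p') :
    ⁅p, p'⁆ ∈ S2 P φ {u, v, u', v'} ∧ ⁅p, p'⁆ * ⁅p, p'⁆ = 1 := by
  have h := c.toSG
  have iso : ∀ x ∈ ({u, v, u', v'} : Set V), ∀ z ∈ ({u, v, u', v'} : Set V), P.f x z = 0 := by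
    have := H.1
    have := H'.1
    rintro x (rfl | rfl | rfl | rfl) z (rfl | rfl | rfl | rfl) <;>
      first | exact fs h _ | assumption | (apply PForm.f_symm_zero; assumption)
  obtain ⟨el1, el2, el3, -, -⟩ := c.g2.el _ iso
  have Y1 : YW P φ {u, v, u', v'} ≤ YW P φ {u, v} :=
    YW_anti fun x hx => Submodule.subset_span (by rcases hx with rfl | rfl <;> simp)
  have Y2 : YW P φ {u, v, u', v'} ≤ YW P φ {u', v'} :=
    YW_anti fun x hx => Submodule.subset_span (by rcases hx with rfl | rfl <;> simp)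
  have mE : ∀ a ∈ ({u, v, u', v'} : Set V), ∀ b ∈ ({u, v, u', v'} : Set V),
      Es P φ a ((1 : F) • b) ∈ YW P φ {u, v, u', v'} := fun a ha b hb' => by
    rw [one_smul]
    exact ET_mem_YW h (fun s hs => iso s hs a ha) (fun s hs => iso s hs b hb') 0
  set E := Es P φ u ((1 : F) • v) with hE
  set E' := Es P φ u' ((1 : F) • v') with hE'
  have cE' : Commute E' p := comm_YW hp.cent (Y1 (mE u' (by simp) v' (by simp)))
  have cE : Commute E p' := comm_YW hp'.cent (Y2 (mE u (by simp) v (by simp)))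
  have cEE : Commute E E' := by
    rw [hE, hE', one_smul, one_smul]
    exact comm_orth h h1 h2 h3 h4 0 0
  have mp : p * t * p⁻¹ = t * E := hp.mv
  have mp' : p' * t * p'⁻¹ = t * E' := hp'.mv
  have a1 : p * p' * t * (p * p')⁻¹ = t * E * E' := by
    calc p * p' * t * (p * p')⁻¹ = p * (p' * t * p'⁻¹) * p⁻¹ := by group
      _ = p * t * p⁻¹ * (p * E' * p⁻¹) := by rw [mp']; group
      _ = t * E * E' := by rw [mp, ← cE'.eq, mul_inv_cancel_right]
  have a2 : p' * p * t * (p' * p)⁻¹ = t * E * E' := by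
    calc p' * p * t * (p' * p)⁻¹ = p' * (p * t * p⁻¹) * p'⁻¹ := by group
      _ = p' * t * p'⁻¹ * (p' * E * p'⁻¹) := by rw [mp]; group
      _ = t * E * E' := by
        rw [mp', ← cE.eq, mul_inv_cancel_right, mul_assoc, ← cEE.eq, mul_assoc]
  have s1 : p⁻¹ = p := inv_eq_of_mul_eq_one_left (mv_sq hp)
  have s2 : p'⁻¹ = p' := inv_eq_of_mul_eq_one_left (mv_sq hp')
  have ct : Commute ⁅p, p'⁆ t := by
    have e : ⁅p, p'⁆ = (p' * p)⁻¹ * (p * p') := by
      rw [commutatorElement_def, mul_inv_rev, s1, s2]; group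
    rw [e]
    calc (p' * p)⁻¹ * (p * p') * t = (p' * p)⁻¹ * (p * p' * t * (p * p')⁻¹) * (p * p') := by group
      _ = t * ((p' * p)⁻¹ * (p * p')) := by rw [a1, ← a2]; group
  have cN : ⁅p, p'⁆ ∈ N[L] := c.tc.cN (mem_centralizer_singleton_iff.2 ct.eq)
  have cY : ⁅p, p'⁆ ∈ C[YW P φ {u, v, u', v'}] := by
    have q1 : p ∈ C[YW P φ {u, v, u', v'}] := centralizer_le Y1 hp.cent
    have q2 : p' ∈ C[YW P φ {u, v, u', v'}] := centralizer_le Y2 hp'.cent
    exact mul_mem (mul_mem (mul_mem q1 q2) (inv_mem q1)) (inv_mem q2)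
  have hne : P.perp (Submodule.span F ({u, v, u', v'} : Set V)) ≠ ⊥ := by
    rw [Submodule.ne_bot_iff]
    exact ⟨u, PForm.mem_perp_span.2 fun s hs => iso u (by simp) s hs, I2.ne H⟩
  obtain ⟨s, hs, κ, hκ, e⟩ := c.nf.cY _ hne _ ⟨cN, cY⟩
  have sL : s ∈ L := S2_le_L c _ hs
  have cκ : Commute κ t := by
    have : κ = s⁻¹ * ⁅p, p'⁆ := by rw [e]; group
    rw [this]
    exact ((t_comm c sL).inv_left).mul_left ct
  have sκ : Commute s κ := mem_centralizer_iff.1 hκ s sL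
  have sp : Commute s p := comm_YW hp.cent (Y1 (el3 (el2 hs)))
  have inv : ⁅p, p'⁆ * (p * ⁅p, p'⁆ * p⁻¹) = 1 := by
    rw [commutatorElement_def, s1, s2]
    calc p * p' * p * p' * (p * (p * p' * p * p') * p)
        = p * p' * p * (p' * (p * p) * p') * p * p' * p := by group
      _ = p * p' * (p * (p' * p') * p) * p' * p := by rw [mv_sq hp]; group
      _ = p * (p' * (p * p) * p') * p := by rw [mv_sq hp']; group
      _ = p * (p' * p') * p := by rw [mv_sq hp]; group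
      _ = 1 := by rw [mv_sq hp', mul_one, mv_sq hp]
  have k1 : κ = 1 := by
    refine kill r2 (t_sq c) hκ cκ (hb.odd u v H 1 p hp) hp.mv
      (fun h0 => one_ne_zero ((Es_eq_one h H).1 h0)) ?_
    rw [e] at inv
    calc κ * (p * κ * p⁻¹) = κ * (s * s) * (p * κ * p⁻¹) := by rw [el1 s hs, mul_one]
      _ = (κ * s) * ((s * p) * κ * p⁻¹) := by group
      _ = 1 := by rw [← sκ.eq, sp.eq, ← inv]; group
  rw [e, k1, mul_one]
  exact ⟨hs, el1 s hs⟩

include hy

omit [Finite G] [FiniteDimensional F V] in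
/-- One row. -/
theorem row (add : ∀ u v w, I3 P u v w → y u (v + w) = y u v * y u w) {u v u' v' : V}
    (H : I2 P u v) (H' : I2 P u' v') (h1 : P.f u u' = 0) (h2 : P.f u v' = 0) (h3 : P.f v u' = 0)
    (h4 : P.f v v' = 0) (h5 : Li4 F u v u' v') {g : P.E} (hg : φ g = ⁅y u v, y u' v'⁆)
    (g1 : g.1 u' = u') (g2 : g.1 v' = v') {x : V} (x1 : P.f x u = 0) (x2 : P.f x u' = 0)
    (x3 : P.f x v' = 0) : g.1 x = x := by
  have h := c.toSG
  have key : ∀ a b : F, ∀ w, w = a • u' + b • v' → ¬ (a = 0 ∧ b = 0) →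
      ∃ r : F, g.1 x - x = r • w := by
    intro a b w hw hab
    have fw : ∀ z, P.f z u' = 0 → P.f z v' = 0 → P.f z w = 0 := fun z z1 z2 => by
      rw [hw, P.f_add_right, fr h, fr h, z1, z2]; simp
    have w0 : w ≠ 0 := fun h0 => hab (li2 H' (hw ▸ h0))
    refine along h w0 (fw x x2 x3) (by rw [hw, map_add, map_smul, map_smul, g1, g2]) ?_
    have eu : (eE P x w 0).1 u = u := eE_fix h (PForm.f_symm_zero x1) (fw u h1 h2) 0
    have eu' : (eE P x w 0).1 u' = u' :=
      eE_fix h (PForm.f_symm_zero x2) (fw u' (fs h _) H'.1) 0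
    have ev' : (eE P x w 0).1 v' = v' :=
      eE_fix h (PForm.f_symm_zero x3) (fw v' (PForm.f_symm_zero H'.1) (fs h _)) 0
    have ev : (eE P x w 0).1 v = v + P.f v x • w := by
      rw [Es_apply h (fw x x2 x3), fw v h3 h4, zero_smul, add_zero]
    have e : φ (eE P x w 0) * ⁅y u v, y u' v'⁆ * (φ (eE P x w 0))⁻¹ = ⁅y u v, y u' v'⁆ := by
      rw [conjugate_commutatorElement, hy.conj u v H, hy.conj u' v' H', eu, eu', ev', ev]
      by_cases hr : P.f v x = 0
      · rw [hr, zero_smul, add_zero]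
      generalize P.f v x = r at hr
      have f1 : P.f u (r • w) = 0 := by rw [fr h, fw u h1 h2, mul_zero]
      have i3 : I3 P u v (r • w) := by
        refine ⟨H.1, f1, by rw [fr h, fw v h3 h4, mul_zero], li3_of fun i j l h0 => ?_⟩
        obtain ⟨q1, q2, q3, q4⟩ := h5 i j (l * r * a) (l * r * b) (by
          rw [← h0, hw]; module)
        refine ⟨q1, q2, ?_⟩
        by_contra hl
        exact hab ⟨(mul_eq_zero.1 q3).resolve_left (mul_ne_zero hl hr),
          (mul_eq_zero.1 q4).resolve_left (mul_ne_zero hl hr)⟩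
      have i2 : I2 P u (r • w) := ⟨f1, LinearIndependent.pair_iff.2 fun i l h0 => by
        obtain ⟨q1, -, q3⟩ := li3 i3.2.2.2 (a := i) (b := 0) (c := l) (by rw [← h0]; simp)
        exact ⟨q1, q3⟩⟩
      have cm : Commute (y u (r • w)) (y u' v') := by
        refine meet h hb i2 H' h1 h2 ?_ ?_ (fun h6 => ?_) (hy.mv _ _ i2) (hy.mv _ _ H')
        · rw [P.f_smul_left, PForm.f_symm_zero (fw u' (fs h _) H'.1), mul_zero]
        · rw [P.f_smul_left, PForm.f_symm_zero (fw v' (PForm.f_symm_zero H'.1) (fs h _)), mul_zero]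
        · exact one_ne_zero (h6 0 1 (-(r * a)) (-(r * b)) (by rw [hw]; module)).2.1
      rw [add u v _ i3, commutatorElement_def, commutatorElement_def]
      calc y u v * y u (r • w) * y u' v' * (y u v * y u (r • w))⁻¹ * (y u' v')⁻¹
          = y u v * (y u (r • w) * y u' v') * (y u (r • w))⁻¹ * (y u v)⁻¹ * (y u' v')⁻¹ := by group
        _ = _ := by rw [cm.eq]; group
    rw [← hg, mul_inv_eq_iff_eq_mul] at e
    exact e.symm
  obtain ⟨r, hr⟩ := key 1 0 u' (by simp) (by simp)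
  obtain ⟨s, hs⟩ := key 0 1 v' (by simp) (by simp)
  have := (li2 H' (a := r) (b := -s) (by rw [← hr, neg_smul, ← hs, add_neg_cancel])).1
  rwa [this, zero_smul, sub_eq_zero] at hr

/-- The field `com` of `Y1`. -/
theorem com (r2 : R2 L t) {l0 : F}
    (swap : ∀ u v, I2 P u v → y v u = y u v * Es P φ u (l0 • v))
    (add : ∀ u v w, I3 P u v w → y u (v + w) = y u v * y u w) (u v u' v' : V)
    (H : I2 P u v) (H' : I2 P u' v') (h1 : P.f u u' = 0) (h2 : P.f u v' = 0) (h3 : P.f v u' = 0)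
    (h4 : P.f v v' = 0) : Commute (y u v) (y u' v') := by
  have h := c.toSG
  by_cases h5 : Li4 F u v u' v'
  swap
  · exact meet h hb H H' h1 h2 h3 h4 h5 (hy.mv _ _ H) (hy.mv _ _ H')
  obtain ⟨hS, hsq⟩ := ker c hb r2 H H' h1 h2 h3 h4 (hy.mv _ _ H) (hy.mv _ _ H')
  obtain ⟨g, hg⟩ := exists_φ h (S2_le_L c _ hS)
  have hfix := (c.g2.memS _ g).1 (hg ▸ hS)
  have s1 := PForm.f_symm_zero h1
  have s2 := PForm.f_symm_zero h2
  have s3 := PForm.f_symm_zero h3
  have s4 := PForm.f_symm_zero h4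
  have fx : ∀ x, P.f x u = 0 → P.f x v = 0 → P.f x u' = 0 → P.f x v' = 0 → g.1 x = x :=
    fun x a1 a2 a3 a4 => hfix x (PForm.mem_perp_span.2 (by
      rintro s (rfl | rfl | rfl | rfl) <;> assumption))
  have gu := fx u (fs h _) H.1 h1 h2
  have gv := fx v (I2.swap H).1 (fs h _) h3 h4
  have gu' := fx u' s1 s3 (fs h _) H'.1
  have gv' := fx v' s2 s4 (I2.swap H').1 (fs h _)
  have sw : ∀ a b a' b' : V, I2 P a b → I2 P a' b' → P.f a' a = 0 → P.f a' b = 0 → P.f b' a = 0 →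
      P.f b' b = 0 → ⁅y b a, y a' b'⁆ = ⁅y a b, y a' b'⁆ := by
    intro a b a' b' A B q1 q2 q3 q4
    have cm : Commute (Es P φ a (l0 • b)) (y a' b') := by
      refine comm_YW (hy.mv _ _ B).cent (ET_mem_YW h ?_ ?_ 0)
      · rintro s (rfl | rfl) <;> assumption
      · rintro s (rfl | rfl) <;> rw [fr h] <;> simp [q2, q4]
    rw [swap a b A, commutatorElement_def, commutatorElement_def]
    calc y a b * Es P φ a (l0 • b) * y a' b' * (y a b * Es P φ a (l0 • b))⁻¹ * (y a' b')⁻¹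
        = y a b * (Es P φ a (l0 • b) * y a' b') * (Es P φ a (l0 • b))⁻¹ * (y a b)⁻¹ *
          (y a' b')⁻¹ := by group
      _ = _ := by rw [cm.eq]; group
  have hg2 : φ g = ⁅y v u, y u' v'⁆ := by rw [sw u v u' v' H H' s1 s3 s2 s4, hg]
  have hg3 : φ g = ⁅y u' v', y u v⁆ := by
    rw [← commutatorElement_inv, inv_eq_of_mul_eq_one_left hsq, hg]
  have hg4 : φ g = ⁅y v' u', y u v⁆ := by rw [sw u' v' u v H' H h1 h2 h3 h4, hg3]
  have mem : ∀ (x a b d : V), (∀ z, P.f z a = 0 → P.f z b = 0 → P.f z d = 0 → g.1 z = z) →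
      ∃ i j l : F, i • a + j • b + l • d = g.1 x - x := by
    intro x a b d hz
    refine Submodule.mem_span_triple.1 (PForm.mem_of_forall_perp (P := P) fun z hz' => ?_)
    rw [PForm.mem_perp_span] at hz'
    have e := hz z (hz' a (by simp)) (hz' b (by simp)) (hz' d (by simp))
    have e2 := ef g x z
    rw [e] at e2
    rw [P.f_sub_left, e2, sub_self]
  rw [← commutatorElement_eq_one_iff_commute, ← hg, φ_eq_one h]
  intro x
  obtain ⟨a1, a2, a3, ea⟩ := mem x u u' v' fun z z1 z2 z3 =>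
    row c hb hy add H H' h1 h2 h3 h4 h5 hg gu' gv' z1 z2 z3
  obtain ⟨b1, b2, b3, eb⟩ := mem x v u' v' fun z z1 z2 z3 =>
    row c hb hy add (I2.swap H) H' h3 h4 h1 h2 h5.swap hg2 gu' gv' z1 z2 z3
  obtain ⟨c1, c2, c3, ec⟩ := mem x u' u v fun z z1 z2 z3 =>
    row c hb hy add H' H s1 s3 s2 s4 h5.symm hg3 gu gv z1 z2 z3
  obtain ⟨d1, d2, d3, ed⟩ := mem x v' u v fun z z1 z2 z3 =>
    row c hb hy add (I2.swap H') H s2 s4 s1 s3 h5.symm.swap hg4 gu gv z1 z2 z3
  have q1 := (h5 a1 (-b1) (a2 - b2) (a3 - b3) (by linear_combination (norm := module) ea - eb)).1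
  have q2 := (h5 (a1 - d2) (-d3) a2 (a3 - d1) (by linear_combination (norm := module) ea - ed)).2.2.1
  have q3 := (h5 (a1 - c2) (-c3) (a2 - c1) a3 (by linear_combination (norm := module) ea - ec)).2.2.2
  rw [q1, q2, q3] at ea
  simp only [zero_smul, add_zero] at ea
  exact sub_eq_zero.1 ea.symm

omit [Finite G] [FiniteDimensional F V] hb in
theorem mv_smul {u v : V} (H : I2 P u v) (b : F) : Mv P φ t 0 u v b (y u (b • v)) := by
  by_cases h0 : b = 0
  · subst h0
    rw [zero_smul, hy.zero]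
    exact ⟨one_mem _, by simp [Es_zero], by simp [Es_zero], fun _ => one_mem _⟩
  have i2 : I2 P u (b • v) := ⟨by rw [fr c.toSG, H.1, mul_zero],
    LinearIndependent.pair_iff.2 fun i l e => by
      obtain ⟨q1, q2⟩ := li2 H (a := i) (b := l * b) (by rw [← e, smul_smul])
      exact ⟨q1, (mul_eq_zero.1 q2).resolve_right h0⟩⟩
  refine mv_congr ?_ (by rw [one_smul]) h0 (hy.mv _ _ i2)
  have := span_left (u := v) (v := u) (b := 0) h0
  rw [zero_smul, add_zero] at this
  rw [Set.pair_comm u, Set.pair_comm u, this]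

omit [Finite G] [FiniteDimensional F V] in
theorem canon (u v : V) (H : I2 P u v) (p : G) : p ∈ BS P φ t u v ↔
    ∃ b : F, ∃ s ∈ S2 P φ {u, v}, p = y u (b • v) * s := by
  have h := c.toSG
  constructor
  · rintro ⟨b, hp⟩
    have m := mv_smul c hy H b
    refine ⟨b, _, (hb.mul u v H _ _ _ _ m hp).zero (fadd_self h b), ?_⟩
    rw [← mul_assoc, mv_sq m, one_mul]
  · rintro ⟨b, s, hs, rfl⟩
    have iso : ∀ x ∈ ({u, v} : Set V), ∀ z ∈ ({u, v} : Set V), P.f x z = 0 := by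
      rintro x (rfl | rfl) z (rfl | rfl)
      exacts [fs h _, H.1, (I2.swap H).1, fs h _]
    obtain ⟨el1, -, -, el4, -⟩ := c.g2.el _ iso
    have ms : Mv P φ t 0 u v 0 s := by
      refine ⟨el4 hs, ?_, ?_, fun _ => hs⟩
      · rw [(t_comm c (S2_le_L c _ hs)).eq, zero_smul, Es_zero]; group
      · rw [el1 s hs, zero_mul, zero_smul, Es_zero]
    exact ⟨_, hb.mul u v H _ _ _ _ (mv_smul c hy H b) ms⟩

omit [Finite G] [FiniteDimensional F V] hb in
theorem tact (u v : V) (H : I2 P u v) : t * y u v * t⁻¹ = y u v * Es P φ u v := by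
  have h := c.toSG
  have m := hy.mv u v H
  have e := m.mv
  rw [one_smul] at e
  have cm : Commute (Es P φ u v) (y u v) := by
    refine comm_YW m.cent (ET_mem_YW h ?_ ?_ 0)
    · rintro s (rfl | rfl)
      exacts [fs h _, (I2.swap H).1]
    · rintro s (rfl | rfl)
      exacts [H.1, fs h _]
  have s1 : t⁻¹ = t := inv_eq_of_mul_eq_one_left (t_sq c)
  calc t * y u v * t⁻¹ = t * (y u v * t * (y u v)⁻¹) * y u v := by rw [s1]; group
    _ = (t * t) * (Es P φ u v * y u v) := by rw [e]; group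
    _ = _ := by rw [t_sq c, one_mul, cm.eq]

/-- `Y1` from the four fields of piece H3a. -/
theorem y1_of (r2 : R2 L t) {l0 : F}
    (swap : ∀ u v, I2 P u v → y v u = y u v * Es P φ u (l0 • v))
    (shear : ∀ u v, I2 P u v → ∀ r : F, y u (v + r • u) = y u v * tv P φ u (l0 * r))
    (add : ∀ u v w, I3 P u v w → y u (v + w) = y u v * y u w)
    (adds : ∀ u v, I2 P u v → ∀ a b : F, y u ((a + b) • v) = y u (a • v) * y u (b • v)) :
    Y1 P φ L t l0 y where
  conj := hy.conj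
  zero := hy.zero
  cent u v H := (hy.mv u v H).cent
  sq u v H := mv_sq (hy.mv u v H)
  tact := tact c hy
  canon := canon c hb hy
  smul := hy.smul
  swap := swap
  shear := shear
  add := add
  adds := adds
  com := com c hb hy r2 swap add
  odd u v H := hb.odd u v H 1 _ (hy.mv u v H)

end Main

/-- The statement of piece H3a. -/
def H3aStmt : Prop := CAll.{u, v} fun {F} _ _ _ _ _ _ P φ L _ t => R2 L t → HB P φ L t →
  ∀ y, Y0 P φ t y → ∃ l0 : F,
    (∀ u v, I2 P u v → y v u = y u v * Es P φ u (l0 • v)) ∧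
    (∀ u v, I2 P u v → ∀ r : F, y u (v + r • u) = y u v * tv P φ u (l0 * r)) ∧
    (∀ u v w, I3 P u v w → y u (v + w) = y u v * y u w) ∧
    ∀ u v, I2 P u v → ∀ a b : F, y u ((a + b) • v) = y u (a • v) * y u (b • v)

/-- **H3** from **H3a**. -/
theorem h3_of (ha : H3aStmt.{u, v}) : H3Stmt.{u, v} := by
  intro F V _ _ _ _ _ G _ _ P φ L k t c r2 hb y hy
  obtain ⟨l0, h1, h2, h3, h4⟩ := ha P φ L k t c r2 hb y hy
  exact ⟨l0, y1_of c hb hy r2 h1 h2 h3 h4⟩

end Cfsg.Agent.H66.T6.H80.SpH3b
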