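import Cfsg.Agent.H71.SpH7a
import Cfsg.Agent.H66.T6Defs2

/-! SP-H7: the doubled transvections for `l0 = 0`. -/

set_option autoImplicit false

namespace Cfsg.Agent.H66.T6.H71.SpH7

open Cfsg.Agent.H71.SpH7

open Cfsg Cfsg.Agent.H63 Cfsg.Agent.H63.SL Cfsg.Agent.H26 Cfsg.Agent.H68.Sp Cfsg.Agent.H29.SpK
open Cfsg.Agent.H78 hiding tv tv_zero
open Subgroup Module
open scoped commutatorElement

universe u v

variable {F V : Type v} [Field F] [AddCommGroup V] [Module F V] {G : Type u} [Group G]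
  {P : PForm F V} {φ : P.E →* G} {L : Subgroup G} {k : ℕ} {t : G} {c0 : F} {y : V → V → G}

theorem aux1 {p q r X : G} (hq : Commute X q) (hr : Commute X r) (hX : X * X = 1) :
    p * X * q * (r * X) = p * q * r := by
  calc p * X * q * (r * X) = p * (X * (q * r)) * X := by group
    _ = p * (q * r) * (X * X) := by rw [(hq.mul_right hr).eq]; group
    _ = p * q * r := by rw [hX]; group

theorem aux2 {p q r p' q' r' : G} (h1 : Commute p' q) (h2 : Commute p' r) (h3 : Commute q' r) :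
    p * p' * (q * q') * (r * r') = p * q * r * (p' * q' * r') := by
  calc p * p' * (q * q') * (r * r') = p * (p' * q) * (q' * r) * r' := by group
    _ = p * q * (p' * r) * q' * r' := by rw [h1.eq, h3.eq]; group
    _ = _ := by rw [h2.eq]; group

theorem aux3 {p q r p' q' r' C : G} (h1 : p' * q = C * q * p') (h2 : p' * r = C * r * p')
    (h3 : q' * r = C * r * q') (hq : Commute C q) (hr : Commute C r) (hp' : Commute C p')
    (hq' : Commute C q') (hr' : Commute C r') (hC : C * C = 1) :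
    p * p' * (q * q') * (r * r') = p * q * r * (p' * q' * r') * C := by
  calc p * p' * (q * q') * (r * r') = p * (p' * q) * (q' * r) * r' := by group
    _ = p * C * q * (p' * C) * r * q' * r' := by rw [h1, h3]; group
    _ = p * (C * q) * C * (p' * r) * q' * r' := by rw [← hp'.eq]; group
    _ = p * q * (C * C) * (C * (r * p' * q' * r')) := by rw [hq.eq, h2]; group
    _ = _ := by
      rw [hC, (((hr.mul_right hp').mul_right hq').mul_right hr').eq]; group

theorem conj_of_cm {a b C : G} (H : ⁅a, b⁆ = C) : a * b * a⁻¹ = C * b := by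
  rw [← H, commutatorElement_def]; group

theorem mul_of_cm {a b C : G} (H : ⁅a, b⁆ = C) : a * b = C * b * a := by
  rw [← H, commutatorElement_def]; group

theorem conj_of_com {a b : G} (H : Commute a b) : a * b * a⁻¹ = b := by
  rw [H.eq]; group

open Classical in
variable (P φ y) in
/-- the doubled root elements of `Q_b` -/
noncomputable def Ph (b : V) (α : QA F c0) (v : V) : G := if I2 P b v then YA P φ y b v α else 1

variable (P φ y) in
/-- the cocycle -/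
noncomputable def be (b : V) (α : QA F c0) (v v' : V) : G :=
  Ph P φ y b α (v + v') * Ph P φ y b α v * Ph P φ y b α v'

theorem Ph_of {b v : V} (H : I2 P b v) (α : QA F c0) : Ph P φ y b α v = YA P φ y b v α :=
  if_pos H

theorem Ph_of_not {b v : V} (H : ¬ I2 P b v) (α : QA F c0) : Ph P φ y b α v = 1 := if_neg H

theorem hyp1_i2 {a a' b : V} (h : SG P φ L k) (H : Hyp1 P a a' b) :
    I2 P b a ∧ I2 P b a' ∧ I2 P b (a + a') := by
  obtain ⟨h1, h2, h3, h4⟩ := H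
  have s := @PForm.f_symm_zero _ _ _ _ _ P
  refine ⟨i2_of_pair h2 (s h3) (s h4) (by rw [h1]; exact one_ne_zero),
    i2_of_pair h2 (s h4) (s h3) (by rw [fc h, h1]; exact one_ne_zero),
    i2_of_pair h2 (by rw [P.f_add_right, s h3, s h4, add_zero]) (s h4) ?_⟩
  rw [P.f_add_left, h1, fs h, add_zero]; exact one_ne_zero

section

variable (h : SG P φ L k) (hy : Y1 P φ L t 0 y) (hs : Sh P φ 0 c0 y)
include h hy

theorem Ph_sq (b : V) (α : QA F c0) (v : V) : Ph P φ y b α v * Ph P φ y b α v = 1 := by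
  by_cases H : I2 P b v
  · rw [Ph_of H, A_sq h hy H]
  · rw [Ph_of_not H, one_mul]

theorem Ph_conj (b : V) (α : QA F c0) (v : V) (e : P.E) :
    φ e * Ph P φ y b α v * (φ e)⁻¹ = Ph P φ y (e.1 b) α (e.1 v) := by
  by_cases H : I2 P b v
  · rw [Ph_of H, Ph_of (I2.map H e), A_conj h hy H]
  · rw [Ph_of_not H, Ph_of_not (fun H' => H (by
      simpa only [einv_apply] using I2.map H' e⁻¹))]
    group

theorem Ph_adds (b : V) (α β : QA F c0) (v : V) :
    Ph P φ y b (α + β) v = Ph P φ y b α v * Ph P φ y b β v := by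
  by_cases H : I2 P b v
  · rw [Ph_of H, Ph_of H, Ph_of H, A_adds h hy H]
  · rw [Ph_of_not H, Ph_of_not H, Ph_of_not H, one_mul]

theorem Ph_shear (b : V) (α : QA F c0) (v : V) (r : F) :
    Ph P φ y b α (v + r • b) = Ph P φ y b α v := by
  by_cases H : I2 P b v
  · rw [Ph_of H, Ph_of (i2_sh h H r), A_shear h hy H]
  · rw [Ph_of_not H, Ph_of_not (fun H' => H (by
      have := i2_sh h H' (-r)
      rwa [add_assoc, ← add_smul, add_neg_cancel, zero_smul, add_zero] at this))]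

theorem Ph_smul (b : V) (α : QA F c0) (v : V) (c : F) :
    Ph P φ y b α (c • v) = Ph P φ y b (c • α) v := by
  by_cases hc : c = 0
  · rw [hc, zero_smul, zero_smul, Ph_of_not (by simpa using not_i2_smul (P := P) b 0)]
    by_cases H : I2 P b v
    · rw [Ph_of H, A_zero hy]
    · rw [Ph_of_not H]
  by_cases H : I2 P b v
  · rw [Ph_of H, Ph_of (i2_sm h H hc), A_smul]
  · rw [Ph_of_not H, Ph_of_not (fun H' => H (by
      have := i2_sm h H' (inv_ne_zero hc)
      rwa [smul_smul, inv_mul_cancel₀ hc, one_smul] at this))]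

theorem Ph_add {b v v' : V} (hb : b ≠ 0) (h1 : P.f b v = 0) (h2 : P.f b v' = 0)
    (h3 : P.f v v' = 0) (α : QA F c0) :
    Ph P φ y b α (v + v') = Ph P φ y b α v * Ph P φ y b α v' := by
  by_cases H : I2 P b v
  swap
  · obtain ⟨r, rfl⟩ := not_i2 hb h1 H
    rw [Ph_of_not H, one_mul, add_comm, Ph_shear h hy]
  by_cases H3 : LinearIndependent F ![b, v, v']
  · have H3' := li3_iff.1 H3
    rw [Ph_of H, Ph_of, Ph_of, A_add h hy ⟨h1, h2, h3, H3⟩]
    · exact i2_iff.2 ⟨h2, fun r s h0 => by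
        obtain ⟨a, -, c⟩ := H3' r 0 s (by simpa using h0); exact ⟨a, c⟩⟩
    · exact i2_iff.2 ⟨by rw [P.f_add_right, h1, h2, add_zero], fun r s h0 => by
        obtain ⟨a, c, -⟩ := H3' r s s (by rw [← h0]; module); exact ⟨a, c⟩⟩
  · obtain ⟨r, c, rfl⟩ : ∃ r c : F, v' = c • v + r • b := by
      rw [li3_iff] at H3
      by_contra hne
      refine H3 (fun a1 a2 a3 h0 => ?_)
      have h4 : a3 = 0 := by
        by_contra h4
        refine hne ⟨-(a3⁻¹ * a1), -(a3⁻¹ * a2), ?_⟩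
        have : v' = a3⁻¹ • (a1 • b + a2 • v + a3 • v') - a3⁻¹ • (a1 • b + a2 • v) := by
          rw [smul_add a3⁻¹ _ (a3 • v'), smul_smul, inv_mul_cancel₀ h4, one_smul]; abel
        rw [this, h0]; module
      rw [h4, zero_smul, add_zero] at h0
      obtain ⟨e1, e2⟩ := (i2_iff.1 H).2 _ _ h0
      exact ⟨e1, e2, h4⟩
    rw [← add_assoc, Ph_shear h hy, Ph_shear h hy,
      show v + c • v = (1 + c) • v by rw [add_smul, one_smul], Ph_smul h hy, Ph_smul h hy,
      add_smul, one_smul, Ph_adds h hy]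

theorem Ph_tact (ht : t ∈ C[L]) (b : V) (α : QA F c0) (v : V) :
    t * Ph P φ y b α v * t⁻¹ = Ph P φ y b (star α) v := by
  by_cases H : I2 P b v
  · rw [Ph_of H, Ph_of H, A_tact h hy ht H]
  · rw [Ph_of_not H, Ph_of_not H]; group

theorem Ph_smul' (b : V) (α : QA F c0) (v : V) {c : F} (hc : c ≠ 0) :
    Ph P φ y (c • b) α v = Ph P φ y b (c • α) v := by
  by_cases H : I2 P b v
  · rw [Ph_of H, Ph_of (I2.symm' (i2_sm h (I2.symm' H) hc)), A_smul' h hy H hc]
  · rw [Ph_of_not H, Ph_of_not (fun H' => H (by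
      have := i2_sm h (I2.symm' H') (inv_ne_zero hc)
      rw [smul_smul, inv_mul_cancel₀ hc, one_smul] at this
      exact I2.symm' this))]

include hs

theorem Ph_com (b : V) (α β : QA F c0) (v v' : V) :
    Commute (Ph P φ y b α v) (Ph P φ y b β v') := by
  by_cases H : I2 P b v
  swap
  · rw [Ph_of_not H]; exact Commute.one_left _
  by_cases H' : I2 P b v'
  swap
  · rw [Ph_of_not H']; exact Commute.one_right _
  have s := @PForm.f_symm_zero _ _ _ _ _ P
  rw [Ph_of H, Ph_of H']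
  by_cases h0 : P.f v v' = 0
  · exact A_com h hy H H' (fs h b) H'.1 (s H.1) h0 _ _
  · have e : v' = P.f v v' • ((P.f v v')⁻¹ • v') := by
      rw [smul_smul, mul_inv_cancel₀ h0, one_smul]
    have H'' := i2_sm h H' (inv_ne_zero h0)
    rw [e, A_smul, A_symm h hy H, A_symm h hy H'', ← commutatorElement_eq_one_iff_commute,
      hs.ss _ _ _ ⟨by rw [fr h, inv_mul_cancel₀ h0], I2.ne H, s H.1, s H''.1⟩, zero_mul, tv_zero]

theorem be_symm (b : V) (α : QA F c0) (v v' : V) : be P φ y b α v v' = be P φ y b α v' v := by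
  rw [be, be, add_comm, mul_assoc, (Ph_com h hy hs b α α v v').eq, mul_assoc]

theorem be_add {b v v' x : V} (hb : b ≠ 0) (h1 : P.f b v = 0) (h2 : P.f b v' = 0)
    (h3 : P.f b x = 0) (h4 : P.f v x = 0) (h5 : P.f v' x = 0) (α : QA F c0) :
    be P φ y b α v (v' + x) = be P φ y b α v v' := by
  rw [be, be, ← add_assoc, Ph_add h hy hb (by rw [P.f_add_right, h1, h2, add_zero]) h3
    (by rw [P.f_add_left, h4, h5, add_zero]), Ph_add h hy hb h2 h3 h5]
  exact aux1 (Ph_com h hy hs _ _ _ _ _) (Ph_com h hy hs _ _ _ _ _) (Ph_sq h hy _ _ _)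

theorem be_A {b v v' w w' : V} (H : Hyp1 P v v' b) (H' : Hyp1 P w w' b) (h1 : P.f v w = 0)
    (h2 : P.f v w' = 0) (h3 : P.f v' w = 0) (h4 : P.f v' w' = 0) (α : QA F c0) :
    be P φ y b α v v' = be P φ y b α w w' := by
  have s := @PForm.f_symm_zero _ _ _ _ _ P
  obtain ⟨a1, hb, a2, a3⟩ := H
  obtain ⟨b1, -, b2, b3⟩ := H'
  have c1 : P.f b (v' + w') = 0 := by rw [P.f_add_right, s a3, s b3, add_zero]
  rw [← be_add h hy hs hb (s a2) (s a3) (s b3) h2 h4, be_symm h hy hs,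
    ← be_add h hy hs (x := v + w) hb c1 (s a2) (by rw [P.f_add_right, s a2, s b2, add_zero])
      (by rw [P.f_add_left, P.f_add_right, P.f_add_right, fc h v' v, a1, h3, s h2, fc h w' w, b1,
        add_zero, zero_add, fadd_self h]) (by rw [P.f_add_right, fs h, h1, add_zero]),
    ← add_assoc, vadd_self h, zero_add, be_symm h hy hs, add_comm v',
    be_add h hy hs hb (s b2) (s b3) (s a3) (s h3) (s h4)]

variable (g1 : G1 P k) (k3 : 3 ≤ k)
include g1 k3

theorem be_B {b v v' w w' : V} (H : Hyp1 P v v' b) (H' : Hyp1 P w w' b)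
    (hw : ∀ x, P.f v x = 0 → P.f v' x = 0 → P.f w x = 0 ∧ P.f w' x = 0) (α : QA F c0) :
    be P φ y b α v v' = be P φ y b α w w' := by
  have s := @PForm.f_symm_zero _ _ _ _ _ P
  obtain ⟨z, z', e1, e2, e3, e4, e5, e6, e7⟩ := ex_orth h g1 k3 H
  have Hz : Hyp1 P z z' b := ⟨e1, H.2.1, s e6, s e7⟩
  rw [be_A h hy hs H Hz e2 e3 e4 e5,
    be_A h hy hs H' Hz (hw _ e2 e4).1 (hw _ e3 e5).1 (hw _ e2 e4).2 (hw _ e3 e5).2]

theorem be_C {b v v' v'' : V} (H : Hyp1 P v v' b) (H' : Hyp1 P v v'' b) (α : QA F c0) :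
    be P φ y b α v v' = be P φ y b α v v'' := by
  have s := @PForm.f_symm_zero _ _ _ _ _ P
  obtain ⟨a1, hb, a2, a3⟩ := id H
  obtain ⟨b1, -, -, b3⟩ := id H'
  set c := P.f v' v'' with hc
  have e : v'' = (v' + c • v) + (v'' + v' + c • v) := by
    have h1 := vadd_self h v'
    have h2 := vadd_self h (c • v)
    rw [show v' + c • v + (v'' + v' + c • v) = v'' + (v' + v') + (c • v + c • v) by abel, h1, h2,
      add_zero, add_zero]
  have H1 : Hyp1 P v (v' + c • v) b := ⟨by rw [P.f_add_right, fr h, fs h, a1, mul_zero, add_zero],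
    hb, a2, by rw [P.f_add_left, P.f_smul_left, a2, a3, mul_zero, add_zero]⟩
  have d1 : P.f v (v'' + v' + c • v) = 0 := by
    rw [P.f_add_right, P.f_add_right, fr h, fs h, a1, b1, fadd_self h, mul_zero, add_zero]
  rw [e, be_add h hy hs hb (s a2) (s H1.2.2.2) ?_ d1 ?_]
  · exact be_B h hy hs g1 k3 H H1 (fun x x1 x2 => ⟨x1, by
      rw [P.f_add_left, P.f_smul_left, x1, x2, mul_zero, add_zero]⟩) α
  · rw [P.f_add_right, P.f_add_right, fr h, s a2, s a3, s b3, mul_zero, add_zero, add_zero]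
  · rw [P.f_add_left, P.f_smul_left, d1, mul_zero, add_zero, P.f_add_right, P.f_add_right, fr h,
      fs h, fc h v' v, a1, mul_one, add_zero, fadd_self h]

theorem hyp1_symm' {b v v' : V} (H : Hyp1 P v v' b) : Hyp1 P v' v b :=
  ⟨by rw [fc h, H.1], H.2.1, H.2.2.2, H.2.2.1⟩

theorem be_D {b v v' w w' : V} (H : Hyp1 P v v' b) (H' : Hyp1 P w w' b) (h0 : P.f v w ≠ 0)
    (α : QA F c0) : be P φ y b α v v' = be P φ y b α w w' := by
  obtain ⟨a1, hb, a2, a3⟩ := id H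
  obtain ⟨b1, -, b2, b3⟩ := id H'
  set c := P.f v w with hc
  have H1 : Hyp1 P v (c⁻¹ • w) b := ⟨by rw [fr h, inv_mul_cancel₀ h0], hb, a2,
    by rw [P.f_smul_left, b2, mul_zero]⟩
  have H2 : Hyp1 P (c⁻¹ • w) (c • w') b := ⟨by
    rw [fr h, P.f_smul_left, b1, mul_one, mul_inv_cancel₀ h0], hb, H1.2.2.2,
    by rw [P.f_smul_left, b3, mul_zero]⟩
  rw [be_C h hy hs g1 k3 H H1, be_symm h hy hs,
    be_C h hy hs g1 k3 (hyp1_symm' h hy hs g1 k3 H1) H2,
    ← be_B h hy hs g1 k3 H' H2 (fun x x1 x2 => ⟨by rw [P.f_smul_left, x1, mul_zero],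
      by rw [P.f_smul_left, x2, mul_zero]⟩)]

theorem be_indep {b v v' w w' : V} (H : Hyp1 P v v' b) (H' : Hyp1 P w w' b) (α : QA F c0) :
    be P φ y b α v v' = be P φ y b α w w' := by
  have K := hyp1_symm' h hy hs g1 k3 H
  have K' := hyp1_symm' h hy hs g1 k3 H'
  by_cases h1 : P.f v w = 0
  swap
  · exact be_D h hy hs g1 k3 H H' h1 α
  by_cases h2 : P.f v w' = 0
  swap
  · rw [be_D h hy hs g1 k3 H K' h2, be_symm h hy hs]
  by_cases h3 : P.f v' w = 0
  swap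
  · rw [be_symm h hy hs, be_D h hy hs g1 k3 K H' h3]
  by_cases h4 : P.f v' w' = 0
  swap
  · rw [be_symm h hy hs, be_D h hy hs g1 k3 K K' h4, be_symm h hy hs]
  exact be_A h hy hs H H' h1 h2 h3 h4 α

end

theorem sq_surj [Finite F] (h : SG P φ L k) (γ : QA F c0) : ∃ α : QA F c0, α * α = γ := by
  have hF : Function.Surjective (fun x : F => x * x) := by
    rw [← Finite.injective_iff_surjective]
    intro a b hab
    have h1 : (a + b) * (a + b) = 0 := by
      have h2 := h.two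
      have hab' : a * a = b * b := hab
      linear_combination hab' + (a * b + b * b) * h2
    rw [mul_self_eq_zero, add_eq_zero_iff_eq_neg, fneg h] at h1
    exact h1
  obtain ⟨s, hs⟩ := hF γ.im
  obtain ⟨r, hr⟩ := hF (γ.re + c0 * γ.im)
  have h2 := h.two
  have hs' : s * s = γ.im := hs
  have hr' : r * r = γ.re + c0 * γ.im := hr
  refine ⟨⟨r, s⟩, ?_⟩
  ext
  · simp only [QuadraticAlgebra.re_mul]
    linear_combination hr' + c0 * hs' + c0 * γ.im * h2
  · simp only [QuadraticAlgebra.im_mul]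
    linear_combination hs' + r * s * h2

theorem sq_inj (h : SG P φ L k) {α β : QA F c0} (H : α * α = β * β) : α = β := by
  have h2 := h.two
  have hF : ∀ a b : F, a * a = b * b → a = b := by
    intro a b hab
    have h1 : (a + b) * (a + b) = 0 := by linear_combination hab + (a * b + b * b) * h2
    rw [mul_self_eq_zero, add_eq_zero_iff_eq_neg, fneg h] at h1
    exact h1
  have e1 := congrArg QuadraticAlgebra.re H
  have e2 := congrArg QuadraticAlgebra.im H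
  simp only [QuadraticAlgebra.re_mul, QuadraticAlgebra.im_mul] at e1 e2
  have i1 : α.im = β.im := hF _ _ (by
    linear_combination e2 - (α.re * α.im - β.re * β.im) * h2)
  rw [i1] at e1
  ext
  · exact hF _ _ (by linear_combination e1)
  · exact i1

open Classical in
variable (P φ y) in
/-- the doubled transvections -/
noncomputable def ZZ (b : V) (γ : QA F c0) : G :=
  if H : ∃ x : V × V × QA F c0, Hyp1 P x.1 x.2.1 b ∧ x.2.2 * x.2.2 = γ then
    be P φ y b H.choose.2.2 H.choose.1 H.choose.2.1 else 1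

section

variable (h : SG P φ L k) (hy : Y1 P φ L t 0 y) (hs : Sh P φ 0 c0 y) (g1 : G1 P k) (k3 : 3 ≤ k)
include h hy hs g1 k3

theorem ZZ_eq {a a' b : V} (H : Hyp1 P a a' b) (α : QA F c0) :
    ZZ P φ y b (α * α) = be P φ y b α a a' := by
  have hex : ∃ x : V × V × QA F c0, Hyp1 P x.1 x.2.1 b ∧ x.2.2 * x.2.2 = α * α :=
    ⟨(a, a', α), H, rfl⟩
  rw [ZZ, dif_pos hex, sq_inj h hex.choose_spec.2]
  exact be_indep h hy hs g1 k3 hex.choose_spec.1 H α

omit g1 k3 in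
theorem be_com (b : V) (α β : QA F c0) (a a' v : V) :
    Commute (be P φ y b α a a') (Ph P φ y b β v) :=
  ((Ph_com h hy hs _ _ _ _ _).mul_left (Ph_com h hy hs _ _ _ _ _)).mul_left
    (Ph_com h hy hs _ _ _ _ _)

omit g1 k3 in
theorem sp' {a a' b e : V} (H : Hyp P a a' b e) (α β : QA F c0) :
    ⁅YA P φ y a b α, YA P φ y a' e β⁆ = YA P φ y b e (α * β) := by
  rw [hs.sp _ _ _ _ H, sg_zero]

theorem comA [Finite F] {b u v : V} (hb : b ≠ 0) (H : I2 P u v) (h1 : P.f u b = 0)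
    (h2 : P.f v b = 0) (γ δ : QA F c0) : Commute (ZZ P φ y b γ) (YA P φ y u v δ) := by
  have s := @PForm.f_symm_zero _ _ _ _ _ P
  obtain ⟨α, rfl⟩ := sq_surj h γ
  by_cases H3 : LinearIndependent F ![b, u, v]
  · have H3' := li3_iff.1 H3
    obtain ⟨a', e1, e2, e3⟩ := ex_dual h g1 k3 ⟨s h1, s h2, H.1, H3⟩
    have K : Hyp1 P a' u b := ⟨e1, hb, e2, h1⟩
    obtain ⟨i1, i2, i3⟩ := hyp1_i2 h K
    have hbv : I2 P b v := i2_iff.2 ⟨s h2, fun r q h0 => by
      obtain ⟨x, -, z⟩ := H3' r 0 q (by simpa using h0); exact ⟨x, z⟩⟩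
    have c1 := conj_of_cm (sp' h hy hs (a := a') (a' := u) ⟨e1, hbv, e2, h1, e3, H.1⟩ α δ)
    have c2 := conj_of_cm (sp' h hy hs (a := a' + u) (a' := u)
      ⟨by rw [P.f_add_left, e1, fs h, add_zero], hbv, s i3.1, h1,
        by rw [P.f_add_left, e3, H.1, add_zero], H.1⟩ α δ)
    have c3 := conj_of_com (A_com h hy i2 H (s h1) (s h2) (fs h u) H.1 α δ)
    rw [← A_symm h hy i1, ← Ph_of i1, ← Ph_of hbv] at c1
    rw [← A_symm h hy i3, ← Ph_of i3, ← Ph_of hbv] at c2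
    rw [← Ph_of i2] at c3
    have c4 := conj_of_com (Ph_com h hy hs b α (α * δ) (a' + u) v)
    rw [ZZ_eq h hy hs g1 k3 K, be]
    refine mul_inv_eq_iff_eq_mul.1 ?_
    set p := Ph P φ y b α (a' + u)
    set q := Ph P φ y b α a'
    set r := Ph P φ y b α u
    set C := Ph P φ y b (α * δ) v with hC
    set Y := YA P φ y u v δ
    calc p * q * r * Y * (p * q * r)⁻¹ = p * (q * (r * Y * r⁻¹) * q⁻¹) * p⁻¹ := by group
      _ = (p * C * p⁻¹) * (p * Y * p⁻¹) := by rw [c3, c1]; group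
      _ = Y := by rw [c4, c2, ← mul_assoc, hC, Ph_sq h hy, one_mul]
  · obtain ⟨a, a', K⟩ := ex_hyp1 h g1 k3 hb
    rw [ZZ_eq h hy hs g1 k3 K]
    rw [li3_iff] at H3
    obtain ⟨a1, a2, a3, h0, h4⟩ : ∃ a1 a2 a3 : F, a1 • b + a2 • u + a3 • v = 0 ∧ a1 ≠ 0 := by
      by_contra hne
      refine H3 (fun a1 a2 a3 h0 => ?_)
      have h4 : a1 = 0 := by
        by_contra h4
        exact hne ⟨a1, a2, a3, h0, h4⟩
      rw [h4, zero_smul, zero_add] at h0
      obtain ⟨e1, e2⟩ := (i2_iff.1 H).2 _ _ h0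
      exact ⟨h4, e1, e2⟩
    have key : ∀ (u v : V) (a2 a3 : F), I2 P u v → a1 • b + a2 • u + a3 • v = 0 → a3 ≠ 0 →
        Commute (be P φ y b α a a') (YA P φ y u v δ) := by
      intro u v a2 a3 H h0 h5
      have e : (-(a3⁻¹ * a1)) • b = v + (a3⁻¹ * a2) • u := by
        have : v = a3⁻¹ • (a1 • b + a2 • u + a3 • v) - a3⁻¹ • (a1 • b + a2 • u) := by
          rw [smul_add a3⁻¹ _ (a3 • v), smul_smul, inv_mul_cancel₀ h5, one_smul]; abel
        rw [this, h0]; module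
      have hc : -(a3⁻¹ * a1) ≠ 0 := neg_ne_zero.2 (mul_ne_zero (inv_ne_zero h5) h4)
      have H1 := i2_sh h H (a3⁻¹ * a2)
      rw [← e] at H1
      have H2 := i2_sm h H1 (inv_ne_zero hc)
      rw [smul_smul, inv_mul_cancel₀ hc, one_smul] at H2
      rw [← A_shear h hy H (a3⁻¹ * a2), ← e, A_smul, A_symm h hy H2, ← Ph_of (I2.symm' H2)]
      exact be_com h hy hs _ _ _ _ _ _
    by_cases h5 : a3 = 0
    · rw [A_symm h hy H]
      refine key v u a3 a2 (I2.symm' H) (by rw [← h0]; abel) (fun h6 => ?_)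
      rw [h5, h6, zero_smul, zero_smul, add_zero, add_zero] at h0
      exact hb ((smul_eq_zero.1 h0).resolve_left h4)
    · exact key u v a2 a3 H h0 h5

theorem ZZ_conj [Finite F] {b : V} (hb : b ≠ 0) (γ : QA F c0) (e : P.E) :
    φ e * ZZ P φ y b γ * (φ e)⁻¹ = ZZ P φ y (e.1 b) γ := by
  obtain ⟨α, rfl⟩ := sq_surj h γ
  obtain ⟨a, a', K⟩ := ex_hyp1 h g1 k3 hb
  have K' : Hyp1 P (e.1 a) (e.1 a') (e.1 b) := ⟨by rw [ef, K.1],
    fun h0 => hb (e.1.injective (by rw [h0, map_zero])), by rw [ef, K.2.2.1], by rw [ef, K.2.2.2]⟩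
  rw [ZZ_eq h hy hs g1 k3 K, ZZ_eq h hy hs g1 k3 K', be, be, ← map_add, ← Ph_conj h hy,
    ← Ph_conj h hy, ← Ph_conj h hy]
  group

theorem addS [Finite F] {b b' : V} (H : I2 P b b') (γ : QA F c0) :
    ZZ P φ y (b + b') γ = ZZ P φ y b γ * ZZ P φ y b' γ * YA P φ y b b' γ := by
  have s := @PForm.f_symm_zero _ _ _ _ _ P
  obtain ⟨α, rfl⟩ := sq_surj h γ
  obtain ⟨a, a', e1, -, e2, e3, e4, e5⟩ := ex_hyp h g1 k3 H
  have Hbb : I2 P b' (b + b') := by
    have := i2_sh h (I2.symm' H) 1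
    rwa [one_smul] at this
  have K1 : Hyp1 P a a' b := ⟨e1, I2.ne H, e2, e3⟩
  have K2 : Hyp1 P a a' b' := ⟨e1, I2.ne (I2.symm' H), e4, e5⟩
  have K3 : Hyp1 P a a' (b + b') := ⟨e1, I2.ne (I2.symm' Hbb),
    by rw [P.f_add_right, e2, e4, add_zero], by rw [P.f_add_right, e3, e5, add_zero]⟩
  have sp1 : ∀ x z : V, P.f x b = 0 → P.f x b' = 0 → P.f b z = 0 → P.f b' z = 0 → P.f x z = 1 →
      I2 P b x ∧ I2 P b' x ∧
        Ph P φ y (b + b') α x = Ph P φ y b α x * Ph P φ y b' α x := by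
    intro x z x1 x2 z1 z2 xz
    have j1 : I2 P b x := i2_of_pair K1.2.1 (s x1) z1 (by rw [xz]; exact one_ne_zero)
    have j2 : I2 P b' x := i2_of_pair K2.2.1 (s x2) z2 (by rw [xz]; exact one_ne_zero)
    have j3 : I2 P (b + b') x := i2_of_pair K3.2.1 (by rw [P.f_add_left, s x1, s x2, add_zero])
      (by rw [P.f_add_left, z1, z2, add_zero]) (by rw [xz]; exact one_ne_zero)
    refine ⟨j1, j2, ?_⟩
    rw [Ph_of j1, Ph_of j2, Ph_of j3, A_symm h hy j1, A_symm h hy j2, A_symm h hy j3]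
    refine A_add h hy ⟨x1, x2, H.1, li3_iff.2 fun r q c h0 => ?_⟩ α
    have := congrArg (fun w => P.f w z) h0
    simp only [P.f_add_left, P.f_smul_left, xz, z1, z2, mul_zero, add_zero, mul_one,
      P.f_zero_left] at this
    rw [this, zero_smul, zero_add] at h0
    exact ⟨this, (i2_iff.1 H).2 _ _ h0⟩
  have f1 : P.f (a + a') b = 0 := by rw [P.f_add_left, e2, e3, add_zero]
  have f2 : P.f (a + a') b' = 0 := by rw [P.f_add_left, e4, e5, add_zero]
  have f3 : P.f (a + a') a = 1 := by rw [P.f_add_left, fs h, fc h, e1, zero_add]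
  have f4 : P.f (a + a') a' = 1 := by rw [P.f_add_left, fs h, e1, add_zero]
  obtain ⟨p1, p2, p3⟩ := sp1 (a + a') a' f1 f2 (s e3) (s e5) f4
  obtain ⟨q1, q2, q3⟩ := sp1 a a' e2 e4 (s e3) (s e5) e1
  obtain ⟨r1, r2, r3⟩ := sp1 a' a e3 e5 (s e2) (s e4) (by rw [fc h, e1])
  have sp2 : ∀ x z : V, I2 P b' x → I2 P b z → P.f x b = 0 → P.f z b' = 0 → P.f x z = 1 →
      Ph P φ y b' α x * Ph P φ y b α z =
        Ph P φ y b (α * α) b' * Ph P φ y b α z * Ph P φ y b' α x := by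
    intro x z j1 j2 x1 z1 xz
    rw [Ph_of j1, Ph_of j2, Ph_of H, A_symm h hy j1, A_symm h hy j2, A_symm h hy H]
    exact mul_of_cm (sp' h hy hs ⟨xz, I2.symm' H, s j1.1, z1, x1, s j2.1⟩ α α)
  have cm : ∀ x, Commute (Ph P φ y b (α * α) b') (Ph P φ y b' α x) := fun x => by
    rw [Ph_of H, A_symm h hy H, ← Ph_of (I2.symm' H)]
    exact Ph_com h hy hs _ _ _ _ _
  rw [ZZ_eq h hy hs g1 k3 K1, ZZ_eq h hy hs g1 k3 K2, ZZ_eq h hy hs g1 k3 K3, be, be, be, p3, q3,
    r3, ← Ph_of H]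
  exact aux3 (sp2 _ _ p2 q1 f1 e4 f3) (sp2 _ _ p2 r1 f1 e5 f4) (sp2 _ _ q2 r1 e2 e5 e1)
    (Ph_com h hy hs _ _ _ _ _) (Ph_com h hy hs _ _ _ _ _) (cm _) (cm _) (cm _) (Ph_sq h hy _ _ _)

theorem act [Finite F] {a a' b : V} (H : Hyp1 P a a' b) (γ α : QA F c0) :
    ZZ P φ y a' γ * YA P φ y a b α * (ZZ P φ y a' γ)⁻¹ =
      YA P φ y a b α * YA P φ y a' b (γ * α) * ZZ P φ y b (γ * (α * α)) := by
  have s := @PForm.f_symm_zero _ _ _ _ _ P
  obtain ⟨δ, rfl⟩ := sq_surj h γ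
  obtain ⟨w, w', e1, e2, e3, e4, e5, e6, e7⟩ := ex_orth h g1 k3 H
  obtain ⟨i1, i2, -⟩ := hyp1_i2 h H
  obtain ⟨a1, hb, a2, a3⟩ := id H
  have K1 : Hyp1 P w w' a' := ⟨e1, I2.ne (I2.symm' i2), s e4, s e5⟩
  have K2 : Hyp1 P w w' b := ⟨e1, hb, s e6, s e7⟩
  obtain ⟨j1, j2, j3⟩ := hyp1_i2 h K1
  obtain ⟨l1, l2, l3⟩ := hyp1_i2 h K2
  have cY : ∀ x, I2 P a' x → I2 P b x → P.f a x = 0 →
      Ph P φ y a' δ x * Ph P φ y b α a * (Ph P φ y a' δ x)⁻¹ =
        Ph P φ y b (δ * α) x * Ph P φ y b α a := by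
    intro x x1 x2 x3
    rw [Ph_of x1, Ph_of x2, Ph_of i1, A_symm h hy i1, A_symm h hy x2]
    exact conj_of_cm (sp' h hy hs ⟨by rw [fc h, a1], I2.symm' x2, x1.1, x3, a3, a2⟩ δ α)
  have cS : ∀ x z, I2 P a' x → I2 P b z → P.f x b = 0 → P.f z a' = 0 → P.f x z = 1 →
      Ph P φ y a' δ x * Ph P φ y b (δ * α) z * (Ph P φ y a' δ x)⁻¹ =
        Ph P φ y b (δ * (δ * α)) a' * Ph P φ y b (δ * α) z := by
    intro x z x1 z1 x2 z2 xz
    rw [Ph_of x1, Ph_of z1, Ph_of i2, A_symm h hy x1, A_symm h hy z1, A_symm h hy i2]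
    exact conj_of_cm (sp' h hy hs ⟨xz, I2.symm' i2, s x1.1, z2, x2, s z1.1⟩ δ (δ * α))
  have cC : ∀ x, Ph P φ y a' δ x * Ph P φ y b (δ * (δ * α)) a' * (Ph P φ y a' δ x)⁻¹ =
      Ph P φ y b (δ * (δ * α)) a' := fun x => by
    rw [Ph_of i2, A_symm h hy i2, ← Ph_of (I2.symm' i2)]
    exact conj_of_com (Ph_com h hy hs _ _ _ _ _)
  have y1 := cY _ j3 l3 (by rw [P.f_add_right, e2, e3, add_zero])
  have y2 := cY _ j1 l1 e2
  have y3 := cY _ j2 l2 e3
  have s23 := cS _ _ j1 l2 (s e6) (s e5) e1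
  have s13 := cS _ _ j3 l2 (s l3.1) (s e5) (by rw [P.f_add_left, e1, fs h, add_zero])
  have s12 := cS _ _ j3 l1 (s l3.1) (s e4) (by rw [P.f_add_left, fs h, fc h, e1, zero_add])
  have c1 := cC (w + w')
  rw [show δ * δ * (α * α) = (δ * α) * (δ * α) by ring, ZZ_eq h hy hs g1 k3 K1,
    ZZ_eq h hy hs g1 k3 K2, be, be, ← A_symm h hy i1, ← A_symm h hy i2, ← Ph_of i1, ← Ph_of i2,
    mul_assoc δ δ α]
  have hc := Ph_com h hy hs b
  have hC := Ph_sq h hy b (δ * (δ * α)) a'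
  set R1 := Ph P φ y a' δ (w + w')
  set R2 := Ph P φ y a' δ w
  set R3 := Ph P φ y a' δ w'
  have m1 := hc (δ * (δ * α)) (δ * α) a' w'
  have m2 := hc α (δ * (δ * α)) a a'
  have m3 := hc α (δ * α) a (w + w')
  have m4 := hc α (δ * α) a w
  have m5 := hc α (δ * α) a w'
  have m6 := hc (δ * α) (δ * α) w w'
  have m7 := hc (δ * α) (δ * α) (w + w') w
  have m8 := hc (δ * α) (δ * α) (w + w') w'
  set S1 := Ph P φ y b (δ * α) (w + w')
  set S2 := Ph P φ y b (δ * α) w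
  set S3 := Ph P φ y b (δ * α) w'
  set C := Ph P φ y b (δ * (δ * α)) a'
  set Y := Ph P φ y b α a
  calc R1 * R2 * R3 * Y * (R1 * R2 * R3)⁻¹ = R1 * (R2 * (R3 * Y * R3⁻¹) * R2⁻¹) * R1⁻¹ := by group
    _ = R1 * ((R2 * S3 * R2⁻¹) * (R2 * Y * R2⁻¹)) * R1⁻¹ := by rw [y3]; group
    _ = (R1 * C * R1⁻¹) * (R1 * S3 * R1⁻¹) * (R1 * S2 * R1⁻¹) * (R1 * Y * R1⁻¹) := by
      rw [s23, y2]; group
    _ = (C * C) * (S3 * C) * S2 * S1 * Y := by rw [c1, s13, s12, y1]; group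
    _ = C * (S3 * S2) * S1 * Y := by rw [hC, ← m1.eq]; group
    _ = C * ((S2 * S3) * S1) * Y := by rw [← m6.eq]; group
    _ = (C * (S1 * S2 * S3)) * Y := by rw [← (m7.mul_right m8).eq]; group
    _ = _ := by rw [← (m2.mul_right ((m3.mul_right m4).mul_right m5)).eq]; group

theorem shS [Finite F] (ht : t ∈ C[L]) : ShS P φ t c0 y (ZZ P φ y) where
  conj b hb γ e := ZZ_conj h hy hs g1 k3 hb γ e
  tact b hb γ := by
    obtain ⟨α, rfl⟩ := sq_surj h γ
    obtain ⟨a, a', K⟩ := ex_hyp1 h g1 k3 hb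
    rw [star_mul, ZZ_eq h hy hs g1 k3 K, ZZ_eq h hy hs g1 k3 K, be, be, ← Ph_tact h hy ht,
      ← Ph_tact h hy ht, ← Ph_tact h hy ht]
    group
  res b hb c := by
    obtain ⟨α, hα⟩ := sq_surj h (⟨c, 0⟩ : QA F c0)
    obtain ⟨a, a', K⟩ := ex_hyp1 h g1 k3 hb
    obtain ⟨i1, i2, i3⟩ := hyp1_i2 h K
    have e1 := congrArg QuadraticAlgebra.re hα
    have e2 := congrArg QuadraticAlgebra.im hα
    simp only [QuadraticAlgebra.re_mul, QuadraticAlgebra.im_mul] at e1 e2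
    have e3 : α.im = 0 := by
      have h2 := h.two
      exact mul_self_eq_zero.1 (by linear_combination e2 - α.re * α.im * h2)
    rw [e3, mul_zero, add_zero] at e1
    have j1 : P.f b (α.re • a) = 0 := by rw [fr h, i1.1, mul_zero]
    have j2 : P.f b (α.re • a') = 0 := by rw [fr h, i2.1, mul_zero]
    rw [← hα, ZZ_eq h hy hs g1 k3 K, be, Ph_of i1, Ph_of i2, Ph_of i3, YA, YA, YA, e3, zero_smul,
      zero_smul, zero_smul, hy.zero, mul_one, mul_one, mul_one, smul_add, Es_add h j1 j2, fr h,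
      P.f_smul_left, K.1, mul_one, e1]
    have m1 := comm_same h b 0 (α.re • a) c 0
    have m2 := comm_same h b 0 (α.re • a') c 0
    have m3 := comm_same h b (α.re • a) (α.re • a') 0 0
    have s1 := Es_sq h b (α.re • a)
    have s2 := Es_sq h b (α.re • a')
    change Commute (tv P φ b c) (Es P φ b _) at m1 m2
    change Commute (Es P φ b _) (Es P φ b _) at m3
    set p := Es P φ b (α.re • a)
    set q := Es P φ b (α.re • a')
    set T := tv P φ b c
    calc p * q * T * p * q = p * (q * T) * p * q := by group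
      _ = (p * T) * (q * p) * q := by rw [← m2.eq]; group
      _ = T * (p * p) * (q * q) := by rw [← m1.eq, ← m3.eq]; group
      _ = T := by rw [s1, s2]; group
  add b hb γ γ' := by
    obtain ⟨α, rfl⟩ := sq_surj h γ
    obtain ⟨β, rfl⟩ := sq_surj h γ'
    obtain ⟨a, a', K⟩ := ex_hyp1 h g1 k3 hb
    have e : α * α + β * β = (α + β) * (α + β) := by
      have := qa_add_self h (α * β)
      linear_combination (-1 : QA F c0) * this
    rw [e, ZZ_eq h hy hs g1 k3 K, ZZ_eq h hy hs g1 k3 K, ZZ_eq h hy hs g1 k3 K, be, be, be,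
      Ph_adds h hy, Ph_adds h hy, Ph_adds h hy]
    exact aux2 (Ph_com h hy hs _ _ _ _ _) (Ph_com h hy hs _ _ _ _ _) (Ph_com h hy hs _ _ _ _ _)
  smul b hb c hc γ := by
    obtain ⟨α, rfl⟩ := sq_surj h γ
    obtain ⟨a, a', K⟩ := ex_hyp1 h g1 k3 hb
    have K' : Hyp1 P a a' (c • b) := ⟨K.1, smul_ne_zero hc hb, by rw [fr h, K.2.2.1, mul_zero],
      by rw [fr h, K.2.2.2, mul_zero]⟩
    rw [show (c * c) • (α * α) = (c • α) * (c • α) by rw [smul_mul_smul_comm],
      ZZ_eq h hy hs g1 k3 K, ZZ_eq h hy hs g1 k3 K', be, be, Ph_smul' h hy _ _ _ hc,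
      Ph_smul' h hy _ _ _ hc, Ph_smul' h hy _ _ _ hc]
  cent b hb γ := by
    rw [mem_centralizer_iff]
    intro g hg
    obtain ⟨e, he, rfl⟩ := mem_YW.1 hg
    have := ZZ_conj h hy hs g1 k3 hb γ e
    rw [he b rfl] at this
    exact mul_inv_eq_iff_eq_mul.1 this
  comY b u v hb H h1 h2 γ := by
    rw [← A_omega (c0 := c0) hy]
    exact comA h hy hs g1 k3 hb H h1 h2 γ _
  comZ b b' hb hb' h0 γ γ' := by
    have s := @PForm.f_symm_zero _ _ _ _ _ P
    obtain ⟨α, rfl⟩ := sq_surj h γ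
    obtain ⟨a, a', K, e1, e2⟩ : ∃ a a', Hyp1 P a a' b ∧ P.f a b' = 0 ∧ P.f a' b' = 0 := by
      by_cases H : I2 P b b'
      · obtain ⟨a, a', e1, -, e2, e3, e4, e5⟩ := ex_hyp h g1 k3 H
        exact ⟨a, a', ⟨e1, hb, e2, e3⟩, e4, e5⟩
      · obtain ⟨r, rfl⟩ := not_i2 hb h0 H
        obtain ⟨a, a', K⟩ := ex_hyp1 h g1 k3 hb
        exact ⟨a, a', K, by rw [fr h, K.2.2.1, mul_zero], by rw [fr h, K.2.2.2, mul_zero]⟩
    obtain ⟨i1, i2, i3⟩ := hyp1_i2 h K
    rw [ZZ_eq h hy hs g1 k3 K, be, Ph_of i1, Ph_of i2, Ph_of i3]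
    exact (((comA h hy hs g1 k3 hb' i3 h0 (by rw [P.f_add_left, e1, e2, add_zero]) _ _).mul_right
      (comA h hy hs g1 k3 hb' i1 h0 e1 _ _)).mul_right (comA h hy hs g1 k3 hb' i2 h0 e2 _ _)).symm
  addS b b' H γ := addS h hy hs g1 k3 H γ
  act a a' b H γ α := act h hy hs g1 k3 H γ α
  def' a a' b K α := by
    obtain ⟨i1, i2, i3⟩ := hyp1_i2 h K
    rw [ZZ_eq h hy hs g1 k3 K, be, ← A_symm h hy i1, ← A_symm h hy i2, ← A_symm h hy i3,
      ← Ph_of i1, ← Ph_of i2, ← Ph_of i3]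
    have m1 := Ph_com h hy hs b α α a (a + a')
    have m2 := Ph_com h hy hs b α α a' (a + a')
    have m3 := Ph_com h hy hs b α α a a'
    have s1 := Ph_sq h hy b α a
    have s2 := Ph_sq h hy b α a'
    set p := Ph P φ y b α a
    set q := Ph P φ y b α a'
    set T := Ph P φ y b α (a + a')
    symm
    calc p * q * (T * p * q) = p * (q * T) * p * q := by group
      _ = (p * T) * (q * p) * q := by rw [m2.eq]; group
      _ = T * (p * p) * (q * q) := by rw [m1.eq, ← m3.eq]; group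
      _ = T := by rw [s1, s2]; group

end

theorem h7 : H7Stmt.{u, v} := by
  intro F V _ _ _ _ _ G _ _ P φ L k t c c0 y hy hs
  exact ⟨_, shS c.toSG hy hs c.g1 c.k3 c.tc.tc⟩

end Cfsg.Agent.H66.T6.H71.SpH7
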