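import Cfsg.Agent.H66.T6Defs2
import Cfsg.Agent.S2391

/-!
# Field automorphisms of order two of `Sp₂ₖ(2ⁿ)`
-/

set_option autoImplicit false

namespace Cfsg.Agent.H66.T6.H8.SpLG

open Cfsg Cfsg.Agent.H63 Cfsg.Agent.H26 Cfsg.Agent.H78 Cfsg.Agent.H68.Sp Subgroup Module
open scoped commutatorElement

universe u v

section Lin

variable {F V : Type v} [Field F] [AddCommGroup V] [Module F V] {P : PForm F V}

variable (P) in
/-- The symplectic case in characteristic two. -/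
structure Sy : Prop where
  two : (2 : F) = 0
  sig : ∀ a, P.σ a = a
  lam : P.Λ = ⊤

namespace Sy

variable (h : Sy P)
include h

theorem neg (a : F) : -a = a := by linear_combination (-a) * h.two

theorem add_self (a : F) : a + a = 0 := by linear_combination a * h.two

theorem vadd_self (x : V) : x + x = 0 := by
  rw [← two_smul F x, h.two, zero_smul]

theorem vneg (x : V) : -x = x := neg_eq_of_add_eq_zero_left (h.vadd_self x)

theorem vsub (x y : V) : x - y = x + y := by rw [sub_eq_add_neg, h.vneg]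

theorem eps : P.ε = 1 := by
  rcases P.ε_cases with e | e
  · exact e
  · rw [e, h.neg]

theorem symm (x y : V) : P.f x y = P.f y x := by rw [P.herm y x, h.eps, h.sig, one_mul]

theorem self (x : V) : P.f x x = 0 := by rw [P.f_self, h.eps, h.sig, one_mul, h.add_self]

theorem smr (c : F) (x y : V) : P.f x (c • y) = c * P.f x y := by rw [P.f_smul_right, h.sig]

theorem sing (x : V) : P.Sing x := by
  unfold PForm.Sing
  rw [h.lam]
  trivial

theorem ev {e y : V} (hy : P.f y e = 0) (ν : F) : P.EV e y ν :=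
  ⟨h.sing e, hy, by rw [h.lam]; trivial⟩

theorem eTa {e y : V} (hy : P.f y e = 0) (ν : F) (x : V) :
    eT P e y ν x = x + P.f x e • y + (P.f x y + ν * P.f x e) • e := by
  rw [eT_apply (h.ev hy ν), h.eps, one_mul, h.vsub]

theorem charP : CharP F 2 := CharTwo.of_one_ne_zero_of_two_eq_zero one_ne_zero h.two

end Sy

variable (P) in
/-- A semilinear involution. -/
structure Fd (T : V ≃+ V) (ψ : F ≃+* F) : Prop extends Sy P where
  smul : ∀ c x, T (c • x) = ψ c • T x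
  form : ∀ x y, P.f (T x) (T y) = ψ (P.f x y)
  TT : ∀ x, T (T x) = x
  pp : ∀ c, ψ (ψ c) = c
  ne : ∃ w, ψ w ≠ w

namespace Fd

variable {T : V ≃+ V} {ψ : F ≃+* F} (h : Fd P T ψ)
include h

theorem exists_theta : ∃ θ : F, θ + ψ θ = 1 := by
  obtain ⟨w, hw⟩ := h.ne
  have h0 : w + ψ w ≠ 0 := fun e => hw ((eq_neg_of_add_eq_zero_right e).trans (h.neg w))
  refine ⟨w / (w + ψ w), ?_⟩
  rw [map_div₀, map_add, h.pp, add_comm (ψ w), ← add_div, div_self h0]

theorem card_eq [Finite F] : Nat.card F = Nat.card {c : F // ψ c = c} ^ 2 := by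
  obtain ⟨w, hw⟩ := h.ne
  have h0 : w + ψ w ≠ 0 := fun e => hw ((eq_neg_of_add_eq_zero_right e).trans (h.neg w))
  rw [sq, ← Nat.card_prod]
  symm
  refine Nat.card_eq_of_bijective (fun p => p.1.1 + w * p.2.1) ⟨?_, fun x => ?_⟩
  · rintro ⟨⟨a, ha⟩, ⟨b, hb⟩⟩ ⟨⟨a', ha'⟩, ⟨b', hb'⟩⟩ e
    have e1 : a + w * b = a' + w * b' := e
    have e2 := congrArg ψ e1
    rw [map_add, map_add, map_mul, map_mul, ha, hb, ha', hb'] at e2
    have e3 : (w + ψ w) * (b - b') = 0 := by
      linear_combination e1 + e2 - (a - a') * h.two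
    have e4 : b = b' := sub_eq_zero.1 ((mul_eq_zero.1 e3).resolve_left h0)
    subst e4
    have e5 : a = a' := add_right_cancel e1
    subst e5
    rfl
  · have hb : ψ ((x + ψ x) / (w + ψ w)) = (x + ψ x) / (w + ψ w) := by
      rw [map_div₀, map_add, map_add, h.pp, h.pp, add_comm (ψ x), add_comm (ψ w)]
    have hm : (w + ψ w) * ((x + ψ x) / (w + ψ w)) = x + ψ x := mul_div_cancel₀ _ h0
    refine ⟨⟨⟨x + w * ((x + ψ x) / (w + ψ w)), ?_⟩, ⟨_, hb⟩⟩, ?_⟩
    · rw [map_add, map_mul, hb]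
      linear_combination hm + (ψ x - w * ((x + ψ x) / (w + ψ w))) * h.two
    · change x + w * _ + w * _ = x
      rw [add_assoc, h.add_self, add_zero]

theorem fix_f {x y : V} (hx : T x = x) (hy : T y = y) : ψ (P.f x y) = P.f x y := by
  rw [← h.form, hx, hy]

theorem fix_tr (x : V) : T (x + T x) = x + T x := by rw [map_add, h.TT, add_comm]

theorem span_inv {S : Set V} (hS : ∀ x ∈ S, T x = x) {x : V} (hx : x ∈ Submodule.span F S) :
    T x ∈ Submodule.span F S := by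
  induction hx using Submodule.span_induction with
  | mem x hx => rw [hS x hx]; exact Submodule.subset_span hx
  | zero => rw [map_zero]; exact zero_mem _
  | add x y _ _ hx hy => rw [map_add]; exact add_mem hx hy
  | smul c x _ hx => rw [h.smul]; exact Submodule.smul_mem _ _ hx

theorem perp_inv {W : Submodule F V} (hW : ∀ x ∈ W, T x ∈ W) {x : V} (hx : x ∈ P.perp W) :
    T x ∈ P.perp W := fun w hw => by
  rw [← h.TT w, h.form, hx _ (hW w hw), map_zero]

/-- Galois descent modulo a subspace. -/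
theorem descent {W A : Submodule F V} (hA : ∀ x ∈ A, T x ∈ A) {x : V} (hx : x ∈ A)
    (hxW : x ∉ W) : ∃ y ∈ A, y ∉ W ∧ T y = y := by
  obtain ⟨w, hw⟩ := h.ne
  by_cases h1 : x + T x ∈ W
  · refine ⟨w • x + T (w • x), add_mem (A.smul_mem _ hx) (hA _ (A.smul_mem _ hx)), fun h2 => ?_,
      h.fix_tr _⟩
    have h3 := W.sub_mem (W.smul_mem (ψ w) h1) h2
    rw [h.smul, smul_add, add_sub_add_right_eq_sub, ← sub_smul] at h3
    exact hxW ((W.smul_mem_iff (sub_ne_zero.2 hw)).1 h3)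
  · exact ⟨x + T x, add_mem hx (hA x hx), h1, h.fix_tr x⟩

end Fd

theorem exists_fixed_mod [Finite F] [FiniteDimensional F V] [CharP F 2]
    {R : Subgroup (V ≃ₗ[F] V)} (hR : IsPGroup 2 R) {U W : Submodule F V}
    (hU : ∀ g ∈ R, ∀ x ∈ U, g x ∈ U) (hW : ∀ g ∈ R, ∀ x ∈ W, g x ∈ W) (hWU : ¬ W ≤ U) :
    ∃ w ∈ W, w ∉ U ∧ ∀ g ∈ R, g w - w ∈ U := by
  let ρ : R →* Module.End F W :=
    { toFun := fun g => (g.1 : V →ₗ[F] V).restrict (hW g g.2)
      map_one' := by ext; rfl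
      map_mul' := fun _ _ => by ext; rfl }
  obtain ⟨w, h1, h2⟩ := S2391.exists_fixed 2 hR ρ (W := U.comap W.subtype)
    (fun g x hx => hU g g.2 x hx) fun e => hWU (Submodule.comap_subtype_eq_top.mp e)
  exact ⟨w, w.2, h1, fun g hg => h2 ⟨g, hg⟩⟩

variable (P) in
/-- A fixed isotropic flag. -/
structure Fl (T : V ≃+ V) (R : Subgroup (V ≃ₗ[F] V)) {m : ℕ} (s : Fin m → V) : Prop where
  li : LinearIndependent F s
  iso : ∀ i j, P.f (s i) (s j) = 0
  fix : ∀ i, T (s i) = s i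
  tri : ∀ e ∈ R, ∀ j, e (s j) - s j ∈ Submodule.span F (s '' {i | i < j})

theorem Fd.exists_fl [Finite F] [FiniteDimensional F V] {T : V ≃+ V} {ψ : F ≃+* F}
    (h : Fd P T ψ) {k : ℕ} (hk : finrank F V = 2 * k) {R : Subgroup (V ≃ₗ[F] V)}
    (hR : IsPGroup 2 R) (hi : R ≤ P.isom) (hT : ∀ e ∈ R, ∀ x, e (T x) = T (e x)) (m : ℕ)
    (hm : m ≤ k) : ∃ s : Fin m → V, Fl P T R s := by
  have := h.charP
  induction m with
  | zero => exact ⟨Fin.elim0, linearIndependent_empty_type, fun i => i.elim0, fun i => i.elim0,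
      fun _ _ i => i.elim0⟩
  | succ m ih =>
    obtain ⟨s, hs⟩ := ih (by omega)
    set W := Submodule.span F (Set.range s) with hWd
    have hWT : ∀ x ∈ W, T x ∈ W := fun x hx => h.span_inv (by
      rintro _ ⟨i, rfl⟩; exact hs.fix i) hx
    have hWR : ∀ e ∈ R, ∀ x ∈ W, e x ∈ W := fun e he x hx => by
      have : W ≤ W.comap (e : V →ₗ[F] V) := Submodule.span_le.2 (by
        rintro _ ⟨j, rfl⟩
        have h1 := Submodule.span_mono (R := F) (Set.image_subset_range s _) (hs.tri e he j)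
        have h2 := W.add_mem h1 (Submodule.subset_span ⟨j, rfl⟩)
        rw [sub_add_cancel] at h2
        exact h2)
      exact this hx
    have hPR : ∀ e ∈ R, ∀ x ∈ P.perp W, e x ∈ P.perp W := fun e he x hx w hw => by
      rw [PForm.isom_f_left (hi he), hx _ (hWR _ (inv_mem he) w hw)]
    have hne : ¬ P.perp W ≤ W := fun hle => by
      have h1 := P.finrank_perp W
      have h2 := Submodule.finrank_mono hle
      have h3 : finrank F W = m := by rw [hWd, finrank_span_eq_card hs.li, Fintype.card_fin]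
      omega
    obtain ⟨x, hx, hxW, hxR⟩ := exists_fixed_mod hR hWR hPR hne
    let A : Submodule F V := P.perp W ⊓ ⨅ e ∈ R, W.comap ((e : V →ₗ[F] V) - LinearMap.id)
    have mA : ∀ y, y ∈ A ↔ y ∈ P.perp W ∧ ∀ e ∈ R, e y - y ∈ W := fun y => by
      simp [A, Submodule.mem_iInf]
    obtain ⟨y, hy, hyW, hyT⟩ := h.descent (W := W) (A := A) (fun y hy => by
      rw [mA] at hy ⊢
      refine ⟨h.perp_inv hWT hy.1, fun e he => ?_⟩
      rw [hT e he, ← map_sub]
      exact hWT _ (hy.2 e he)) ((mA x).2 ⟨hx, hxR⟩) hxW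
    rw [mA] at hy
    refine ⟨Fin.snoc s y, ?_, fun i j => ?_, fun i => ?_, fun e he j => ?_⟩
    · exact linearIndependent_finSnoc.2 ⟨hs.li, hyW⟩
    · induction i using Fin.lastCases with
      | last =>
        induction j using Fin.lastCases with
        | last => exact h.self _
        | cast j =>
          rw [Fin.snoc_last, Fin.snoc_castSucc]
          exact hy.1 _ (Submodule.subset_span ⟨j, rfl⟩)
      | cast i =>
        induction j using Fin.lastCases with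
        | last =>
          rw [Fin.snoc_last, Fin.snoc_castSucc, h.symm]
          exact hy.1 _ (Submodule.subset_span ⟨i, rfl⟩)
        | cast j => rw [Fin.snoc_castSucc, Fin.snoc_castSucc]; exact hs.iso i j
    · induction i using Fin.lastCases with
      | last => rw [Fin.snoc_last]; exact hyT
      | cast i => rw [Fin.snoc_castSucc]; exact hs.fix i
    · induction j using Fin.lastCases with
      | last =>
        rw [Fin.snoc_last]
        refine Submodule.span_mono ?_ (hy.2 e he)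
        rintro _ ⟨i, rfl⟩
        exact ⟨i.castSucc, Fin.castSucc_lt_last i, by rw [Fin.snoc_castSucc]⟩
      | cast j =>
        rw [Fin.snoc_castSucc]
        refine Submodule.span_mono ?_ (hs.tri e he j)
        rintro _ ⟨i, hij, rfl⟩
        exact ⟨i.castSucc, Fin.castSucc_lt_castSucc_iff.2 hij, by rw [Fin.snoc_castSucc]⟩

theorem f_sum_left {ι : Type*} (S : Finset ι) (x : ι → V) (y : V) :
    P.f (∑ i ∈ S, x i) y = ∑ i ∈ S, P.f (x i) y := map_sum (P.fL y) x S

/-- A fixed isotropic family extends to a fixed frame. -/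
theorem Fd.exists_frame {T : V ≃+ V} {ψ : F ≃+* F} (h : Fd P T ψ) {k : ℕ} (g1 : G1 P k)
    {s : Fin k → V} (li : LinearIndependent F s) (iso : ∀ i j, P.f (s i) (s j) = 0)
    (fix : ∀ i, T (s i) = s i) :
    ∃ Fr : Frame P k, Fr.Norm ∧ (∀ i, Fr.e (i, false) = s i) ∧ ∀ a, T (Fr.e a) = Fr.e a := by
  classical
  obtain ⟨F0, hN, h0⟩ := g1.fr s (fun i => (i, false)) (fun i j e => congrArg Prod.fst e) li
    (fun i j => by rw [iso, if_neg (by simp [ng])])
  obtain ⟨θ, hθ⟩ := h.exists_theta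
  have d0 : ∀ i j, P.f (s i) (F0.e (j, true)) = if i = j then 1 else 0 := fun i j => by
    rw [← h0]
    split_ifs with e
    · subst e; exact hN i
    · exact F0.orth _ _ (by simpa [ng] using fun e' => e e'.symm)
  let t' : Fin k → V := fun j => θ • F0.e (j, true) + T (θ • F0.e (j, true))
  have d1 : ∀ i j, P.f (s i) (t' j) = if i = j then 1 else 0 := fun i j => by
    change P.f (s i) (_ + _) = _
    rw [P.f_add_right]
    conv_lhs => rhs; rw [← fix i, h.form]
    rw [h.smr, d0]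
    split_ifs
    · simpa using hθ
    · simp
  let t : Fin k → V := fun i => t' i + ∑ j, (if i < j then P.f (t' i) (t' j) else 0) • s j
  have d2 : ∀ i j, P.f (t i) (s j) = if j = i then 1 else 0 := fun i j => by
    change P.f (_ + _) _ = _
    rw [P.f_add_left, h.symm (t' i), d1, f_sum_left, Finset.sum_eq_zero, add_zero]
    intro l _
    rw [P.f_smul_left, iso, mul_zero]
  have d3 : ∀ i j, P.f (t i) (t' j) =
      P.f (t' i) (t' j) + if i < j then P.f (t' i) (t' j) else 0 := fun i j => by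
    change P.f (_ + _) _ = _
    rw [P.f_add_left, f_sum_left, Finset.sum_eq_single j]
    · rw [P.f_smul_left, d1, if_pos rfl, mul_one]
    · intro l _ hl
      rw [P.f_smul_left, d1, if_neg hl, mul_zero]
    · simp
  have d4 : ∀ i j, P.f (t i) (t j) = 0 := fun i j => by
    have e1 : P.f (t i) (t j) = P.f (t i) (t' j) + if j < i then P.f (t' j) (t' i) else 0 := by
      rw [h.symm]
      change P.f (_ + _) _ = _
      rw [P.f_add_left, h.symm (t' j) (t i), f_sum_left, Finset.sum_eq_single i]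
      · rw [P.f_smul_left, h.symm (s i), d2, if_pos rfl, mul_one]
      · intro l _ hl
        rw [P.f_smul_left, h.symm (s l), d2, if_neg hl, mul_zero]
      · simp
    rw [e1, d3]
    rcases lt_trichotomy i j with hij | rfl | hij
    · rw [if_pos hij, if_neg hij.not_gt, h.add_self, add_zero]
    · simp [h.self]
    · rw [if_neg hij.not_gt, if_pos hij, add_zero, h.symm (t' j), h.add_self]
  have d5 : ∀ i, T (t i) = t i := fun i => by
    change T (_ + _) = _ + _
    rw [map_add, h.fix_tr, map_sum]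
    congr 1
    refine Finset.sum_congr rfl fun j _ => ?_
    rw [h.smul, fix]
    split_ifs
    · rw [h.fix_f (h.fix_tr _) (h.fix_tr _)]
    · rw [map_zero]
  refine ⟨⟨fun a => if a.2 then t a.1 else s a.1, fun a => h.sing _, ?_, ?_⟩, fun i => ?_,
    fun i => rfl, ?_⟩
  · rintro ⟨i, _ | _⟩ ⟨j, _ | _⟩ hab
    · exact iso i j
    · change P.f (s i) (t j) = 0
      rw [h.symm, d2, if_neg (by rintro rfl; exact hab rfl)]
    · change P.f (t i) (s j) = 0
      rw [d2, if_neg (by rintro rfl; exact hab rfl)]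
    · exact d4 i j
  · rintro ⟨i, _ | _⟩
    · change P.f (s i) (t i) ≠ 0
      rw [h.symm, d2, if_pos rfl]; exact one_ne_zero
    · change P.f (t i) (s i) ≠ 0
      rw [d2, if_pos rfl]; exact one_ne_zero
  · change P.f (s i) (t i) = 1
    rw [h.symm, d2, if_pos rfl]
  · rintro ⟨i, _ | _⟩
    exacts [fix i, d5 i]

section Count

variable {k : ℕ} (Fr : Frame P k)

/-- The flag of a frame. -/
def Wn (n : ℕ) : Submodule F V :=
  Submodule.span F ((fun i => Fr.e (i, false)) '' {i : Fin k | (i : ℕ) < n})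

variable {Fr}

theorem Wn_mono {n n' : ℕ} (hn : n ≤ n') : Wn Fr n ≤ Wn Fr n' :=
  Submodule.span_mono (Set.image_mono fun _ hi => lt_of_lt_of_le hi hn)

theorem e_mem_Wn {n : ℕ} {i : Fin k} (hi : (i : ℕ) < n) : Fr.e (i, false) ∈ Wn Fr n :=
  Submodule.subset_span ⟨i, hi, rfl⟩

theorem mem_Wn (h0 : Fr.V0 = ⊥) {n : ℕ} {w : V} : w ∈ Wn Fr n ↔
    (∀ j, P.f w (Fr.e (j, false)) = 0) ∧ ∀ j : Fin k, n ≤ j → P.f w (Fr.e (j, true)) = 0 := by
  constructor
  · intro hw
    have key : ∀ a : BI k, (∀ i : Fin k, (i : ℕ) < n → a ≠ (i, true)) → P.f w (Fr.e a) = 0 :=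
      fun a ha => by
        have : Wn Fr n ≤ LinearMap.ker (P.fL (Fr.e a)) := Submodule.span_le.2 (by
          rintro _ ⟨i, hi, rfl⟩
          exact Fr.orth _ _ (ha i hi))
        exact this hw
    refine ⟨fun j => key _ fun i _ e => by simp at e, fun j hj => key _ fun i hi e => ?_⟩
    obtain rfl : j = i := congrArg Prod.fst e
    omega
  · rintro ⟨h1, h2⟩
    have h3 := Fr.sub_sum_mem w
    rw [h0, Submodule.mem_bot, sub_eq_zero] at h3
    rw [h3]
    refine Submodule.sum_mem _ ?_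
    rintro ⟨i, _ | _⟩ -
    · by_cases hi : (i : ℕ) < n
      · exact Submodule.smul_mem _ _ (e_mem_Wn hi)
      · rw [show ng (i, false) = (i, true) from rfl, h2 i (by omega), zero_div, zero_smul]
        exact zero_mem _
    · rw [show ng (i, true) = (i, false) from rfl, h1 i, zero_div, zero_smul]
      exact zero_mem _

theorem Wn_zero {w : V} (hw : w ∈ Wn Fr 0) : w = 0 := by
  simpa [Wn] using hw

theorem Wn_inv {e : V ≃ₗ[F] V}
    (he : ∀ j : Fin k, e (Fr.e (j, false)) - Fr.e (j, false) ∈ Wn Fr j) {n : ℕ} {w : V}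
    (hw : w ∈ Wn Fr n) : e w ∈ Wn Fr n := by
  have : Wn Fr n ≤ (Wn Fr n).comap (e : V →ₗ[F] V) := Submodule.span_le.2 (by
    rintro _ ⟨j, hj, rfl⟩
    have h2 := (Wn Fr n).add_mem (Wn_mono (le_of_lt hj) (he j)) (e_mem_Wn hj)
    rw [sub_add_cancel] at h2
    exact h2)
  exact this hw

theorem eq_zero_frame (h0 : Fr.V0 = ⊥) {w : V} (hw : ∀ a, P.f w (Fr.e a) = 0) : w = 0 := by
  have := Frame.mem_V0.2 hw
  rwa [h0, Submodule.mem_bot] at this

/-- The coordinates on a unitriangular group. -/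
def crd (Fr : Frame P k) (e : V ≃ₗ[F] V) (p : Fin k × Fin k) : F :=
  if p.2 < p.1 then P.f (e (Fr.e (p.1, false))) (Fr.e (p.2, true))
  else P.f (e (Fr.e (p.1, true))) (Fr.e (p.2, true))

theorem crd_inj (h : Sy P) (h0 : Fr.V0 = ⊥) {R : Subgroup (V ≃ₗ[F] V)} (hi : R ≤ P.isom)
    (tri : ∀ e ∈ R, ∀ j : Fin k, e (Fr.e (j, false)) - Fr.e (j, false) ∈ Wn Fr j)
    {e e' : V ≃ₗ[F] V} (he : e ∈ R) (he' : e' ∈ R) (H : crd Fr e = crd Fr e') : e = e' := by
  have s1 : ∀ j, e (Fr.e (j, false)) = e' (Fr.e (j, false)) := fun j => by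
    have h1 := (Wn Fr j).sub_mem (tri e he j) (tri e' he' j)
    rw [sub_sub_sub_cancel_right, mem_Wn h0] at h1
    rw [← sub_eq_zero]
    refine eq_zero_frame h0 ?_
    rintro ⟨i, _ | _⟩
    · exact h1.1 i
    · by_cases hij : i < j
      · have := congrFun H (j, i)
        simp only [crd, if_pos hij] at this
        rw [P.f_sub_left, this, sub_self]
      · exact h1.2 i (by omega)
  have s2 : ∀ w ∈ Wn Fr k, e w = e' w := fun w hw => by
    have : Wn Fr k ≤ LinearMap.ker ((e : V →ₗ[F] V) - (e' : V →ₗ[F] V)) :=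
      Submodule.span_le.2 (by
        rintro _ ⟨j, -, rfl⟩
        exact sub_eq_zero.2 (s1 j))
    exact sub_eq_zero.1 (this hw)
  let d : Fin k → V := fun i => e (Fr.e (i, true)) - e' (Fr.e (i, true))
  have d1 : ∀ i : Fin k, d i ∈ Wn Fr i := fun i => by
    refine (mem_Wn h0).2 ⟨fun j => ?_, fun j hj => ?_⟩
    · have h1 : e⁻¹ (Fr.e (j, false)) ∈ Wn Fr k :=
        Wn_inv (tri _ (inv_mem he)) (e_mem_Wn j.2)
      have h2 := s2 _ h1
      rw [PForm.apply_inv_apply] at h2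
      change P.f (_ - _) _ = 0
      rw [P.f_sub_left, PForm.isom_f_left (hi he)]
      conv_lhs => rhs; rw [h2, PForm.isom_f (hi he')]
      exact sub_self _
    · have := congrFun H (i, j)
      simp only [crd, if_neg (show ¬ j < i from by omega)] at this
      change P.f (_ - _) _ = 0
      rw [P.f_sub_left, this, sub_self]
  have d2 : ∀ i j, i ≤ j → P.f (d i) (e' (Fr.e (j, true))) = 0 := fun i j hij => by
    rw [PForm.isom_f_right (hi he')]
    exact ((mem_Wn h0).1 (Wn_inv (tri _ (inv_mem he')) (d1 i))).2 j hij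
  have d3 : ∀ i j, P.f (d i) (d j) = 0 := fun i j => by
    have : Wn Fr j ≤ LinearMap.ker (P.fL (d i)) := Submodule.span_le.2 (by
      rintro _ ⟨l, -, rfl⟩
      exact (h.symm _ _).trans (((mem_Wn h0).1 (d1 i)).1 l))
    rw [h.symm]
    exact this (d1 j)
  have d4 : ∀ i j, P.f (d i) (e' (Fr.e (j, true))) = 0 := fun i j => by
    rcases le_total i j with hij | hij
    · exact d2 i j hij
    · have h1 : P.f (e (Fr.e (i, true))) (e (Fr.e (j, true))) =
          P.f (e' (Fr.e (i, true))) (e' (Fr.e (j, true))) := by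
        rw [PForm.isom_f (hi he), PForm.isom_f (hi he')]
      have e1 : ∀ l, e (Fr.e (l, true)) = e' (Fr.e (l, true)) + d l := fun l =>
        (add_sub_cancel _ _).symm
      rw [e1 i, e1 j, P.f_add_left, P.f_add_right, P.f_add_right, d3, h.symm _ (d j),
        d2 j i hij] at h1
      linear_combination h1
  refine Fr.ext_frame ?_ fun w hw => by
    rw [h0, Submodule.mem_bot] at hw
    rw [hw, map_zero, map_zero]
  rintro ⟨i, _ | _⟩
  · exact s1 i
  · rw [← sub_eq_zero]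
    change d i = 0
    have : e'⁻¹ (d i) = 0 := by
      refine eq_zero_frame h0 ?_
      rintro ⟨j, _ | _⟩
      · exact ((mem_Wn h0).1 (Wn_inv (tri _ (inv_mem he')) (d1 i))).1 j
      · rw [← PForm.isom_f_right (hi he')]; exact d4 i j
    rw [← PForm.apply_inv_apply e' (d i), this, map_zero]

end Count

theorem Fd.card_le [Finite F] [FiniteDimensional F V] {T : V ≃+ V} {ψ : F ≃+* F}
    (h : Fd P T ψ) {k : ℕ} (hk : finrank F V = 2 * k) (g1 : G1 P k) {R : Subgroup (V ≃ₗ[F] V)}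
    (hR : IsPGroup 2 R) (hi : R ≤ P.isom) (hT : ∀ e ∈ R, ∀ x, e (T x) = T (e x)) :
    Nat.card R ^ 2 ≤ Nat.card F ^ (k * k) := by
  obtain ⟨s, hs⟩ := h.exists_fl hk hR hi hT k le_rfl
  obtain ⟨Fr, -, h1, h2⟩ := h.exists_frame g1 hs.li hs.iso hs.fix
  have tri : ∀ e ∈ R, ∀ j : Fin k, e (Fr.e (j, false)) - Fr.e (j, false) ∈ Wn Fr j :=
    fun e he j => by
      have := hs.tri e he j
      simp only [Wn, h1]
      exact this
  have fx : ∀ (e : R) p, ψ (crd Fr e p) = crd Fr e p := fun e p => by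
    unfold crd
    split_ifs <;> exact h.fix_f (by rw [← hT e e.2, h2]) (h2 _)
  have := Nat.card_le_card_of_injective
    (fun e : R => fun p : Fin k × Fin k => (⟨crd Fr e p, fx e p⟩ : {c : F // ψ c = c}))
    fun e e' H => Subtype.ext (crd_inj h.toSy (g1.v0 Fr) hi tri e.2 e'.2
      (funext fun p => congrArg Subtype.val (congrFun H p)))
  rw [Nat.card_fun, Nat.card_prod, Nat.card_eq_fintype_card (α := Fin k), Fintype.card_fin] at this
  rw [h.card_eq, ← pow_mul, mul_comm 2, pow_mul]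
  exact Nat.pow_le_pow_left this 2

theorem Fd.exists_frame0 [Finite F] [FiniteDimensional F V] {T : V ≃+ V} {ψ : F ≃+* F}
    (h : Fd P T ψ) {k : ℕ} (hk : finrank F V = 2 * k) (g1 : G1 P k) :
    ∃ Fr : Frame P k, Fr.Norm ∧ ∀ a, T (Fr.e a) = Fr.e a := by
  obtain ⟨s, hs⟩ := h.exists_fl hk (R := ⊥) IsPGroup.of_bot bot_le
    (fun e he x => by rw [mem_bot.1 he]; rfl) k le_rfl
  obtain ⟨Fr, hN, -, h2⟩ := h.exists_frame g1 hs.li hs.iso hs.fix
  exact ⟨Fr, hN, h2⟩

end Lin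

section Grp

variable {F V : Type v} [Field F] [AddCommGroup V] [Module F V] {G : Type u} [Group G]
  {P : PForm F V} {φ : P.E →* G} {L : Subgroup G} {k : ℕ}

theorem sy (h : SG P φ L k) : Sy P := ⟨h.two, h.sig, h.lam⟩

theorem mem_L (h : SG P φ L k) (e : P.E) : φ e ∈ L := h.rng ▸ ⟨e, rfl⟩

theorem exists_fd (h : SM P φ L k) (nf : NF P φ L) {r : G} (hr : r ∈ N[L]) (h2 : r * r ∈ C[L])
    {T : V ≃+ V} {ψ : F ≃+* F} (hI : Ind P φ r T ψ) (hne : ψ ≠ 1) : Fd P T ψ := by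
  have s := sy h.toSG
  obtain ⟨χ, hχ, hk⟩ := nf.out
  have e1 : χ ⟨r, hr⟩ = ψ := hχ ⟨r, hr⟩ T ψ hI
  have e2 : ψ * ψ = 1 := by
    rw [← e1, ← map_mul]
    exact (hk _).2 (mem_sup_right h2)
  have pp : ∀ c, ψ (ψ c) = c := fun c => RingEquiv.congr_fun e2 c
  have cm : ∀ (e : P.E) x, e.1 (T (T x)) = T (T (e.1 x)) := fun e x => by
    obtain ⟨e', a1, a2⟩ := hI.conj e
    obtain ⟨e'', b1, b2⟩ := hI.conj e'
    have : φ e'' = φ e := by
      rw [← b2, ← a2]
      have := (mem_centralizer_iff.1 h2) _ (mem_L h.toSG e)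
      calc r * (r * φ e * r⁻¹) * r⁻¹ = (r * r) * φ e * (r * r)⁻¹ := by group
        _ = φ e := by rw [← this]; group
    conv_lhs => rw [← h.inj this]
    rw [b1, a1]
  refine ⟨s, hI.smul, hI.form, fun x => ?_, pp, ?_⟩
  · by_cases hx : x = 0
    · rw [hx, map_zero, map_zero]
    obtain ⟨y, hy⟩ := P.exists_f_left_eq hx 1
    have a1 := cm ⟨eT P x 0 1, eT_mem_E _ _ _⟩ y
    have z : P.f 0 x = 0 := P.f_zero_left x
    simp only [s.eTa z, smul_zero, add_zero, P.f_zero_right, zero_add, one_mul, hy, one_smul,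
      map_add] at a1
    have a2 : P.f (T (T y)) x • x = T (T x) := add_left_cancel a1
    have a3 : P.f (T (T y)) (T (T x)) = 1 := by rw [hI.form, hI.form, pp, hy]
    rw [← a2, s.smr] at a3
    rcases mul_self_eq_one_iff.1 a3 with a4 | a4
    · rw [← a2, a4, one_smul]
    · rw [← a2, a4, s.neg, one_smul]
  · by_contra hc
    push Not at hc
    exact hne (RingEquiv.ext hc)

theorem psi_ne (nf : NF P φ L) {r : G} (hr : r ∈ N[L]) (h3 : r ∉ L ⊔ C[L])
    {T : V ≃+ V} {ψ : F ≃+* F} (hI : Ind P φ r T ψ) : ψ ≠ 1 := fun e => by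
  obtain ⟨χ, hχ, hk⟩ := nf.out
  exact h3 ((hk ⟨r, hr⟩).1 ((hχ ⟨r, hr⟩ T ψ hI).trans e))

theorem comm_iff (h : SG P φ L k) {r : G} {T : V ≃+ V} {ψ : F ≃+* F} (hI : Ind P φ r T ψ)
    (e : P.E) : φ e ∈ C1[r] ↔ ∀ x, e.1 (T x) = T (e.1 x) := by
  obtain ⟨e', a1, a2⟩ := hI.conj e
  rw [mem_centralizer_singleton_iff, eq_comm, ← mul_inv_eq_iff_eq_mul, a2]
  constructor
  · intro H x
    rw [← h.inj H, a1, h.inj H]
  · intro H
    congr 1
    refine Subtype.ext (LinearEquiv.ext fun x => ?_)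
    obtain ⟨y, rfl⟩ := T.surjective x
    rw [a1, H]

variable [Finite F] [FiniteDimensional F V]

theorem cls (h : SM P φ L k) (g1 : G1 P k) (nf : NF P φ L) {r r' : G} (hr : r ∈ N[L])
    (hr' : r' ∈ N[L]) (h2 : r * r ∈ C[L]) (h2' : r' * r' ∈ C[L]) (h3 : r ∉ L ⊔ C[L])
    (h4 : r' * r⁻¹ ∈ L ⊔ C[L]) : ∃ l ∈ L, l * r' * l⁻¹ * r⁻¹ ∈ C[L] := by
  obtain ⟨T, ψ, hI⟩ := h.aut r hr
  obtain ⟨T', ψ', hI'⟩ := h.aut r' hr'
  obtain rfl : ψ' = ψ := by
    obtain ⟨χ, hχ, hk⟩ := nf.out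
    have := (hk (⟨r', hr'⟩ * ⟨r, hr⟩⁻¹)).2 h4
    rw [map_mul, map_inv, hχ ⟨r, hr⟩ T ψ hI, hχ ⟨r', hr'⟩ T' ψ' hI'] at this
    exact mul_inv_eq_one.1 this
  have hne := psi_ne nf hr h3 hI
  have d := exists_fd h nf hr h2 hI hne
  have d' := exists_fd h nf hr' h2' hI' hne
  obtain ⟨Fr, hN, hF⟩ := d.exists_frame0 h.dim g1
  obtain ⟨Fr', hN', hF'⟩ := d'.exists_frame0 h.dim g1
  obtain ⟨e, he⟩ := g1.frt Fr' Fr hN' hN
  have key : ∀ x, e.1 (T' x) = T (e.1 x) := fun x => by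
    have h3 := Fr'.sub_sum_mem x
    rw [g1.v0, Submodule.mem_bot, sub_eq_zero] at h3
    rw [h3]
    simp only [map_sum, map_smul, d.smul, d'.smul, hF, hF', he]
  have k2 : ∀ x : P.E, φ e * r' * (φ e)⁻¹ * φ x * (φ e * r' * (φ e)⁻¹)⁻¹ = r * φ x * r⁻¹ :=
    fun x => by
      obtain ⟨y, a1, a2⟩ := hI'.conj (e⁻¹ * x * e)
      obtain ⟨z, b1, b2⟩ := hI.conj x
      have : e * y * e⁻¹ = z := by
        refine Subtype.ext (LinearEquiv.ext fun w => ?_)
        obtain ⟨w, rfl⟩ := T.surjective w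
        obtain ⟨w, rfl⟩ := e.1.surjective w
        rw [b1]
        change e.1 (y.1 (e.1⁻¹ (T (e.1 w)))) = _
        rw [← key, PForm.inv_apply_apply, a1, key]
        change T (e.1 (e.1⁻¹ (x.1 (e.1 w)))) = _
        rw [PForm.apply_inv_apply]
      rw [b2, ← this, map_mul, map_mul, map_inv, ← a2, map_mul, map_mul, map_inv]
      group
  refine ⟨φ e, mem_L h.toSG e, mem_centralizer_iff.2 fun y hy => ?_⟩
  have hy' : r⁻¹ * y * r ∈ L := by
    have := (mem_normalizer_iff.1 (inv_mem hr) y).1 hy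
    rwa [inv_inv] at this
  rw [← h.rng] at hy'
  obtain ⟨x, hx⟩ := hy'
  have k3 := k2 x
  rw [hx] at k3
  calc y * (φ e * r' * (φ e)⁻¹ * r⁻¹)
      = (r * (r⁻¹ * y * r) * r⁻¹) * (φ e * r' * (φ e)⁻¹ * r⁻¹) := by group
    _ = _ := by rw [← k3]; group

theorem le (h : SM P φ L k) (g1 : G1 P k) (nf : NF P φ L) {r : G} (hr : r ∈ N[L])
    (h2 : r * r ∈ C[L]) (h3 : r ∉ L ⊔ C[L]) {R : Subgroup G} (hR : R ≤ L ⊓ C1[r])
    (hp : IsPGroup 2 R) : Nat.card R ^ 2 ≤ Nat.card F ^ (k * k) := by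
  obtain ⟨T, ψ, hI⟩ := h.aut r hr
  have d := exists_fd h nf hr h2 hI (psi_ne nf hr h3 hI)
  have c1 : Nat.card ((R.comap φ).map P.E.subtype) = Nat.card R := by
    rw [card_map_of_injective P.E.subtype_injective]
    conv_rhs => rw [← map_comap_eq_self (f := φ) (H := R) (h.rng ▸ hR.trans inf_le_left)]
    rw [card_map_of_injective h.inj]
  rw [← c1]
  refine d.card_le h.dim g1 ((hp.comap_of_injective φ h.inj).map _)
    ((map_subtype_le _).trans PForm.E_le_isom) ?_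
  rintro _ ⟨e, he, rfl⟩
  exact (comm_iff h.toSG hI e).1 (hR he).2

omit [Finite F] [FiniteDimensional F V] in
theorem f_frame (s : Sy P) {Fr : Frame P k} (hN : Fr.Norm) (a b : BI k) :
    P.f (Fr.e a) (Fr.e b) = if b = ng a then 1 else 0 := by
  split_ifs with e
  · subst e
    rcases a with ⟨i, _ | _⟩
    exacts [hN i, (s.symm _ _).trans (hN i)]
  · exact Fr.orth _ _ e

omit [Finite F] [FiniteDimensional F V] in
theorem es_comm (s : Sy P) {Fr : Frame P k} (hN : Fr.Norm) {a b : BI k} {l : Fin k}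
    (hab : a.1 ≠ b.1) (ha : a.1 ≠ l) (hb : b.1 ≠ l) (c : F) :
    ⁅Es P φ (Fr.e b) ((1 : F) • Fr.e (l, true)), Es P φ (Fr.e a) (c • Fr.e (l, false))⁆ =
      Es P φ (Fr.e a) (c • Fr.e b) := by
  have o : ∀ {x y : BI k}, x.1 ≠ y.1 → P.f (Fr.e x) (Fr.e y) = 0 := fun {x y} hxy =>
    Fr.orth _ _ fun e => hxy (by rw [e]; rfl)
  have z1 : P.f ((1 : F) • Fr.e (l, true)) (Fr.e b) = 0 := by rw [one_smul, o hb.symm]
  have z2 : P.f (c • Fr.e (l, false)) (Fr.e a) = 0 := by rw [P.f_smul_left, o ha.symm, mul_zero]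
  have h1 := (eT_commutator (eT_mem_isom (P := P) (Fr.e b) ((1 : F) • Fr.e (l, true)) 0)
    (e := Fr.e a) (by rw [s.eTa z1, one_smul, o hab, o (y := (l, true)) ha]; simp)
    (s.ev z2 0)).2
  have h2 : eT P (Fr.e b) ((1 : F) • Fr.e (l, true)) 0 (c • Fr.e (l, false)) =
      c • Fr.e (l, false) + c • Fr.e b := by
    rw [s.eTa z1, one_smul, P.f_smul_left, P.f_smul_left, o (x := (l, false)) hb.symm, hN l]
    simp
  rw [h2, add_sub_cancel_left, P.f_add_right, s.self, s.smr, P.f_smul_left,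
    o (x := (l, false)) hb.symm] at h1
  simp only [mul_zero, add_zero, sub_self] at h1
  unfold Es ET
  rw [← map_commutatorElement]
  exact congrArg φ (Subtype.ext h1)

theorem big [Finite G] (h : SM P φ L k) (g1 : G1 P k) (g2 : G2 P φ) (nf : NF P φ L) {r : G} (hr : r ∈ N[L])
    (h2 : r * r ∈ C[L]) (h3 : r ∉ L ⊔ C[L]) : ∃ H E : Subgroup G, H ≤ L ⊓ C1[r] ∧
      ⁅H, H⁆ = H ∧ E ≤ H ∧ (∀ e ∈ E, e * e = 1) ∧ Nat.card F < Nat.card E := by
  obtain ⟨T, ψ, hI⟩ := h.aut r hr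
  have d := exists_fd h nf hr h2 hI (psi_ne nf hr h3 hI)
  have s := d.toSy
  obtain ⟨Fr, hN, hF⟩ := d.exists_frame0 h.dim g1
  have o : ∀ {x y : BI k}, x.1 ≠ y.1 → P.f (Fr.e x) (Fr.e y) = 0 := fun {x y} hxy =>
    Fr.orth _ _ fun e => hxy (by rw [e]; rfl)
  have o' : ∀ {x y : BI k}, x.1 ≠ y.1 → ∀ c : F, P.f (c • Fr.e y) (Fr.e x) = 0 :=
    fun {x y} hxy c => by rw [P.f_smul_left, o hxy.symm, mul_zero]
  let H : Subgroup G := closure
    {g | ∃ (a b : BI k) (c : F), a.1 ≠ b.1 ∧ ψ c = c ∧ g = Es P φ (Fr.e a) (c • Fr.e b)}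
  have mH : ∀ (a b : BI k) (c : F), a.1 ≠ b.1 → ψ c = c → Es P φ (Fr.e a) (c • Fr.e b) ∈ H :=
    fun a b c h1 h2 => subset_closure ⟨a, b, c, h1, h2, rfl⟩
  have hk := h.k3
  have iso : ∀ x ∈ Set.range fun i => Fr.e (i, false), ∀ y ∈ Set.range fun i => Fr.e (i, false),
      P.f x y = 0 := by
    rintro _ ⟨i, rfl⟩ _ ⟨j, rfl⟩
    exact Fr.orth _ _ (by simp [ng])
  have mA : ∀ (i j : Fin k) (c : F), i ≠ j →
      Es P φ (Fr.e (i, false)) (c • Fr.e (j, false)) ∈ AW P φ Fr := fun i j c hij => by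
    refine (g2.memS _ _).2 fun x hx => ?_
    rw [PForm.mem_perp_span] at hx
    change eT P _ _ _ x = x
    rw [s.eTa (o' (x := (i, false)) (y := (j, false)) hij c), s.smr, hx _ ⟨i, rfl⟩, hx _ ⟨j, rfl⟩]
    simp
  refine ⟨H, H ⊓ AW P φ Fr, ?_, le_antisymm (commutator_le.2 fun a ha b hb =>
    mul_mem (mul_mem (mul_mem ha hb) (inv_mem ha)) (inv_mem hb)) ?_,
    inf_le_left, fun e he => (g2.el _ iso).1 e he.2, ?_⟩
  · rw [closure_le]
    rintro _ ⟨a, b, c, h1, h2, rfl⟩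
    refine ⟨mem_L h.toSG _, (comm_iff h.toSG hI _).2 fun x => ?_⟩
    change eT P _ _ _ _ = T (eT P _ _ _ _)
    have f1 : ∀ y, P.f (T x) (Fr.e y) = ψ (P.f x (Fr.e y)) := fun y => by rw [← d.form, hF]
    simp only [s.eTa (o' h1 c), map_add, d.smul, hF, s.smr, f1, map_mul, h2, map_zero]
  · rw [closure_le]
    rintro _ ⟨a, b, c, h1, h2, rfl⟩
    obtain ⟨l, hl⟩ : ∃ l : Fin k, l ∉ ({a.1, b.1} : Finset (Fin k)) := by
      by_contra hc
      push Not at hc
      have := Finset.card_le_card (show Finset.univ ⊆ ({a.1, b.1} : Finset (Fin k)) from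
        fun l _ => hc l)
      rw [Finset.card_univ, Fintype.card_fin] at this
      have := this.trans Finset.card_le_two
      omega
    rw [Finset.mem_insert, Finset.mem_singleton, not_or] at hl
    rw [← es_comm s hN h1 (Ne.symm hl.1) (Ne.symm hl.2) c]
    exact commutator_mem_commutator (mH _ _ _ (Ne.symm hl.2) (map_one ψ))
      (mH _ _ _ (Ne.symm hl.1) h2)
  · let i0 : Fin k := ⟨0, by omega⟩
    let i1 : Fin k := ⟨1, by omega⟩
    let i2 : Fin k := ⟨2, by omega⟩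
    have n01 : i0 ≠ i1 := by simp [i0, i1]
    have n02 : i0 ≠ i2 := by simp [i0, i2]
    have n12 : i1 ≠ i2 := by simp [i1, i2]
    let F0 := {c : F // ψ c = c}
    let x : Fin k → Fin k → F → P.E := fun i j c =>
      ⟨eT P (Fr.e (i, false)) (c • Fr.e (j, false)) 0, eT_mem_E _ _ _⟩
    let g : F0 × F0 × F0 → ↥(H ⊓ AW P φ Fr) := fun p =>
      ⟨φ (x i0 i1 p.1.1 * x i0 i2 p.2.1.1 * x i1 i2 p.2.2.1), by
        rw [map_mul, map_mul]
        exact mul_mem (mul_mem ⟨mH _ _ _ n01 p.1.2, mA _ _ _ n01⟩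
          ⟨mH _ _ _ n02 p.2.1.2, mA _ _ _ n02⟩) ⟨mH _ _ _ n12 p.2.2.2, mA _ _ _ n12⟩⟩
    have xa : ∀ i j c, i ≠ j → ∀ w, (x i j c).1 w = w + P.f w (Fr.e (i, false)) •
        c • Fr.e (j, false) + (c * P.f w (Fr.e (j, false))) • Fr.e (i, false) :=
      fun i j c hij w => by
        change eT P _ _ _ w = _
        rw [s.eTa (o' (x := (i, false)) (y := (j, false)) hij c), s.smr, zero_mul, add_zero]
    have val : ∀ a b c : F,
        P.f ((x i0 i1 a * x i0 i2 b * x i1 i2 c).1 (Fr.e (i0, true))) (Fr.e (i1, true)) = a ∧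
        P.f ((x i0 i1 a * x i0 i2 b * x i1 i2 c).1 (Fr.e (i0, true))) (Fr.e (i2, true)) = b ∧
        P.f ((x i0 i1 a * x i0 i2 b * x i1 i2 c).1 (Fr.e (i1, true))) (Fr.e (i2, true)) = c :=
      fun a b c => by
        have e : ∀ w, (x i0 i1 a * x i0 i2 b * x i1 i2 c).1 w =
          (x i0 i1 a).1 ((x i0 i2 b).1 ((x i1 i2 c).1 w)) := fun _ => rfl
        simp only [e, xa _ _ _ n01, xa _ _ _ n02, xa _ _ _ n12, P.f_add_left, P.f_smul_left,
          f_frame s hN, ng]
        simp [n01, n02, n12, n01.symm, n02.symm, n12.symm]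
    have inj : Function.Injective g := by
      rintro ⟨a, b, c⟩ ⟨a', b', c'⟩ e
      have e1 := h.inj (congrArg Subtype.val e)
      have v1 := val a.1 b.1 c.1
      have v2 := val a'.1 b'.1 c'.1
      change x i0 i1 a.1 * x i0 i2 b.1 * x i1 i2 c.1 = x i0 i1 a'.1 * x i0 i2 b'.1 * x i1 i2 c'.1
        at e1
      rw [e1] at v1
      rw [Subtype.ext (v1.1.symm.trans v2.1 : a.1 = a'.1),
        Subtype.ext (v1.2.1.symm.trans v2.2.1 : b.1 = b'.1),
        Subtype.ext (v1.2.2.symm.trans v2.2.2 : c.1 = c'.1)]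
    have c1 := Nat.card_le_card_of_injective g inj
    have : Nontrivial F0 := ⟨⟨0, map_zero ψ⟩, ⟨1, map_one ψ⟩, fun e => zero_ne_one
      (congrArg Subtype.val e)⟩
    have c2 : 1 < Nat.card F0 := Finite.one_lt_card
    rw [Nat.card_prod, Nat.card_prod] at c1
    rw [d.card_eq]
    change Nat.card F0 ^ 2 < _
    nlinarith [Nat.mul_pos (show 0 < Nat.card F0 by omega) (show 0 < Nat.card F0 by omega)]

end Grp

/-- **LG** -/
theorem lg : LGStmt.{u, v} := by
  intro F V _ _ _ _ _ G _ _ P φ L k _ h g1 g2 _ nf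
  exact ⟨fun r hr r' hr' h2 h2' h3 h4 => cls h g1 nf hr hr' h2 h2' h3 h4,
    fun r hr h2 h3 R hR hp => le h g1 nf hr h2 h3 hR hp,
    fun r hr h2 h3 => big h g1 g2 nf hr h2 h3⟩

end Cfsg.Agent.H66.T6.H8.SpLG
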