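import Cfsg.Agent.H66.T6Defs2
import Cfsg.Agent.H68.SpDefs2

/-!
# Standard subgroups of type `Sp₆(2)`: definitions, part two

The interface propositions of `Cfsg.Agent.H68.SpDefs2` for `(k, q) = (3, 2)`.
-/

set_option autoImplicit false

namespace Cfsg.Agent.H66.T6

open Cfsg Cfsg.Agent.H63 Cfsg.Agent.H63.SL Cfsg.Agent.H26 Cfsg.Agent.H78 Subgroup Module
open Cfsg.Agent.H68.Sp
open Cfsg.Agent.H63.WR (ClsI Hat)
open Cfsg.Agent.H34.UM (WL2 Low)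
open Cfsg.Agent.H34.TW (TGI)
open scoped commutatorElement

universe u v w

/-- **MODL** -/
def ModlStmt : Prop :=
  ∀ {G : Type u} [Group G] [Finite G] (L : Subgroup G) {F : Type v} [Field F]
    [Fintype F], Fintype.card F = 2 → IsQuasisimple L → Nonempty (L ≃* PSp 3 F) →
    ∃ (V : Type v) (_ : AddCommGroup V) (_ : Module F V) (_ : FiniteDimensional F V)
      (P : PForm F V) (φ : P.E →* G), SM P φ L 3 ∧ AutS P

/-! ### Recognition -/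

/-- **RS** -/
def RSStmt : Prop := CAll.{u, v} fun {F} _ _ _ _ _ _ P φ L k t =>
  ∀ c0 y Z, Y1 P φ L t 0 y → Sh P φ 0 c0 y → ShS P φ t c0 y Z →
    ∀ (K : Type) [Field K] [Fintype K], (K ≃+* QA F c0) → Rec (GA P φ L t) (PSp k K)

/-- **RU0** -/
def RU0Stmt : Prop := CAll.{u, v} fun {F} _ _ _ _ _ _ P φ L k t =>
  ∀ c0 y, Y1 P φ L t 1 y → Sh P φ 1 c0 y → AddU P φ c0 y →
    ∀ (K : Type) [Field K] [Fintype K], (K ≃+* QA F c0) →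
      Rec (GA P φ L t) (PSU (2 * k) K (Nat.card F))

/-- **RU1** -/
def RU1Stmt : Prop := CAll.{u, v} fun {F} _ _ _ _ _ _ P φ L k t =>
  ∀ c0 y p, Y1 P φ L t 1 y → Sh P φ 1 c0 y → AddU P φ c0 y → PC P φ L t y p →
    ∀ (K : Type) [Field K] [Fintype K], (K ≃+* QA F c0) →
      Rec (GL' P φ L t) (PSU (2 * k + 1) K (Nat.card F))

/-- **RO** -/
def ROStmt : Prop := CAll.{u, v} fun {F} _ _ _ _ _ _ P φ L k t =>
  ∀ Fr : Frame P k, Fr.Norm → ∀ c0 p, PB P φ Fr L t c0 p → (∀ ρ : F, ρ * ρ + ρ ≠ c0) →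
    Nonempty (GO P φ L t ≃* POmega F (quadFormMinus k F 1 c0)) ∧
    ∃ (W : Type v) (_ : AddCommGroup W) (_ : Module F W) (_ : FiniteDimensional F W)
      (P0 : PForm F W) (φ0 : P0.E →* _) (w : W), OM P0 φ0 (GO P φ L t) k t w

/-- **RL0** -/
def RL0Stmt : Prop := CAll.{u, v} fun {F} _ _ _ _ G _ P φ L k t =>
  ∀ c0 y, Y1 P φ L t 1 y → Sh P φ 1 c0 y → AddU P φ c0 y → ∀ ρ : F, ρ * ρ + ρ = c0 →
    ∀ n, n + 1 = 2 * k → ∃ x : An.Φ n → F → G, Pin (An.R n) x ∧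
      (∀ r a, t * x r a * t⁻¹ = x (An.γ n r) a) ∧ UU x Set.univ = GA P φ L t ∧
      ∀ r, An.γ n r = r → ∃ v, v ≠ 0 ∧ ∀ c, x r c = tv P φ v c

/-- **RL1** -/
def RL1Stmt : Prop := CAll.{u, v} fun {F} _ _ _ _ G _ P φ L k t =>
  ∀ c0 y p, Y1 P φ L t 1 y → Sh P φ 1 c0 y → AddU P φ c0 y → PC P φ L t y p →
    ∀ ρ : F, ρ * ρ + ρ = c0 → ∃ x : An.Φ (2 * k) → F → G, Pin (An.R (2 * k)) x ∧
      (∀ r a, t * x r a * t⁻¹ = x (An.γ (2 * k) r) a) ∧ UU x Set.univ = GL' P φ L t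

/-- **OPL**: the whole plus type chain. -/
def OPlStmt : Prop := CAll.{u, v} fun {F} _ _ _ _ _ _ P φ L k t => R2 L t →
  ∀ Fr : Frame P k, Fr.Norm → ∀ c0 p, PB P φ Fr L t c0 p → ∀ ρ : F, ρ * ρ + ρ = c0 →
    ∀ X, GC X (GO P φ L t) t → DC (GO P φ L t) t → B1 (Nat.card F) t → RK (Nat.card F) k t →
      (∀ n, Nat.card F = 2 ^ n → SB n k t) → (∀ j ∈ L, j ∉ Dt t) →
      Nonempty (X ≃* POmega F (quadFormPlus (k + 1) F))

/-! ### The wreath case -/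

/-- **WSP** -/
def WSpStmt : Prop := CAll.{u, v} fun {F} _ _ _ _ _ _ P φ L _ t => R2 L t →
  ∀ c0 y Z, Y1 P φ L t 0 y → Sh P φ 0 c0 y → ShS P φ t c0 y Z → ∀ ρ : F, ρ * ρ + ρ = c0 →
    ∃ L1, H34.TW.Sp L L1 t ∧ L1 ⊔ cj t L1 = GA P φ L t ∧
      ∀ u v, I2 P u v → ∃ a ∈ L1, a * a = 1 ∧ a * (t * a * t⁻¹) = Es P φ u v

/-- **WHAT** -/
def WHatStmt : Prop := CAll.{u, v} fun P φ L _ t => AutS P → PF L →
  ∀ L1, H34.TW.Sp L L1 t → Nonempty (L1 ≃* L) → L1 ⊔ cj t L1 = GA P φ L t →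
    (∀ u v, I2 P u v → ∃ a ∈ L1, a * a = 1 ∧ a * (t * a * t⁻¹) = Es P φ u v) → Hat L1 t

/-- **WL** -/
def WLStmt : Prop := GAll.{u, v} fun P φ L k => LL P φ L k →
  ∀ Fr : Frame P k, Fr.Norm → WL2 L (UF P φ Fr)

/-- **WCI** -/
def WCiStmt : Prop := GAll.{u, v} fun P φ L k => LL P φ L k →
  ClsI L ∧ ∀ Fr : Frame P k, Fr.Norm → TGI L (UF P φ Fr)

/-- **WLOW** -/
def WLowStmt : Prop := GAll.{u, v} fun {F} _ _ _ _ _ _ P φ L k => LL P φ L k →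
  ∀ n, Nat.card F = 2 ^ n → Low L (2 * n * (2 ^ n) ^ (k * k))

/-! ### The end games -/

/-- **ENDM** -/
def EndMStmt : Prop :=
  ∀ {F V : Type v} [Field F] [Finite F] [AddCommGroup V] [Module F V] [FiniteDimensional F V]
    {G : Type u} [Group G] [Finite G] (P : PForm F V) (φ : P.E →* G) (G0 : Subgroup G)
    (t : G) (w : V), OM P φ G0 3 t w → Nat.card F = 2 →
    ∀ X, GC X G0 t → DC G0 t → G0 = X

end Cfsg.Agent.H66.T6
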