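import Cfsg.Agent.H29.SpKit
import Cfsg.Agent.H66.T6Defs2

/-!
Project SP, piece S0: a `2`-central element `z` of `L` with `t z` conjugate to `t`.
-/

set_option autoImplicit false
set_option linter.unusedSectionVars false

namespace Cfsg.Agent.H66.T6.H23.SpS0

open Cfsg Cfsg.Agent.H63 Cfsg.Agent.H63.SL Cfsg.Agent.H26 Cfsg.Agent.H68.Sp Cfsg.Agent.H29.SpK
open Cfsg.Agent.H78 hiding tv
open Subgroup Module
open scoped commutatorElement

universe u v

section General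

variable {G : Type u} [Group G]

theorem mem_LK {L : Subgroup G} {m : G} (h : m ∈ L ⊔ C[L]) :
    ∃ l ∈ L, ∃ k ∈ C[L], m = l * k := by
  let J : Subgroup G :=
    { carrier := {m | ∃ l ∈ L, ∃ k ∈ C[L], m = l * k}
      one_mem' := ⟨1, one_mem _, 1, one_mem _, (one_mul 1).symm⟩
      mul_mem' := by
        rintro _ _ ⟨l, hl, k, hk, rfl⟩ ⟨l', hl', k', hk', rfl⟩
        refine ⟨l * l', mul_mem hl hl', k * k', mul_mem hk hk', ?_⟩
        rw [mul_assoc, mul_assoc, ← mul_assoc k, ← hk l' hl', mul_assoc]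
      inv_mem' := by
        rintro _ ⟨l, hl, k, hk, rfl⟩
        refine ⟨l⁻¹, inv_mem hl, k⁻¹, inv_mem hk, ?_⟩
        rw [hk l hl, mul_inv_rev] }
  have : L ⊔ C[L] ≤ J :=
    sup_le (fun l hl => ⟨l, hl, 1, one_mem _, (mul_one l).symm⟩)
      (fun k hk => ⟨1, one_mem _, k, hk, (one_mul k).symm⟩)
  exact this h

/-- The elements of `A ⟨t⟩` for an involution `t` centralizing `A`. -/
theorem mem_At {A : Subgroup G} {t : G} (ht : t * t = 1) (hc : ∀ a ∈ A, a * t = t * a) {x : G}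
    (hx : x ∈ A ⊔ zpowers t) : x ∈ A ∨ t * x ∈ A := by
  let J : Subgroup G :=
    { carrier := {m | m ∈ A ∨ t * m ∈ A}
      one_mem' := Or.inl (one_mem _)
      mul_mem' := by
        rintro a b (ha | ha) (hb | hb)
        · exact Or.inl (mul_mem ha hb)
        · refine Or.inr ?_
          have := mul_mem ha hb
          rwa [← mul_assoc, hc a ha, mul_assoc] at this
        · exact Or.inr (by simpa [mul_assoc] using mul_mem ha hb)
        · refine Or.inl ?_
          have := mul_mem ha hb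
          rwa [← mul_assoc, hc _ ha, ← mul_assoc, ht, one_mul] at this
      inv_mem' := by
        rintro a (ha | ha)
        · exact Or.inl (inv_mem ha)
        · refine Or.inr ?_
          have h1 := inv_mem ha
          have hti : t⁻¹ = t := inv_eq_of_mul_eq_one_right ht
          have h2 := hc _ h1
          rw [mul_inv_rev, hti] at h1 h2
          rw [mul_assoc, ht, mul_one] at h2
          have : t * a⁻¹ = a⁻¹ * t := by
            conv_lhs => rw [h2]
            rw [← mul_assoc, ht, one_mul]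
          rwa [this] }
  have : A ⊔ zpowers t ≤ J :=
    sup_le (fun a ha => Or.inl ha) (zpowers_le.2 (Or.inr (by rw [ht]; exact one_mem _)))
  exact this hx

theorem Dt_conj {t x : G} (n : G) (h : x ∈ Dt t) : n * x * n⁻¹ ∈ Dt t := by
  obtain ⟨g, hg⟩ := h
  exact ⟨n * g, by rw [hg]; group⟩

theorem Dt_conj' {t x : G} (n : G) (h : n * x * n⁻¹ ∈ Dt t) : x ∈ Dt t := by
  have := Dt_conj n⁻¹ h
  rwa [show n⁻¹ * (n * x * n⁻¹) * n⁻¹⁻¹ = x by group] at this

theorem prod_fix {B : Type u} [CommGroup B] (Δ : Finset B) (α : B ≃* B)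
    (h : ∀ x, x ∈ Δ ↔ α x ∈ Δ) : α (∏ x ∈ Δ, x) = ∏ x ∈ Δ, x := by
  rw [map_prod]
  exact Finset.prod_equiv α.toEquiv h (fun x _ => rfl)

theorem even_of_prod {B : Type u} [CommGroup B] (Δ : Finset B) (p : B → Prop) [DecidablePred p]
    (hp : ∀ x y, p (x * y) ↔ (p x ↔ p y)) (h : ∏ x ∈ Δ, x = 1) :
    Even (Δ.filter fun x => ¬ p x).card := by
  let lam : B →* ℤˣ := MonoidHom.mk' (fun x => if p x then 1 else -1) fun x y => by
    have := hp x y
    by_cases h1 : p x <;> by_cases h2 : p y <;> simp_all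
  have h1 : lam (∏ x ∈ Δ, x) = 1 := by rw [h, map_one]
  rw [map_prod] at h1
  change ∏ x ∈ Δ, (if p x then (1 : ℤˣ) else -1) = 1 at h1
  rw [Finset.prod_ite, Finset.prod_const_one, one_mul, Finset.prod_const] at h1
  exact (neg_one_pow_eq_one_iff_even (by decide)).1 h1

/-- An invariant element of an abelian subgroup which controls a parity. -/
theorem exists_sigma [Finite G] {A B : Subgroup G} (t : G)
    (hcomm : ∀ x ∈ B, ∀ y ∈ B, x * y = y * x)
    (hmul : ∀ x ∈ B, ∀ y ∈ B, (x * y ∈ A ↔ (x ∈ A ↔ y ∈ A))) :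
    ∃ σ ∈ B, (∀ n ∈ N[B], n * σ * n⁻¹ = σ) ∧
      (σ = 1 → Even (Nat.card {x : G // x ∈ B ∧ x ∈ Dt t ∧ x ∉ A})) := by
  classical
  letI : CommGroup B :=
    { (inferInstance : Group B) with mul_comm := fun a b => Subtype.ext (hcomm _ a.2 _ b.2) }
  haveI : Fintype B := Fintype.ofFinite B
  obtain ⟨Δ, hΔ⟩ : ∃ Δ : Finset B, ∀ x, x ∈ Δ ↔ (x : G) ∈ Dt t :=
    ⟨Finset.univ.filter fun x => (x : G) ∈ Dt t, fun x => by simp⟩
  refine ⟨(∏ x ∈ Δ, x : B), Subtype.property _, fun n hn => ?_, fun h => ?_⟩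
  · let α : B ≃* B := B.normalizerMonoidHom ⟨n, hn⟩
    have hα : ∀ x : B, ((α x : B) : G) = n * x * n⁻¹ := fun x => rfl
    rw [← hα, prod_fix Δ α fun x => ?_]
    rw [hΔ, hΔ, hα]
    exact ⟨Dt_conj n, Dt_conj' n⟩
  · have hev := even_of_prod Δ (fun x => (x : G) ∈ A) (fun x y => hmul _ x.2 _ y.2)
      (Subtype.ext h)
    rw [← Nat.card_eq_finsetCard] at hev
    rw [Nat.card_congr (β := (Δ.filter fun x : B => ¬ (x : G) ∈ A))
      ⟨fun x => ⟨⟨x.1, x.2.1⟩, Finset.mem_filter.2 ⟨(hΔ _).2 x.2.2.1, x.2.2.2⟩⟩,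
        fun x => ⟨x.1.1, x.1.2, (hΔ _).1 (Finset.mem_filter.1 x.2).1,
          (Finset.mem_filter.1 x.2).2⟩, fun _ => rfl, fun _ => rfl⟩]
    exact hev

/-- A second fixed point of a `2`-group acting by conjugation. -/
theorem second_fix [Finite G] {U : Subgroup G} (h2 : IsPGroup 2 U) (p : G → Prop)
    (hp : ∀ n ∈ U, ∀ x, p x → p (n * x * n⁻¹)) (hev : Even (Nat.card {x // p x})) {t : G}
    (ht : p t) (hc : ∀ a ∈ U, a * t = t * a) : ∃ b, p b ∧ b ≠ t ∧ ∀ n ∈ U, n * b = b * n := by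
  letI : MulAction U {x // p x} :=
    { smul := fun n x => ⟨n * x * (n : G)⁻¹, hp n n.2 x x.2⟩
      one_smul := fun x => Subtype.ext (by change (1 : G) * x * 1⁻¹ = x; group)
      mul_smul := fun m n x => Subtype.ext (by
        change (m : G) * n * x * (m * n : G)⁻¹ = m * (n * x * (n : G)⁻¹) * (m : G)⁻¹
        group) }
  haveI : Fact (Nat.Prime 2) := ⟨Nat.prime_two⟩
  have ht0 : (⟨t, ht⟩ : {x // p x}) ∈ MulAction.fixedPoints U {x // p x} :=
    fun n => Subtype.ext (by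
      change (n : G) * t * (n : G)⁻¹ = t
      rw [hc n n.2, mul_inv_cancel_right])
  obtain ⟨b, hb, hne⟩ := h2.exists_fixed_point_of_prime_dvd_card_of_fixed_point {x // p x}
    hev.two_dvd ht0
  refine ⟨b, b.2, fun h => hne (Subtype.ext h.symm), fun n hn => ?_⟩
  have h3 : n * (b : G) * n⁻¹ = b := congrArg Subtype.val (hb ⟨n, hn⟩)
  exact mul_inv_eq_iff_eq_mul.1 h3

/-- The parity argument. -/
theorem parity [Finite G] {A U : Subgroup G} {t : G} (ht : t * t = 1) (htA : t ∉ A)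
    (hc : ∀ a ∈ U, a * t = t * a) (hA : ∀ a ∈ A, ∀ b ∈ A, a * b = b * a)
    (hAU : A ≤ U) (hU : U ≤ N[A]) (h2 : IsPGroup 2 U)
    (hfix : ∀ a ∈ A, (∀ n ∈ N[A ⊔ zpowers t], n * t = t * n → n * a = a * n) → a = 1)
    (hmove : ∃ n ∈ N[A ⊔ zpowers t], n * t * n⁻¹ ≠ t) :
    ∃ z ∈ Z[U], z ≠ 1 ∧ t * z ∈ Dt t := by
  have hcA : ∀ a ∈ A, a * t = t * a := fun a ha => hc a (hAU ha)
  have htB : t ∈ A ⊔ zpowers t := mem_sup_right (mem_zpowers t)
  have hAB : A ≤ A ⊔ zpowers t := le_sup_left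
  have hdec : ∀ x ∈ A ⊔ zpowers t, ∃ a ∈ A, x = a ∨ x = t * a := by
    intro x hx
    rcases mem_At ht hcA hx with h | h
    · exact ⟨x, h, Or.inl rfl⟩
    · exact ⟨t * x, h, Or.inr (by rw [← mul_assoc, ht, one_mul])⟩
  generalize A ⊔ zpowers t = B at hfix hmove htB hAB hdec
  have hcomm : ∀ x ∈ B, ∀ y ∈ B, x * y = y * x := by
    intro x hx y hy
    obtain ⟨a, ha, h1⟩ := hdec x hx
    obtain ⟨b, hb, h2⟩ := hdec y hy
    have c1 : Commute a b := hA a ha b hb
    have c2 : Commute a t := hcA a ha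
    have c3 : Commute t b := (hcA b hb).symm
    rcases h1 with h1 | h1 <;> rcases h2 with h2 | h2 <;> rw [h1, h2]
    · exact c1
    · exact (c2.mul_right c1).eq
    · exact (c3.mul_left c1).eq
    · exact (((Commute.refl t).mul_right c3).mul_left (c2.mul_right c1)).eq
  have hmul : ∀ x ∈ B, ∀ y ∈ B, (x * y ∈ A ↔ (x ∈ A ↔ y ∈ A)) := by
    intro x hx y hy
    have key : ∀ a ∈ A, t * a ∉ A := fun a ha h => htA ((A.mul_mem_cancel_right ha).1 h)
    obtain ⟨a, ha, h1⟩ := hdec x hx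
    obtain ⟨b, hb, h2⟩ := hdec y hy
    have hab := mul_mem ha hb
    have k1 := key a ha
    have k2 := key b hb
    have k3 := key _ hab
    rcases h1 with h1 | h1 <;> rcases h2 with h2 | h2 <;> rw [h1, h2]
    · exact iff_of_true hab (iff_of_true ha hb)
    · rw [← mul_assoc, hcA a ha, mul_assoc]
      exact iff_of_false k3 fun h => k2 (h.1 ha)
    · rw [mul_assoc]
      exact iff_of_false k3 fun h => k1 (h.2 hb)
    · have : t * a * (t * b) = a * b := by
        rw [← hcA a ha, mul_assoc, ← mul_assoc t, ht, one_mul]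
      rw [this]
      exact iff_of_true hab (iff_of_false k1 k2)
  obtain ⟨σ, hσB, hσ, hev⟩ := exists_sigma t hcomm hmul
  have hσ1 : σ = 1 := by
    obtain ⟨a, ha, h1 | h1⟩ := hdec σ hσB
    · refine h1.trans (hfix a ha fun n hn _ => ?_)
      have := hσ n hn
      rw [h1] at this
      exact mul_inv_eq_iff_eq_mul.1 this
    · have ha1 : a = 1 := hfix a ha fun n hn hnt => by
        have := mul_inv_eq_iff_eq_mul.1 (hσ n hn)
        rw [h1, ← mul_assoc, hnt, mul_assoc, mul_assoc] at this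
        exact mul_left_cancel this
      obtain ⟨n, hn, hnt⟩ := hmove
      have := hσ n hn
      rw [h1, ha1, mul_one] at this
      exact absurd this hnt
  have hUB : ∀ n ∈ U, ∀ x ∈ B, n * x * n⁻¹ ∈ B := by
    intro n hn x hx
    obtain ⟨a, ha, h | h⟩ := hdec x hx <;> rw [h]
    · exact hAB ((mem_normalizer_iff.1 (hU hn) a).1 ha)
    · rw [← mul_assoc, hc n hn, mul_assoc, mul_assoc, ← mul_assoc n]
      exact mul_mem htB (hAB ((mem_normalizer_iff.1 (hU hn) a).1 ha))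
  obtain ⟨b, hb, hne, hbU⟩ := second_fix h2 (fun x => x ∈ B ∧ x ∈ Dt t ∧ x ∉ A)
    (fun n hn x hx => ⟨hUB n hn x hx.1, Dt_conj n hx.2.1,
      fun h => hx.2.2 ((mem_normalizer_iff.1 (hU hn) x).2 h)⟩) (hev hσ1)
    ⟨htB, ⟨1, by group⟩, htA⟩ hc
  obtain ⟨a, ha, h1 | h1⟩ := hdec b hb.1
  · exact absurd (h1 ▸ ha) hb.2.2
  · refine ⟨a, ⟨hAU ha, fun n hn => ?_⟩, fun h => hne (by rw [h1, h, mul_one]), h1 ▸ hb.2.1⟩
    have h4 := hbU n hn
    rw [h1, ← mul_assoc, hc n hn, mul_assoc, mul_assoc] at h4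
    exact mul_left_cancel h4

end General

section Main

variable {F V : Type v} [Field F] [Finite F] [AddCommGroup V] [Module F V]
  {G : Type u} [Group G] [Finite G] {P : PForm F V} {φ : P.E →* G} {L : Subgroup G} {k : ℕ}
  {t : G}

theorem zL (c : LL P φ L k) {z : G} (hz : z ∈ L) (hc : z ∈ C[L]) : z = 1 := by
  obtain ⟨e, rfl⟩ := exists_φ c.toSG hz
  refine (φ_eq_one c.toSG).2 fun x => ?_
  by_cases hx : x = 0
  · rw [hx, map_zero]
  · exact c.nf.ct e x 1 hx one_ne_zero (hc _ (ET_mem c.toSG x 0 1)).symm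

theorem tt (h : Tc L t) : t * t = 1 := by rw [← pow_two, ← h.t2, pow_orderOf_eq_one]

theorem t_ne (h : Tc L t) : t ≠ 1 := fun e => by
  have := h.t2
  rw [e, orderOf_one] at this
  exact absurd this (by decide)

theorem AW_le (c : LL P φ L k) (Fr : Frame P k) : AW P φ Fr ≤ L :=
  (c.g4.AU Fr).1.trans (c.g4.syl Fr).le

/-- A conjugate of `t` other than `t` in some `A ⟨t⟩`. -/
theorem exists_d (c : Ctx P φ L k t) {g : G} (hc : Commute (g * t * g⁻¹) t)
    (hne : g * t * g⁻¹ ≠ t) :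
    ∃ Fr : Frame P k, ∃ d ∈ Dt t, d ≠ t ∧ d ∈ AW P φ Fr ⊔ zpowers t := by
  have ht := tt c.tc
  set d := g * t * g⁻¹ with hd
  have hdd : d * d = 1 := by
    rw [hd, show g * t * g⁻¹ * (g * t * g⁻¹) = g * (t * t) * g⁻¹ by group, ht]; group
  have hdN : d ∈ N[L] := c.tc.cN (mem_centralizer_singleton_iff.2 hc)
  by_cases hin : d ∈ L ⊔ C[L]
  · obtain ⟨l, hl, κ, hκ, hlk⟩ := mem_LK hin
    have cm : Commute l κ := hκ l hl
    have h3 : l ^ 2 * κ ^ 2 = 1 := by rw [← cm.mul_pow, pow_two, ← hlk, hdd]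
    have h4 : κ ^ 2 = (l ^ 2)⁻¹ := eq_inv_of_mul_eq_one_right h3
    have h5 : κ ^ 2 = 1 :=
      zL c.toLL (by rw [h4]; exact L.inv_mem (L.pow_mem hl 2)) (pow_mem hκ 2)
    have h6 : l * l = 1 := by rwa [h5, mul_one, pow_two] at h3
    have hlt : Commute l t := c.tc.tc l hl
    have hκt : Commute κ t := by
      have : κ = l⁻¹ * d := by rw [hlk]; group
      rw [this]
      exact hlt.inv_left.mul_left hc
    obtain ⟨Fr, -, hFr⟩ := c.g3.inv l hl h6
    refine ⟨Fr, d, ⟨g, rfl⟩, hne, ?_⟩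
    rw [hlk]
    refine mul_mem (mem_sup_left hFr) (mem_sup_right ?_)
    rcases c.tc.one κ hκ hκt (by rw [← pow_two, h5]) with h | h
    · rw [h]; exact one_mem _
    · rw [h]; exact mem_zpowers t
  · obtain ⟨H, E, hH, hp, hE, h2, hcard⟩ := c.lg.big d hdN (by rw [hdd]; exact one_mem _) hin
    have hE1 : E ≠ ⊥ := by
      rintro rfl
      rw [card_bot] at hcard
      have : 0 < Nat.card F := Nat.card_pos
      omega
    obtain ⟨⟨j, hj⟩, hj1⟩ := ne_bot_iff_exists_ne_one.1 hE1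
    have hj1' : j ≠ 1 := fun h => hj1 (Subtype.ext h)
    have hjL : j ∈ L := (hH (hE hj)).1
    have hjd : Commute j d := mem_centralizer_singleton_iff.1 (hH (hE hj)).2
    have hjj := h2 j hj
    obtain ⟨j', hj', hjg⟩ : j ∈ cj g L := by
      refine (c.cnj g).oc H (fun x hx => (hH hx).2) j (mem_sup_right ?_) ⟨1, ?_⟩
      · rw [hp, hp]; exact hE hj
      · rw [pow_one, pow_two, hjj]
    change g * j' * g⁻¹ = j at hjg
    have hdi : d⁻¹ = d := inv_eq_of_mul_eq_one_right hdd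
    obtain ⟨l, hl, hlc⟩ := c.lg.cls d hdN (d * j) (mul_mem hdN (le_normalizer hjL))
      (by rw [hdd]; exact one_mem _)
      (by
        rw [show d * j * (d * j) = d * (j * d) * j by group, hjd.eq,
          show d * (d * j) * j = d * d * (j * j) by group, hdd, hjj, one_mul]
        exact one_mem _) hin
      (mem_sup_left ((mem_normalizer_iff.1 hdN j).1 hjL))
    have h1 : l * (d * j) * l⁻¹ * d⁻¹ = 1 := by
      refine zL c.toLL ?_ hlc
      rw [show l * (d * j) * l⁻¹ * d⁻¹ = l * (d * (j * l⁻¹) * d⁻¹) by group]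
      exact mul_mem hl ((mem_normalizer_iff.1 hdN _).1 (mul_mem hjL (inv_mem hl)))
    have h3 : d * j = l⁻¹ * d * l := by
      rw [show d * j = l⁻¹ * (l * (d * j) * l⁻¹ * d⁻¹) * d * l by group, h1]; group
    have hj'j : j' * j' = 1 := by
      have : j' = g⁻¹ * j * g := by rw [← hjg]; group
      rw [this, show g⁻¹ * j * g * (g⁻¹ * j * g) = g⁻¹ * (j * j) * g by group, hjj]; group
    obtain ⟨Fr, -, hFr⟩ := c.g3.inv j' hj' hj'j
    refine ⟨Fr, t * j', ⟨g⁻¹ * l⁻¹ * g, ?_⟩, fun h => hj1' ?_,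
      mul_mem (mem_sup_right (mem_zpowers t)) (mem_sup_left hFr)⟩
    · have : t * j' = g⁻¹ * (d * j) * g := by rw [hd, ← hjg]; group
      rw [this, h3, hd]; group
    · have : j' = 1 := mul_left_cancel (a := t) (by rw [h, mul_one])
      rw [← hjg, this]; group

/-- The frame with permuted indices. -/
def pF (Fr : Frame P k) (π : Equiv.Perm (Fin k)) : Frame P k where
  e b := Fr.e (π b.1, b.2)
  sing _ := Fr.sing _
  orth a b h := Fr.orth _ _ fun h' => h (by
    rw [ng, Prod.ext_iff] at h' ⊢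
    exact ⟨π.injective h'.1, h'.2⟩)
  pair a := Fr.pair (π a.1, a.2)

theorem AW_pF (Fr : Frame P k) (π : Equiv.Perm (Fin k)) : AW P φ (pF Fr π) = AW P φ Fr := by
  unfold AW
  congr 1
  exact π.surjective.range_comp fun i => Fr.e (i, false)

theorem top_idx (h : 3 ≤ k) : ∃ a b : Fin k, ht (a, false) = k ∧ ht (b, false) = k - 1 ∧
    a ≠ b ∧ (a : ℕ) ≠ 0 ∧ (b : ℕ) ≠ 0 := by
  refine ⟨⟨k - 1, by omega⟩, ⟨k - 2, by omega⟩, ?_, ?_, ?_, ?_, ?_⟩
  · rw [ht_false]; push_cast; omega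
  · rw [ht_false]; push_cast; omega
  · intro e; have := congrArg Fin.val e; simp only at this; omega
  · simp only; omega
  · simp only; omega

theorem UF_norm (c : Ctx P φ L k t) (Fr : Frame P k) {n : G} (hn : n ∈ UF P φ Fr) :
    n ∈ N[AW P φ Fr ⊔ zpowers t] ∧ n * t = t * n := by
  have hnt : n * t = t * n := c.tc.tc n ((c.g4.syl Fr).le hn)
  refine ⟨?_, hnt⟩
  have h1 : n ∈ N[zpowers t] := by
    refine centralizer_le_normalizer _ fun x hx => ?_
    obtain ⟨m, rfl⟩ := hx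
    exact ((show Commute t n from hnt.symm).zpow_left m).eq
  exact normalizer_inf_normalizer_le_normalizer_sup _ _ ⟨(c.g4.AU Fr).2 hn, h1⟩

theorem fix_one (c : Ctx P φ L k t) (Fr : Frame P k) {a : G} (ha : a ∈ AW P φ Fr)
    (h : ∀ n ∈ N[AW P φ Fr ⊔ zpowers t], n * t = t * n → n * a = a * n) : a = 1 := by
  obtain ⟨x, y, hx, hy, -, hx0, hy0⟩ := top_idx c.k3
  obtain ⟨e, rfl⟩ := exists_φ c.toSG (AW_le c.toLL Fr ha)
  have hb : ∀ b, e.1 (Fr.e b) = Fr.e b := by
    intro b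
    let o : Fin k := ⟨0, by have := c.k3; omega⟩
    let π := Equiv.swap o b.1
    have hπ : ∀ i : Fin k, (i : ℕ) ≠ 0 → π i ≠ b.1 := fun i hi h' => by
      have : i = o := π.injective (h'.trans (Equiv.swap_apply_left o b.1).symm)
      exact hi (congrArg Fin.val this)
    have hz : φ e ∈ Z[UF P φ (pF Fr π)] := by
      refine ⟨(c.g4.AU _).1 (by rw [AW_pF]; exact ha), fun n hn => ?_⟩
      have := UF_norm c _ hn
      rw [AW_pF] at this
      exact h n this.1 this.2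
    obtain ⟨r, s, hrs⟩ := (c.g4.zU (pF Fr π) _ _ hx hy _).1 hz
    have he : e = eE P _ _ _ := c.inj hrs
    have o1 : ∀ i : Fin k, (i : ℕ) ≠ 0 → P.f (Fr.e b) ((pF Fr π).e (i, false)) = 0 :=
      fun i hi => Fr.orth _ _ fun h' => hπ i hi (congrArg Prod.fst h')
    rw [he]
    refine eE_fix c.toSG (o1 x hx0) ?_ _
    rw [fr c.toSG, o1 y hy0, mul_zero]
  refine (φ_eq_one c.toSG).2 fun w => ?_
  have hw := Fr.sub_sum_mem w
  rw [c.g1.v0, Submodule.mem_bot, sub_eq_zero] at hw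
  rw [hw, map_sum]
  exact Finset.sum_congr rfl fun b _ => by rw [map_smul, hb]

end Main

theorem s0 : S0Stmt.{u, v} := by
  intro F V _ _ _ _ _ G _ _ P φ L k t c tr ⟨g, hc, hne⟩
  obtain ⟨Fr, d, hd, hdt, hdA⟩ := exists_d c hc hne
  obtain ⟨n, hn, hnd⟩ := tr Fr d hd hdA
  have hiso : ∀ x ∈ Set.range fun i => Fr.e (i, false), ∀ y ∈ Set.range fun i => Fr.e (i, false),
      P.f x y = 0 := by
    rintro _ ⟨i, rfl⟩ _ ⟨j, rfl⟩
    exact Fr.orth _ _ fun h => by simpa [ng] using congrArg Prod.snd h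
  obtain ⟨-, h1, h2, h3, -⟩ := c.g2.el _ hiso
  obtain ⟨z, hz, hz1, hzD⟩ := parity (A := AW P φ Fr) (U := UF P φ Fr) (tt c.tc)
    (fun h => t_ne c.tc (zL c.toLL (AW_le c.toLL Fr h) c.tc.tc))
    (fun a ha => (UF_norm c Fr ha).2) (fun a ha b hb => h3 hb a (h2 (h1 ha)))
    (c.g4.AU Fr).1 (c.g4.AU Fr).2 (c.g4.syl Fr).isPGroup
    (fun a ha h => fix_one c Fr ha h) ⟨n, hn, by rw [hnd]; exact hdt⟩
  obtain ⟨x, y, hx, hy, hxy, -, -⟩ := top_idx c.k3
  obtain ⟨r, s, rfl⟩ := (c.g4.zU Fr _ _ hx hy _).1 hz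
  refine ⟨Fr.e (x, false), Fr.e (y, false), ⟨hiso _ ⟨x, rfl⟩ _ ⟨y, rfl⟩, ?_⟩, r, s, ?_, hzD⟩
  · have := (c.g1.li Fr).comp ![(x, false), (y, false)] (by
      intro i j hij
      fin_cases i <;> fin_cases j
      · rfl
      · exact absurd (congrArg Prod.fst hij) hxy
      · exact absurd (congrArg Prod.fst hij) hxy.symm
      · rfl)
    convert this using 1
    ext i
    fin_cases i <;> rfl
  · by_contra h
    push Not at h
    exact hz1 (by rw [h.1, h.2, zero_smul, ET_zero])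

end Cfsg.Agent.H66.T6.H23.SpS0
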