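import Mathlib
import Cfsg.Agent.H34.TwHat
import Cfsg.Agent.H66.T6Defs3
import Cfsg.Agent.H29.SpKit

/-!
# The wreath case for symplectic groups: a conjugate of `t` swapping the factors
-/

set_option autoImplicit false
set_option linter.style.haveILetI false
set_option linter.unusedSectionVars false

namespace Cfsg.Agent.H66.T6.H59.SpWhat

open Cfsg Cfsg.Agent.H63 Cfsg.Agent.H63.SL Cfsg.Agent.H34 Cfsg.Agent.H34.TW Subgroup
open Cfsg.Agent.H27.End (mem_C comm_of_C conj_mem eq_one_of_is2 is2_of_sq mem_C1 mem_N_of_conj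
  odd_orderOf_of_mem is2_of_mem)
open Cfsg.Agent.H37.Kit (mem_cj)
open Cfsg.Agent.H67 (cj_le_iff cj_eq_self cj_eq_self_iff cj_mono cj_normalizer cj_cj cj_inj cj_sup
  cj_le_of_mem_normalizer)
open Cfsg.Agent.H63.WR (Hat)
open scoped commutatorElement Pointwise

universe u v

/-- The type free part. -/
theorem hat' {G : Type u} [Group G] [Finite G] {L L1 : Subgroup G} {t : G} (h : Sp L L1 t)
    (pf : PF L) (iso : Nonempty (L1 ≃* L)) {y : G} (hy : y ∈ L1) (y1 : y ≠ 1) (y2 : y * y = 1)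
    (key : ∀ (α : L ≃* L) (p : G), p * p = 1 → p * t * p⁻¹ = t * α (h.f ⟨y, hy⟩) →
      (∀ c ∈ L, Commute c (α (h.f ⟨y, hy⟩) : G) → Commute c p) → p ∈ L1 ⊔ cj t L1) :
    Hat L1 t := by
  intro g hg hn
  have hd := h.sw hg hn
  set d := g * t * g⁻¹ with hdd
  have dd : d * d = 1 := by rw [hdd, conj_mul, h.tt]; simp
  have di : d⁻¹ = d := inv_eq_of_mul_eq_one_right dd
  let φ : L1 →* G := (MulAut.conj g⁻¹).toMonoidHom.comp (dg (h.comd hd))
  have hφ : ∀ n, φ n = g⁻¹ * (n * (d * n * d⁻¹)) * g := fun n => by simp [φ, dg]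
  have φi : ∀ {a b : L1}, Is2 (a : G) → Is2 (b : G) → φ a = φ b → a = b := fun ha hb e =>
    h.inj hd ha hb ((MulAut.conj g⁻¹).injective e)
  have h1 : φ.range ≤ L := by
    refine pf.2 _ (le_trans ?_ h.tc.cN) ?_
    · rintro _ ⟨n, rfl⟩
      have := (h.comd hd n n.2 n n.2).eq
      rw [mem_C1, hφ, show t = g⁻¹ * d * g by rw [hdd]; group]
      change _ * _ = _ * _
      calc g⁻¹ * (n * (d * n * d⁻¹)) * g * (g⁻¹ * d * g) = g⁻¹ * (n * (d * n * d⁻¹)) * d * g := by group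
        _ = g⁻¹ * (d * n * (d * d) * d⁻¹ * n * d) * g := by rw [this, dd]; group
        _ = _ := by rw [di]; nth_rewrite 3 [← di]; group
    · haveI := isPerfect_iff.2 h.perf
      exact isPerfect_iff.1 (Group.IsPerfect.range φ)
  let y' : L1 := ⟨y, hy⟩
  have yn : φ y' ≠ 1 := fun e => y1 (congrArg Subtype.val
    (φi (a := y') (b := 1) (is2_of_sq y2) (is2_of_sq (by simp)) (by rw [e, map_one])))
  haveI := H52.IsQuasisimple.nontrivial h.qs
  have h2 : Function.Surjective (φ.codRestrict L fun n => h1 ⟨n, rfl⟩) :=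
    surj_of_bar h.qs1 h.qs (H35.PinM.bar_equiv h.f_surj h.qs1).some _ fun e =>
      yn (congrArg Subtype.val (e.ge (mem_top y')))
  have h3 : ∀ l ∈ L, ∃ n, φ n = l := fun l hl => by
    obtain ⟨n, hn⟩ := h2 ⟨l, hl⟩
    exact ⟨n, congrArg Subtype.val hn⟩
  have act : ∀ n a : L1, φ n * (g⁻¹ * a * g) * (φ n)⁻¹ = g⁻¹ * (n * a * (n : G)⁻¹) * g := fun n a => by
    have := (h.comd hd a a.2 n n.2).eq
    rw [hφ]
    calc _ = g⁻¹ * (n * ((d * n * d⁻¹) * a) * (d * n * d⁻¹)⁻¹ * (n : G)⁻¹) * g := by group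
      _ = _ := by rw [← this]; group
  have fix : ∀ n : L1, Commute (φ n) (φ y') → Commute (n : G) y := fun n e => by
    have := φi (a := n * y' * n⁻¹) (b := y') (H27.End.Is2.conj (is2_of_sq y2) _) (is2_of_sq y2)
      (by rw [map_mul, map_mul, map_inv, e.eq, mul_inv_cancel_right])
    exact H35.NF.commute_of_conj (congrArg Subtype.val this)
  have hc := (Nat.card_congr iso.some.toEquiv).le
  let α : L ≃* L := (MulEquiv.ofBijective h.f (h.f_surj.bijective_of_nat_card_le hc)).symm.trans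
    (MulEquiv.ofBijective _ (h2.bijective_of_nat_card_le hc))
  have hα : (α (h.f y') : G) = φ y' :=
    congrArg (fun x => φ x) (MulEquiv.symm_apply_apply (MulEquiv.ofBijective h.f _) y')
  have h4 : g⁻¹ * y * g ∈ L1 ⊔ cj t L1 := by
    refine key α _ ?_ ?_ fun c hc e => ?_
    · calc _ = g⁻¹ * (y * y) * g := by group
        _ = 1 := by rw [y2]; group
    · have := (h.comd hd y hy y hy).eq
      rw [hα, hφ, show (y' : G) = y from rfl]
      calc _ = g⁻¹ * (y * d * y⁻¹) * g := by rw [hdd]; group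
        _ = g⁻¹ * (d * (d * y * d⁻¹ * y)) * g := by
          rw [inv_eq_of_mul_eq_one_right y2, di, ← mul_assoc d, ← mul_assoc d, ← mul_assoc d, dd]
          group
        _ = _ := by rw [← this]; nth_rewrite 1 [hdd]; group
    · obtain ⟨n, rfl⟩ := h3 c hc
      have := act n y'
      rw [H35.NF.conj_of_commute (fix n (hα ▸ e))] at this
      exact H35.NF.commute_of_conj this
  have h5 : L1 ⊓ cj g (L1 ⊔ cj t L1) = L1 := by
    refine (H52.IsQuasisimple.eq_or_commutator_eq_bot h.qs1 inf_le_left fun n hn =>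
      mem_N_of_conj fun a ha => ⟨conj_mem (le_normalizer hn) ha.1, mem_cj.2 ?_⟩).resolve_right
      fun e => y1 (eq_one_of_is2 (is2_of_sq y2) (odd_orderOf_of_mem h.odd ?_))
    · have h6 := h.le (h1 ⟨⟨n, hn⟩, rfl⟩)
      rw [← act ⟨n, hn⟩ ⟨a, ha.1⟩]
      exact mul_mem (mul_mem h6 (mem_cj.1 ha.2)) (inv_mem h6)
    · rw [H67.centralizer_sup]
      exact ⟨commutator_eq_bot_iff_le_centralizer.1 e ⟨hy, mem_cj.2 h4⟩, h.c12 hy⟩
  have h6 : L1 ≤ cj g (L1 ⊔ cj t L1) := h5.ge.trans inf_le_right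
  have h7 : cj t L1 ≤ cj g (L1 ⊔ cj t L1) := by
    have := cj_mono (g := d) h6
    rwa [hd, cj_cj, show d * g = g * t by rw [hdd]; group, ← cj_cj,
      cj_eq_self (H74.Wr.t_norm h.tt L1)] at this
  refine inv_mem_iff.1 (mem_N_of_conj fun a ha => ?_)
  simpa using mem_cj.1 (sup_le h6 h7 ha)

open Cfsg.Agent.H26 Cfsg.Agent.H78 Cfsg.Agent.H68.Sp Cfsg.Agent.H29.SpK

/-- **WHAT** -/
theorem what : WHatStmt.{u, v} := by
  intro F V _ _ _ _ _ G _ _ P φ L k t h au pf L1 sp iso hG ex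
  have sg := h.toSM.toSG
  have k3 := h.k3
  obtain ⟨Fr, -, -⟩ := h.g1.fr (m := 0) Fin.elim0 Fin.elim0 (fun i => i.elim0)
    linearIndependent_empty_type fun i => i.elim0
  obtain ⟨u, v, huv⟩ : ∃ u v, I2 P u v := ⟨Fr.e (⟨0, by omega⟩, false), Fr.e (⟨1, by omega⟩, false),
    Fr.orth _ _ (by simp [ng]), by
      convert (h.g1.li Fr).comp ![(⟨0, by omega⟩, false), (⟨1, by omega⟩, false)]
        (fun i j => by fin_cases i <;> fin_cases j <;> simp) using 1
      ext i; fin_cases i <;> rfl⟩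
  obtain ⟨a, ha, a2, ea⟩ := ex u v huv
  refine hat' sp pf iso ha (fun e => ?_) a2 fun α p p2 pt pc => ?_
  · have := (Es_eq_one sg huv (c := 1)).1 (by rw [one_smul, ← ea, e]; group)
    exact one_ne_zero this
  let ε : P.E ≃* L := (MonoidHom.ofInjective sg.inj).trans (MulEquiv.subgroupCongr sg.rng)
  have hε : ∀ e, (ε e : G) = φ e := fun e => rfl
  obtain ⟨T, ψ, hT, hβ⟩ := au (ε.trans (α.trans ε.symm))
  have huv' : I2 P (T u) (T v) := ⟨by rw [hT.form, huv.1, map_zero],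
    LinearIndependent.pair_iff.2 fun r s e => by
      obtain ⟨r, rfl⟩ := ψ.surjective r
      obtain ⟨s, rfl⟩ := ψ.surjective s
      rw [← hT.smul, ← hT.smul, ← map_add, map_eq_zero_iff _ T.injective] at e
      obtain ⟨rfl, rfl⟩ := LinearIndependent.pair_iff.1 huv.2 r s e
      simp⟩
  have e1 : (α (sp.f ⟨a, ha⟩) : G) = Es P φ (T u) (T v) := by
    rw [show sp.f ⟨a, ha⟩ = ε (eE P u v 0) from Subtype.ext ea, ← ε.apply_symm_apply (α _), hε]
    refine (φ_eq_ET sg huv'.1).2 fun x => ?_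
    obtain ⟨x, rfl⟩ := T.surjective x
    refine (hβ (eE P u v 0) x).trans ?_
    rw [Es_apply sg huv.1, map_add, map_add, hT.smul, hT.smul, hT.form, hT.form, zero_mul, add_zero]
  rw [e1] at pt pc
  rw [hG]
  refine mem_sup_right (subset_closure ⟨_, _, huv', 1, mem_C ?_, by rwa [one_smul],
    by rw [zero_mul, zero_smul, Es_zero, p2], fun e => absurd e one_ne_zero⟩)
  rintro _ ⟨e, he, rfl⟩
  exact (pc _ (φ_mem sg e) (comm_of_fix sg (he _ (by simp)) (he _ (by simp)) 0)).symm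

end Cfsg.Agent.H66.T6.H59.SpWhat
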