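import Cfsg.Agent.H66.T6Defs3
import Cfsg.Agent.H36.SpY1

/-!
# Standard subgroups of type `Sp₂ₖ(2ⁿ)`: the two factors in the wreath case
-/

set_option autoImplicit false

namespace Cfsg.Agent.H66.T6.H76.SpWsp

open Cfsg Cfsg.Agent.H63 Cfsg.Agent.H63.SL Cfsg.Agent.H26 Cfsg.Agent.H68.Sp
open Cfsg.Agent.H78 hiding tv tv_zero
open Cfsg.Agent.H29.SpK Cfsg.Agent.H36.SpY
open Subgroup Module
open scoped commutatorElement

universe u v

variable {F V : Type v} [Field F] [AddCommGroup V] [Module F V] {G : Type u} [Group G]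
  {P : PForm F V} {φ : P.E →* G} {L : Subgroup G} {k : ℕ} {t : G} {c0 : F} {y : V → V → G}

theorem sg0 (α : QA F c0) : sg 0 α = α := by ext <;> simp [sg]

section Frames

variable (h : SG P φ L k) (g1 : G1 P k) (hk : 3 ≤ k)
include h g1 hk

theorem pair_dual {u v u' v' : V} (h0 : P.f u v = 0) (h0' : P.f u' v' = 0) (h1 : P.f u u' = 1)
    (h2 : P.f v v' = 1) (h3 : P.f u v' = 0) (h4 : P.f v u' = 0) :
    ∃ m m', P.f m m' = 1 ∧ ∀ x ∈ ({u, u', v, v'} : Set V), P.f m x = 0 ∧ P.f m' x = 0 := by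
  have e1 : P.f u' u = 1 := by rw [fc h, h1]
  have e2 : P.f v' v = 1 := by rw [fc h, h2]
  have e3 := PForm.f_symm_zero h3
  have e4 := PForm.f_symm_zero h4
  have e5 := PForm.f_symm_zero h0
  have e6 := PForm.f_symm_zero h0'
  have hli : LinearIndependent F ![u, u', v, v'] := by
    rw [Fintype.linearIndependent_iff]
    intro g hg i
    have k1 := congrArg (fun x => P.f x u) hg
    have k2 := congrArg (fun x => P.f x u') hg
    have k3 := congrArg (fun x => P.f x v) hg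
    have k4 := congrArg (fun x => P.f x v') hg
    simp [Fin.sum_univ_four, P.f_add_left, P.f_smul_left, fs h, P.f_zero_left, h0, h0', h1, h2, h3,
      h4, e1, e2, e3, e4, e5, e6] at k1 k2 k3 k4
    fin_cases i <;> assumption
  obtain ⟨Fr, hN, hF⟩ := g1.fr ![u, u', v, v']
    ![(⟨0, by omega⟩, false), (⟨0, by omega⟩, true), (⟨1, by omega⟩, false), (⟨1, by omega⟩, true)]
    (fun i j => by fin_cases i <;> fin_cases j <;> simp) hli fun i j => by
      fin_cases i <;> fin_cases j <;>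
        simp [ng, fs h, h0, h0', h1, h2, h3, h4, e1, e2, e3, e4, e5, e6]
  have a0 : Fr.e (⟨0, by omega⟩, false) = u := hF 0
  have a1 : Fr.e (⟨0, by omega⟩, true) = u' := hF 1
  have a2 : Fr.e (⟨1, by omega⟩, false) = v := hF 2
  have a3 : Fr.e (⟨1, by omega⟩, true) = v' := hF 3
  refine ⟨Fr.e (⟨2, by omega⟩, false), Fr.e (⟨2, by omega⟩, true), hN _, ?_⟩
  rintro x (rfl | rfl | rfl | rfl)
  · rw [← a0]; exact ⟨Fr.orth _ _ (by simp [ng]), Fr.orth _ _ (by simp [ng])⟩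
  · rw [← a1]; exact ⟨Fr.orth _ _ (by simp [ng]), Fr.orth _ _ (by simp [ng])⟩
  · rw [← a2]; exact ⟨Fr.orth _ _ (by simp [ng]), Fr.orth _ _ (by simp [ng])⟩
  · rw [← a3]; exact ⟨Fr.orth _ _ (by simp [ng]), Fr.orth _ _ (by simp [ng])⟩

theorem pair_i2 {b e : V} (H : I2 P b e) : ∃ a a', Hyp P a a' b e := by
  obtain ⟨Fr, hN, hF⟩ := g1.fr ![b, e] ![(⟨0, by omega⟩, false), (⟨1, by omega⟩, false)]
    (fun i j => by fin_cases i <;> fin_cases j <;> simp) H.2 fun i j => by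
      fin_cases i <;> fin_cases j <;> simp [ng, fs h, H.1, PForm.f_symm_zero H.1]
  have a0 : Fr.e (⟨0, by omega⟩, false) = b := hF 0
  have a1 : Fr.e (⟨1, by omega⟩, false) = e := hF 1
  refine ⟨Fr.e (⟨2, by omega⟩, false), Fr.e (⟨2, by omega⟩, true), hN _, H, ?_, ?_, ?_, ?_⟩
  · rw [← a0]; exact Fr.orth _ _ (by simp [ng])
  · rw [← a0]; exact Fr.orth _ _ (by simp [ng])
  · rw [← a1]; exact Fr.orth _ _ (by simp [ng])
  · rw [← a1]; exact Fr.orth _ _ (by simp [ng])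

theorem pair_one {b : V} (H : b ≠ 0) : ∃ a a', Hyp1 P a a' b := by
  obtain ⟨Fr, hN, hF⟩ := g1.fr ![b] ![(⟨0, by omega⟩, false)]
    (fun i j _ => Subsingleton.elim i j) (linearIndependent_unique_iff.2 H) fun i j => by
      fin_cases i; fin_cases j; simp [ng, fs h]
  have a0 : Fr.e (⟨0, by omega⟩, false) = b := hF 0
  refine ⟨Fr.e (⟨1, by omega⟩, false), Fr.e (⟨1, by omega⟩, true), hN _, H, ?_, ?_⟩
  · rw [← a0]; exact Fr.orth _ _ (by simp [ng])
  · rw [← a0]; exact Fr.orth _ _ (by simp [ng])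

end Frames

variable (φ y) in
/-- The elements over the two ideals commute. -/
def Cm (ε ε' : QA F c0) (u v u' v' : V) : Prop :=
  ∀ α β, Commute (YA P φ y u v (ε * α)) (YA P φ y u' v' (ε' * β))

section Com

variable {ε ε' : QA F c0} {u v u' v' : V}

theorem Cm.symm (H : Cm φ y ε ε' u v u' v') : Cm φ y ε' ε u' v' u v := fun α β => (H β α).symm

theorem Cm.smul {c : F} (hc : c ≠ 0) (H : Cm φ y ε ε' u v u' (c • v')) :
    Cm φ y ε ε' u v u' v' := fun α β => by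
  have := H α (c⁻¹ • β)
  rwa [YA_smul_right, mul_smul_comm, smul_smul, mul_inv_cancel₀ hc, one_smul] at this

variable (Y : Y1 P φ L t 0 y) (h : SG P φ L k)
include Y h

theorem Cm.swap (I : I2 P u' v') (H : Cm φ y ε ε' u v v' u') : Cm φ y ε ε' u v u' v' :=
  fun α β => by
    have := H α β
    rwa [YA_swap Y h I, sg0] at this

theorem Cm.shear (I : I2 P u' v') {r : F} (H : Cm φ y ε ε' u v u' (v' + r • u')) :
    Cm φ y ε ε' u v u' v' := fun α β => by
  have := H α β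
  rwa [YA_shear Y h I, zero_mul, tv_zero, mul_one] at this

theorem Cm.smul' (I : I2 P u' v') {c : F} (hc : c ≠ 0) (H : Cm φ y ε ε' u v (c • u') v') :
    Cm φ y ε ε' u v u' v' :=
  Cm.swap Y h I (Cm.smul hc (Cm.swap Y h (i2_symm (i2_smul_left I hc)) H))

variable (S : Sh P φ 0 c0 y) (h0 : ε * ε' = 0)
include S h0

theorem cmA0 (I : I2 P u v) (I' : I2 P u' v') (h1 : P.f u v' = 0) (h2 : P.f v u' = 0)
    (h3 : P.f v v' = 0) : Cm φ y ε ε' u v u' v' := by
  by_cases hx : P.f u u' = 0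
  · exact fun α β => YA_com Y h I I' hx h1 h2 h3 _ _
  refine Cm.smul' Y h I' (inv_ne_zero hx) fun α β => commutatorElement_eq_one_iff_commute.1 ?_
  have e1 : P.f u ((P.f u u')⁻¹ • u') = 1 := by rw [fr h, inv_mul_cancel₀ hx]
  have e2 : P.f ((P.f u u')⁻¹ • u') v = 0 := by
    rw [P.f_smul_left, PForm.f_symm_zero h2, mul_zero]
  by_cases hv : I2 P v v'
  · rw [S.sp _ _ _ _ ⟨e1, hv, I.1, e2, h1, by rw [P.f_smul_left, I'.1, mul_zero]⟩, sg0,
      show ε * α * (ε' * β) = 0 by linear_combination α * β * h0, YA_zero Y]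
  · have : ¬ ∀ c : F, c • v ≠ v' := fun e =>
      hv ⟨h3, (LinearIndependent.pair_iff' (i2_ne_right I)).2 e⟩
    push Not at this
    obtain ⟨c, rfl⟩ := this
    rw [YA_smul_right, S.ss _ _ _ ⟨e1, i2_ne_right I, I.1, e2⟩, zero_mul, tv_zero]

theorem cmA (I : I2 P u v) (I' : I2 P u' v') (h2 : P.f v u' = 0) (h3 : P.f v v' = 0) :
    Cm φ y ε ε' u v u' v' := by
  by_cases h1 : P.f u v' = 0
  · exact cmA0 Y h S h0 I I' h1 h2 h3
  refine Cm.swap Y h I' (Cm.shear Y h (i2_symm I') (r := P.f u u' / P.f u v')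
    (cmA0 Y h S h0 I (i2_shear h (i2_symm I') _) ?_ h3 ?_))
  · rw [P.f_add_right, fr h, div_mul_cancel₀ _ h1, fadd_self h]
  · rw [P.f_add_right, fr h, h2, h3, mul_zero, add_zero]

theorem cmA' (I : I2 P u v) (I' : I2 P u' v') (h2 : P.f u' u = 0) (h3 : P.f u' v = 0) :
    Cm φ y ε ε' u v u' v' :=
  Cm.swap Y h I' (cmA Y h S (by rw [mul_comm, h0]) (i2_symm I') I h2 h3).symm

variable (g1 : G1 P k) (hk : 3 ≤ k) (h1 : ε' * ε' = ε')
include g1 hk h1

theorem cmB0 (I : I2 P u v) (I' : I2 P u' v') (e1 : P.f u u' = 1) (e2 : P.f v v' = 1)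
    (e3 : P.f u v' = 0) (e4 : P.f v u' = 0) : Cm φ y ε ε' u v u' v' := fun α β => by
  obtain ⟨m, m', hm, H⟩ := pair_dual h g1 hk I.1 I'.1 e1 e2 e3 e4
  have a1 := H u (by simp)
  have a2 := H u' (by simp)
  have a3 := H v (by simp)
  have a4 := H v' (by simp)
  have Hy : Hyp P m m' u' v' := ⟨hm, I', a2.1, a2.2, a4.1, a4.2⟩
  have c1 := cmA' Y h S h0 I (i3_12 (hyp_i3 Hy)) a1.1 a3.1 α β
  have c2 := cmA' Y h S h0 I (i3_13 (hyp_i3' h Hy)) a1.2 a3.2 α 1
  rw [show ε' * β = sg 0 (ε' * β) * (ε' * 1) by rw [sg0]; linear_combination (-β) * h1,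
    ← S.sp _ _ _ _ Hy, commutatorElement_def]
  exact ((c1.mul_right c2).mul_right c1.inv_right).mul_right c2.inv_right

theorem cmB1 (I : I2 P u v) (I' : I2 P u' v') (e2 : P.f v v' ≠ 0) (e3 : P.f u v' = 0)
    (e4 : P.f v u' = 0) : Cm φ y ε ε' u v u' v' := by
  by_cases e1 : P.f u u' = 0
  · exact cmA' Y h S h0 I I' (PForm.f_symm_zero e1) (PForm.f_symm_zero e4)
  refine Cm.smul (inv_ne_zero e2) (Cm.smul' Y h (i2_smul_right I' (inv_ne_zero e2)) (inv_ne_zero e1)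
    (cmB0 Y h S h0 g1 hk h1 I (i2_smul_left (i2_smul_right I' (inv_ne_zero e2)) (inv_ne_zero e1))
      ?_ ?_ ?_ ?_))
  · rw [fr h, inv_mul_cancel₀ e1]
  · rw [fr h, inv_mul_cancel₀ e2]
  · rw [fr h, e3, mul_zero]
  · rw [fr h, e4, mul_zero]

theorem cmB2 (I : I2 P u v) (I' : I2 P u' v') (e2 : P.f v v' ≠ 0) : Cm φ y ε ε' u v u' v' := by
  refine Cm.swap Y h I' (Cm.shear Y h (i2_symm I') (r := P.f v u' / P.f v v')
    (Cm.swap Y h (i2_shear h (i2_symm I') _) (Cm.symm (Cm.swap Y h I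
      (Cm.shear Y h (i2_symm I) (r := P.f u v' / P.f v v') (Cm.swap Y h (i2_shear h (i2_symm I) _)
        (Cm.symm (cmB1 Y h S h0 g1 hk h1 (i2_shear' h I _) (i2_shear' h I' _) e2 ?_ ?_))))))))
  · rw [P.f_add_left, P.f_smul_left, div_mul_cancel₀ _ e2, fadd_self h]
  · rw [P.f_add_right, fr h, div_mul_cancel₀ _ e2, fadd_self h]

theorem cm (I : I2 P u v) (I' : I2 P u' v') : Cm φ y ε ε' u v u' v' := by
  by_cases e2 : P.f v v' = 0
  · by_cases e1 : P.f v u' = 0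
    · exact cmA Y h S h0 I I' e1 e2
    · exact Cm.swap Y h I' (cmB2 Y h S h0 g1 hk h1 I (i2_symm I') e1)
  · exact cmB2 Y h S h0 g1 hk h1 I I' e2

end Com

variable (P φ y) in
/-- The first factor. -/
def L1 (ε : QA F c0) : Subgroup G :=
  closure {g | ∃ u v, I2 P u v ∧ ∃ α, g = YA P φ y u v (ε * α)}

theorem mem_L1 {ε : QA F c0} {u v : V} (I : I2 P u v) (α : QA F c0) :
    YA P φ y u v (ε * α) ∈ L1 P φ y ε := subset_closure ⟨u, v, I, α, rfl⟩

theorem main [Finite F] [Finite G] (c : Ctx P φ L k t) (r2 : R2 L t) {Z : V → QA F c0 → G}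
    (Y : Y1 P φ L t 0 y) (S : Sh P φ 0 c0 y) (SZ : ShS P φ t c0 y Z) {ε : QA F c0}
    (h0 : ε * star ε = 0) (h1 : ε + star ε = 1) :
    H34.TW.Sp L (L1 P φ y ε) t ∧ L1 P φ y ε ⊔ cj t (L1 P φ y ε) = GA P φ L t ∧
      ∀ u v, I2 P u v → ∃ a ∈ L1 P φ y ε, a * a = 1 ∧ a * (t * a * t⁻¹) = Es P φ u v := by
  have h : SG P φ L k := c.toSG
  have ht : ∀ g ∈ L, Commute t g := fun g hg => H27.End.comm_of_C c.tc.tc hg
  have ta : ∀ {u v}, I2 P u v → ∀ α, t * YA P φ y u v (ε * α) * t⁻¹ =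
      YA P φ y u v (star ε * star α) := fun I α => by rw [YA_tact Y h ht I, star_mul']
  have tr : ∀ α : QA F c0, α + star α = ⟨α.im, 0⟩ := fun α => by
    ext
    · simp only [QuadraticAlgebra.re_add, QuadraticAlgebra.re_star]
      linear_combination fadd_self h α.re
    · simp
  have com : ∀ a ∈ L1 P φ y ε, ∀ b ∈ L1 P φ y ε, Commute a (t * b * t⁻¹) := fun a ha b hb => by
    refine (H27.End.mem_C1.1 ((closure_le C1[_]).2 ?_ ha))
    rintro _ ⟨u, v, I, α, rfl⟩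
    refine H27.End.mem_C1.2 (H27.End.mem_C1.1
      (H67.cj_le_iff.1 (show cj t (L1 P φ y ε) ≤ C1[_] from ?_) b hb)).symm
    rw [L1, H67.cj_closure, closure_le]
    rintro _ ⟨_, ⟨u', v', I', β, rfl⟩, rfl⟩
    refine H27.End.mem_C1.2 ?_
    simp only
    rw [ta I']
    exact (cm Y h S h0 c.g1 c.k3 (by linear_combination (star ε) * h1 - h0) I I' _ _).symm
  have sp : H34.TW.Sp L (L1 P φ y ε) t := by
    refine ⟨c.tc, r2, c.qs, le_antisymm (commutator_le.2 fun a ha b hb =>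
      mul_mem (mul_mem (mul_mem ha hb) (inv_mem ha)) (inv_mem hb)) ((closure_le _).2 ?_), com,
      fun l => ⟨fun hl => ?_, ?_⟩⟩
    · rintro _ ⟨b, e, I, α, rfl⟩
      obtain ⟨a, a', H⟩ := pair_i2 h c.g1 c.k3 I
      have := commutator_mem_commutator (mem_L1 (φ := φ) (y := y) (ε := ε) (i3_12 (hyp_i3 H)) α)
        (mem_L1 (φ := φ) (y := y) (ε := ε) (i3_13 (hyp_i3' h H)) 1)
      rwa [S.sp _ _ _ _ H, sg0,
        show ε * α * (ε * 1) = ε * α by linear_combination (ε * α) * h1 - α * h0] at this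
    · obtain ⟨n, hn⟩ : l ∈ (H34.TW.dg com).range := by
        obtain ⟨e, rfl⟩ := exists_φ h hl
        have he : φ e ∈ YW P φ ∅ := mem_YW.2 ⟨e, fun _ n => n.elim, rfl⟩
        rw [c.g2.gen] at he
        refine (closure_le _).2 ?_ he
        rintro _ ⟨b, -, r, rfl⟩
        by_cases hb : b = 0
        · rw [hb, tv, ET_zero_left h]; exact one_mem _
        obtain ⟨a, a', H⟩ := pair_one h c.g1 c.k3 hb
        obtain ⟨d, rfl⟩ : ∃ d : F, d * d = r := Finite.surjective_of_injective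
          (f := fun d : F => d * d) (fun d d' (e : d * d = d' * d') => by
            have : (d - d') * (d - d') = 0 := by
              linear_combination e + fadd_self h (d' * d') - fadd_self h (d * d')
            exact sub_eq_zero.1 (mul_self_eq_zero.1 this)) r
        have Ha : Hyp1 P (a + a') a' b :=
          ⟨by rw [P.f_add_left, H.1, fs h, add_zero], hb, by
            rw [P.f_add_left, H.2.2.1, H.2.2.2, add_zero], H.2.2.2⟩
        have m : Z b (ε * ⟨d, 0⟩ * (ε * ⟨d, 0⟩)) ∈ L1 P φ y ε := by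
          have := mem_L1 (φ := φ) (y := y) (ε := ε) (hyp1_i2 Ha) ⟨d, 0⟩
          rw [SZ.def' _ _ _ H] at this
          exact (mul_mem_cancel_left (mul_mem (mem_L1 (hyp1_i2 H) _) (mem_L1 (hyp1_i2' h H) _))).1 this
        refine ⟨⟨_, m⟩, ?_⟩
        change Z b _ * (t * Z b _ * t⁻¹) = _
        rw [SZ.tact b hb, ← SZ.add b hb, ← SZ.res b hb]
        congr 1
        have e1 : star (⟨d, 0⟩ : QA F c0) = ⟨d, 0⟩ := by ext <;> simp
        have e2 : (⟨d * d, 0⟩ : QA F c0) = ⟨d, 0⟩ * ⟨d, 0⟩ := by ext <;> simp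
        rw [star_mul', star_mul', e1, e2]
        generalize (⟨d, 0⟩ : QA F c0) = δ
        linear_combination (δ * δ * (ε + star ε + 1)) * h1 - 2 * δ * δ * h0
      exact ⟨n, n.2, hn.symm⟩
    · rintro ⟨n, hn, rfl⟩
      induction hn using closure_induction with
      | one => simp
      | mul a b ha hb h1 h2 =>
        exact (congrArg (· ∈ L) (map_mul (H34.TW.dg com) ⟨a, ha⟩ ⟨b, hb⟩)).mpr (mul_mem h1 h2)
      | inv a ha h1 => exact (congrArg (· ∈ L) (map_inv (H34.TW.dg com) ⟨a, ha⟩)).mpr (inv_mem h1)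
      | mem g hg =>
        obtain ⟨u, v, I, α, rfl⟩ := hg
        rw [YA_tact Y h ht I, ← YA_adds Y h I, tr, YA_re Y]
        exact ET_mem h _ _ _
  have ga : ∀ {u v}, I2 P u v → ∀ α : QA F c0, YA P φ y u v α ∈ GA P φ L t := fun {u v} I α =>
    mul_mem (mem_sup_left (ET_mem h _ _ _)) (mem_sup_right (subset_closure
      ⟨u, v, I, (Y.canon u v I _).2 ⟨_, 1, one_mem _, (mul_one _).symm⟩⟩))
  refine ⟨sp, le_antisymm (sup_le ((closure_le _).2 ?_) ?_) (sup_le sp.le ((closure_le _).2 ?_)),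
    fun u v I => ⟨_, mem_L1 I 1, YA_sq Y h I _, ?_⟩⟩
  · rintro _ ⟨u, v, I, α, rfl⟩
    exact ga I _
  · rw [L1, H67.cj_closure, closure_le]
    rintro _ ⟨_, ⟨u, v, I, α, rfl⟩, rfl⟩
    simp only
    rw [ta I]
    exact ga I _
  · rintro p ⟨u, v, I, hp⟩
    obtain ⟨b, s, hs, rfl⟩ := (Y.canon u v I p).1 hp
    refine mul_mem ?_ (sp.le ((closure_le _).2 ?_ hs))
    · rw [← YA_im (φ := φ) (c0 := c0) (y := y) u v b,
        show (⟨0, b⟩ : QA F c0) = ε * ⟨0, b⟩ + star ε * star (star ⟨0, b⟩) by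
          rw [star_star, ← add_mul, h1, one_mul], YA_adds Y h I, ← ta I]
      exact mul_mem (mem_sup_left (mem_L1 I _)) (mem_sup_right ⟨_, mem_L1 I _, rfl⟩)
    · rintro _ ⟨w, -, r, rfl⟩
      exact ET_mem h _ _ _
  · rw [YA_tact Y h ht I, ← YA_adds Y h I, mul_one, h1]
    exact (YA_re Y u v 1).trans (by rw [one_smul])

theorem wsp : WSpStmt.{u, v} := by
  intro F V _ _ _ _ _ G _ _ P φ L k t c r2 c0 y Z Y S SZ ρ hρ
  have h : SG P φ L k := c.toSG
  refine ⟨_, main c r2 Y S SZ (ε := ⟨ρ, 1⟩) ?_ ?_⟩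
  · ext
    · simp only [QuadraticAlgebra.re_mul, QuadraticAlgebra.re_star, QuadraticAlgebra.im_star,
        QuadraticAlgebra.re_zero]
      linear_combination hρ
    · simp only [QuadraticAlgebra.im_mul, QuadraticAlgebra.re_star, QuadraticAlgebra.im_star,
        QuadraticAlgebra.im_zero]
      ring
  · ext
    · simp only [QuadraticAlgebra.re_add, QuadraticAlgebra.re_star, QuadraticAlgebra.re_one]
      linear_combination fadd_self h ρ
    · simp [QuadraticAlgebra.im_one]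

end Cfsg.Agent.H66.T6.H76.SpWsp
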