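import Cfsg.Agent.H68.SpDefs
import Cfsg.Agent.H94.F4St

/-!
# Standard subgroups of type `Sp₆(2)`: definitions

The setting of `Cfsg.Agent.H68.Sp` for `(k, q) = (3, 2)`.  The structures `SM`, `G5`, `LL`,
`Ctx0`, `Ctx` and the interface propositions are repeated under the same short names; inside
a namespace that extends `Cfsg.Agent.H66.T6` they take precedence.
-/

set_option autoImplicit false

namespace Cfsg.Agent.H66.T6

open Cfsg Cfsg.Agent.H63 Cfsg.Agent.H63.SL Cfsg.Agent.H26 Cfsg.Agent.H78 Subgroup Module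
open Cfsg.Agent.H68.Sp
open Cfsg.Agent.H8 (IsSylowIn)
open Cfsg.Agent.H27.F4 (OcP)
open scoped commutatorElement

universe u v

/-- `2`-elements of the commutator subgroup of a subgroup of `C(t)` lie in `L`. -/
def Oc1 {G : Type u} [Group G] (L : Subgroup G) (t : G) : Prop :=
  ∀ H : Subgroup G, H ≤ C1[t] → ∀ g ∈ ⁅H, H⁆, Is2 g → g ∈ L

section Model

variable {F V : Type v} [Field F] [AddCommGroup V] [Module F V] {G : Type u} [Group G]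
  (P : PForm F V) (φ : P.E →* G)

/-- The model of the standard subgroup. -/
structure SM (L : Subgroup G) (k : ℕ) : Prop extends SG P φ L k where
  aut : ∀ g ∈ N[L], ∃ T ψ, Ind P φ g T ψ
  k3 : 3 ≤ k
  ke : k = 3
  q2 : Nat.card F = 2
  qs : IsQuasisimple L

/-- Radicals. -/
structure G5 : Prop where
  pf2 : ∀ u v, I2 P u v → 4 ≤ Nat.card F → ⁅YW P φ {u, v}, YW P φ {u, v}⁆ = YW P φ {u, v}
  cq1 : ∀ v, v ≠ 0 → ⁅QW P φ {v}, YW P φ {v}⁆ = QW P φ {v}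
  qq : ∀ u v, I2 P u v → ⁅QW P φ {u, v}, QW P φ {u, v}⁆ = XS P φ u v ∧
    Z[QW P φ {u, v}] = S2 P φ {u, v}
  o21 : ∀ v, v ≠ 0 → ∀ R : Subgroup G, IsPGroup 2 R → R ≤ YW P φ {v} → YW P φ {v} ≤ N[R] →
    R ≤ QW P φ {v}
  o22 : ∀ u v, I2 P u v → ∀ R : Subgroup G, IsPGroup 2 R → R ≤ YW P φ {u, v} →
    ⁅YW P φ {u, v}, YW P φ {u, v}⁆ ≤ N[R] → R ≤ QW P φ {u, v}
  /-- replaces `pf3` -/
  qH : ∀ u v, I2 P u v →
    QW P φ {u, v} ≤ ⁅QW P φ {u, v}, φ.range ⊓ C1[Es P φ u v]⁆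

/-- All facts on `L`. -/
structure LL (L : Subgroup G) (k : ℕ) : Prop extends SM P φ L k where
  g1 : G1 P k
  g2 : G2 P φ
  g3 : G3 P φ L k
  g4 : G4 P φ L k
  g5 : G5 P φ
  nf : NF P φ L
  jf : JF P φ L k
  lg : LG (F := F) L k

/-- The setting at one involution. -/
structure Ctx0 (L : Subgroup G) (k : ℕ) (t : G) : Prop extends LL P φ L k where
  tc : Tc L t
  cyc : Cyc L
  oc : OcP L t

/-- The setting. -/
structure Ctx (L : Subgroup G) (k : ℕ) (t : G) : Prop extends Ctx0 P φ L k t where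
  cnj : ∀ g, Ctx0 P (cφ P φ g) (cj g L) k (g * t * g⁻¹)

end Model

/-! ### Interfaces: one group -/

/-- **G5** -/
def G5Stmt : Prop := GAll.{u, v} fun P φ L k => SM P φ L k → G1 P k → G2 P φ → G5 P φ

/-- **NF** -/
def NFStmt : Prop := GAll.{u, v} fun P φ L k => SM P φ L k → G1 P k → G2 P φ → NF P φ L

/-- **LG** -/
def LGStmt : Prop := GAll.{u, v} fun {F} _ _ _ _ _ _ P φ L k =>
  SM P φ L k → G1 P k → G2 P φ → G4 P φ L k → NF P φ L → LG (F := F) L k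

/-! ### Interfaces: the start -/

/-- A statement about the setting. -/
def CAll (R : ∀ {F V : Type v} [Field F] [AddCommGroup V] [Module F V] {G : Type u} [Group G]
    (P : PForm F V) (_ : P.E →* G) (_ : Subgroup G) (_ : ℕ) (_ : G), Prop) : Prop :=
  ∀ {F V : Type v} [Field F] [Finite F] [AddCommGroup V] [Module F V] [FiniteDimensional F V]
    {G : Type u} [Group G] [Finite G] (P : PForm F V) (φ : P.E →* G) (L : Subgroup G) (k : ℕ)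
    (t : G), Ctx P φ L k t → R P φ L k t

/-- **TR** -/
def TRStmt : Prop := CAll.{u, v} fun {F} _ _ _ _ _ _ P φ _ k t =>
  RK (Nat.card F) k t ∧ TR P φ k t

/-- **ND** -/
def NDStmt : Prop := CAll.{u, v} fun P φ _ _ t => ND P φ t

/-- **S0** -/
def S0Stmt : Prop := CAll.{u, v} fun {F} _ _ _ _ _ _ P φ _ k t => TR P φ k t →
  (∃ g, Commute (g * t * g⁻¹) t ∧ g * t * g⁻¹ ≠ t) →
    ∃ u v, I2 P u v ∧ ∃ a b : F, (a ≠ 0 ∨ b ≠ 0) ∧ t * ET P φ u (b • v) a ∈ Dt t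

/-- **SW** -/
def SWStmt : Prop := CAll.{u, v} fun {F} _ _ _ _ _ _ P φ L k t => TR P φ k t → ND P φ t →
  ∀ u v, I2 P u v → ∀ a b : F, a ≠ 0 ∨ b ≠ 0 → t * ET P φ u (b • v) a ∈ Dt t →
    R2 L t ∧ ∃ g, Swap t (ET P φ u (b • v) a) g

/-- **SB1**, **SB2** -/
def SBStmt (Q : ℕ → Prop) : Prop := CAll.{u, v} fun {F} _ _ _ _ _ _ P φ _ _ t =>
  Q (Nat.card F) → ∀ v a, v ≠ 0 → a ≠ 0 → ∀ g, Swap t (tv P φ v a) g → StB P φ t

/-- **SA1**, **SA2** -/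
def SAStmt (Q : ℕ → Prop) : Prop := CAll.{u, v} fun {F} _ _ _ _ _ _ P φ _ _ t =>
  Q (Nat.card F) → ∀ u v, I2 P u v → ∀ g, Swap t (Es P φ u v) g → StA P φ t

/-- **SC** -/
def SCStmt : Prop := CAll.{u, v} fun P φ _ _ t =>
  ∀ u v, I2 P u v → ∀ g, Swap t (ET P φ u v 1) g → ¬ (NoS P φ t ∧ NoL P φ t)

/-! ### Interfaces: the doubling -/

/-- **H1A** -/
def H1aStmt : Prop := CAll.{u, v} fun P φ L _ t => R2 L t → StA P φ t → HA P φ L t

/-- **H1B** -/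
def H1bStmt : Prop := CAll.{u, v} fun P φ L _ t => R2 L t → HA P φ L t → ∃ c0, HB0 P φ L t c0

/-- **H1C** -/
def H1cStmt : Prop := CAll.{u, v} fun P φ L _ t => ∀ c0, HB0 P φ L t c0 → HB P φ L t

/-- **H2** -/
def H2Stmt : Prop := CAll.{u, v} fun P φ L _ t => HB P φ L t → ∃ y, Y0 P φ t y

/-- **H3** -/
def H3Stmt : Prop := CAll.{u, v} fun P φ L _ t => R2 L t → HB P φ L t →
  ∀ y, Y0 P φ t y → ∃ l0, Y1 P φ L t l0 y

/-- The basic commutator. -/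
def H4aStmt : Prop := CAll.{u, v} fun {F} _ _ _ _ _ _ P φ L _ t => R2 L t →
  ∀ l0 y, Y1 P φ L t l0 y → ∃ c0 : F, ∀ a a' b e, Hyp P a a' b e →
    ⁅y a b, y a' e⁆ = Es P φ b (c0 • e) * y b ((1 + l0) • e)

/-- **H4B** -/
def H4bStmt : Prop := CAll.{u, v} fun {F} _ _ _ _ _ _ P φ L _ t =>
  ∀ l0 y, Y1 P φ L t l0 y → ∀ c0 : F, (∀ a a' b e, Hyp P a a' b e →
    ⁅y a b, y a' e⁆ = Es P φ b (c0 • e) * y b ((1 + l0) • e)) → Sh P φ l0 c0 y

/-- **H6** -/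
def H6Stmt : Prop := CAll.{u, v} fun P φ L _ t => R2 L t →
  ∀ c0 y, Y1 P φ L t 1 y → Sh P φ 1 c0 y → AddU P φ c0 y

/-- **H7** -/
def H7Stmt : Prop := CAll.{u, v} fun P φ L _ t =>
  ∀ c0 y, Y1 P φ L t 0 y → Sh P φ 0 c0 y → ∃ Z, ShS P φ t c0 y Z

/-- **C1A**, **C1B** -/
def C1Stmt (Q : ℕ → ℕ → Prop) : Prop := CAll.{u, v} fun {F} _ _ _ _ _ _ P φ L k t =>
  Q (Nat.card F) k → R2 L t → StB P φ t → ∀ Fr : Frame P k, Fr.Norm →
    ∃ l1, ∀ b s, ∃ p, MB P φ Fr t l1 b s p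

/-- **C2A** -/
def C2aStmt : Prop := CAll.{u, v} fun P φ L k t => R2 L t →
  ∀ c0 y, Y1 P φ L t 1 y → Sh P φ 1 c0 y → AddU P φ c0 y → ∀ Fr : Frame P k, Fr.Norm →
    ∀ l1, (∀ b s, ∃ p, MB P φ Fr t l1 b s p) → PC0 P φ L t y

/-- **C2B** -/
def C2bStmt : Prop := CAll.{u, v} fun P φ L _ t => R2 L t →
  ∀ y, Y1 P φ L t 1 y → PC0 P φ L t y → ∃ p, PC P φ L t y p

/-- **C3A**: involutions among the movers. -/
def C3aStmt : Prop := CAll.{u, v} fun {F} _ _ _ _ _ _ P φ L k t => R2 L t → NoS P φ t →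
  ∀ Fr : Frame P k, Fr.Norm → ∀ l1, (∀ b s, ∃ p, MB P φ Fr t l1 b s p) →
    ∀ b (s : F), ∃ p, MB P φ Fr t 1 b s p ∧ p * p = 1 ∧ CO L t p ∧ (s = 0 → p = 1)

/-- **C3B** -/
def C3bStmt : Prop := CAll.{u, v} fun {F} _ _ _ _ _ _ P φ L k t => R2 L t →
  ∀ Fr : Frame P k, Fr.Norm →
    (∀ b (s : F), ∃ p, MB P φ Fr t 1 b s p ∧ p * p = 1 ∧ CO L t p ∧ (s = 0 → p = 1)) →
    ∃ c0 p, PB P φ Fr L t c0 p

/-- **PT** -/
def PtStmt : Prop := CAll.{u, v} fun P φ L k t =>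
  ∀ Fr : Frame P k, Fr.Norm → ∀ c0 p, PB P φ Fr L t c0 p → PT P φ k (GO P φ L t) t

/-- **GB1** -/
def GB1Stmt : Prop := CAll.{u, v} fun P φ L k t => TR P φ k t → ND P φ t → R2 L t → NoS P φ t →
  ∀ G0, PT P φ k G0 t → ∀ j, Alt P φ j → j ≠ 1 → t * j ∉ Dt t

/-- **GB2** -/
def GB2Stmt : Prop := CAll.{u, v} fun {F} _ _ _ _ _ _ P φ L k t =>
  TR P φ k t → ND P φ t → R2 L t → ∀ G0, PT P φ k G0 t →
    (∀ j, Alt P φ j → j ≠ 1 → t * j ∉ Dt t) → DC G0 t ∧ B1 (Nat.card F) t ∧ ∀ j ∈ L, j ∉ Dt t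

/-- **BND** -/
def BndStmt : Prop := CAll.{u, v} fun {F} _ _ _ _ _ _ P φ L k t => R2 L t →
  (∀ n, Nat.card F = 2 ^ n → SB n k t) ∧ PF L ∧
    ∀ l0 y, Y1 P φ L t l0 y → NoL P φ t → AB (Nat.card F) k t

/-- **CT** -/
def CtStmt : Prop := CAll.{u, v} fun P φ L k t => ∀ X, Red X L t →
  (∀ l0 y, Y1 P φ L t l0 y → GC X (GA P φ L t) t ∧
    ∀ p, PC P φ L t y p → GC X (GL' P φ L t) t) ∧
  ∀ Fr : Frame P k, Fr.Norm → ∀ c0 p, PB P φ Fr L t c0 p → GC X (GO P φ L t) t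

/-! ### Consequences of `q = 2` -/

section Kit

open Cfsg.Agent.H94.F4

theorem eq01 {F : Type v} [Field F] (h : Nat.card F = 2) (a : F) : a = 0 ∨ a = 1 := by
  obtain ⟨y, -, hy⟩ := (Nat.card_eq_two_iff' (0 : F)).1 h
  by_cases ha : a = 0
  · exact .inl ha
  · exact .inr ((hy a ha).trans (hy 1 one_ne_zero).symm)

theorem oc1_free {G : Type u} [Group G] [Finite G] {L : Subgroup G} {t : G} (h : Tc L t)
    (hc : Cyc L) (hN : N[L] ≤ L ⊔ C[L]) : Oc1 L t := by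
  intro H hH g hg g2
  let K0 : Subgroup G := C[L] ⊓ C1[t]
  have hp : (Nat.card K0).minFac = 2 := (Nat.minFac_eq_two_iff _).2 (by
    rw [← h.t2]
    exact K0.orderOf_dvd_natCard ⟨h.tc, c1.2 (Commute.refl t)⟩)
  obtain ⟨P⟩ : Nonempty (Sylow 2 K0) := inferInstance
  have hP : IsCyclic P := by
    have := hc ((P : Subgroup K0).map K0.subtype) ((map_subtype_le _).trans inf_le_left) (P.2.map _)
    exact isCyclic_of_surjective _
      ((P : Subgroup K0).equivMapOfInjective _ K0.subtype_injective).symm.surjective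
  let φ := MonoidHom.transferSylow P (hP.normalizer_le_centralizer hp)
  have ko : ∀ o : K0, φ o = 1 → Odd (orderOf (o : G)) := fun o ho => by
    rw [← Nat.not_even_iff_odd, even_iff_two_dvd, orderOf_coe]
    exact fun h2 => MonoidHom.not_dvd_card_ker_transferSylow P _
      (h2.trans (φ.ker.orderOf_dvd_natCard ho))
  let J : Subgroup G :=
    { carrier := {m | ∃ l ∈ L, ∃ o : K0, φ o = 1 ∧ m = l * o}
      one_mem' := ⟨1, one_mem _, 1, map_one _, (one_mul 1).symm⟩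
      mul_mem' := by
        rintro _ _ ⟨l, hl, k, hk, rfl⟩ ⟨l', hl', k', hk', rfl⟩
        refine ⟨l * l', mul_mem hl hl', k * k', by rw [map_mul, hk, hk', mul_one], ?_⟩
        rw [mul_assoc, mul_assoc, ← mul_assoc k.1, ← (comm_of_C k.2.1 hl').eq, mul_assoc]; rfl
      inv_mem' := by
        rintro _ ⟨l, hl, k, hk, rfl⟩
        exact ⟨l⁻¹, inv_mem hl, k⁻¹, by rw [map_inv, hk, inv_one], by
          rw [(comm_of_C k.2.1 hl).eq, mul_inv_rev]; rfl⟩ }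
  have hM : ∀ m ∈ H, ∃ l ∈ L, ∃ k : K0, m = l * k := fun m hm => by
    obtain ⟨l, hl, k, hk, rfl⟩ := mem_LK (hN (h.cN (hH hm)))
    have h1 : Commute (l * k) t := c1.1 (hH hm)
    have := (comm_of_C h.tc hl).inv_left.mul_left h1
    rw [inv_mul_cancel_left] at this
    exact ⟨l, hl, ⟨k, hk, c1.2 this⟩, rfl⟩
  have hJ : ⁅H, H⁆ ≤ J := by
    refine commutator_le.2 fun a ha b hb => ?_
    obtain ⟨l, hl, k, rfl⟩ := hM a ha
    obtain ⟨l', hl', k', rfl⟩ := hM b hb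
    refine ⟨⁅l, l'⁆, mul_mem (mul_mem (mul_mem hl hl') (inv_mem hl)) (inv_mem hl'), ⁅k, k'⁆,
      by rw [map_commutatorElement, commutatorElement_eq_one_iff_mul_comm]
         exact hP.commGroup.mul_comm _ _, ?_⟩
    have c1 := comm_of_C k.2.1 hl
    have c2 := comm_of_C k.2.1 hl'
    have c3 := comm_of_C k'.2.1 hl
    have c4 := comm_of_C k'.2.1 hl'
    change l * k * (l' * k') * (l * k)⁻¹ * (l' * k')⁻¹ =
      l * l' * l⁻¹ * l'⁻¹ * (k * k' * (k : G)⁻¹ * (k' : G)⁻¹)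
    rw [c1.mul_inv, c4.mul_inv, c2.symm.mul_mul_mul_comm,
      ((c1.symm.mul_left c3.symm).inv_right).mul_mul_mul_comm,
      (((c2.symm.mul_left c4.symm).mul_left c2.symm.inv_left).inv_right).mul_mul_mul_comm]
  obtain ⟨l, hl, o, ho, rfl⟩ := hJ hg
  obtain ⟨a, ha⟩ := g2
  refine mem_of_odd_two (k := a) (ko o ho) ?_ (ha ▸ one_mem _)
  rw [(comm_of_C o.2.1 hl).mul_pow, pow_orderOf_eq_one, mul_one]
  exact pow_mem hl _

variable {F V : Type v} [Field F] [AddCommGroup V] [Module F V] {G : Type u} [Group G]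
  {P : PForm F V} {φ : P.E →* G} {L : Subgroup G} {k : ℕ} {t : G}

theorem SM.eq01 (h : SM P φ L k) (a : F) : a = 0 ∨ a = 1 := T6.eq01 h.q2 a

theorem SM.not4 (h : SM P φ L k) : ¬ 4 ≤ Nat.card F := by rw [h.q2]; decide

/-- `N(L) = L C(L)` -/
theorem LL.nLK (h : LL P φ L k) : N[L] ≤ L ⊔ C[L] := fun g hg => by
  obtain ⟨χ, -, h2⟩ := h.nf.out
  refine (h2 ⟨g, hg⟩).1 (RingEquiv.ext fun a => ?_)
  rcases h.eq01 a with rfl | rfl
  · simp
  · simp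

theorem Ctx0.oc1 [Finite G] (h : Ctx0 P φ L k t) : Oc1 L t := oc1_free h.tc h.cyc h.nLK

/-- `Oc1` at a conjugate of `t` -/
theorem Ctx0.oc1_cj [Finite G] (h : Ctx0 P φ L k t) (g : G) {H : Subgroup G}
    (hH : H ≤ C1[g * t * g⁻¹]) {y : G} (hy : y ∈ ⁅H, H⁆) (h2 : Is2 y) : g⁻¹ * y * g ∈ L := by
  refine h.oc1 (cj g⁻¹ H) ?_ _ ?_ ?_
  · rintro _ ⟨a, ha, rfl⟩
    have := (c1.1 (hH ha)).conj g⁻¹
    exact c1.2 (by simpa [mul_assoc] using this)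
  · have h1 : g⁻¹ * y * g⁻¹⁻¹ ∈ cj g⁻¹ ⁅H, H⁆ := cj_mem hy
    rwa [inv_inv, cj_def, map_commutator] at h1
  · obtain ⟨k, hk⟩ := h2
    exact ⟨k, by rw [show g⁻¹ * y * g = g⁻¹ * y * g⁻¹⁻¹ by group, conj_pow, hk]; simp⟩

end Kit

end Cfsg.Agent.H66.T6
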