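import Cfsg.Agent.H36.SpY1
import Cfsg.Agent.H66.T6Defs2

/-!
# The elements `x(u,v)` of the even dimensional linear case
-/

set_option autoImplicit false

namespace Cfsg.Agent.H66.T6.H69.SpRl

open Cfsg Cfsg.Agent.H63 Cfsg.Agent.H63.SL Cfsg.Agent.H26 Cfsg.Agent.H68.Sp
open Cfsg.Agent.H78 hiding tv tv_zero
open Cfsg.Agent.H29.SpK Cfsg.Agent.H36.SpY
open Subgroup Module
open scoped commutatorElement

universe u v

variable {F V : Type v} [Field F] [AddCommGroup V] [Module F V] {G : Type u} [Group G]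
  {P : PForm F V} {φ : P.E →* G} {L : Subgroup G} {k : ℕ} {t : G} {c0 ρ : F} {y : V → V → G}

variable (P φ y c0 ρ) in
/-- The element behaving like `z ↦ z + c f(z,u) v`. -/
noncomputable def xx (u v : V) (c : F) : G := YA P φ y u v (⟨c * ρ, c⟩ : QA F c0)

variable (P φ L k t y c0 ρ) in
/-- The setting. -/
structure Cx : Prop where
  h : SG P φ L k
  Y : Y1 P φ L t 1 y
  S : Sh P φ 1 c0 y
  A : AddU P φ c0 y
  hρ : ρ * ρ + ρ = c0
  ht : ∀ g ∈ L, Commute t g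

theorem cx_of (c : Ctx P φ L k t) (Y : Y1 P φ L t 1 y) (S : Sh P φ 1 c0 y) (A : AddU P φ c0 y)
    (hρ : ρ * ρ + ρ = c0) : Cx P φ L k t c0 ρ y :=
  ⟨c.toSG, Y, S, A, hρ, fun g hg => (mem_centralizer_iff.1 c.tc.tc g hg).symm⟩

namespace Cx

variable (C : Cx P φ L k t c0 ρ y) {u v a a' b e : V}
include C

theorem xx_swap (H : I2 P u v) (c : F) :
    xx P φ c0 ρ y v u c = YA P φ y u v (⟨c * ρ + c, c⟩ : QA F c0) := by
  rw [xx, YA_swap C.Y C.h H, sg, one_mul]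

theorem xx_zero (u v : V) : xx P φ c0 ρ y u v 0 = 1 := by
  rw [xx, zero_mul]
  exact YA_zero C.Y u v

theorem xx_add (H : I2 P u v) (c d : F) :
    xx P φ c0 ρ y u v (c + d) = xx P φ c0 ρ y u v c * xx P φ c0 ρ y u v d := by
  rw [xx, xx, xx, ← YA_adds C.Y C.h H, add_mul]
  rfl

theorem xx_inv (H : I2 P u v) (c : F) : (xx P φ c0 ρ y u v c)⁻¹ = xx P φ c0 ρ y u v c :=
  YA_inv C.Y C.h H _

theorem xx_t (H : I2 P u v) (c : F) : t * xx P φ c0 ρ y u v c * t⁻¹ = xx P φ c0 ρ y v u c := by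
  rw [C.xx_swap H, xx, YA_tact C.Y C.h C.ht H]
  congr 1
  ext <;> simp [fneg C.h]

theorem xx_mul (H : I2 P u v) (c : F) :
    xx P φ c0 ρ y u v c * xx P φ c0 ρ y v u c = Es P φ u (c • v) := by
  rw [C.xx_swap H, xx, ← YA_adds C.Y C.h H, ← YA_re (c0 := c0) C.Y]
  congr 1
  have := C.h.two
  ext
  · simp only [QuadraticAlgebra.re_add]; linear_combination (c * ρ) * this
  · simp only [QuadraticAlgebra.im_add]; linear_combination c * this

theorem xx_conj (H : I2 P u v) (c : F) (g : P.E) :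
    φ g * xx P φ c0 ρ y u v c * (φ g)⁻¹ = xx P φ c0 ρ y (g.1 u) (g.1 v) c :=
  YA_conj C.Y C.h H _ g

theorem xx_smul_left (H : I2 P u v) {r : F} (hr : r ≠ 0) (c : F) :
    xx P φ c0 ρ y (r • u) v c = xx P φ c0 ρ y u v (r * c) := by
  rw [xx, xx, YA_smul_left C.Y C.h H hr]
  congr 1
  ext <;> simp [mul_assoc]

omit C in
theorem xx_smul_right (u v : V) (r c : F) :
    xx P φ c0 ρ y u (r • v) c = xx P φ c0 ρ y u v (r * c) := by
  rw [xx, xx, YA_smul_right]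
  congr 1
  ext <;> simp [mul_assoc]

theorem xx_inj (H : I2 P u v) {c : F} (e : xx P φ c0 ρ y u v c = 1) : c = 0 := by
  rw [← YA_zero (c0 := c0) C.Y u v] at e
  exact congrArg QuadraticAlgebra.im (YA_inj C.Y C.h C.ht H e)

theorem y_eq (u v : V) (c : F) :
    y u (c • v) = Es P φ u ((c * ρ) • v) * xx P φ c0 ρ y u v c := by
  rw [xx, YA, ← mul_assoc, Es_sq C.h, one_mul]

theorem m1 (c d : F) : sg 1 (⟨c * ρ + c, c⟩ : QA F c0) * ⟨d * ρ, d⟩ = ⟨c * d * ρ, c * d⟩ := by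
  have h2 := C.h.two
  have := C.hρ
  ext
  · simp only [sg, QuadraticAlgebra.re_mul]
    linear_combination (c * d * ρ * ρ + c * d * ρ) * h2 - (c * d) * this
  · simp only [sg, QuadraticAlgebra.im_mul]
    linear_combination (c * d * ρ + c * d) * h2

theorem m2 (c d : F) : sg 1 (⟨c * ρ, c⟩ : QA F c0) * ⟨d * ρ, d⟩ = 0 := by
  have h2 := C.h.two
  have := C.hρ
  ext
  · simp only [sg, QuadraticAlgebra.re_mul, QuadraticAlgebra.re_zero]
    linear_combination (c * d * ρ * ρ + c * d * ρ) * h2 - (c * d) * this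
  · simp only [sg, QuadraticAlgebra.im_mul, QuadraticAlgebra.im_zero]
    linear_combination (c * d * ρ + c * d) * h2

theorem r1 (H : Hyp P a a' b e) (c d : F) :
    ⁅xx P φ c0 ρ y b a c, xx P φ c0 ρ y a' e d⁆ = xx P φ c0 ρ y b e (c * d) := by
  rw [C.xx_swap (hyp1_i2 (hyp_hyp1 H)), xx, C.S.sp _ _ _ _ H, C.m1, xx]

theorem r2 (H : Hyp1 P a a' b) (c d : F) :
    ⁅xx P φ c0 ρ y b a c, xx P φ c0 ρ y a' b d⁆ = tv P φ b (c * d) := by
  rw [C.xx_swap (hyp1_i2 H), xx, C.S.ss _ _ _ H, C.m1, one_mul]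

theorem z1 (H : Hyp P a a' b e) (c d : F) :
    Commute (xx P φ c0 ρ y a b c) (xx P φ c0 ρ y a' e d) := by
  rw [← commutatorElement_eq_one_iff_commute, xx, xx, C.S.sp _ _ _ _ H, C.m2, YA_zero C.Y]

theorem z2 (H : Hyp1 P a a' b) (c d : F) :
    Commute (xx P φ c0 ρ y a b c) (xx P φ c0 ρ y a' b d) := by
  rw [← commutatorElement_eq_one_iff_commute, xx, xx, C.S.ss _ _ _ H, C.m2,
    QuadraticAlgebra.im_zero, mul_zero, tv_zero]

theorem z1' (H : Hyp P a a' b e) (c d : F) :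
    Commute (xx P φ c0 ρ y b a c) (xx P φ c0 ρ y e a' d) := by
  rw [← C.xx_t (hyp1_i2 (hyp_hyp1 H)), ← C.xx_t (hyp1_i2' C.h (hyp_hyp1 (hyp_swap H)))]
  exact (C.z1 H c d).map (MulAut.conj t)

theorem z2' (H : Hyp1 P a a' b) (c d : F) :
    Commute (xx P φ c0 ρ y b a c) (xx P φ c0 ρ y b a' d) := by
  rw [← C.xx_t (hyp1_i2 H), ← C.xx_t (hyp1_i2' C.h H)]
  exact (C.z2 H c d).map (MulAut.conj t)

theorem z0 {u' v' : V} (H : I2 P u v) (H' : I2 P u' v') (h1 : P.f u u' = 0) (h2 : P.f u v' = 0)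
    (h3 : P.f v u' = 0) (h4 : P.f v v' = 0) (c d : F) :
    Commute (xx P φ c0 ρ y u v c) (xx P φ c0 ρ y u' v' d) :=
  YA_com C.Y C.h H H' h1 h2 h3 h4 _ _

theorem zt (H : I2 P u v) (h1 : P.f u a = 0) (h2 : P.f v a = 0) (c d : F) :
    Commute (tv P φ a c) (xx P φ c0 ρ y u v d) :=
  YA_comm_ET C.Y C.h H _ h1 (P.f_zero_right _) h2 (P.f_zero_right _) c

/-- Additivity in the first vector. -/
theorem xx_add1 {v' : V} (H : I2 P v b) (H' : I2 P v' b) (H'' : I2 P (v + v') b) (c : F) :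
    xx P φ c0 ρ y (v + v') b c = xx P φ c0 ρ y v b c * xx P φ c0 ρ y v' b c := by
  have : QuadraticAlgebra.norm (⟨c * ρ, c⟩ : QA F c0) = 0 := by
    rw [QuadraticAlgebra.norm_def]
    linear_combination (c * c) * C.hρ
  rw [xx, xx, xx, C.A _ _ _ H H' H'', this, mul_zero, tv_zero, mul_one]

/-- Additivity in the second vector. -/
theorem xx_add2 {v' : V} (H : I2 P v b) (H' : I2 P v' b) (H'' : I2 P (v + v') b) (c : F) :
    xx P φ c0 ρ y b (v + v') c = xx P φ c0 ρ y b v c * xx P φ c0 ρ y b v' c := by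
  rw [← C.xx_t H, ← C.xx_t H', ← C.xx_t H'', C.xx_add1 H H' H'', conj_mul]

theorem r3 (H : Hyp1 P a a' b) (c d : F) :
    ⁅tv P φ a' c, xx P φ c0 ρ y a b d⁆ = xx P φ c0 ρ y a' b (c * d) := by
  by_cases hc : c = 0
  · rw [hc, tv_zero, zero_mul, C.xx_zero, commutatorElement_one_left]
  have H1 := hyp1_i2 H
  have H2 := hyp1_i2' C.h H
  have e1 : (eE P a' 0 c).1 a = a + c • a' := by rw [tv_apply C.h, H.1, mul_one]
  have e2 : (eE P a' 0 c).1 b = b := by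
    rw [tv_apply C.h, fc C.h, H.2.2.2, mul_zero, zero_smul, add_zero]
  have H3 := i2_map (eE P a' 0 c) H1
  have e3 := C.xx_conj H1 d (eE P a' 0 c)
  rw [e1, e2] at H3 e3
  rw [commutatorElement_def, tv, ET_eq, e3, C.xx_add1 H1 (i2_smul_left H2 hc) H3,
    C.xx_smul_left H2 hc, (C.z2 H d (c * d)).eq, mul_inv_cancel_right]

theorem r4 (H : Hyp1 P a a' b) (c d : F) :
    ⁅tv P φ a' c, xx P φ c0 ρ y b a d⁆ = xx P φ c0 ρ y b a' (c * d) := by
  rw [← C.xx_t (hyp1_i2 H), ← C.xx_t (hyp1_i2' C.h H), ← C.r3 H, conjugate_commutatorElement,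
    (C.ht _ (ET_mem C.h a' 0 c)).eq, mul_inv_cancel_right]

theorem xx_mem (H : I2 P u v) (c : F) : xx P φ c0 ρ y u v c ∈ GA P φ L t :=
  mul_mem (mem_sup_left (ET_mem C.h _ _ _)) (mem_sup_right (subset_closure
    ⟨u, v, H, (C.Y.canon u v H _).2 ⟨c, 1, one_mem _, (mul_one _).symm⟩⟩))

end Cx

end Cfsg.Agent.H66.T6.H69.SpRl
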