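import Cfsg.Agent.H66.UnbARed
import Cfsg.Agent.H16.UnbP

/-! One normal component of type `2.A_n`: permutation lemmas and two commuting conjugates. -/

set_option autoImplicit false
set_option linter.unusedSectionVars false

namespace Cfsg.Agent.H66.UD

open Subgroup Cfsg.Agent.H52 Cfsg.Agent.H8 Cfsg.Agent.H16.Unb Equiv Equiv.Perm Cfsg.Agent.H67
open Cfsg.Agent.H78 Cfsg.Agent.H38.SA Cfsg.Agent.H66.UA
open scoped commutatorElement

variable {α : Type*} [Fintype α] [DecidableEq α]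

theorem permC {π κ β : Perm α} (hπ : ∀ x, π x = x ∨ π x = β x) (hκ : κ * β = β * κ)
    (h2 : β * β = 1) : π * (κ * π * κ⁻¹) * (π * (κ * π * κ⁻¹)) = 1 := by
  have hκβ : ∀ x, κ (β x) = β (κ x) := app_eq hκ
  have hβ2 : ∀ x, β (β x) = x := app_eq h2
  have hπ' : ∀ x, (κ * π * κ⁻¹) x = x ∨ (κ * π * κ⁻¹) x = β x := fun x => by
    obtain ⟨x, rfl⟩ := κ.surjective x
    rw [Perm.mul_apply, Perm.mul_apply, Perm.inv_def, symm_apply_apply, ← hκβ]
    exact (hπ x).imp (congrArg κ) (congrArg κ)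
  have hq : ∀ x, (π * (κ * π * κ⁻¹)) x = x ∨ (π * (κ * π * κ⁻¹)) x = β x := fun x => by
    rw [Perm.mul_apply]
    have := hπ x
    have := hπ (β x)
    have := hπ' x
    grind
  generalize π * (κ * π * κ⁻¹) = θ at hq
  ext x
  rw [Perm.mul_apply, Perm.one_apply]
  have := hq x
  have := hq (β x)
  have := θ.injective.eq_iff (a := x) (b := β x)
  grind

theorem permB {ρ : Perm α} (h2 : ρ * ρ * (ρ * ρ) = 1) (hc : ¬ (ρ * ρ).support.card ≤ 8) :
    ∃ D : Perm α, D ^ 3 = 1 ∧ D * (ρ * ρ) = ρ * ρ * D ∧ ∃ x, (ρ * ρ) x ≠ x ∧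
      (ρ * (D * ρ * D⁻¹) * (ρ * (D * ρ * D⁻¹))) x ≠ x ∧
      (ρ * (D * ρ * D⁻¹) * (ρ * (D * ρ * D⁻¹))) x ≠ (ρ * ρ) x := by
  have h4 : ∀ x, ρ (ρ (ρ (ρ x))) = x := app_eq h2
  obtain ⟨x1, m1, -⟩ := pick (ρ * ρ).support [] (by simp only [List.length_nil]; omega)
  obtain ⟨x2, m2, n2⟩ := pick (ρ * ρ).support [x1, ρ x1, ρ (ρ x1), ρ (ρ (ρ x1))]
    (by simp only [List.length_cons, List.length_nil]; omega)
  obtain ⟨x3, m3, n3⟩ := pick (ρ * ρ).support [x1, ρ x1, ρ (ρ x1), ρ (ρ (ρ x1)), x2, ρ x2, ρ (ρ x2),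
    ρ (ρ (ρ x2))] (by simp only [List.length_cons, List.length_nil]; omega)
  simp only [List.mem_cons, List.not_mem_nil, or_false, not_or, mem_support] at m1 m2 m3 n2 n3
  obtain ⟨D, d3, dc, d1, d2, d3', df⟩ := exists_dbl h2 (Ne.symm n2.1) (Ne.symm n3.1)
    (Ne.symm n3.2.2.2.2.1) m1 m2 m3 (Ne.symm n2.2.2.1) (Ne.symm n3.2.2.1) (Ne.symm n3.2.2.2.2.2.2.1)
  refine ⟨D, d3, dc, x1, m1, ?_⟩
  simp only [Perm.mul_apply] at m1 m2 m3 df
  have e1 : D⁻¹ x1 = x3 := by rw [← d3']; simp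
  have e2 : D⁻¹ (ρ (ρ x3)) = ρ (ρ x2) := by
    rw [← d2, show ρ (ρ (D x2)) = D (ρ (ρ x2)) from (app_eq dc x2).symm]
    simp
  have e3 : (ρ * (D * ρ * D⁻¹) * (ρ * (D * ρ * D⁻¹))) x1 = x2 := by
    simp only [Perm.mul_apply]
    rw [e1, df (ρ x3) (by grind) (by grind) (by grind) (by grind) (by grind) (by grind), e2,
      df (ρ (ρ (ρ x2))) (by grind) (by grind) (by grind) (by grind) (by grind) (by grind), h4]
  rw [e3]
  exact ⟨n2.1, n2.2.2.1⟩

set_option maxHeartbeats 1000000 in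
theorem permA {γ η : Perm α} (h2 : γ * γ = 1) (h8 : γ.support.card = 8) (hc' : η * γ = γ * η)
    (h3' : ∀ x, γ x ≠ x → η (η (η x)) = x) {x1 : α} (m1 : γ x1 ≠ x1) (hx : η x1 ≠ x1) :
    ∃ D θ : Perm α, D ^ 3 = 1 ∧ D * γ = γ * D ∧ D * (η * D * η⁻¹)⁻¹ = θ ∧ θ * θ = 1 ∧
      θ.support.card = 8 ∧ θ ≠ γ := by
  have hh : ∀ x, γ (γ x) = x := app_eq h2
  have hc : ∀ x, η (γ x) = γ (η x) := app_eq hc'
  have h3 := h3' x1 m1
  have i1 := η.injective
  have i2 := γ.injective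
  obtain ⟨x4, m4, n4⟩ := pick γ.support [x1, η x1, η (η x1), γ x1, γ (η x1), γ (η (η x1))]
    (by simp only [List.length_cons, List.length_nil]; omega)
  simp only [List.mem_cons, List.not_mem_nil, or_false, not_or, mem_support] at m4 n4
  have h34 := h3' x4 m4
  have hnd : [x1, η x1, γ x1, γ (η x1), η (η x1), x4, γ (η (η x1)), γ x4].Nodup := by
    simp only [List.nodup_cons, List.mem_cons, List.not_mem_nil, or_false, not_or, List.nodup_nil,
      not_false_eq_true, and_true]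
    and_intros <;> grind
  have hall : ∀ z, γ z ≠ z → z ∈ [x1, η x1, γ x1, γ (η x1), η (η x1), x4, γ (η (η x1)), γ x4] := by
    intro z hz
    have : [x1, η x1, γ x1, γ (η x1), η (η x1), x4, γ (η (η x1)), γ x4].toFinset = γ.support := by
      refine Finset.eq_of_subset_of_card_le (fun w hw => ?_) (by
        rw [List.toFinset_card_of_nodup hnd]; exact h8.le)
      simp only [List.toFinset_cons, List.toFinset_nil, Finset.mem_insert, Finset.notMem_empty,
        or_false] at hw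
      rw [mem_support]
      grind
    exact List.mem_toFinset.1 (this ▸ mem_support.2 hz)
  have f4 : η x4 = x4 := by
    have := hall (η x4) (by grind)
    simp only [List.mem_cons, List.not_mem_nil, or_false] at this
    grind
  simp only [List.nodup_cons, List.mem_cons, List.not_mem_nil, or_false, not_or, List.nodup_nil,
      not_false_eq_true, and_true] at hnd
  obtain ⟨D, d3, dc, d1, d2, d4, df⟩ := exists_dbl h2 (a := x1) (b := η x1) (c := x4) (by grind)
    (by grind) (by grind) m1 (by grind) m4 (by grind) (by grind) (by grind)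
  have dγ : ∀ x, D (γ x) = γ (D x) := app_eq dc
  have d5 : D (η (η x1)) = η (η x1) := df _ (by grind) (by grind) (by grind) (by grind) (by grind) (by grind)
  have fx : ∀ z, γ z = z → (swap x1 (η x1) * swap (γ x1) (γ (η x1)) *
      (swap (η (η x1)) x4 * swap (γ (η (η x1))) (γ x4))) z = z := fun z hz => by
    simp only [Perm.mul_apply]
    rw [swap_apply_of_ne_of_ne (a := γ (η (η x1))) (by grind) (by grind),
      swap_apply_of_ne_of_ne (a := η (η x1)) (by grind) (by grind),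
      swap_apply_of_ne_of_ne (a := γ x1) (by grind) (by grind),
      swap_apply_of_ne_of_ne (by grind) (by grind)]
  refine ⟨D, swap x1 (η x1) * swap (γ x1) (γ (η x1)) *
      (swap (η (η x1)) x4 * swap (γ (η (η x1))) (γ x4)), d3, dc, ?_, ?_, ?_, fun e => ?_⟩
  · rw [mul_inv_eq_iff_eq_mul, ← mul_assoc, eq_mul_inv_iff_mul_eq]
    ext z
    by_cases hz : γ z = z
    · rw [Perm.mul_apply, Perm.mul_apply _ (η * D), Perm.mul_apply η,
        df z (by grind) (by grind) (by grind) (by grind) (by grind) (by grind),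
        df (η z) (by grind) (by grind) (by grind) (by grind) (by grind) (by grind), fx _ (by grind)]
    · have := hall z hz
      simp only [List.mem_cons, List.not_mem_nil, or_false] at this
      rcases this with rfl | rfl | rfl | rfl | rfl | rfl | rfl | rfl <;>
        simp only [Perm.mul_apply, hc, dγ, h3, d1, d2, d4, d5, f4, swap_apply_def] <;> grind
  · ext z
    by_cases hz : γ z = z
    · rw [Perm.mul_apply, fx z hz, fx z hz, Perm.one_apply]
    · have := hall z hz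
      simp only [List.mem_cons, List.not_mem_nil, or_false] at this
      rcases this with rfl | rfl | rfl | rfl | rfl | rfl | rfl | rfl <;>
        simp only [Perm.mul_apply, swap_apply_def, Perm.one_apply] <;> grind
  · rw [← h8]
    congr 1
    ext z
    rw [mem_support, mem_support]
    refine ⟨fun h hz => h (fx z hz), fun hz => ?_⟩
    have := hall z hz
    simp only [List.mem_cons, List.not_mem_nil, or_false] at this
    rcases this with rfl | rfl | rfl | rfl | rfl | rfl | rfl | rfl <;>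
      simp only [Perm.mul_apply, swap_apply_def] <;> grind
  · have := app_eq e x1
    simp only [Perm.mul_apply, swap_apply_def] at this
    grind

theorem card_c3 (p q r : α) : (c3 p q r).support.card ≤ 3 :=
  (Finset.card_le_card (t := {p, q, r}) fun w hw => by
    by_contra hw'
    simp only [Finset.mem_insert, Finset.mem_singleton, not_or] at hw'
    exact mem_support.1 hw (c3_apply_of_ne hw'.1 hw'.2.1 hw'.2.2)).trans Finset.card_le_three

theorem card_comm3 (ε : Perm α) (i j k : α) (m : ℕ) :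
    ((ε * c3 i j k * ε⁻¹ * (c3 i j k)⁻¹) ^ m).support.card ≤ 6 := by
  refine (Finset.card_le_card (support_pow_le _ m)).trans ?_
  rw [c3_conj]
  have := (Finset.card_le_card (support_mul_le (c3 (ε i) (ε j) (ε k)) (c3 i j k)⁻¹)).trans
    (Finset.card_union_le _ _)
  rw [support_inv] at this
  have := card_c3 i j k
  have := card_c3 (ε i) (ε j) (ε k)
  omega

/-- A three-cycle on the support of `γ` that does not commute with `γ`. -/
theorem exists_c3 {γ κ : Perm α} (h2 : γ * γ = 1) (h3 : 3 ≤ γ.support.card)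
    (hκ : ∀ x, γ x ≠ x → κ x = x) : ∃ D : Perm α, D ^ 3 = 1 ∧ κ * D = D * κ ∧ D * γ ≠ γ * D := by
  have hh : ∀ x, γ (γ x) = x := app_eq h2
  obtain ⟨x, m1, -⟩ := pick γ.support [] (by simp only [List.length_nil]; omega)
  obtain ⟨y, m2, n2⟩ := pick γ.support [x, γ x] (by simp only [List.length_cons, List.length_nil]; omega)
  simp only [List.mem_cons, List.not_mem_nil, or_false, not_or, mem_support] at m1 m2 n2
  refine ⟨c3 x (γ x) y, c3_pow_three (Ne.symm m1) (Ne.symm n2.1) (Ne.symm n2.2),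
    commute_c3_of_fixed (hκ x m1) (hκ _ (by rw [hh]; exact Ne.symm m1)) (hκ y m2), fun e => ?_⟩
  have := app_eq e x
  rw [Perm.mul_apply, Perm.mul_apply, c3_apply_snd (Ne.symm n2.1) (Ne.symm n2.2),
    c3_apply_fst (Ne.symm m1) (Ne.symm n2.1), hh] at this
  exact n2.1 this

variable {G : Type*} [Group G] [Finite G]

/-- The hypotheses of `D2Stmt`. -/
structure SD (a : G) (K : Subgroup G) (ρ : G → Perm α) : Prop where
  r : Rho K a ρ
  cmp : IsPComponentOf 2 K (Cz a)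
  dom : Cz a ≤ NN[K]
  wk : ∀ g, g * a * g⁻¹ ∈ Cz a → CM K (g * a * g⁻¹) → g * a * g⁻¹ = a
  uq : ∀ s ∈ Cz a, orderOf s = 2 → CM K s → ∀ c ∈ Cz s, ⁅c, a⁆ ∈ Opp 2 (Cz s)

theorem mem_cz {x a : G} : x ∈ Cz a ↔ x * a = a * x := mem_centralizer_singleton_iff

theorem cz_symm {x a : G} (h : x ∈ Cz a) : a ∈ Cz x := mem_cz.2 (mem_cz.1 h).symm

theorem mem_cz_conj {x a g : G} : x ∈ Cz (g * a * g⁻¹) ↔ g⁻¹ * x * g ∈ Cz a := by
  rw [Cz, ← cnj_centralizer_singleton, mem_cnj_iff]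

theorem cm_cnj_iff {L : Subgroup G} {x g : G} : CM (cnj g L) x ↔ CM L (g⁻¹ * x * g) := by
  refine ⟨fun h => ?_, fun h => ?_⟩
  · have := h.cnj g⁻¹
    rwa [cnj_cnj, inv_mul_cancel, cnj_one, inv_inv] at this
  · have := h.cnj g
    rwa [show g * (g⁻¹ * x * g) * g⁻¹ = x by group] at this

namespace SD
variable {a s k x y v : G} {K : Subgroup G} {ρ : G → Perm α} (h : SD a K ρ)
include h

theorem cnj (g : G) : SD (g * a * g⁻¹) (cnj g K) fun y => ρ (g⁻¹ * y * g) where
  r := h.r.cnj g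
  cmp := by rw [Cz, ← cnj_centralizer_singleton]; exact IsPComponentOf.cnj h.cmp g
  dom := fun _ hx => mem_norm_cnj_iff.2 (h.dom (mem_cz_conj.1 hx))
  wk := fun c h1 h2 => by
    have e : g⁻¹ * (c * (g * a * g⁻¹) * c⁻¹) * g = g⁻¹ * c * g * a * (g⁻¹ * c * g)⁻¹ := by group
    have := h.wk (g⁻¹ * c * g) (e ▸ mem_cz_conj.1 h1) (e ▸ cm_cnj_iff.1 h2)
    calc c * (g * a * g⁻¹) * c⁻¹ = g * (g⁻¹ * c * g * a * (g⁻¹ * c * g)⁻¹) * g⁻¹ := by group
      _ = _ := by rw [this]
  uq := fun s h1 h2 h3 c hc => by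
    obtain ⟨s, rfl⟩ : ∃ s', s = g * s' * g⁻¹ := ⟨g⁻¹ * s * g, by group⟩
    rw [mem_cz_conj, show g⁻¹ * (g * s * g⁻¹) * g = s by group] at h1
    rw [cm_cnj_iff, show g⁻¹ * (g * s * g⁻¹) * g = s by group] at h3
    have := conj_mem_cnj (g := g) (h.uq s h1 ((ord_conj g s).symm.trans h2) h3 _ (mem_cz_conj.1 hc))
    rw [KC.cnj_Opp, cnj_centralizer_singleton] at this
    convert this using 1
    simp only [commutatorElement_def]; group

theorem le : K ≤ Cz a := h.cmp.1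
theorem aa : a * a = 1 := h.r.tt
theorem mul (hx : x ∈ Cz a) (hy : y ∈ Cz a) : ρ (x * y) = ρ x * ρ y :=
  h.r.mul _ (h.dom hx) _ (h.dom hy)
theorem inv (hx : x ∈ Cz a) : ρ x⁻¹ = (ρ x)⁻¹ := h.r.inv (h.dom hx)
theorem pow (hx : x ∈ Cz a) (m : ℕ) : ρ (x ^ m) = ρ x ^ m := h.r.pow (h.dom hx) m
theorem comm (hx : x ∈ Cz a) (hy : y ∈ Cz a) (e : x * y = y * x) : ρ x * ρ y = ρ y * ρ x :=
  h.r.comm (h.dom hx) (h.dom hy) e
theorem sq (hx : x ∈ Cz a) (e : x * x = 1) : ρ x * ρ x = 1 := h.r.sq_eq (h.dom hx) e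
theorem self : a ∈ Cz a := mem_cz.2 rfl
theorem opp_le : Opp 2 K ≤ Opp 2 (Cz a) := (IsPComponentOf.sn h.cmp).Opp_le

/-- The action of the core of the centraliser of an involution `s` commuting with `a`. -/
theorem po (hs : s ∈ Cz a) (s2 : s * s = 1) :
    (∀ o ∈ Opp 2 (Cz s), o ∈ Cz a → ∀ x, ρ s x ≠ x → ρ o x = x) ∧
      ((ρ s).support.card + 3 ≠ Fintype.card α → ∀ o ∈ Opp 2 (Cz s), o ∈ Cz a → ρ o = 1) := by
  have hN : Opp 2 (Cz s) ⊓ Cz a ≤ NN[K] := inf_le_right.trans h.dom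
  obtain ⟨p1, p2⟩ := permO' (O := h.r.img (Opp 2 (Cz s) ⊓ Cz a)) (h.sq hs s2)
    (h.r.img_odd hN (Nat.coprime_two_right.1
      (coprime_card_inf_of_coprime _ (coprime_card_map_pPrimeCore_subtype _))))
    (fun σ hσ => by
      obtain ⟨o, ho, rfl⟩ := (h.r.mem_img hN).1 hσ
      exact mem_centralizer_singleton_iff.2 (h.comm ho.2 hs (mem_cz.1 (Opp_le _ ho.1))))
    (fun D d3 dc => by
      obtain ⟨y, hy, c, rfl, -⟩ := h.r.lift3' s2 (h.dom hs) d3 dc.symm
      exact h.r.img_norm hN (le_normalizer hy) (H52.le_normalizer_inf (H := zpowers y)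
        (zpowers_le.2 (le_normalizer_Opp _ (mem_cz.2 c))) (zpowers_le.2 (le_normalizer (h.le hy)))
        (mem_zpowers y)))
  refine ⟨fun o h1 h2 => p1 _ ((h.r.mem_img hN).2 ⟨o, ⟨h1, h2⟩, rfl⟩), fun hn o h1 h2 => ?_⟩
  exact mem_bot.1 (p2 hn ▸ (h.r.mem_img hN).2 ⟨o, ⟨h1, h2⟩, rfl⟩)

/-- A 2-element of `K` commuting with the involution `v` and acting like it. -/
theorem lift_comm (hv : v ∈ Cz a) (v2 : v * v = 1) (hs : sign (ρ v) = 1) :
    ∃ x ∈ K, TwoE x ∧ x * v = v * x ∧ ρ x = ρ v := by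
  obtain ⟨x, hx, e⟩ := h.r.surj _ hs
  have hc : CM K (x⁻¹ * v) := (h.r.ker _ (h.dom (mul_mem (inv_mem (h.le hx)) hv))).1 (by
    rw [h.mul (inv_mem (h.le hx)) hv, h.inv (h.le hx), e, inv_mul_cancel])
  have h1 : ⁅x, v⁆ ∈ Opp 2 K := by
    have := conj_mem_of_norm (le_normalizer_Opp K hx) (hc.2 x hx)
    convert this using 1
    simp only [commutatorElement_def]; group
  obtain ⟨y, hy, c, ho⟩ := lift_cent (twoE_of_sq v2).isPGroup (zpowers_le.2 (h.dom hv)) hx
    fun b hb => by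
      by_cases e1 : b = 1
      · rw [e1, commutatorElement_one_right]; exact one_mem _
      · rwa [(zpowers_cases_of_orderOf_eq_two (ord_two v2 fun e2 => e1 (by simpa [e2] using hb))
          hb).resolve_left e1]
  obtain ⟨m, f, hm, hf⟩ := H38.SG.exists_two_part y
  have e1 : ρ y = ρ v := by
    have := h.r.of_opp ho
    rw [h.mul (h.le hy) (inv_mem (h.le hx)), h.inv (h.le hx), mul_inv_eq_one] at this
    rw [this, e]
  refine ⟨y ^ m, pow_mem hy m, ⟨f, hf⟩, ((show Commute v y from c v (mem_zpowers v)).pow_right m).symm, ?_⟩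
  rw [h.pow (h.le hy), e1, H38.SG.pow_odd_of_sq (h.sq hv v2) hm]

end SD

end Cfsg.Agent.H66.UD
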